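import Mathlib
import Cfsg.Agent.Lib.Helper87.LinPoly

set_option autoImplicit false

/-!
HIG server (helper1), piece (C): the finite-field lemma `mono_components`.
-/

namespace Cfsg.Agent.Helper98.Hig

open Cfsg.Agent.Helper87
open Finset

/-- core of the binary-weight lemma -/
theorem h98_pair_core {a b c d : ℕ} (hab : a ≤ b) (hcd : c ≤ d)
    (h : 2 ^ a + 2 ^ b = 2 ^ c + 2 ^ d) : a = c ∧ b = d := by
  rcases lt_trichotomy b d with hbd | hbd | hbd
  · exfalso
    have h1 : 2 ^ a ≤ 2 ^ b := Nat.pow_le_pow_right (by norm_num) hab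
    have h3 : 2 ^ (b + 1) ≤ 2 ^ d := Nat.pow_le_pow_right (by norm_num) hbd
    have h4 : 0 < 2 ^ c := by positivity
    rw [pow_succ] at h3
    omega
  · subst hbd
    have : 2 ^ a = 2 ^ c := by omega
    exact ⟨Nat.pow_right_injective le_rfl this, rfl⟩
  · exfalso
    have h1 : 2 ^ c ≤ 2 ^ d := Nat.pow_le_pow_right (by norm_num) hcd
    have h3 : 2 ^ (d + 1) ≤ 2 ^ b := Nat.pow_le_pow_right (by norm_num) hbd
    have h4 : 0 < 2 ^ a := by positivity
    rw [pow_succ] at h3
    omega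

theorem h98_pair {a b c d : ℕ} (h : 2 ^ a + 2 ^ b = 2 ^ c + 2 ^ d) :
    (a = c ∧ b = d) ∨ (a = d ∧ b = c) := by
  rcases le_total a b with hab | hab <;> rcases le_total c d with hcd | hcd
  · exact Or.inl (h98_pair_core hab hcd h)
  · have := h98_pair_core hab hcd (by omega : 2 ^ a + 2 ^ b = 2 ^ d + 2 ^ c)
    exact Or.inr this
  · have := h98_pair_core hab hcd (by omega : 2 ^ b + 2 ^ a = 2 ^ c + 2 ^ d)
    exact Or.inr ⟨this.2, this.1⟩
  · have := h98_pair_core hab hcd (by omega : 2 ^ b + 2 ^ a = 2 ^ d + 2 ^ c)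
    exact Or.inl ⟨this.2, this.1⟩

/-- the congruence deciding when two `θ`'s are Galois conjugate -/
theorem h98_key {n a b b0 : ℕ} (hn : 2 ≤ n) (ha : a < n) (hb : b < n) (hb0 : b0 < n)
    (hb00 : b0 ≠ 0) (h : 1 + 2 ^ (b0 + a) ≡ 2 ^ a + 2 ^ b [MOD 2 ^ n - 1]) :
    a = 0 ∧ b = b0 := by
  have h4 : 4 ≤ 2 ^ n := by
    calc 4 = 2 ^ 2 := by norm_num
      _ ≤ 2 ^ n := Nat.pow_le_pow_right (by norm_num) hn
  set N := 2 ^ n - 1 with hN
  have h2n : 2 ^ n ≡ 1 [MOD N] := by
    have : 2 ^ n = N + 1 := by omega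
    rw [this]
    exact Nat.add_modEq_left
  set e := (b0 + a) % n with he
  have hen : e < n := Nat.mod_lt _ (by omega)
  have hpow : 2 ^ (b0 + a) ≡ 2 ^ e [MOD N] := by
    have h1 : b0 + a = n * ((b0 + a) / n) + e := (Nat.div_add_mod _ _).symm
    rw [h1, pow_add, pow_mul]
    calc (2 ^ n) ^ ((b0 + a) / n) * 2 ^ e ≡ 1 ^ ((b0 + a) / n) * 2 ^ e [MOD N] :=
          Nat.ModEq.mul_right _ (Nat.ModEq.pow _ h2n)
      _ = 2 ^ e := by rw [one_pow, one_mul]
  have h1 : 1 + 2 ^ e ≡ 2 ^ a + 2 ^ b [MOD N] :=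
    ((Nat.ModEq.add_left 1 hpow).symm).trans h
  -- bounds
  have hle : ∀ x, x < n → 2 ^ x ≤ 2 ^ (n - 1) := fun x hx =>
    Nat.pow_le_pow_right (by norm_num) (by omega)
  have hhalf : 2 * 2 ^ (n - 1) = 2 ^ n := by
    rw [← pow_succ']
    congr 1
    omega
  have hea := hle e hen
  have haa := hle a ha
  have hbb := hle b hb
  have hpe : 0 < 2 ^ e := by positivity
  have hpa : 0 < 2 ^ a := by positivity
  have hpb : 0 < 2 ^ b := by positivity
  have heq : 1 + 2 ^ e = 2 ^ a + 2 ^ b := by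
    rcases le_total (1 + 2 ^ e) (2 ^ a + 2 ^ b) with hle' | hle'
    · have hd := (Nat.modEq_iff_dvd' hle').mp h1
      have hlt : 2 ^ a + 2 ^ b - (1 + 2 ^ e) < N := by omega
      have := Nat.eq_zero_of_dvd_of_lt hd hlt
      omega
    · have hd := (Nat.modEq_iff_dvd' hle').mp h1.symm
      have hlt : 1 + 2 ^ e - (2 ^ a + 2 ^ b) < N := by omega
      have := Nat.eq_zero_of_dvd_of_lt hd hlt
      omega
  have heq' : 2 ^ 0 + 2 ^ e = 2 ^ a + 2 ^ b := by rw [pow_zero]; exact heq
  rcases h98_pair heq' with ⟨h0a, heb⟩ | ⟨h0b, hea'⟩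
  · refine ⟨h0a.symm, ?_⟩
    rw [← heb, he, ← h0a, add_zero, Nat.mod_eq_of_lt hb0]
  · exfalso
    rcases lt_or_ge (b0 + a) n with hlt | hge
    · rw [he, Nat.mod_eq_of_lt hlt] at hea'
      omega
    · rw [he, Nat.mod_eq_sub_mod hge, Nat.mod_eq_of_lt (by omega)] at hea'
      omega

theorem mono_components {F : Type*} [Field F] [Fintype F] [CharP F 2] {n : ℕ} (hn : 2 ≤ n)
    (hq : Fintype.card F = 2 ^ n) (lam : F) (hlam : orderOf lam = 2 ^ n - 1)
    (R : Set (F → F)) (h0 : (fun _ => (0 : F)) ∈ R)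
    (hadd : ∀ f ∈ R, ∀ g ∈ R, (fun x => f x + g x) ∈ R)
    (hT : ∀ f ∈ R, (fun x => lam * f (lam⁻¹ * x)) ∈ R)
    (hfpf : ∀ f ∈ R, ∀ i : ℕ, 0 < i → i < 2 ^ n - 1 →
      (∀ x, lam ^ i * f ((lam ^ i)⁻¹ * x) = f x) → ∀ x, f x = 0)
    (c : ℕ → F) (hc : (fun x => LinPoly.L n c x) ∈ R) (b : ℕ) (hb : b < n) (hcb : c b ≠ 0) :
    b ≠ 0 ∧ Nat.Coprime (2 ^ b - 1) (2 ^ n - 1) ∧ ∀ g : F, (fun x => g * x ^ (2 ^ b)) ∈ R := by
  classical
  have h4 : 4 ≤ 2 ^ n := by
    calc 4 = 2 ^ 2 := by norm_num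
      _ ≤ 2 ^ n := Nat.pow_le_pow_right (by norm_num) hn
  have hN3 : 3 ≤ 2 ^ n - 1 := by omega
  have hlamN : lam ^ (2 ^ n - 1) = 1 := by rw [← hlam]; exact pow_orderOf_eq_one lam
  have hlam0 : lam ≠ 0 := by
    rintro rfl
    rw [zero_pow (by omega)] at hlamN
    exact zero_ne_one hlamN
  have hfin : IsOfFinOrder lam := by
    rw [← orderOf_pos_iff, hlam]; omega
  have h2F : (2 : F) = 0 := by
    have := CharP.cast_eq_zero F 2
    exact_mod_cast this
  -- closure under T-powers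
  have hTpow : ∀ (i : ℕ) (f : F → F), f ∈ R →
      (fun x => lam ^ i * f ((lam ^ i)⁻¹ * x)) ∈ R := by
    intro i
    induction i with
    | zero =>
      intro f hf
      have e : (fun x => lam ^ 0 * f ((lam ^ 0)⁻¹ * x)) = f := by
        funext x; rw [pow_zero, inv_one, one_mul, one_mul]
      rw [e]; exact hf
    | succ i ih =>
      intro f hf
      have h1 := hT _ (ih f hf)
      have e : (fun x => lam ^ (i + 1) * f ((lam ^ (i + 1))⁻¹ * x)) =
          (fun x => lam * (lam ^ i * f ((lam ^ i)⁻¹ * (lam⁻¹ * x)))) := by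
        funext x
        rw [pow_succ, mul_inv, mul_assoc ((lam ^ i)⁻¹), mul_comm (lam ^ i) lam, mul_assoc]
      rw [e]; exact h1
  -- closure under finite sums
  have hsum : ∀ (s : Finset ℕ) (g : ℕ → F → F), (∀ i ∈ s, g i ∈ R) →
      (fun x => ∑ i ∈ s, g i x) ∈ R := by
    intro s g
    induction s using Finset.induction_on with
    | empty =>
      intro _
      have e : (fun x => ∑ i ∈ (∅ : Finset ℕ), g i x) = fun _ => (0 : F) := by
        funext x; rw [Finset.sum_empty]
      rw [e]; exact h0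
    | insert a s ha ih =>
      intro hg
      have h1 := hadd _ (hg a (Finset.mem_insert_self a s)) _
        (ih fun i hi => hg i (Finset.mem_insert_of_mem hi))
      have e : (fun x => ∑ i ∈ insert a s, g i x) = fun x => g a x + ∑ i ∈ s, g i x := by
        funext x; rw [Finset.sum_insert ha]
      rw [e]; exact h1
  -- the eigenvalues
  obtain ⟨θ, hθ⟩ : ∃ θ : ℕ → F, ∀ b, θ b = lam * (lam ^ (2 ^ b))⁻¹ := ⟨_, fun _ => rfl⟩
  have hθ0 : ∀ b, θ b ≠ 0 := fun b => by
    rw [hθ]; exact mul_ne_zero hlam0 (inv_ne_zero (pow_ne_zero _ hlam0))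
  have hmonoT : ∀ (i b : ℕ) (g x : F),
      lam ^ i * (g * ((lam ^ i)⁻¹ * x) ^ (2 ^ b)) = g * θ b ^ i * x ^ (2 ^ b) := by
    intro i b g x
    have h1 : ((lam ^ i)⁻¹) ^ (2 ^ b) = ((lam ^ (2 ^ b))⁻¹) ^ i := by
      rw [inv_pow, inv_pow, ← pow_mul, ← pow_mul, mul_comm]
    simp only [hθ]
    rw [mul_pow, mul_pow, h1]
    ring
  have hLT : ∀ (i : ℕ) (x : F), lam ^ i * LinPoly.L n c ((lam ^ i)⁻¹ * x) =
      ∑ b ∈ range n, c b * θ b ^ i * x ^ (2 ^ b) := by
    intro i x
    unfold LinPoly.L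
    rw [Finset.mul_sum]
    exact Finset.sum_congr rfl fun b _ => hmonoT i b (c b) x
  -- Frobenius facts
  have hfrob : ∀ u : F, u ^ (2 ^ n) = u := fun u => by rw [← hq]; exact FiniteField.pow_card u
  have hpowN : ∀ u : F, u ≠ 0 → u ^ (2 ^ n - 1) = 1 := fun u hu => by
    have := FiniteField.pow_card_sub_one_eq_one u hu
    rwa [hq] at this
  have hNF : ((2 ^ n - 1 : ℕ) : F) = 1 := by
    rw [Nat.cast_sub (by omega), Nat.cast_pow, Nat.cast_ofNat, h2F, zero_pow (by omega),
      Nat.cast_one, zero_sub, CharTwo.neg_eq]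
  -- the trace
  obtain ⟨tr, htr⟩ : ∃ tr : F → F, ∀ u, tr u = ∑ a ∈ range n, u ^ (2 ^ a) :=
    ⟨_, fun _ => rfl⟩
  have htr01 : ∀ u, tr u = 0 ∨ tr u = 1 := by
    intro u
    have hsq : tr u ^ 2 = tr u := by
      simp only [htr]
      rw [sum_pow_char 2]
      have hh : ∀ a, (u ^ (2 ^ a)) ^ 2 = u ^ (2 ^ (a + 1)) := fun a => by
        rw [← pow_mul, pow_succ]
      simp only [hh]
      have e1 := Finset.sum_range_succ (fun a => u ^ (2 ^ a)) n
      have e2 := Finset.sum_range_succ' (fun a => u ^ (2 ^ a)) n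
      rw [e1] at e2
      simp only [pow_zero, pow_one, hfrob] at e2
      exact (add_right_cancel e2).symm
    rcases eq_or_ne (tr u) 0 with h | h
    · exact Or.inl h
    · right
      have h1 : tr u * tr u = 1 * tr u := by rw [one_mul, ← sq]; exact hsq
      exact mul_right_cancel₀ h h1
  -- geometric sums
  have hgeom : ∀ w : F, w ≠ 0 → ∑ i ∈ range (2 ^ n - 1), w ^ i = if w = 1 then 1 else 0 := by
    intro w hw
    split_ifs with h1
    · subst h1
      simp only [one_pow, Finset.sum_const, Finset.card_range, nsmul_eq_mul, mul_one]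
      exact hNF
    · have h2 := geom_sum_mul w (2 ^ n - 1)
      rw [hpowN w hw, sub_self] at h2
      exact (mul_eq_zero.mp h2).resolve_right (sub_ne_zero.mpr h1)
  -- projection onto the component b0 ≠ 0
  have hproj : ∀ b0, b0 < n → b0 ≠ 0 → (fun x => c b0 * x ^ (2 ^ b0)) ∈ R := by
    intro b0 hb0 hb00
    obtain ⟨θi, hθi⟩ : ∃ θi : F, θi = (θ b0)⁻¹ := ⟨_, rfl⟩
    have hθi0 : θi ≠ 0 := by rw [hθi]; exact inv_ne_zero (hθ0 b0)
    have hπR : (fun x => ∑ i ∈ range (2 ^ n - 1),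
        tr (θi ^ i) * (lam ^ i * LinPoly.L n c ((lam ^ i)⁻¹ * x))) ∈ R := by
      refine hsum (range (2 ^ n - 1))
        (fun i x => tr (θi ^ i) * (lam ^ i * LinPoly.L n c ((lam ^ i)⁻¹ * x))) ?_
      intro i _
      rcases htr01 (θi ^ i) with h | h
      · have e : (fun x => tr (θi ^ i) * (lam ^ i * LinPoly.L n c ((lam ^ i)⁻¹ * x))) =
            fun _ => (0 : F) := by
          funext x; rw [h, zero_mul]
        rw [e]; exact h0
      · have e : (fun x => tr (θi ^ i) * (lam ^ i * LinPoly.L n c ((lam ^ i)⁻¹ * x))) =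
            fun x => lam ^ i * LinPoly.L n c ((lam ^ i)⁻¹ * x) := by
          funext x; rw [h, one_mul]
        rw [e]; exact hTpow i _ hc
    have hw : ∀ a ∈ range n, ∀ b' ∈ range n,
        (θi ^ (2 ^ a) * θ b' = 1 ↔ (a = 0 ∧ b' = b0)) := by
      intro a ha b' hb'
      have han := Finset.mem_range.mp ha
      have hbn := Finset.mem_range.mp hb'
      constructor
      · intro h
        have h1 : θ b' = θ b0 ^ (2 ^ a) := by
          have h1 : (θ b0) ^ (2 ^ a) * (θi ^ (2 ^ a) * θ b') = (θ b0) ^ (2 ^ a) := by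
            rw [h, mul_one]
          rw [← mul_assoc, ← mul_pow, hθi, mul_inv_cancel₀ (hθ0 b0), one_pow, one_mul] at h1
          exact h1
        simp only [hθ] at h1
        rw [mul_pow, inv_pow, ← pow_mul, ← pow_add, ← div_eq_mul_inv, ← div_eq_mul_inv,
          div_eq_div_iff (pow_ne_zero _ hlam0) (pow_ne_zero _ hlam0)] at h1
        have h2 : lam ^ (1 + 2 ^ (b0 + a)) = lam ^ (2 ^ a + 2 ^ b') := by
          rw [pow_add lam 1, pow_one, pow_add lam (2 ^ a)]; exact h1
        have h3 := hfin.pow_eq_pow_iff_modEq.mp h2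
        rw [hlam] at h3
        exact h98_key hn han hbn hb0 hb00 h3
      · rintro ⟨rfl, rfl⟩
        rw [pow_zero, pow_one, hθi, inv_mul_cancel₀ (hθ0 _)]
    have hK : ∀ b' ∈ range n, ∑ i ∈ range (2 ^ n - 1), tr (θi ^ i) * θ b' ^ i =
        if b' = b0 then 1 else 0 := by
      intro b' hb'
      calc ∑ i ∈ range (2 ^ n - 1), tr (θi ^ i) * θ b' ^ i
          = ∑ i ∈ range (2 ^ n - 1), ∑ a ∈ range n, (θi ^ (2 ^ a) * θ b') ^ i := by
            refine Finset.sum_congr rfl fun i _ => ?_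
            simp only [htr]
            rw [Finset.sum_mul]
            refine Finset.sum_congr rfl fun a _ => ?_
            rw [mul_pow (θi ^ (2 ^ a)) (θ b') i, ← pow_mul, ← pow_mul, mul_comm i]
        _ = ∑ a ∈ range n, ∑ i ∈ range (2 ^ n - 1), (θi ^ (2 ^ a) * θ b') ^ i :=
            Finset.sum_comm
        _ = ∑ a ∈ range n, (if θi ^ (2 ^ a) * θ b' = 1 then (1 : F) else 0) :=
            Finset.sum_congr rfl fun a _ =>
              hgeom _ (mul_ne_zero (pow_ne_zero _ hθi0) (hθ0 b'))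
        _ = ∑ a ∈ range n, (if a = 0 ∧ b' = b0 then (1 : F) else 0) :=
            Finset.sum_congr rfl fun a ha => by simp only [hw a ha b' hb']
        _ = if b' = b0 then 1 else 0 := by
            by_cases hbb : b' = b0
            · simp only [hbb, and_true, if_true]
              rw [Finset.sum_ite_eq' (range n) 0 (fun _ => (1 : F)),
                if_pos (Finset.mem_range.mpr (by omega))]
            · simp only [hbb, and_false, if_false, Finset.sum_const_zero]
    have hπ : ∀ x, ∑ i ∈ range (2 ^ n - 1),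
        tr (θi ^ i) * (lam ^ i * LinPoly.L n c ((lam ^ i)⁻¹ * x)) = c b0 * x ^ (2 ^ b0) := by
      intro x
      calc ∑ i ∈ range (2 ^ n - 1), tr (θi ^ i) * (lam ^ i * LinPoly.L n c ((lam ^ i)⁻¹ * x))
          = ∑ i ∈ range (2 ^ n - 1), ∑ b' ∈ range n,
              c b' * x ^ (2 ^ b') * (tr (θi ^ i) * θ b' ^ i) := by
            refine Finset.sum_congr rfl fun i _ => ?_
            rw [hLT, Finset.mul_sum]
            refine Finset.sum_congr rfl fun b' _ => ?_
            ring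
        _ = ∑ b' ∈ range n, c b' * x ^ (2 ^ b') *
              ∑ i ∈ range (2 ^ n - 1), tr (θi ^ i) * θ b' ^ i := by
            rw [Finset.sum_comm]
            refine Finset.sum_congr rfl fun b' _ => ?_
            rw [Finset.mul_sum]
        _ = ∑ b' ∈ range n, c b' * x ^ (2 ^ b') * (if b' = b0 then 1 else 0) :=
            Finset.sum_congr rfl fun b' hb' => by rw [hK b' hb']
        _ = c b0 * x ^ (2 ^ b0) := by
            simp only [mul_ite, mul_one, mul_zero]
            rw [Finset.sum_ite_eq' (range n) b0 (fun b' => c b' * x ^ (2 ^ b')),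
              if_pos (Finset.mem_range.mpr hb0)]
    have e : (fun x => c b0 * x ^ (2 ^ b0)) = fun x => ∑ i ∈ range (2 ^ n - 1),
        tr (θi ^ i) * (lam ^ i * LinPoly.L n c ((lam ^ i)⁻¹ * x)) := by
      funext x; rw [hπ x]
    rw [e]; exact hπR
  -- the coefficient c 0 vanishes
  have hc0 : c 0 = 0 := by
    have h1 : (fun x => LinPoly.L n c x + ∑ b' ∈ (range n).erase 0, c b' * x ^ (2 ^ b')) ∈ R := by
      refine hadd _ hc _ (hsum ((range n).erase 0) (fun b' x => c b' * x ^ (2 ^ b')) ?_)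
      intro b' hb'
      rw [Finset.mem_erase, Finset.mem_range] at hb'
      exact hproj b' hb'.2 hb'.1
    have e : (fun x => LinPoly.L n c x + ∑ b' ∈ (range n).erase 0, c b' * x ^ (2 ^ b')) =
        fun x => c 0 * x := by
      funext x
      unfold LinPoly.L
      rw [← Finset.add_sum_erase (range n) (fun b' => c b' * x ^ (2 ^ b'))
        (Finset.mem_range.mpr (by omega : 0 < n))]
      rw [add_assoc, CharTwo.add_self_eq_zero, add_zero, pow_zero, pow_one]
    rw [e] at h1
    have h2 := hfpf _ h1 1 (by norm_num) (by omega) (fun x => by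
      rw [pow_one, ← mul_assoc, ← mul_assoc, mul_comm lam (c 0), mul_assoc (c 0),
        mul_inv_cancel₀ hlam0, mul_one]) 1
    rwa [mul_one] at h2
  have hb0' : b ≠ 0 := by
    rintro rfl
    exact hcb hc0
  have hmono := hproj b hb hb0'
  -- order of θ b
  have hθN : θ b ^ (2 ^ n - 1) = 1 := hpowN _ (hθ0 b)
  have hord : orderOf (θ b) = 2 ^ n - 1 := by
    have hdvd : orderOf (θ b) ∣ 2 ^ n - 1 := orderOf_dvd_of_pow_eq_one hθN
    have hpos : 0 < orderOf (θ b) := Nat.pos_of_dvd_of_pos hdvd (by omega)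
    have hle : orderOf (θ b) ≤ 2 ^ n - 1 := Nat.le_of_dvd (by omega) hdvd
    rcases lt_or_eq_of_le hle with hlt | heq
    · exfalso
      have h1 := hfpf _ hmono (orderOf (θ b)) hpos hlt (fun x => by
        rw [hmonoT, pow_orderOf_eq_one, mul_one]) 1
      rw [one_pow, mul_one] at h1
      exact hcb h1
    · exact heq
  refine ⟨hb0', ?_, ?_⟩
  · -- coprimality
    have hk0 : 2 ^ b - 1 ≠ 0 := by
      have : 2 ^ 1 ≤ 2 ^ b := Nat.pow_le_pow_right (by norm_num) (by omega)
      omega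
    have h1 : θ b = (lam ^ (2 ^ b - 1))⁻¹ := by
      simp only [hθ]
      have : lam ^ (2 ^ b) = lam ^ (2 ^ b - 1) * lam := by
        rw [← pow_succ]
        congr 1
        have : 0 < 2 ^ b := by positivity
        omega
      rw [this, mul_inv, mul_comm ((lam ^ (2 ^ b - 1))⁻¹), ← mul_assoc,
        mul_inv_cancel₀ hlam0, one_mul]
    have h2 : orderOf (lam ^ (2 ^ b - 1)) = orderOf (θ b) := by
      rw [orderOf_eq_orderOf_iff]
      intro m
      rw [h1, inv_pow, inv_eq_one]
    rw [orderOf_pow' lam hk0, hord, hlam] at h2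
    have h3 := (Nat.div_eq_self.mp h2).resolve_left (by omega)
    rw [Nat.coprime_iff_gcd_eq_one, Nat.gcd_comm]
    exact h3
  · -- all monomials
    intro g
    rcases eq_or_ne g 0 with rfl | hg
    · have e : (fun x : F => (0 : F) * x ^ (2 ^ b)) = fun _ => (0 : F) := by
        funext x; rw [zero_mul]
      rw [e]; exact h0
    · -- g / c b is a power of θ b
      have hex : ∃ i : ℕ, θ b ^ i = g / c b := by
        have hu0 : g / c b ≠ 0 := div_ne_zero hg hcb
        let tU : Fˣ := Units.mk0 (θ b) (hθ0 b)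
        let uU : Fˣ := Units.mk0 (g / c b) hu0
        have hordU : orderOf tU = Fintype.card Fˣ := by
          rw [Fintype.card_units, hq, ← hord, ← orderOf_units]
          rfl
        have hmem : uU ∈ Subgroup.zpowers tU := by
          have htop : Subgroup.zpowers tU = ⊤ := by
            apply Subgroup.eq_top_of_card_eq
            rw [Nat.card_zpowers, hordU, Nat.card_eq_fintype_card]
          rw [htop]; exact Subgroup.mem_top _
        rw [← mem_powers_iff_mem_zpowers] at hmem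
        obtain ⟨i, hi⟩ := hmem
        refine ⟨i, ?_⟩
        have := congrArg (fun u : Fˣ => (u : F)) hi
        simpa [tU, uU] using this
      obtain ⟨i, hi⟩ := hex
      have h1 := hTpow i _ hmono
      have e : (fun x => g * x ^ (2 ^ b)) =
          fun x => lam ^ i * (c b * ((lam ^ i)⁻¹ * x) ^ (2 ^ b)) := by
        funext x
        rw [hmonoT, hi, mul_div_cancel₀ _ hcb]
      rw [e]; exact h1

end Cfsg.Agent.Helper98.Hig
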