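import Mathlib
import Cfsg.Agent.Lib.Helper87.PsuB0
import Cfsg.Agent.Lib.Helper87.PsuHB

/-!
# UT project (S2283): `SU_3(q)`, `q ≥ 3`, is generated by two conjugate regular unipotent elements.
Shared definitions (helper98).  Hyperbolic basis `b 0 = e`, `b 1 = d`, `b 2 = f`
(`H e f = H d d = H f e = 1`, all other values `0`; `Helper87.PsuA.HB`), bar = `x ↦ x ^ q`.
-/

set_option autoImplicit false
set_option linter.unusedSectionVars false
set_option linter.unusedVariables false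

namespace Cfsg.Agent.Helper98.UT

open Matrix Cfsg Cfsg.Agent.Helper13 Cfsg.Agent.Helper87.PsuA Cfsg.Agent.Helper87.PsuB0

variable {F : Type*} [Field F] [Fintype F] {q : ℕ}

variable (hF : Fintype.card F = q ^ 2) (b : Fin 3 → Fin 3 → F)

/-- the upper unipotent element `x(a,β)`: `e ↦ e`, `d ↦ d + a e`, `f ↦ f - ā d + β e`
(an element of `SU_3` when `β + β̄ + a ā = 0`) -/
noncomputable def yEl (a β : F) : ↥(Cfsg.SU 3 F q) :=
  eich hF (b 0) ((-(a ^ q)) • b 1) β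

/-- the lower unipotent element `x⁻(a,β)`: `f ↦ f`, `d ↦ d + a f`, `e ↦ e - ā d + β f` -/
noncomputable def lEl (a β : F) : ↥(Cfsg.SU 3 F q) :=
  eich hF (b 2) ((-(a ^ q)) • b 1) β

open Classical in
/-- the diagonal element `e ↦ d0 e`, `d ↦ d1 d`, `f ↦ d2 f`
(exists when `d0 d̄2 = 1`, `d1 d̄1 = 1`, `d0 d1 d2 = 1`; junk value `1` otherwise) -/
noncomputable def dEl {F : Type*} [Field F] [Fintype F] {q : ℕ} (hF : Fintype.card F = q ^ 2)
    (b : Fin 3 → Fin 3 → F) (d0 d1 d2 : F) : ↥(Cfsg.SU 3 F q) :=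
  if h : ∃ g : ↥(Cfsg.SU 3 F q),
      actv g (b 0) = d0 • b 0 ∧ actv g (b 1) = d1 • b 1 ∧ actv g (b 2) = d2 • b 2
  then h.choose else 1

/-- the coordinate matrix of `g` in the basis `b`: column `j` holds the coordinates of `g (b j)` -/
def cm (g : ↥(Cfsg.SU 3 F q)) : Matrix (Fin 3) (Fin 3) F :=
  Qm q b * ((g : Matrix.SpecialLinearGroup (Fin 3) F) : Matrix (Fin 3) (Fin 3) F) * Pm b

/-- the relations between the parameters -/
structure Rel (q : ℕ) (lam c a β θ : F) : Prop where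
  lamN : lam * lam ^ q = 1
  lam2 : lam ^ 2 ≠ 1
  c0 : c ≠ 0
  cT : c + c ^ q = 0
  bc : β * c * lam ^ 3 = -((lam - 1) ^ 2 * (2 * lam + 1))
  ab : β + β ^ q + a * a ^ q = 0
  th : θ + θ ^ q = 1

/-- the set of `ω` such that some `x(ω,β)` lies in `Hs` -/
def AH (Hs : Subgroup ↥(Cfsg.SU 3 F q)) : Set F :=
  {ω | ∃ β : F, β + β ^ q + ω * ω ^ q = 0 ∧ yEl hF b ω β ∈ Hs}

/-- `lam ^ 3` and `χ` generate `F` (as a ring acting on additive subgroups) -/
def Gen2 (lam χ : F) : Prop :=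
  ∀ S : AddSubgroup F, (∃ x ∈ S, x ≠ 0) → (∀ x ∈ S, lam ^ 3 * x ∈ S) →
    (∀ x ∈ S, χ * x ∈ S) → S = ⊤

end Cfsg.Agent.Helper98.UT
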