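import Mathlib
import Cfsg.Prelude.Def_OddOrderLocal

set_option autoImplicit false

/-!
# S4118 (TI Hall-in-normalizer subgroups of π-separable groups): definitions of the TIH server
-/

namespace Cfsg.Agent.Helper98.TIH

universe u

/-- the hypotheses on `H`: a non-normal TI subgroup which is a Hall subgroup of its normalizer -/
structure Hyp {G : Type u} [Group G] (H : Subgroup G) : Prop where
  ti : Cfsg.IsTISubset (H : Set G)
  nn : ¬ H.Normal
  hall : (Nat.card H).Coprime (H.subgroupOf (Subgroup.normalizer (H : Set G))).index

/-- `O` is the largest normal subgroup of order prime to `|H|` -/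
structure IsCore {G : Type u} [Group G] (H O : Subgroup G) : Prop where
  normal : O.Normal
  coprime : (Nat.card O).Coprime (Nat.card H)
  max : ∀ K : Subgroup G, K.Normal → (Nat.card K).Coprime (Nat.card H) → K ≤ O

/-- every Sylow subgroup has a cyclic subgroup of index at most `2` -/
def AlmostCyc (G : Type u) [Group G] : Prop :=
  ∀ (p : ℕ) [Fact p.Prime] (P : Sylow p G),
    ∃ C : Subgroup G, C ≤ (P : Subgroup G) ∧ IsCyclic C ∧ C.relIndex (P : Subgroup G) ≤ 2

end Cfsg.Agent.Helper98.TIH
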