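import Mathlib

set_option autoImplicit false

/-!
# Brown's theorem on Frobenius complements (S4291): definitions

Every Frobenius complement `G` has a unique normal subgroup `N` all of whose Sylow subgroups are
cyclic and with `G / N` one of `1, V₄, A₄, S₄, A₅, S₅`.
-/

namespace Cfsg.Agent.Helper98.Brown

variable {G : Type*} [Group G]

/-- all Sylow subgroups are cyclic -/
def ZGroup (N : Subgroup G) : Prop :=
  ∀ (p : ℕ) [Fact p.Prime] (P : Sylow p N), IsCyclic P

/-- the quotient is one of `1, V₄, A₄, S₄, A₅, S₅` -/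
def QuotOK (N : Subgroup G) : Prop :=
  N = ⊤ ∨
    (∃ f : G →* DihedralGroup 2, Function.Surjective f ∧ f.ker = N) ∨
    (∃ f : G →* alternatingGroup (Fin 4), Function.Surjective f ∧ f.ker = N) ∨
    (∃ f : G →* Equiv.Perm (Fin 4), Function.Surjective f ∧ f.ker = N) ∨
    (∃ f : G →* alternatingGroup (Fin 5), Function.Surjective f ∧ f.ker = N) ∨
    (∃ f : G →* Equiv.Perm (Fin 5), Function.Surjective f ∧ f.ker = N)

/-- the subgroup of Brown's theorem -/
def Good (N : Subgroup G) : Prop := N.Normal ∧ ZGroup N ∧ QuotOK N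

/-- the properties of fixed-point-free groups that are used -/
structure FpfLike (G : Type*) [Group G] : Prop where
  odd : ∀ (p : ℕ) [Fact p.Prime], p ≠ 2 → ∀ A : Subgroup G, IsPGroup p A → IsCyclic A
  two : ∀ A : Subgroup G, IsPGroup 2 A →
    IsCyclic A ∨ ∃ k : ℕ, 1 ≤ k ∧ Nonempty (A ≃* QuaternionGroup (2 ^ k))
  comm : ∀ A : Subgroup G, IsPGroup 2 A → (∀ a ∈ A, ∀ b ∈ A, a * b = b * a) → IsCyclic A

end Cfsg.Agent.Helper98.Brown
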