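import Mathlib
import Cfsg.Agent.Lib.Helper98.UT0

/-!
# UT project (S2283): coordinate triples (helper98).
-/

set_option autoImplicit false
set_option linter.unusedSectionVars false
set_option linter.unusedVariables false

namespace Cfsg.Agent.Helper98.UT

open Matrix Cfsg Cfsg.Agent.Helper13 Cfsg.Agent.Helper87.PsuA Cfsg.Agent.Helper87.PsuB0

variable {F : Type*} [Field F]

/-- the vector `x e + y d + z f` -/
def vec (b : Fin 3 → Fin 3 → F) (x y z : F) : Fin 3 → F := x • b 0 + y • b 1 + z • b 2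

theorem vec_congr (b : Fin 3 → Fin 3 → F) {x y z x' y' z' : F} (hx : x = x') (hy : y = y')
    (hz : z = z') : vec b x y z = vec b x' y' z' := by rw [hx, hy, hz]

theorem b0_eq_vec (b : Fin 3 → Fin 3 → F) : b 0 = vec b 1 0 0 := by
  unfold vec; rw [one_smul, zero_smul, zero_smul, add_zero, add_zero]

theorem b1_eq_vec (b : Fin 3 → Fin 3 → F) : b 1 = vec b 0 1 0 := by
  unfold vec; rw [one_smul, zero_smul, zero_smul, add_zero, zero_add]

theorem vec_eq_smul0 (b : Fin 3 → Fin 3 → F) (d0 : F) : vec b d0 0 0 = d0 • b 0 := by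
  unfold vec; rw [zero_smul, zero_smul, add_zero, add_zero]

theorem vec_eq_smul1 (b : Fin 3 → Fin 3 → F) (κ d1 : F) : vec b κ d1 0 = d1 • b 1 + κ • b 0 := by
  unfold vec; rw [zero_smul, add_zero, add_comm]

end Cfsg.Agent.Helper98.UT
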