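import Cfsg.Agent.S1403
import Cfsg.Agent.Lib.Helper21.BGSigma

/-!
# (Q3) for S1378 (helper21's setup): `α(M) ∩ σ(L) = ∅` for non-conjugate maximal subgroups
-/

set_option autoImplicit false

namespace Cfsg.Agent.Helper98.BG139

open Cfsg Subgroup

variable {G : Type*} [Group G]

/-- the conjugate of a coatom is a coatom -/
lemma q3_isCoatom_map_conj {L : Subgroup G} (hL : IsCoatom L) (g : G) :
    IsCoatom (L.map (MulAut.conj g).toMonoidHom) :=
  ((MulAut.conj g).mapSubgroup.isCoatom_iff L).mpr hL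

theorem alpha_disj [Finite G] (hG : IsMinSimpleOddOrder G) (M L : Subgroup G) (hM : IsCoatom M)
    (hL : IsCoatom L) (hcon : ∀ g : G, L ≠ M.map (MulAut.conj g).toMonoidHom) :
    ∀ r, r ∈ alpha M → r ∉ sigma L := by
  intro r hrα hrσ
  obtain ⟨hrp, hrank⟩ := hrα
  obtain ⟨-, -, P, hP⟩ := hrσ
  have : Fact r.Prime := ⟨hrp⟩
  unfold PRankLE at hrank
  push Not at hrank
  obtain ⟨A0, hA0c, hA0e, hA0card⟩ := hrank
  obtain ⟨A, hA⟩ : ∃ A : Subgroup G, A = A0.map M.subtype := ⟨_, rfl⟩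
  have hAM : A ≤ M := by rw [hA]; exact Subgroup.map_subtype_le A0
  have hAcard : Nat.card A = Nat.card A0 := by
    rw [hA]
    exact Nat.card_congr (A0.equivMapOfInjective M.subtype M.subtype_injective).symm.toEquiv
  have hAexp : ∀ a ∈ A, a ^ r = 1 := by
    intro a ha
    rw [hA] at ha
    obtain ⟨a0, ha0, rfl⟩ := ha
    have := hA0e a0 ha0
    rw [← map_pow, this, map_one]
  have hAcomm : ∀ a ∈ A, ∀ b ∈ A, a * b = b * a := by
    intro a ha b hb
    rw [hA] at ha hb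
    obtain ⟨a0, ha0, rfl⟩ := ha
    obtain ⟨b0, hb0, rfl⟩ := hb
    have := hA0c.is_comm.comm ⟨a0, ha0⟩ ⟨b0, hb0⟩
    have h3 : a0 * b0 = b0 * a0 := congrArg (fun z : A0 => (z : M)) this
    rw [← map_mul, h3, map_mul]
  have hAp : IsPGroup r A := by
    intro a
    refine ⟨1, ?_⟩
    rw [pow_one]
    exact Subtype.ext (by simpa using hAexp a a.2)
  -- the rank conditions of S1403
  have hrank_not : ∀ k : ℕ, k ≤ 2 → ¬ RankLE k A := by
    intro k hk h
    have h1 := h r hrp (⊤ : Subgroup A) ⟨⟨fun a b => Subtype.ext (Subtype.ext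
      (hAcomm a.1 a.1.2 b.1 b.1.2))⟩⟩
      (fun a _ => Subtype.ext (by simpa using hAexp a a.2))
    rw [Subgroup.card_top, hAcard] at h1
    have h2 : r ^ k ≤ r ^ 2 := Nat.pow_le_pow_right hrp.pos hk
    omega
  have hAtop : A ≠ ⊤ := by
    intro h
    apply hM.1
    rw [h] at hAM
    exact top_le_iff.mp hAM
  -- the Sylow subgroup of `L` is Sylow in `G`
  obtain ⟨Q, hQ⟩ := Cfsg.Agent.Helper21.BGSigma.exists_sylow_eq_map L P hP
  obtain ⟨Q', hQ'⟩ := hAp.exists_le_sylow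
  obtain ⟨g, hg⟩ := MulAction.exists_smul_eq G Q Q'
  have hQL : (Q : Subgroup G) ≤ L := by rw [hQ]; exact Subgroup.map_subtype_le _
  have hAL : A ≤ L.map (MulAut.conj g).toMonoidHom := by
    intro a ha
    have h1 : a ∈ (Q' : Subgroup G) := hQ' ha
    rw [← hg, Sylow.smul_def, Sylow.pointwise_smul_def] at h1
    obtain ⟨b, hb, rfl⟩ := h1
    exact ⟨b, hQL hb, rfl⟩
  have hLg := q3_isCoatom_map_conj hL g
  obtain ⟨X, -, hXuniq⟩ := Cfsg.Agent.S1403.result hG A hAtop (hrank_not 1 (by norm_num))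
    (Or.inl (hrank_not 2 le_rfl))
  have h1 : M = X := hXuniq M ⟨hM, hAM⟩
  have h2 : L.map (MulAut.conj g).toMonoidHom = X := hXuniq _ ⟨hLg, hAL⟩
  apply hcon g⁻¹
  rw [h1, ← h2, Subgroup.map_map]
  have : (MulAut.conj g⁻¹).toMonoidHom.comp (MulAut.conj g).toMonoidHom = MonoidHom.id G := by
    ext x
    simp only [MonoidHom.comp_apply, MulEquiv.coe_toMonoidHom, MulAut.conj_apply, MonoidHom.id_apply]
    group
  rw [this, Subgroup.map_id]

end Cfsg.Agent.Helper98.BG139
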