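import Mathlib

/-!
General group-theoretic lemmas used for the Bender-Glauberman chain rows about `K`, `K*`
(helper98).
-/

set_option autoImplicit false

namespace Cfsg.Agent.Helper98.BGK

open Subgroup
open scoped commutatorElement

variable {G : Type*} [Group G]

/-- If `k₀` normalizes `U₀` and has no nontrivial fixed point on `U₀`, then every element of `U₀`
is a commutator `v k₀ v⁻¹ k₀⁻¹` with `v ∈ U₀`. -/
theorem comm_surj [Finite G] (U₀ : Subgroup G) (k₀ : G)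
    (hk : k₀ ∈ normalizer (U₀ : Set G))
    (hC : U₀ ⊓ centralizer ({k₀} : Set G) = ⊥) :
    ∀ u ∈ U₀, ∃ v ∈ U₀, u = v * k₀ * v⁻¹ * k₀⁻¹ := by
  have hmem : ∀ v ∈ U₀, v * k₀ * v⁻¹ * k₀⁻¹ ∈ U₀ := by
    intro v hv
    have h1 : k₀ * v⁻¹ * k₀⁻¹ ∈ U₀ := (mem_normalizer_iff.mp hk v⁻¹).mp (inv_mem hv)
    have : v * k₀ * v⁻¹ * k₀⁻¹ = v * (k₀ * v⁻¹ * k₀⁻¹) := by group
    rw [this]
    exact mul_mem hv h1
  let f : U₀ → U₀ := fun v => ⟨(v : G) * k₀ * (v : G)⁻¹ * k₀⁻¹, hmem v v.2⟩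
  have hinj : Function.Injective f := by
    intro v w hvw
    have h1 : (v : G) * k₀ * (v : G)⁻¹ * k₀⁻¹ = (w : G) * k₀ * (w : G)⁻¹ * k₀⁻¹ :=
      congrArg Subtype.val hvw
    have h2 : (v : G) * k₀ * (v : G)⁻¹ = (w : G) * k₀ * (w : G)⁻¹ := mul_right_cancel h1
    have h3 : ((w : G)⁻¹ * v) ∈ U₀ ⊓ centralizer ({k₀} : Set G) := by
      refine Subgroup.mem_inf.mpr ⟨U₀.mul_mem (U₀.inv_mem w.2) v.2, ?_⟩
      rw [mem_centralizer_singleton_iff]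
      -- k₀ * (w⁻¹ v) = (w⁻¹ v) * k₀
      have : k₀ = (w : G)⁻¹ * ((v : G) * k₀ * (v : G)⁻¹) * w := by rw [h2]; group
      calc (w : G)⁻¹ * v * k₀ = (w : G)⁻¹ * ((v : G) * k₀ * (v : G)⁻¹) * w * ((w : G)⁻¹ * v) := by group
        _ = k₀ * ((w : G)⁻¹ * v) := by rw [← this]
    rw [hC, mem_bot] at h3
    apply Subtype.ext
    have : (v : G) = (w : G) * ((w : G)⁻¹ * v) := by group
    rw [this, h3, mul_one]
  have hsurj : Function.Surjective f := Finite.injective_iff_surjective.mp hinj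
  intro u hu
  obtain ⟨v, hv⟩ := hsurj ⟨u, hu⟩
  exact ⟨v, v.2, (congrArg Subtype.val hv).symm⟩

/-- Decomposition of elements of `X ⊔ Y` when `Y` normalizes `X`. -/
theorem exists_mul_of_mem_sup {X Y : Subgroup G} (h : ∀ y ∈ Y, ∀ x ∈ X, y * x * y⁻¹ ∈ X)
    {g : G} (hg : g ∈ X ⊔ Y) : ∃ x ∈ X, ∃ y ∈ Y, g = x * y := by
  rw [sup_eq_closure] at hg
  induction hg using Subgroup.closure_induction with
  | mem z hz =>
    rcases hz with hz | hz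
    · exact ⟨z, hz, 1, one_mem _, by simp⟩
    · exact ⟨1, one_mem _, z, hz, by simp⟩
  | one => exact ⟨1, one_mem _, 1, one_mem _, by simp⟩
  | mul a b _ _ ha hb =>
    obtain ⟨x1, hx1, y1, hy1, rfl⟩ := ha
    obtain ⟨x2, hx2, y2, hy2, rfl⟩ := hb
    refine ⟨x1 * (y1 * x2 * y1⁻¹), mul_mem hx1 (h y1 hy1 x2 hx2), y1 * y2, mul_mem hy1 hy2, ?_⟩
    group
  | inv a _ ha =>
    obtain ⟨x1, hx1, y1, hy1, rfl⟩ := ha
    refine ⟨y1⁻¹ * x1⁻¹ * y1⁻¹⁻¹, h y1⁻¹ (inv_mem hy1) x1⁻¹ (inv_mem hx1), y1⁻¹, inv_mem hy1, ?_⟩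
    group

/-- If every element of `M` is `d * k` with `d ∈ D`, `k ∈ K`, where the abelian group `K`
normalizes `D`, then `[M, M] ≤ D`. -/
theorem commutator_le_of_decomp (D K M : Subgroup G)
    (hKD : ∀ k ∈ K, ∀ d ∈ D, k * d * k⁻¹ ∈ D)
    (hKc : ∀ a ∈ K, ∀ b ∈ K, a * b = b * a)
    (hM : ∀ m ∈ M, ∃ d ∈ D, ∃ k ∈ K, m = d * k) : ⁅M, M⁆ ≤ D := by
  rw [Subgroup.commutator_le]
  intro m1 hm1 m2 hm2
  obtain ⟨d1, hd1, k1, hk1, rfl⟩ := hM m1 hm1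
  obtain ⟨d2, hd2, k2, hk2, rfl⟩ := hM m2 hm2
  have hc : k2 * k1⁻¹ = k1⁻¹ * k2 := by
    have := hKc k1 hk1 k2 hk2
    calc k2 * k1⁻¹ = k1⁻¹ * (k1 * k2) * k1⁻¹ := by group
      _ = k1⁻¹ * (k2 * k1) * k1⁻¹ := by rw [this]
      _ = k1⁻¹ * k2 := by group
  have e : ⁅d1 * k1, d2 * k2⁆ = d1 * (k1 * d2 * k1⁻¹) * (k2 * d1⁻¹ * k2⁻¹) * d2⁻¹ := by
    rw [commutatorElement_def]
    calc d1 * k1 * (d2 * k2) * (d1 * k1)⁻¹ * (d2 * k2)⁻¹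
        = d1 * k1 * d2 * (k2 * k1⁻¹) * d1⁻¹ * k2⁻¹ * d2⁻¹ := by group
      _ = d1 * k1 * d2 * (k1⁻¹ * k2) * d1⁻¹ * k2⁻¹ * d2⁻¹ := by rw [hc]
      _ = d1 * (k1 * d2 * k1⁻¹) * (k2 * d1⁻¹ * k2⁻¹) * d2⁻¹ := by group
  rw [e]
  exact mul_mem (mul_mem (mul_mem hd1 (hKD k1 hk1 d2 hd2)) (hKD k2 hk2 d1⁻¹ (inv_mem hd1)))
    (inv_mem hd2)

/-- `[H, K]` is invariant under conjugation by elements of `H`. -/
theorem conj_mem_commutator_left (H K : Subgroup G) {x : G} (hx : x ∈ H) :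
    ∀ n ∈ ⁅H, K⁆, x * n * x⁻¹ ∈ ⁅H, K⁆ := by
  intro n hn
  rw [Subgroup.commutator_def] at hn
  induction hn using Subgroup.closure_induction with
  | mem z hz =>
    obtain ⟨h, hh, k, hk, rfl⟩ := hz
    have e : x * ⁅h, k⁆ * x⁻¹ = ⁅x * h, k⁆ * ⁅x, k⁆⁻¹ := by
      simp only [commutatorElement_def]; group
    rw [e]
    exact mul_mem (Subgroup.commutator_mem_commutator (mul_mem hx hh) hk)
      (inv_mem (Subgroup.commutator_mem_commutator hx hk))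
  | one => simp
  | mul a b _ _ ha hb =>
    have : x * (a * b) * x⁻¹ = (x * a * x⁻¹) * (x * b * x⁻¹) := by group
    rw [this]; exact mul_mem ha hb
  | inv a _ ha =>
    have : x * a⁻¹ * x⁻¹ = (x * a * x⁻¹)⁻¹ := by group
    rw [this]; exact inv_mem ha

end Cfsg.Agent.Helper98.BGK
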