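import Mathlib
import Cfsg.Prelude.Def_OddOrderLocal
import Cfsg.Agent.Lib.Helper98.BGK

/-!
# (R9) for S1378 (helper53's route): a complement of a normal Hall subgroup inside a supplement
-/

set_option autoImplicit false
set_option linter.unusedSectionVars false
set_option linter.style.haveILetI false

namespace Cfsg.Agent.Helper98.BG139Req

open Subgroup

/-- (R9) a complement of a normal Hall subgroup inside a supplement. -/
theorem exists_compl_le {G : Type*} [Group G] [Finite G] (M K N : Subgroup G) (hKM : K ≤ M)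
    (hKn : M ≤ Subgroup.normalizer (K : Set G)) (hcop : (Nat.card K).Coprime (K.relIndex M))
    (hNM : N ≤ M) (hfr : M ≤ K ⊔ N) :
    ∃ E : Subgroup G, E ≤ N ∧ Cfsg.IsComplIn E K M := by
  -- `K ∩ N` as a normal subgroup of `N`
  haveI hnorm : (K.subgroupOf N).Normal := by
    refine ⟨fun x hx g => ?_⟩
    rw [Subgroup.mem_subgroupOf] at hx ⊢
    have hg : (g : G) ∈ normalizer (K : Set G) := hKn (hNM g.2)
    have := (Subgroup.mem_normalizer_iff.mp hg (x : G)).mp hx
    simpa using this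
  haveI hnormM : (K.subgroupOf M).Normal := (Subgroup.normal_subgroupOf_iff_le_normalizer hKM).mpr hKn
  have hdiv1 : Nat.card (K.subgroupOf N) ∣ Nat.card K := by
    rw [← Subgroup.inf_subgroupOf_right, Nat.card_congr (Subgroup.subgroupOfEquivOfLe
      (inf_le_right : K ⊓ N ≤ N)).toEquiv]
    exact Subgroup.card_dvd_of_le inf_le_left
  have hdiv2 : (K.subgroupOf N).index ∣ K.relIndex M := by
    have h1 : (K.subgroupOf N).index = K.relIndex N := rfl
    rw [h1, ← Subgroup.relIndex_subgroupOf hNM]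
    exact Subgroup.relIndex_dvd_index_of_normal (K.subgroupOf M) (N.subgroupOf M)
  have hcop' : (Nat.card (K.subgroupOf N)).Coprime (K.subgroupOf N).index :=
    (hcop.coprime_dvd_left hdiv1).coprime_dvd_right hdiv2
  obtain ⟨E0, hE0⟩ := Subgroup.exists_right_complement'_of_coprime hcop'
  refine ⟨E0.map N.subtype, Subgroup.map_subtype_le E0, (Subgroup.map_subtype_le E0).trans hNM, hKM,
    ?_, ?_⟩
  · rw [eq_bot_iff]
    rintro x ⟨⟨e, he, rfl⟩, hxK⟩
    have hmem : e ∈ K.subgroupOf N ⊓ E0 := Subgroup.mem_inf.mpr ⟨hxK, he⟩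
    rw [hE0.disjoint.eq_bot, Subgroup.mem_bot] at hmem
    rw [Subgroup.mem_bot, hmem]
    rfl
  · intro m hm
    have hm' : m⁻¹ ∈ K ⊔ N := hfr (inv_mem hm)
    obtain ⟨k, hk, n, hn, hkn⟩ := Cfsg.Agent.Helper98.BGK.exists_mul_of_mem_sup
      (X := K) (Y := N) (fun y hy x hx =>
        (Subgroup.mem_normalizer_iff.mp (hKn (hNM hy)) x).mp hx) hm'
    obtain ⟨⟨⟨k0, hk0⟩, ⟨e, he⟩⟩, hke, -⟩ :=
      (Subgroup.isComplement_iff_existsUnique.mp hE0) ⟨n, hn⟩
    have hke' : (k0 : G) * (e : G) = n := congrArg Subtype.val hke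
    refine ⟨(e : G)⁻¹, inv_mem ⟨e, he, rfl⟩, (k * (k0 : G))⁻¹, inv_mem (mul_mem hk hk0), ?_⟩
    have : m⁻¹ = k * (k0 : G) * (e : G) := by rw [hkn, ← hke', mul_assoc]
    have h2 : m = (m⁻¹)⁻¹ := (inv_inv m).symm
    rw [h2, this]
    group

end Cfsg.Agent.Helper98.BG139Req
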