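import Mathlib
import Cfsg.Agent.S1405
import Cfsg.Agent.S1406
import Cfsg.Agent.S1409
import Cfsg.Agent.S1417
import Cfsg.Agent.S1424
import Cfsg.Agent.Lib.Helper15.BGW.Ctx
import Cfsg.Agent.Lib.Helper15.BGV.Core
import Cfsg.Agent.Lib.Helper21.BG139Setup
import Cfsg.Agent.Lib.Helper99.FrobFR
import Cfsg.Agent.Lib.Helper52.CoprimeSylow
import Cfsg.Agent.Lib.Helper89.BG12Tools
import Cfsg.Agent.Lib.Helper34.BG10d
import Cfsg.Agent.Lib.Helper98.BG139Q3

/-!
# BG 13.3 (= S1428), case `p ∈ α(H)`: the front half (helper98, for helper99 / helper15)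

From the standing configuration `Ctx M H E p q r P R T` with `p ∈ σ(H) ∩ α(H)` and `r ∈ τ₁(H)` we
produce a Sylow `q`-subgroup `S` of `G` with `N_G(S) ≤ M ∩ H` and `q ∈ σ(M) ∩ σ(H)`
(`Aligned M H q S`).
-/

set_option autoImplicit false
set_option linter.unusedSectionVars false
set_option linter.unusedVariables false
set_option linter.style.haveILetI false
set_option linter.unnecessarySimpa false

namespace Cfsg.Agent.Helper98.BG133

open Subgroup Cfsg
open Cfsg.Agent.Helper16 Cfsg.Agent.Helper79.BG10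
open scoped commutatorElement

variable {G : Type*} [Group G] [Finite G]

/-- A `p`-subgroup of `H` with `p ∈ α(H)` lies in `H_α` when `H_α` is a Hall `α(H)`-subgroup. -/
theorem le_alphaCore_of_isPGroup {H Q : Subgroup G} {p : ℕ} (hp : p.Prime)
    (hHall : IsPiHallOf (alpha H) (alphaCore H) H) (hpα : p ∈ alpha H)
    (hQH : Q ≤ H) (hQ : IsPGroup p Q) : Q ≤ alphaCore H := by
  haveI := Fact.mk hp
  set N : Subgroup H := Cfsg.piCore (Cfsg.alpha H) H with hN
  have hidx : N.index = (Cfsg.alphaCore H).relIndex H := by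
    unfold Cfsg.alphaCore Subgroup.relIndex
    congr 1
    exact (Subgroup.comap_map_eq_self_of_injective H.subtype_injective _).symm
  have hnd : ¬ p ∣ N.index := by rw [hidx]; exact hHall.2.2 p hp hpα
  intro x hx
  have hxM : x ∈ H := hQH hx
  obtain ⟨k, hk⟩ := hQ ⟨x, hx⟩
  have hxk : x ^ p ^ k = 1 := by
    have := congrArg Subtype.val hk
    simpa using this
  set y : H := ⟨x, hxM⟩ with hy
  have hyk : y ^ p ^ k = 1 := Subtype.ext (by simpa using hxk)
  have hq : ((QuotientGroup.mk' N) y) ^ p ^ k = 1 := by rw [← map_pow, hyk, map_one]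
  have ho1 : orderOf ((QuotientGroup.mk' N) y) ∣ p ^ k := orderOf_dvd_of_pow_eq_one hq
  have ho2 : orderOf ((QuotientGroup.mk' N) y) ∣ N.index := by
    rw [Subgroup.index_eq_card]; exact orderOf_dvd_natCard _
  have hcop : (p ^ k).Coprime N.index := by
    apply Nat.Coprime.pow_left
    exact (Nat.Prime.coprime_iff_not_dvd hp).mpr hnd
  have ho : orderOf ((QuotientGroup.mk' N) y) = 1 :=
    Nat.eq_one_of_dvd_coprimes hcop ho1 ho2
  have hyN : y ∈ N := by
    have := orderOf_eq_one_iff.mp ho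
    exact (QuotientGroup.eq_one_iff y).mp this
  unfold Cfsg.alphaCore
  exact ⟨y, hyN, rfl⟩

theorem le_normalizer_alphaCore (H : Subgroup G) :
    H ≤ normalizer ((alphaCore H : Subgroup G) : Set G) := by
  intro h hh
  rw [mem_normalizer_iff]
  intro x
  unfold alphaCore
  constructor
  · rintro ⟨y, hy, rfl⟩
    exact ⟨⟨h, hh⟩ * y * ⟨h, hh⟩⁻¹, (piCore_normal (alpha H) H).conj_mem y hy ⟨h, hh⟩, rfl⟩
  · rintro ⟨y, hy, hyx⟩
    refine ⟨⟨h, hh⟩⁻¹ * y * ⟨h, hh⟩, ?_, ?_⟩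
    · have := (piCore_normal (alpha H) H).conj_mem y hy ⟨h, hh⟩⁻¹
      simpa using this
    · have h1 : (H.subtype y : G) = h * x * h⁻¹ := hyx
      show h⁻¹ * (y : G) * h = x
      have h2 : (y : G) = h * x * h⁻¹ := h1
      rw [h2]; group

theorem coprime_sup_card {T R K : Subgroup G} {q r : ℕ} [hq : Fact q.Prime] [hr : Fact r.Prime]
    (hT : IsPGroup q T) (hR : Nat.card R = r) (hRT : R ≤ normalizer (T : Set G))
    (hqK : ¬ q ∣ Nat.card K) (hrK : ¬ r ∣ Nat.card K) :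
    (Nat.card (T ⊔ R : Subgroup G)).Coprime (Nat.card K) := by
  apply Nat.coprime_of_dvd
  intro l hl h1 h2
  haveI := Fact.mk hl
  have hlq : l ≠ q := by rintro rfl; exact hqK h2
  have hlr : l ≠ r := by rintro rfl; exact hrK h2
  have hlT : ¬ l ∣ Nat.card T := Cfsg.Agent.Helper15.BGV.not_dvd_card_of_isPGroup_ne hlq hT
  have hlR : ¬ l ∣ Nat.card R := by
    rw [hR]; intro h; exact hlr ((Nat.prime_dvd_prime_iff_eq hl hr.out).mp h)
  obtain ⟨a, ha⟩ := exists_prime_orderOf_dvd_card' (G := ↥(T ⊔ R)) l h1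
  have hcard : Nat.card (zpowers (a : G)) = l := by
    rw [Nat.card_zpowers, Subgroup.orderOf_coe, ha]
  have hA : IsPGroup l (zpowers (a : G)) := IsPGroup.of_card (n := 1) (by rw [hcard, pow_one])
  have h3 := Cfsg.Agent.Helper15.BGV.coprime_card_sup hA hRT hlT hlR
  rw [hcard] at h3
  exact (Nat.Prime.coprime_iff_not_dvd hl).mp h3 h1

theorem le_of_inUniqueMaximal_centralizer {H X Y : Subgroup G} (hH : IsCoatom H)
    (hU : InUniqueMaximal (H ⊓ centralizer (X : Set G))) (hY : Y ≠ ⊤)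
    (hle : centralizer (X : Set G) ≤ Y) : Y ≤ H := by
  obtain ⟨L, hL, hYL⟩ := Cfsg.Agent.Helper34.BG.exists_coatom_ge hY
  have h1 : L = H := Cfsg.Agent.Helper21.BG139.eq_of_inUniqueMaximal hU hH hL inf_le_left
    ((inf_le_right.trans hle).trans hYL)
  rw [← h1]; exact hYL

/-- `[T, ⟨x⟩] = T` gives `T = ⟨[x, u] | u ∈ T⟩`. -/
theorem comm_gen {T R : Subgroup G} {x : G} (hR : R = zpowers x)
    (hxT : x ∈ normalizer (T : Set G)) (hTR : ⁅T, R⁆ = T) :
    T ≤ Subgroup.closure {g | ∃ u ∈ T, g = x * u * x⁻¹ * u⁻¹} := by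
  set D := Subgroup.closure {g | ∃ u ∈ T, g = x * u * x⁻¹ * u⁻¹} with hD
  have hgen : ∀ u ∈ T, x * u * x⁻¹ * u⁻¹ ∈ D := fun u hu => Subgroup.subset_closure ⟨u, hu, rfl⟩
  have hxu : ∀ u ∈ T, x * u * x⁻¹ ∈ T := fun u hu => (mem_normalizer_iff.mp hxT u).mp hu
  have hxD : ∀ g ∈ D, x * g * x⁻¹ ∈ D := by
    intro g hg
    induction hg using Subgroup.closure_induction with
    | mem g hg =>
      obtain ⟨u, hu, rfl⟩ := hg
      have h1 := hgen _ (hxu u hu)
      have h2 : x * (x * u * x⁻¹ * u⁻¹) * x⁻¹ = x * (x * u * x⁻¹) * x⁻¹ * (x * u * x⁻¹)⁻¹ := by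
        group
      rw [h2]; exact h1
    | one => simpa using D.one_mem
    | mul a b _ _ ha hb =>
      have h2 : x * (a * b) * x⁻¹ = (x * a * x⁻¹) * (x * b * x⁻¹) := by group
      rw [h2]; exact D.mul_mem ha hb
    | inv a _ ha =>
      have h2 : x * a⁻¹ * x⁻¹ = (x * a * x⁻¹)⁻¹ := by group
      rw [h2]; exact D.inv_mem ha
  have hpow : ∀ k : ℕ, ∀ u ∈ T, x ^ k * u * (x ^ k)⁻¹ * u⁻¹ ∈ D := by
    intro k
    induction k with
    | zero => intro u hu; simpa using D.one_mem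
    | succ k ih =>
      intro u hu
      have h2 : x ^ (k + 1) * u * (x ^ (k + 1))⁻¹ * u⁻¹
          = (x * (x ^ k * u * (x ^ k)⁻¹ * u⁻¹) * x⁻¹) * (x * u * x⁻¹ * u⁻¹) := by
        rw [pow_succ']; group
      rw [h2]
      exact D.mul_mem (hxD _ (ih u hu)) (hgen u hu)
  rw [← hTR, Subgroup.commutator_le]
  intro t ht y hy
  rw [hR] at hy
  obtain ⟨k, rfl⟩ : ∃ k : ℕ, x ^ k = y := by
    have hfin : IsOfFinOrder x := isOfFinOrder_of_finite x
    exact (Submonoid.mem_powers_iff y x).mp (hfin.mem_powers_iff_mem_zpowers.mpr hy)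
  have h3 := D.inv_mem (hpow k t ht)
  have h4 : ⁅t, x ^ k⁆ = (x ^ k * t * (x ^ k)⁻¹ * t⁻¹)⁻¹ := by
    rw [commutatorElement_def]; group
  rw [h4]; exact h3

/-- a `p`-subgroup of `K` is conjugate in `K` into a given Sylow `p`-subgroup of `K` -/
theorem exists_cj_le_of_isSylowIn {K S A : Subgroup G} {p : ℕ} [Fact p.Prime]
    (hS : IsSylowIn p K S) (hA : IsPGroup p A) (hAK : A ≤ K) : ∃ z ∈ K, cj z A ≤ S := by
  obtain ⟨T', hAT', hT'⟩ := exists_isSylowIn_ge hA hAK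
  obtain ⟨z, hz, hSz⟩ := exists_cj_eq_of_isSylowIn hT' hS
  exact ⟨z, hz, by rw [hSz]; exact cj_mono z hAT'⟩

theorem not_pRankLE_of_elemAb {A : Subgroup G} {p k : ℕ}
    (hc : ∀ a ∈ A, ∀ b ∈ A, a * b = b * a) (he : ∀ a ∈ A, a ^ p = 1)
    (hcard : ¬ Nat.card A ≤ p ^ k) : ¬ PRankLE p k ↥A := by
  intro h
  apply hcard
  have h1 := h ⊤ ⟨⟨fun a b => Subtype.ext (Subtype.ext (hc a.1.1 a.1.2 b.1.1 b.1.2))⟩⟩
    (fun a _ => Subtype.ext (by simpa using he a.1 a.2))
  rwa [Subgroup.card_top] at h1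

theorem elemAb_cj {A : Subgroup G} {p : ℕ} (z : G) (hc : ∀ a ∈ A, ∀ b ∈ A, a * b = b * a)
    (he : ∀ a ∈ A, a ^ p = 1) :
    (∀ a ∈ cj z A, ∀ b ∈ cj z A, a * b = b * a) ∧ (∀ a ∈ cj z A, a ^ p = 1) := by
  constructor
  · rintro _ ⟨a, ha, rfl⟩ _ ⟨b, hb, rfl⟩
    simp only [MulEquiv.coe_toMonoidHom, MulAut.conj_apply]
    have h1 := hc a ha b hb
    calc z * a * z⁻¹ * (z * b * z⁻¹) = z * (a * b) * z⁻¹ := by group
      _ = z * (b * a) * z⁻¹ := by rw [h1]
      _ = z * b * z⁻¹ * (z * a * z⁻¹) := by group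
  · rintro _ ⟨a, ha, rfl⟩
    simp only [MulEquiv.coe_toMonoidHom, MulAut.conj_apply]
    rw [conj_pow, he a ha]; group

/-- for `p ∈ α(H)` a Sylow `p`-subgroup of `H_α` has `p`-rank at least 3 -/
theorem not_prankLE_two_of_sylow {H Pst : Subgroup G} {p : ℕ} [Fact p.Prime]
    (hHall : IsPiHallOf (alpha H) (alphaCore H) H) (hpα : p ∈ alpha H)
    (hPst : IsSylowIn p (alphaCore H) Pst) : ¬ PRankLE p 2 ↥Pst := by
  intro h
  apply hpα.2
  intro A hAc hAe
  by_contra hcard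
  obtain ⟨hc, he, hcd⟩ := elemAb_map_subtype A hAc hAe
  have hA'p : IsPGroup p (A.map H.subtype) := isPGroup_of_pow_eq_one _ he
  have hA'K := le_alphaCore_of_isPGroup Fact.out hHall hpα (Subgroup.map_subtype_le _) hA'p
  obtain ⟨z, hz, hzA⟩ := exists_cj_le_of_isSylowIn hPst hA'p hA'K
  obtain ⟨hc', he'⟩ := elemAb_cj z hc he
  exact not_pRankLE_mono hzA
    (not_pRankLE_of_elemAb hc' he' (by rw [card_cj, hcd]; exact hcard)) h

/-- a Sylow `q`-subgroup of `H` contains an elementary abelian subgroup of order `q ^ 2` when `H`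
has `q`-rank exactly 2 -/
theorem exists_elemAb_sq_le {H S1 : Subgroup G} {q : ℕ} [Fact q.Prime]
    (hS1 : IsSylowIn q H S1) (h2 : PRankLE q 2 H) (h1 : ¬ PRankLE q 1 H) :
    ∃ A : Subgroup G, A ≤ S1 ∧ IsElementaryAbelian q A ∧ Nat.card A = q ^ 2 := by
  have h1' := h1
  unfold PRankLE at h1'
  push Not at h1'
  obtain ⟨B, hBc, hBe, hBcard⟩ := h1'
  obtain ⟨hc, he, hcd⟩ := elemAb_map_subtype B hBc hBe
  have hB'p : IsPGroup q (B.map H.subtype) := isPGroup_of_pow_eq_one _ he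
  obtain ⟨z, hz, hzB⟩ := exists_cj_le_of_isSylowIn hS1 hB'p (Subgroup.map_subtype_le _)
  obtain ⟨hc', he'⟩ := elemAb_cj z hc he
  refine ⟨cj z (B.map H.subtype), hzB,
    ⟨⟨⟨fun a b => Subtype.ext (hc' a.1 a.2 b.1 b.2)⟩⟩, he'⟩, ?_⟩
  rw [card_cj, hcd]
  have hle : Nat.card B ≤ q ^ 2 := h2 B hBc hBe
  obtain ⟨k, hk⟩ := IsPGroup.iff_card.mp (isPGroup_of_pow_eq_one B hBe)
  rw [hk] at hle hBcard ⊢
  have hq1 : 1 < q := (Fact.out : q.Prime).one_lt
  have h3 : 1 < k := (Nat.pow_lt_pow_iff_right hq1).mp hBcard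
  have h4 : k ≤ 2 := (Nat.pow_le_pow_iff_right hq1).mp hle
  have h5 : k = 2 := by omega
  rw [h5]

theorem normalizer_le_normalizer_of_cyclic {S X : Subgroup G} {q : ℕ} (hq : q.Prime)
    (hS : IsCyclic ↥S) (hXS : X ≤ S) (hX : Nat.card X = q) :
    normalizer (S : Set G) ≤ normalizer (X : Set G) := by
  intro g hg
  apply mem_normalizer_of_cj_eq
  have h1 : cj g X ≤ S := by
    have h0 := cj_mono g hXS
    rwa [cj_eq_self_of_mem_normalizer hg] at h0
  have h2 : cj g X ≤ X := by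
    intro y hy
    have hyq : y ^ q = 1 := by
      have h3 : (⟨y, hy⟩ : ↥(cj g X)) ^ Nat.card ↥(cj g X) = 1 := pow_card_eq_one'
      rw [card_cj, hX] at h3
      have h4 := congrArg Subtype.val h3
      simpa using h4
    exact Cfsg.Agent.Helper99.FrobFR.mem_of_isCyclic_of_pow_eq_one hq S X hS hX hXS (h1 hy) hyq
  exact Subgroup.eq_of_le_of_card_ge h2 (by rw [card_cj])

theorem mem_sigma_of_normalizer_le {H S1 : Subgroup G} {q : ℕ} [hq : Fact q.Prime]
    (hS1 : IsSylowIn q H S1) (hN : normalizer (S1 : Set G) ≤ H) (hqH : q ∣ Nat.card H) :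
    q ∈ sigma H := by
  obtain ⟨S, rfl⟩ := hS1
  exact ⟨hq.out, hqH, S, hN⟩

theorem exists_zpowers_eq_of_card_prime {R : Subgroup G} {r : ℕ} [hr : Fact r.Prime]
    (hR : Nat.card R = r) : ∃ x ∈ R, R = zpowers x ∧ x ^ r = 1 := by
  haveI := isCyclic_of_prime_card (α := ↥R) (p := r) hR
  obtain ⟨g, hg⟩ := IsCyclic.exists_generator (α := ↥R)
  refine ⟨(g : G), g.2, ?_, ?_⟩
  · apply le_antisymm
    · intro y hy
      obtain ⟨k, hk⟩ := Subgroup.mem_zpowers_iff.mp (hg ⟨y, hy⟩)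
      rw [Subgroup.mem_zpowers_iff]
      exact ⟨k, by have h1 := congrArg Subtype.val hk; simpa using h1⟩
    · exact zpowers_le.mpr g.2
  · have h1 : g ^ Nat.card ↥R = 1 := pow_card_eq_one'
    rw [hR] at h1
    have h2 := congrArg Subtype.val h1
    simpa using h2

theorem exists_le_card_prime {T : Subgroup G} {q : ℕ} [hq : Fact q.Prime] (hT : IsPGroup q T)
    (hT1 : T ≠ ⊥) : ∃ X : Subgroup G, X ≤ T ∧ Nat.card X = q := by
  obtain ⟨k, hk⟩ := IsPGroup.iff_card.mp hT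
  have hk0 : k ≠ 0 := by
    rintro rfl
    rw [pow_zero] at hk
    exact hT1 (Subgroup.card_eq_one.mp hk)
  have hdvd : q ^ 1 ∣ Nat.card ↥T := by rw [hk, pow_one]; exact dvd_pow_self q hk0
  obtain ⟨K, hK⟩ := Sylow.exists_subgroup_card_pow_prime q hdvd
  refine ⟨K.map T.subtype, Subgroup.map_subtype_le _, ?_⟩
  rw [Subgroup.card_map_of_injective T.subtype_injective, hK, pow_one]

theorem prime_ne_two_of_dvd (hG : IsMinSimpleOddOrder G) {H : Subgroup G} {q : ℕ}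
    (hq : q ∣ Nat.card H) : q ≠ 2 := by
  rintro rfl
  have h1 : 2 ∣ Nat.card G := hq.trans (Subgroup.card_subgroup_dvd_card H)
  have h2 := hG.1
  rw [Nat.odd_iff] at h2
  omega

theorem dvd_card_of_isPGroup_ne_bot {T H : Subgroup G} {q : ℕ} [hq : Fact q.Prime]
    (hT : IsPGroup q T) (hT1 : T ≠ ⊥) (hTH : T ≤ H) : q ∣ Nat.card H := by
  obtain ⟨k, hk⟩ := IsPGroup.iff_card.mp hT
  have hk0 : k ≠ 0 := by
    rintro rfl
    rw [pow_zero] at hk
    exact hT1 (Subgroup.card_eq_one.mp hk)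
  have h1 : q ∣ Nat.card T := by rw [hk]; exact dvd_pow_self q hk0
  exact h1.trans (Subgroup.card_dvd_of_le hTH)

theorem eq_of_prime_dvd_card_isPGroup {T : Subgroup G} {q l : ℕ} [hq : Fact q.Prime]
    (hT : IsPGroup q T) (hl : l.Prime) (h : l ∣ Nat.card T) : l = q := by
  obtain ⟨k, hk⟩ := IsPGroup.iff_card.mp hT
  rw [hk] at h
  exact (Nat.prime_dvd_prime_iff_eq hl hq.out).mp (hl.dvd_of_dvd_pow h)

theorem alpha_front (hG : IsMinSimpleOddOrder G) {M H E P R T : Subgroup G} {p q r : ℕ}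
    [Fact p.Prime] [Fact q.Prime] [Fact r.Prime]
    (C : Cfsg.Agent.Helper15.BGW.Ctx M H E p q r P R T) (hpH : p ∈ sigma H) (hpα : p ∈ alpha H)
    (hrH : r ∈ tau1 H) : ∃ S : Sylow q G, Cfsg.Agent.Helper21.BG139.Aligned M H q S := by
  have hp : p.Prime := Fact.out
  have hq : q.Prime := Fact.out
  have hr : r.Prime := Fact.out
  obtain ⟨hHall, -, hKσ, -, -⟩ := Cfsg.Agent.S1405.result hG H C.hH
  have hKH : alphaCore H ≤ H := hHall.1
  -- (F1)
  have hcon' : ∀ g : G, M ≠ H.map (MulAut.conj g).toMonoidHom := by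
    intro g hg
    apply C.hnc g⁻¹
    rw [hg, Cfsg.Agent.Helper15.BGV.map_conj_inv_map_conj]
  have hqα : q ∉ alpha H := fun h =>
    Cfsg.Agent.Helper98.BG139.alpha_disj hG H M C.hH C.hM hcon' q h C.hqM
  have hrα : r ∉ alpha H := fun h => hrH.2.1
    (Cfsg.Agent.Helper79.BG10.alpha_subset_sigma hG (Cfsg.Agent.Helper21.BG139.uniqHyp hG) C.hH h)
  have hqK : ¬ q ∣ Nat.card (alphaCore H) := fun h => hqα (hHall.2.1 q hq h)
  have hrK : ¬ r ∣ Nat.card (alphaCore H) := fun h => hrα (hHall.2.1 r hr h)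
  have hT1 : T ≠ ⊥ := C.hT1
  have hqH : q ∣ Nat.card H := dvd_card_of_isPGroup_ne_bot C.hT hT1 C.hTH
  have hPp : IsPGroup p P := Cfsg.Agent.Helper15.BGV.isPGroup_of_card_prime C.hP
  have hP1 : P ≠ ⊥ := Cfsg.Agent.Helper15.BGV.ne_bot_of_card_prime C.hP
  have hR1 : R ≠ ⊥ := Cfsg.Agent.Helper15.BGV.ne_bot_of_card_prime C.hR
  have hpdvd : p ∣ Nat.card H := dvd_card_of_isPGroup_ne_bot hPp hP1 C.hPH
  have hp2 : p ≠ 2 := prime_ne_two_of_dvd hG hpdvd
  have hq2 : q ≠ 2 := prime_ne_two_of_dvd hG hqH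
  -- (F2)
  have hPK : P ≤ alphaCore H := le_alphaCore_of_isPGroup hp hHall hpα C.hPH hPp
  -- (F3)
  obtain ⟨Pst, hPstK, hPstc, hPPst, hAPst⟩ :=
    Cfsg.Agent.Helper52.exists_invariant_sylow_ge (T ⊔ R) (alphaCore H)
      (sup_le (C.hTH.trans (le_normalizer_alphaCore H)) (C.hRH.trans (le_normalizer_alphaCore H)))
      (coprime_sup_card C.hT C.hR C.hRT hqK hrK)
      (Or.inr (Cfsg.Agent.Helper15.BGV.solv_of_le_coatom hG C.hH hKH)) p P hPK hPp
      (sup_le (C.hTP.trans (centralizer_le_normalizer _))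
        (C.hRP.trans (centralizer_le_normalizer _)))
  have hPstS : IsSylowIn p (alphaCore H) Pst := isSylowIn_of_card hPstK hPstc
  have hPstp : IsPGroup p Pst := hPstS.isPGroup
  -- (F4)
  have hNR : ¬ normalizer (R : Set G) ≤ H := by
    intro h
    exact (Cfsg.Agent.S1409.result hG H C.hH r hrH.2.1 R C.hR h).1.2 hrH.2.2.2.2
  have hrk1 : RankLE 1 ↥(alphaCore H ⊓ centralizer (R : Set G)) := by
    by_contra h
    have hU := Cfsg.Agent.S1406.result hG H C.hH R C.hRH (by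
      intro l hl hlR
      rw [C.hR] at hlR
      rw [(Nat.prime_dvd_prime_iff_eq hl hr).mp hlR]
      exact hrα) h
    exact hNR (le_of_inUniqueMaximal_centralizer C.hH hU
      (Cfsg.Agent.Helper15.BGV.normalizer_ne_top_of_le_coatom hG C.hH C.hRH hR1)
      (centralizer_le_normalizer _))
  -- (F5)
  obtain ⟨x, hxR, hRx, hxr⟩ := exists_zpowers_eq_of_card_prime C.hR
  have hCx : centralizer ({x} : Set G) ≤ centralizer (R : Set G) := by
    intro y hy
    rw [mem_centralizer_singleton_iff] at hy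
    have hxy : x ∈ centralizer ({y} : Set G) := mem_centralizer_singleton_iff.mpr hy.symm
    have hRy : R ≤ centralizer ({y} : Set G) := by
      rw [hRx]; exact (zpowers_le).mpr hxy
    rw [mem_centralizer_iff]
    intro z hz
    exact (mem_centralizer_singleton_iff.mp (hRy hz))
  have hcyc : IsCyclic ↥(Pst ⊓ centralizer ({x} : Set G)) := by
    apply Cfsg.Agent.Helper34.BG.isCyclic_of_pRankLE_one hp2 (hPstp.to_le inf_le_left)
    exact Cfsg.Agent.Helper55.BGB.prankLE_of_injective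
      (Subgroup.inclusion (inf_le_inf hPstK hCx)) (Subgroup.inclusion_injective _) (hrk1 p hp)
  have hPstT : Pst ≤ centralizer (T : Set G) :=
    Cfsg.Agent.Helper99.FrobFR.frob_centralizes_of_cyclic hp hq hr hp2 hq2 C.hqp.symm C.hrp.symm
      C.hqr Pst T x hPstp C.hT (le_sup_left.trans hAPst) (hAPst (le_sup_right (a := T) hxR))
      (C.hRT hxR) hxr (comm_gen hRx (C.hRT hxR) C.hTR) hcyc P C.hP hPPst
      (by
        intro y hy
        rw [mem_centralizer_singleton_iff]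
        have := C.hRP hxR
        rw [mem_centralizer_iff] at this
        exact this y hy)
      C.hPT
  -- (F6)
  have hnr : ¬ RankLE 1 ↥(alphaCore H ⊓ centralizer (T : Set G)) :=
    (not_rankLE_of_not_pRankLE hp (not_pRankLE_mono (le_inf hPstK hPstT)
      (not_prankLE_two_of_sylow hHall hpα hPstS))).1
  have hUT : InUniqueMaximal (H ⊓ centralizer (T : Set G)) :=
    Cfsg.Agent.S1406.result hG H C.hH T C.hTH (by
      intro l hl hlT
      rw [eq_of_prime_dvd_card_isPGroup C.hT hl hlT]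
      exact hqα) hnr
  have hN : ∀ X0 : Subgroup G, X0 ≤ T → X0 ≠ ⊥ → normalizer (X0 : Set G) ≤ H := by
    intro X0 hX0 hX01
    exact le_of_inUniqueMaximal_centralizer C.hH hUT
      (Cfsg.Agent.Helper15.BGV.normalizer_ne_top_of_le_coatom hG C.hH (hX0.trans C.hTH) hX01)
      ((centralizer_le (by exact_mod_cast hX0)).trans (centralizer_le_normalizer _))
  -- (F7)
  have hTMH : T ≤ M ⊓ H := le_inf C.hTM C.hTH
  obtain ⟨S0, hS0⟩ := (C.hT.comap_of_injective (M ⊓ H).subtype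
    (M ⊓ H).subtype_injective).exists_le_sylow
  have hTS0 : T ≤ (S0 : Subgroup ↥(M ⊓ H)).map (M ⊓ H).subtype := by
    intro t ht
    exact ⟨⟨t, hTMH ht⟩, hS0 (by rw [mem_comap]; exact ht), rfl⟩
  obtain ⟨-, hS1M, hS1idx⟩ := Cfsg.Agent.S1424.result hG M C.hM q C.hqM T C.hT hT1 C.hTM H C.hH
    C.hHM (hN T le_rfl hT1) S0 hTS0
  set S1 : Subgroup G := (S0 : Subgroup ↥(M ⊓ H)).map (M ⊓ H).subtype with hS1def
  have hS1MH : S1 ≤ M ⊓ H := by
    rintro _ ⟨y, -, rfl⟩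
    exact y.2
  have hS1q : IsPGroup q S1 := S0.isPGroup'.map _
  have hS1S : IsSylowIn q H S1 :=
    Cfsg.Agent.Helper89.BG12.isSylowIn_of_not_dvd_relIndex hS1q (hS1MH.trans inf_le_right) hS1idx
  -- (F8)
  have hqσ : q ∈ sigma H := by
    by_contra hqσ
    have h2 : PRankLE q 2 H :=
      Cfsg.Agent.Helper55.BGB.prankLE_two_of_not_mem_sigma hq hHall hKσ hqσ
    by_cases h1 : PRankLE q 1 H
    · -- cyclic case
      have hS1c : IsCyclic ↥S1 :=
        Cfsg.Agent.Helper34.BG.isCyclic_of_pRankLE_one hq2 hS1q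
          (Cfsg.Agent.Helper55.BGB.prankLE_of_injective
            (Subgroup.inclusion (hS1MH.trans inf_le_right)) (Subgroup.inclusion_injective _) h1)
      obtain ⟨X0, hX0T, hX0c⟩ := exists_le_card_prime C.hT hT1
      have hX01 : X0 ≠ ⊥ := Cfsg.Agent.Helper15.BGV.ne_bot_of_card_prime hX0c
      have h3 : normalizer (S1 : Set G) ≤ H :=
        (normalizer_le_normalizer_of_cyclic hq hS1c (hX0T.trans hTS0) hX0c).trans
          (hN X0 hX0T hX01)
      exact hqσ (mem_sigma_of_normalizer_le hS1S h3 hqH)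
    · -- rank two
      obtain ⟨A, hAS1, hAe, hAc⟩ := exists_elemAb_sq_le hS1S h2 h1
      have hτ : q ∈ tau2 H := ⟨hq, hqσ, h2, h1⟩
      have h5 := (Cfsg.Agent.S1417.result hG H C.hH q hτ A
        ⟨hAS1.trans (hS1MH.trans inf_le_right), hAe, hAc⟩).2.2.2.2.1 M C.hM C.hHM.symm
        (hAS1.trans (hS1MH.trans inf_le_left))
      apply hP1
      rw [eq_bot_iff, ← h5]
      exact le_inf (hPK.trans hKσ) C.hPM
  -- (F9)
  have hS1top : IsSylowIn q ⊤ S1 := isSylowIn_top_of_sigma hqσ hS1S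
  have hS1H : normalizer (S1 : Set G) ≤ H := normalizer_le_of_sigma hqσ hS1S
  have hcard : Nat.card S1 = q ^ (Nat.card G).factorization q := by
    have := hS1top.card
    rwa [Subgroup.card_top] at this
  refine ⟨Sylow.ofCard S1 hcard, C.hM, C.hH, C.hqM, hqσ, C.hnc, ?_⟩
  rw [Sylow.coe_ofCard]
  exact le_inf hS1M hS1H

end Cfsg.Agent.Helper98.BG133
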