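import Mathlib
import Cfsg.Agent.Lib.Helper93.U20

/-!
# SPE project (S2333): definitions

Minimal degree of `Sp_{2n}(q)`, `q` even, via the abelian unipotent radical `A = {[1 S; 0 1]}`
(`S` symmetric) of the Siegel parabolic. Weights of `A` are indexed by symmetric matrices `S'`,
read as quadratic forms `qv S' x = ∑_{i ≤ j} S'_ij x_i x_j`.
The REP layer (`Pairing`, `wsp`, `eOp`) is the one of the U2 project (`Cfsg.Agent.Helper93.U2`).
-/

set_option autoImplicit false

namespace Cfsg.Agent.Helper98.SPE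

open Matrix

section Defs

variable {F : Type*} [Field F]

/-- additive group of symmetric `n × n` matrices -/
def symSub (F : Type*) [Field F] (n : ℕ) : AddSubgroup (Matrix (Fin n) (Fin n) F) where
  carrier := {S | Sᵀ = S}
  zero_mem' := Matrix.transpose_zero
  add_mem' := by
    intro a b ha hb
    change (a + b)ᵀ = a + b
    rw [Matrix.transpose_add, ha, hb]
  neg_mem' := by
    intro a ha
    change (-a)ᵀ = -a
    rw [Matrix.transpose_neg, ha]

theorem mem_symSub {n : ℕ} (S : Matrix (Fin n) (Fin n) F) : S ∈ symSub F n ↔ Sᵀ = S := Iff.rfl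

/-- value at `x` of the quadratic form `∑_{i ≤ j} S_ij x_i x_j` -/
def qv {n : ℕ} (S : Matrix (Fin n) (Fin n) F) (x : Fin n → F) : F :=
  ∑ i, ∑ j, if i ≤ j then S i j * x i * x j else 0

/-- polar form of `qv S` -/
def bv {n : ℕ} (S : Matrix (Fin n) (Fin n) F) (x y : Fin n → F) : F :=
  qv S (x + y) - qv S x - qv S y

theorem bv_symm {n : ℕ} (S : Matrix (Fin n) (Fin n) F) (x y : Fin n → F) :
    bv S x y = bv S y x := by
  unfold bv
  rw [add_comm x y]
  ring

/-- the "upper triangular trace form" `∑_{i ≤ j} S_ij T_ij` -/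
def tauS {n : ℕ} (S T : Matrix (Fin n) (Fin n) F) : F :=
  ∑ i, ∑ j, if i ≤ j then S i j * T i j else 0

/-- Gram matrix (in the convention of `qv`) of the quadratic form `x ↦ qv S (g x)` -/
def congQ {n : ℕ} (g S : Matrix (Fin n) (Fin n) F) : Matrix (Fin n) (Fin n) F :=
  Matrix.of fun k l =>
    if k = l then qv S (fun i => g i k) else bv S (fun i => g i k) (fun i => g i l)

theorem congQ_apply {n : ℕ} (g S : Matrix (Fin n) (Fin n) F) (k l : Fin n) :
    congQ g S k l =
      if k = l then qv S (fun i => g i k) else bv S (fun i => g i k) (fun i => g i l) := rfl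

theorem congQ_transpose {n : ℕ} (g S : Matrix (Fin n) (Fin n) F) : (congQ g S)ᵀ = congQ g S := by
  ext k l
  rw [Matrix.transpose_apply, congQ_apply, congQ_apply]
  by_cases h : k = l
  · subst h
    rfl
  · rw [if_neg h, if_neg (Ne.symm h), bv_symm]

/-- `congQ` as a map on symmetric matrices (the action on weights) -/
def congS {n : ℕ} (g : Matrix (Fin n) (Fin n) F) (a : ↥(symSub F n)) : ↥(symSub F n) :=
  ⟨congQ g a.1, congQ_transpose g a.1⟩

theorem congS_val {n : ℕ} (g : Matrix (Fin n) (Fin n) F) (a : ↥(symSub F n)) :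
    (congS g a).1 = congQ g a.1 := rfl

/-- congruence `S ↦ g S gᵀ` on symmetric matrices (the action on `A`) -/
def congA {n : ℕ} (g : Matrix (Fin n) (Fin n) F) (a : ↥(symSub F n)) : ↥(symSub F n) :=
  ⟨g * a.1 * gᵀ, by
    change (g * a.1 * gᵀ)ᵀ = g * a.1 * gᵀ
    rw [Matrix.transpose_mul, Matrix.transpose_mul, Matrix.transpose_transpose, a.2,
      Matrix.mul_assoc]⟩

theorem congA_val {n : ℕ} (g : Matrix (Fin n) (Fin n) F) (a : ↥(symSub F n)) :
    (congA g a).1 = g * a.1 * gᵀ := rfl

/-- matrix of the element of the abelian radical with parameter `S` -/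
def aMat {n : ℕ} (S : Matrix (Fin n) (Fin n) F) : Matrix (Fin n ⊕ Fin n) (Fin n ⊕ Fin n) F :=
  Matrix.fromBlocks 1 S 0 1

/-- matrix of the Levi element `diag(g, (g')ᵀ)` (symplectic when `g * g' = 1`) -/
def lMat {n : ℕ} (g g' : Matrix (Fin n) (Fin n) F) : Matrix (Fin n ⊕ Fin n) (Fin n ⊕ Fin n) F :=
  Matrix.fromBlocks g 0 0 g'ᵀ

open Classical in
/-- the element of `Sp` with matrix `M` if `M` is symplectic, `1` otherwise -/
noncomputable def spOf {n : ℕ} (M : Matrix (Fin n ⊕ Fin n) (Fin n ⊕ Fin n) F) :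
    ↥(Matrix.symplecticGroup (Fin n) F) :=
  if h : M ∈ Matrix.symplecticGroup (Fin n) F then ⟨M, h⟩ else 1

theorem spOf_val {n : ℕ} (M : Matrix (Fin n ⊕ Fin n) (Fin n ⊕ Fin n) F)
    (h : M ∈ Matrix.symplecticGroup (Fin n) F) :
    ((spOf M : ↥(Matrix.symplecticGroup (Fin n) F)) : Matrix (Fin n ⊕ Fin n) (Fin n ⊕ Fin n) F)
      = M := by
  unfold spOf
  rw [dif_pos h]

/-- the element of `A` with symmetric parameter `a` -/
noncomputable def aEl {n : ℕ} (a : ↥(symSub F n)) : ↥(Matrix.symplecticGroup (Fin n) F) :=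
  spOf (aMat a.1)

/-- the Levi element attached to `g ∈ GL_n` -/
noncomputable def lEl {n : ℕ} (g : GL (Fin n) F) : ↥(Matrix.symplecticGroup (Fin n) F) :=
  spOf (lMat (g : Matrix (Fin n) (Fin n) F) ((g⁻¹ : GL (Fin n) F) : Matrix (Fin n) (Fin n) F))

/-- the short root parameter `E_01 + E_10` -/
def shortS (F : Type*) [Field F] (n : ℕ) (i j : Fin n) : Matrix (Fin n) (Fin n) F :=
  Matrix.single i j 1 + Matrix.single j i 1

end Defs

end Cfsg.Agent.Helper98.SPE

namespace Cfsg.Agent.Helper98.SPE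

/-- `Fintype` structure on the symmetric matrices over a finite field (classical) -/
noncomputable instance symSubFintype {F : Type*} [Field F] [Fintype F] (n : ℕ) :
    Fintype ↥(symSub F n) := Fintype.ofFinite _

end Cfsg.Agent.Helper98.SPE
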