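import Mathlib
import Cfsg.Prelude.Def_ClassicalGeometry
import Cfsg.Agent.Lib.Helper98.SPE0

/-!
# WR project (S2347): definitions

Weil representation of `Sp_{2n}(q)`, `q` odd, on the functions `(Fin n → F) → ℂ`.
`wOp ψ v` is the Weyl operator of `v = (a ; b)` (`a = v ∘ inl` modulation, `b = v ∘ inr`
translation): `(wOp ψ v f) x = ψ (a ⬝ᵥ x + a ⬝ᵥ b / 2) * f (x + b)`.
`EGrp ψ n` is the group of pairs `(g, A)`, `g ∈ Sp`, `A` an invertible operator with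
`A * wOp ψ v = wOp ψ (g v) * A` for all `v`.
-/

set_option autoImplicit false

namespace Cfsg.Agent.Helper98.WR

open Matrix

section Defs

variable {F : Type*} [Field F]

/-- Weyl operator -/
noncomputable def wOp (ψ : AddChar F ℂ) {n : ℕ} (v : Fin n ⊕ Fin n → F) :
    Module.End ℂ ((Fin n → F) → ℂ) where
  toFun f := fun x =>
    ψ ((v ∘ Sum.inl) ⬝ᵥ x + (v ∘ Sum.inl) ⬝ᵥ (v ∘ Sum.inr) / 2) * f (x + v ∘ Sum.inr)
  map_add' f g := by
    funext x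
    simp only [Pi.add_apply]
    ring
  map_smul' c f := by
    funext x
    simp only [Pi.smul_apply, smul_eq_mul, RingHom.id_apply]
    ring

theorem wOp_apply (ψ : AddChar F ℂ) {n : ℕ} (v : Fin n ⊕ Fin n → F) (f : (Fin n → F) → ℂ)
    (x : Fin n → F) :
    wOp ψ v f x =
      ψ ((v ∘ Sum.inl) ⬝ᵥ x + (v ∘ Sum.inl) ⬝ᵥ (v ∘ Sum.inr) / 2) * f (x + v ∘ Sum.inr) := rfl

/-- the reflection `f ↦ f (-·)` -/
def rOp (F : Type*) [Field F] (n : ℕ) : Module.End ℂ ((Fin n → F) → ℂ) where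
  toFun f := fun x => f (-x)
  map_add' _ _ := rfl
  map_smul' _ _ := rfl

theorem rOp_apply {n : ℕ} (f : (Fin n → F) → ℂ) (x : Fin n → F) : rOp F n f x = f (-x) := rfl

/-- multiplication operator -/
def mulOp {n : ℕ} (d : (Fin n → F) → ℂ) : Module.End ℂ ((Fin n → F) → ℂ) where
  toFun f := fun x => d x * f x
  map_add' f g := by
    funext x
    simp only [Pi.add_apply]
    ring
  map_smul' c f := by
    funext x
    simp only [Pi.smul_apply, smul_eq_mul, RingHom.id_apply]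
    ring

theorem mulOp_apply {n : ℕ} (d f : (Fin n → F) → ℂ) (x : Fin n → F) :
    mulOp d f x = d x * f x := rfl

/-- odd functions -/
def oddSub (F : Type*) [Field F] (n : ℕ) : Submodule ℂ ((Fin n → F) → ℂ) where
  carrier := {f | ∀ x, f (-x) = - f x}
  zero_mem' := by
    intro x
    simp
  add_mem' := by
    intro f g hf hg x
    simp only [Pi.add_apply]
    rw [hf x, hg x]
    ring
  smul_mem' := by
    intro c f hf x
    simp only [Pi.smul_apply, smul_eq_mul]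
    rw [hf x]
    ring

theorem mem_oddSub {n : ℕ} (f : (Fin n → F) → ℂ) : f ∈ oddSub F n ↔ ∀ x, f (-x) = - f x := Iff.rfl

/-- even functions -/
def evenSub (F : Type*) [Field F] (n : ℕ) : Submodule ℂ ((Fin n → F) → ℂ) where
  carrier := {f | ∀ x, f (-x) = f x}
  zero_mem' := by
    intro x
    simp
  add_mem' := by
    intro f g hf hg x
    simp only [Pi.add_apply]
    rw [hf x, hg x]
  smul_mem' := by
    intro c f hf x
    simp only [Pi.smul_apply, smul_eq_mul]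
    rw [hf x]

theorem mem_evenSub {n : ℕ} (f : (Fin n → F) → ℂ) : f ∈ evenSub F n ↔ ∀ x, f (-x) = f x := Iff.rfl

/-- the group of intertwiners -/
def EGrp (ψ : AddChar F ℂ) (n : ℕ) :
    Subgroup (↥(Matrix.symplecticGroup (Fin n) F) × (Module.End ℂ ((Fin n → F) → ℂ))ˣ) where
  carrier := {e | ∀ v : Fin n ⊕ Fin n → F,
    ((e.2 : (Module.End ℂ ((Fin n → F) → ℂ))ˣ) : Module.End ℂ ((Fin n → F) → ℂ)) * wOp ψ v =
      wOp ψ ((e.1 : Matrix (Fin n ⊕ Fin n) (Fin n ⊕ Fin n) F) *ᵥ v) *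
        ((e.2 : (Module.End ℂ ((Fin n → F) → ℂ))ˣ) : Module.End ℂ ((Fin n → F) → ℂ))}
  one_mem' := by
    intro v
    change ((1 : (Module.End ℂ ((Fin n → F) → ℂ))ˣ) : Module.End ℂ ((Fin n → F) → ℂ)) * wOp ψ v =
      wOp ψ (((1 : ↥(Matrix.symplecticGroup (Fin n) F)) :
        Matrix (Fin n ⊕ Fin n) (Fin n ⊕ Fin n) F) *ᵥ v) *
        ((1 : (Module.End ℂ ((Fin n → F) → ℂ))ˣ) : Module.End ℂ ((Fin n → F) → ℂ))
    rw [Units.val_one, one_mul, mul_one]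
    have : ((1 : ↥(Matrix.symplecticGroup (Fin n) F)) :
        Matrix (Fin n ⊕ Fin n) (Fin n ⊕ Fin n) F) = 1 := rfl
    rw [this, Matrix.one_mulVec]
  mul_mem' := by
    intro e e' he he' v
    have h1 := he' v
    have h2 := he ((e'.1 : Matrix (Fin n ⊕ Fin n) (Fin n ⊕ Fin n) F) *ᵥ v)
    change ((e.2 * e'.2 : (Module.End ℂ ((Fin n → F) → ℂ))ˣ) :
        Module.End ℂ ((Fin n → F) → ℂ)) * wOp ψ v =
      wOp ψ (((e.1 * e'.1 : ↥(Matrix.symplecticGroup (Fin n) F)) :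
        Matrix (Fin n ⊕ Fin n) (Fin n ⊕ Fin n) F) *ᵥ v) *
        ((e.2 * e'.2 : (Module.End ℂ ((Fin n → F) → ℂ))ˣ) : Module.End ℂ ((Fin n → F) → ℂ))
    have hm : ((e.1 * e'.1 : ↥(Matrix.symplecticGroup (Fin n) F)) :
        Matrix (Fin n ⊕ Fin n) (Fin n ⊕ Fin n) F) =
        (e.1 : Matrix (Fin n ⊕ Fin n) (Fin n ⊕ Fin n) F) *
          (e'.1 : Matrix (Fin n ⊕ Fin n) (Fin n ⊕ Fin n) F) := rfl
    rw [hm, ← Matrix.mulVec_mulVec, Units.val_mul, mul_assoc, h1, ← mul_assoc, h2, mul_assoc]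
  inv_mem' := by
    intro e he v
    change ((e.2⁻¹ : (Module.End ℂ ((Fin n → F) → ℂ))ˣ) :
        Module.End ℂ ((Fin n → F) → ℂ)) * wOp ψ v =
      wOp ψ (((e.1⁻¹ : ↥(Matrix.symplecticGroup (Fin n) F)) :
        Matrix (Fin n ⊕ Fin n) (Fin n ⊕ Fin n) F) *ᵥ v) *
        ((e.2⁻¹ : (Module.End ℂ ((Fin n → F) → ℂ))ˣ) : Module.End ℂ ((Fin n → F) → ℂ))
    have h1 := he (((e.1⁻¹ : ↥(Matrix.symplecticGroup (Fin n) F)) :
        Matrix (Fin n ⊕ Fin n) (Fin n ⊕ Fin n) F) *ᵥ v)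
    have hm : (e.1 : Matrix (Fin n ⊕ Fin n) (Fin n ⊕ Fin n) F) *
        ((e.1⁻¹ : ↥(Matrix.symplecticGroup (Fin n) F)) :
          Matrix (Fin n ⊕ Fin n) (Fin n ⊕ Fin n) F) = 1 := by
      have h3 : (e.1 * e.1⁻¹ : ↥(Matrix.symplecticGroup (Fin n) F)) = 1 := mul_inv_cancel e.1
      exact congrArg Subtype.val h3
    rw [Matrix.mulVec_mulVec, hm, Matrix.one_mulVec] at h1
    -- h1 : A * W (g⁻¹ v) = W v * A
    have h4 : ((e.2⁻¹ : (Module.End ℂ ((Fin n → F) → ℂ))ˣ) : Module.End ℂ ((Fin n → F) → ℂ)) *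
        ((e.2 : (Module.End ℂ ((Fin n → F) → ℂ))ˣ) : Module.End ℂ ((Fin n → F) → ℂ)) = 1 := by
      rw [← Units.val_mul, inv_mul_cancel, Units.val_one]
    have h5 : ((e.2 : (Module.End ℂ ((Fin n → F) → ℂ))ˣ) : Module.End ℂ ((Fin n → F) → ℂ)) *
        ((e.2⁻¹ : (Module.End ℂ ((Fin n → F) → ℂ))ˣ) : Module.End ℂ ((Fin n → F) → ℂ)) = 1 := by
      rw [← Units.val_mul, mul_inv_cancel, Units.val_one]
    calc ((e.2⁻¹ : (Module.End ℂ ((Fin n → F) → ℂ))ˣ) : Module.End ℂ ((Fin n → F) → ℂ)) * wOp ψ v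
        = ((e.2⁻¹ : (Module.End ℂ ((Fin n → F) → ℂ))ˣ) : Module.End ℂ ((Fin n → F) → ℂ)) *
            (wOp ψ v * ((e.2 : (Module.End ℂ ((Fin n → F) → ℂ))ˣ) :
              Module.End ℂ ((Fin n → F) → ℂ))) *
            ((e.2⁻¹ : (Module.End ℂ ((Fin n → F) → ℂ))ˣ) : Module.End ℂ ((Fin n → F) → ℂ)) := by
          rw [mul_assoc, mul_assoc, h5, mul_one]
      _ = ((e.2⁻¹ : (Module.End ℂ ((Fin n → F) → ℂ))ˣ) : Module.End ℂ ((Fin n → F) → ℂ)) *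
            (((e.2 : (Module.End ℂ ((Fin n → F) → ℂ))ˣ) : Module.End ℂ ((Fin n → F) → ℂ)) *
              wOp ψ (((e.1⁻¹ : ↥(Matrix.symplecticGroup (Fin n) F)) :
                Matrix (Fin n ⊕ Fin n) (Fin n ⊕ Fin n) F) *ᵥ v)) *
            ((e.2⁻¹ : (Module.End ℂ ((Fin n → F) → ℂ))ˣ) : Module.End ℂ ((Fin n → F) → ℂ)) := by
          rw [h1]
      _ = wOp ψ (((e.1⁻¹ : ↥(Matrix.symplecticGroup (Fin n) F)) :
            Matrix (Fin n ⊕ Fin n) (Fin n ⊕ Fin n) F) *ᵥ v) *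
            ((e.2⁻¹ : (Module.End ℂ ((Fin n → F) → ℂ))ˣ) : Module.End ℂ ((Fin n → F) → ℂ)) := by
          rw [← mul_assoc, h4, one_mul]

theorem mem_EGrp (ψ : AddChar F ℂ) (n : ℕ)
    (e : ↥(Matrix.symplecticGroup (Fin n) F) × (Module.End ℂ ((Fin n → F) → ℂ))ˣ) :
    e ∈ EGrp ψ n ↔ ∀ v : Fin n ⊕ Fin n → F,
      ((e.2 : (Module.End ℂ ((Fin n → F) → ℂ))ˣ) : Module.End ℂ ((Fin n → F) → ℂ)) * wOp ψ v =
        wOp ψ ((e.1 : Matrix (Fin n ⊕ Fin n) (Fin n ⊕ Fin n) F) *ᵥ v) *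
          ((e.2 : (Module.End ℂ ((Fin n → F) → ℂ))ˣ) : Module.End ℂ ((Fin n → F) → ℂ)) := Iff.rfl

end Defs

end Cfsg.Agent.Helper98.WR
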