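import Cfsg.Agent.S1403
import Cfsg.Agent.S1423
import Cfsg.Agent.Lib.Helper79.BG10.Alpha

/-!
# (R6) for S1378 (helper53's route): normalizers of elementary abelian `u`-subgroups for an ideal
prime `u ∈ β(L)` lie in `L`
-/

set_option autoImplicit false
set_option linter.unusedSectionVars false
set_option linter.style.haveILetI false

namespace Cfsg.Agent.Helper98.BG139Req

open Subgroup Cfsg

lemma r6_not_rankLE_of_elemAb {G : Type*} [Group G] [Finite G] {p k : ℕ} (hp : p.Prime)
    {X E : Subgroup G} (hEX : E ≤ X) (hE : IsElementaryAbelian p E) (hc : p ^ k < Nat.card E) :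
    ¬ RankLE k ↥X := by
  intro h
  have hc' : IsMulCommutative (E.subgroupOf X) := by
    refine ⟨⟨fun a b => ?_⟩⟩
    have := hE.1.is_comm.comm ⟨(a : X), a.2⟩ ⟨(b : X), b.2⟩
    have h3 : ((a : X) : G) * ((b : X) : G) = ((b : X) : G) * ((a : X) : G) :=
      congrArg (fun z : E => (z : G)) this
    exact Subtype.ext (Subtype.ext h3)
  have he : ∀ a ∈ E.subgroupOf X, a ^ p = 1 := by
    intro a ha
    have := hE.2 (a : G) ha
    exact Subtype.ext (by simpa using this)
  have := h p hp (E.subgroupOf X) hc' he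
  rw [Nat.card_congr (Subgroup.subgroupOfEquivOfLe hEX).toEquiv] at this
  omega

/-- (R6) = step (E). -/
theorem normalizer_le_of_mem_beta {G : Type*} [Group G] [Finite G] (hG : Cfsg.IsMinSimpleOddOrder G)
    (L : Subgroup G) (hL : IsCoatom L) (u : ℕ) [Fact u.Prime] (hu : u ∈ Cfsg.beta L)
    (V : Subgroup G) (hVL : V ≤ L) (hV : Cfsg.IsElementaryAbelian u V) (hV1 : V ≠ ⊥) :
    Subgroup.normalizer (V : Set G) ≤ L := by
  have hup : u.Prime := Fact.out
  have hU : Cfsg.Agent.Helper79.BG10.UniqHyp G :=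
    fun K hK h1 h2 => Cfsg.Agent.S1403.result hG K hK h1 h2
  have huσ : u ∈ Cfsg.sigma L := Cfsg.Agent.Helper79.BG10.alpha_subset_sigma hG hU hL hu.1
  have hVp : IsPGroup u V := by
    intro a
    refine ⟨1, ?_⟩
    rw [pow_one]
    exact Subtype.ext (by simpa using hV.2 a a.2)
  obtain ⟨k, hk⟩ := IsPGroup.iff_card.mp hVp
  have hk0 : k ≠ 0 := by
    intro h0
    rw [h0, pow_zero] at hk
    exact hV1 (Subgroup.card_eq_one.mp hk)
  -- the normalizer is proper
  haveI : IsSimpleGroup G := hG.2.1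
  have hVtop : V ≠ ⊤ := by
    intro h
    apply hL.1
    rw [h] at hVL
    exact top_le_iff.mp hVL
  have hNtop : normalizer (V : Set G) ≠ ⊤ := by
    intro htop
    have hn : V.Normal := Subgroup.normalizer_eq_top_iff.mp htop
    rcases hn.eq_bot_or_eq_top with h | h
    · exact hV1 h
    · exact hVtop h
  obtain ⟨L', hL', hNL'⟩ := (eq_top_or_exists_le_coatom (normalizer (V : Set G))).resolve_left hNtop
  have hVL' : V ≤ L' := le_normalizer.trans hNL'
  suffices h : L' = L by rw [← h]; exact hNL'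
  by_cases hk1 : k = 1
  · -- `|V| = u`: S1423
    rw [hk1, pow_one] at hk
    have P : Sylow u ↥(Cfsg.sigmaCore L) := Classical.arbitrary _
    have h23 := Cfsg.Agent.S1423.result hG L hL u huσ V hVL hk P (Or.inl hu)
    exact h23.1.2 L' hL' ((Subgroup.centralizer_le_normalizer _).trans hNL')
  · -- `|V| ≥ u²`: S1403
    have hk2 : 2 ≤ k := by omega
    have hdvd : u ^ 2 ∣ Nat.card V := by rw [hk]; exact pow_dvd_pow u hk2
    obtain ⟨K0', hK0'⟩ := Sylow.exists_subgroup_card_pow_prime u hdvd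
    obtain ⟨K0, hK0def⟩ : ∃ K0 : Subgroup G, K0 = K0'.map V.subtype := ⟨_, rfl⟩
    have hK0V : K0 ≤ V := by rw [hK0def]; exact Subgroup.map_subtype_le K0'
    have hK0card : Nat.card K0 = u ^ 2 := by
      rw [hK0def, ← hK0']
      exact Nat.card_congr (K0'.equivMapOfInjective V.subtype V.subtype_injective).symm.toEquiv
    have hK0ea : IsElementaryAbelian u K0 := by
      refine ⟨⟨⟨fun a b => ?_⟩⟩, fun a ha => hV.2 a (hK0V ha)⟩
      have := hV.1.is_comm.comm ⟨(a : G), hK0V a.2⟩ ⟨(b : G), hK0V b.2⟩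
      have h3 : (a : G) * (b : G) = (b : G) * (a : G) := congrArg (fun z : V => (z : G)) this
      exact Subtype.ext h3
    have hK0p : IsPGroup u K0 := hVp.to_le hK0V
    obtain ⟨P, hP⟩ := hK0p.exists_le_sylow
    obtain ⟨B, -, hBea, hK0B⟩ := hu.2.2.2 P K0 hP hK0ea hK0card
    have hBcent : B ≤ centralizer (K0 : Set G) := by
      intro b hb
      rw [Subgroup.mem_centralizer_iff]
      intro x hx
      have := hBea.1.is_comm.comm ⟨x, hK0B.le hx⟩ ⟨b, hb⟩
      exact congrArg (fun z : B => (z : G)) this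
    have hBcard : u ^ 2 < Nat.card B := by
      rw [← hK0card]
      have h := Set.ncard_lt_ncard (SetLike.coe_ssubset_coe.mpr hK0B) (Set.toFinite _)
      rw [← Nat.card_coe_set_eq, ← Nat.card_coe_set_eq] at h
      exact h
    have h3 : ¬ RankLE 2 ↥(centralizer (K0 : Set G)) :=
      r6_not_rankLE_of_elemAb hup hBcent hBea hBcard
    have h2 : ¬ RankLE 1 ↥K0 := by
      apply r6_not_rankLE_of_elemAb hup le_rfl hK0ea
      rw [hK0card]
      exact Nat.pow_lt_pow_right hup.one_lt (by norm_num)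
    have hK0top : K0 ≠ ⊤ := by
      intro h
      apply hVtop
      rw [h] at hK0V
      exact top_le_iff.mp hK0V
    obtain ⟨X, -, hXuniq⟩ := Cfsg.Agent.S1403.result hG K0 hK0top h2 (Or.inr h3)
    have e1 : L = X := hXuniq L ⟨hL, hK0V.trans hVL⟩
    have e2 : L' = X := hXuniq L' ⟨hL', hK0V.trans hVL'⟩
    rw [e1, e2]

end Cfsg.Agent.Helper98.BG139Req
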