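import Mathlib

set_option autoImplicit false
set_option linter.unusedSectionVars false

namespace Cfsg.Agent.Helper98

/-- `g ^ a` for `a : ZMod N` (meaningful when `g ^ N = 1`). -/
noncomputable def zpw {G : Type*} [Group G] (N : ℕ) (g : G) (a : ZMod N) : G := g ^ (a.cast : ℤ)

section
variable {G : Type*} [Group G] {N : ℕ} [NeZero N] {g : G}

theorem zpow_eq_of_modEq (hg : g ^ N = 1) {k l : ℤ} (h : k ≡ l [ZMOD N]) : g ^ k = g ^ l := by
  rw [zpow_eq_zpow_iff_modEq]
  exact h.of_dvd (Int.natCast_dvd_natCast.mpr (orderOf_dvd_of_pow_eq_one hg))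

theorem zpw_intCast (hg : g ^ N = 1) (k : ℤ) : zpw N g (k : ZMod N) = g ^ k := by
  unfold zpw
  apply zpow_eq_of_modEq hg
  rw [← ZMod.intCast_eq_intCast_iff]
  simp

theorem zpw_natCast (hg : g ^ N = 1) (k : ℕ) : zpw N g (k : ZMod N) = g ^ k := by
  have := zpw_intCast hg (k : ℤ)
  simpa using this

theorem zpw_zero : zpw N g 0 = 1 := by
  unfold zpw
  simp

theorem zpw_one (hg : g ^ N = 1) : zpw N g 1 = g := by
  have := zpw_intCast hg 1
  simpa using this

theorem zpw_add (hg : g ^ N = 1) (a b : ZMod N) : zpw N g (a + b) = zpw N g a * zpw N g b := by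
  unfold zpw
  rw [← zpow_add]
  apply zpow_eq_of_modEq hg
  rw [← ZMod.intCast_eq_intCast_iff]
  simp

theorem zpw_neg (hg : g ^ N = 1) (a : ZMod N) : zpw N g (-a) = (zpw N g a)⁻¹ := by
  rw [eq_inv_iff_mul_eq_one, ← zpw_add hg]
  simp [zpw_zero]

theorem zpw_sub (hg : g ^ N = 1) (a b : ZMod N) : zpw N g (a - b) = zpw N g a * (zpw N g b)⁻¹ := by
  rw [sub_eq_add_neg, zpw_add hg, zpw_neg hg]

theorem zpw_mem_zpowers (a : ZMod N) : zpw N g a ∈ Subgroup.zpowers g :=
  ⟨_, rfl⟩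

theorem exists_zpw_of_mem_zpowers (hg : g ^ N = 1) {h : G} (hh : h ∈ Subgroup.zpowers g) :
    ∃ a : ZMod N, h = zpw N g a := by
  obtain ⟨k, rfl⟩ := hh
  exact ⟨(k : ZMod N), (zpw_intCast hg k).symm⟩

theorem zpw_eq_one_iff (ho : orderOf g = N) (a : ZMod N) : zpw N g a = 1 ↔ a = 0 := by
  constructor
  · intro h
    unfold zpw at h
    have h2 := (orderOf_dvd_iff_zpow_eq_one).mpr h
    rw [ho] at h2
    have := (ZMod.intCast_zmod_eq_zero_iff_dvd (a.cast : ℤ) N).mpr h2
    simpa using this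
  · rintro rfl
    exact zpw_zero

theorem zpw_injective (ho : orderOf g = N) : Function.Injective (zpw N g) := by
  have hg : g ^ N = 1 := ho ▸ pow_orderOf_eq_one g
  intro a b h
  have : zpw N g (a - b) = 1 := by rw [zpw_sub hg, h, mul_inv_cancel]
  exact sub_eq_zero.mp ((zpw_eq_one_iff ho _).mp this)

theorem zpw_conj (h : G) (a : ZMod N) : h * zpw N g a * h⁻¹ = zpw N (h * g * h⁻¹) a := by
  unfold zpw
  rw [conj_zpow]

theorem zpw_commute {g' : G} (hc : Commute g g') (a b : ZMod N) :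
    Commute (zpw N g a) (zpw N g' b) := by
  unfold zpw
  exact (hc.zpow_left _).zpow_right _

theorem zpw_pow (hg : g ^ N = 1) (a : ZMod N) (k : ℕ) : (zpw N g a) ^ k = zpw N g (k * a) := by
  induction k with
  | zero => simp [zpw_zero]
  | succ k ih => rw [pow_succ, ih, ← zpw_add hg]; congr 1; push_cast; ring

end

end Cfsg.Agent.Helper98
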