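import Mathlib

set_option autoImplicit false

namespace Cfsg.Agent.Helper98

section
variable {G H : Type*} [Group G] [Group H]

/-- A multiplicative equivalence induces an equivalence of conjugacy classes. -/
def conjClassesEquiv (φ : G ≃* H) : ConjClasses G ≃ ConjClasses H where
  toFun := ConjClasses.map φ.toMonoidHom
  invFun := ConjClasses.map φ.symm.toMonoidHom
  left_inv := by
    intro C
    obtain ⟨g, rfl⟩ := ConjClasses.exists_rep C
    show ConjClasses.mk (φ.symm (φ g)) = ConjClasses.mk g
    simp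
  right_inv := by
    intro C
    obtain ⟨g, rfl⟩ := ConjClasses.exists_rep C
    show ConjClasses.mk (φ (φ.symm g)) = ConjClasses.mk g
    simp

theorem conjClassesEquiv_mk (φ : G ≃* H) (g : G) :
    conjClassesEquiv φ (ConjClasses.mk g) = ConjClasses.mk (φ g) := rfl

/-- The number of classes of elements of order `k` is invariant under isomorphism. -/
theorem card_classes_orderOf_congr (φ : G ≃* H) (k : ℕ) :
    Nat.card {C : ConjClasses G // ∃ t : G, orderOf t = k ∧ ConjClasses.mk t = C} =
    Nat.card {C : ConjClasses H // ∃ t : H, orderOf t = k ∧ ConjClasses.mk t = C} := by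
  refine Nat.card_congr ((conjClassesEquiv φ).subtypeEquiv ?_)
  intro C
  constructor
  · rintro ⟨t, ht, rfl⟩
    exact ⟨φ t, by rw [MulEquiv.orderOf_eq]; exact ht, rfl⟩
  · rintro ⟨t, ht, h⟩
    refine ⟨φ.symm t, by rw [MulEquiv.orderOf_eq]; exact ht, ?_⟩
    apply (conjClassesEquiv φ).injective
    rw [conjClassesEquiv_mk, ← h]
    simp

theorem map_center_eq (φ : G ≃* H) :
    (Subgroup.center G).map φ.toMonoidHom = Subgroup.center H := by
  ext h
  rw [Subgroup.mem_map, Subgroup.mem_center_iff]
  constructor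
  · rintro ⟨g, hg, rfl⟩ k
    rw [Subgroup.mem_center_iff] at hg
    have := congrArg φ (hg (φ.symm k))
    simpa using this
  · intro hh
    refine ⟨φ.symm h, ?_, by simp⟩
    rw [Subgroup.mem_center_iff]
    intro g
    apply φ.injective
    simpa using hh (φ g)

theorem map_commutator_eq (φ : G ≃* H) :
    (commutator G).map φ.toMonoidHom = commutator H := by
  rw [commutator_def, commutator_def, Subgroup.map_commutator,
    ← MonoidHom.range_eq_map, MonoidHom.range_eq_top.mpr φ.surjective]

theorem map_closure_orderOf_eq (φ : G ≃* H) (k : ℕ) :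
    (Subgroup.closure {g : G | orderOf g = k}).map φ.toMonoidHom =
      Subgroup.closure {h : H | orderOf h = k} := by
  rw [MonoidHom.map_closure]
  congr 1
  ext h
  constructor
  · rintro ⟨g, hg, rfl⟩
    show orderOf (φ g) = k
    rw [MulEquiv.orderOf_eq]
    exact hg
  · intro hh
    refine ⟨φ.symm h, ?_, by simp⟩
    show orderOf (φ.symm h) = k
    rw [MulEquiv.orderOf_eq]
    exact hh

theorem isKleinFour_of_mulEquiv {G' H' : Type*} [Group G'] [Group H'] (e : G' ≃* H')
    [hG : IsKleinFour G'] : IsKleinFour H' :=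
  ⟨by rw [← Nat.card_congr e.toEquiv]; exact hG.card_four,
   by rw [← Monoid.exponent_eq_of_mulEquiv e]; exact hG.exponent_two⟩

/-- The preimage of a subgroup under an isomorphism is isomorphic to it. -/
noncomputable def comapMulEquiv (φ : G ≃* H) (U : Subgroup H) : U.comap φ.toMonoidHom ≃* U :=
  (φ.subgroupMap (U.comap φ.toMonoidHom)).trans
    (MulEquiv.subgroupCongr (Subgroup.map_comap_eq_self_of_surjective φ.surjective U))

theorem map_comap_equiv (φ : G ≃* H) (U : Subgroup H) :
    (U.comap φ.toMonoidHom).map φ.toMonoidHom = U :=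
  Subgroup.map_comap_eq_self_of_surjective φ.surjective U

theorem map_conj_map (φ : G ≃* H) (c : G) (K : Subgroup G) :
    (K.map (MulAut.conj c).toMonoidHom).map φ.toMonoidHom =
      (K.map φ.toMonoidHom).map (MulAut.conj (φ c)).toMonoidHom := by
  rw [Subgroup.map_map, Subgroup.map_map]
  congr 1
  ext g
  simp

/-- Counting classes of elements of order `k`: three representatives. -/
theorem card_classes_eq_three (k : ℕ) (t1 t2 t3 : G)
    (h1 : orderOf t1 = k) (h2 : orderOf t2 = k) (h3 : orderOf t3 = k)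
    (h12 : ¬ IsConj t1 t2) (h13 : ¬ IsConj t1 t3) (h23 : ¬ IsConj t2 t3)
    (hall : ∀ t : G, orderOf t = k → IsConj t t1 ∨ IsConj t t2 ∨ IsConj t t3) :
    Nat.card {C : ConjClasses G // ∃ t : G, orderOf t = k ∧ ConjClasses.mk t = C} = 3 := by
  have hset : {C : ConjClasses G | ∃ t : G, orderOf t = k ∧ ConjClasses.mk t = C} =
      {ConjClasses.mk t1, ConjClasses.mk t2, ConjClasses.mk t3} := by
    ext C
    simp only [Set.mem_setOf_eq, Set.mem_insert_iff, Set.mem_singleton_iff]
    constructor
    · rintro ⟨t, ht, rfl⟩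
      rcases hall t ht with h | h | h
      · exact Or.inl (ConjClasses.mk_eq_mk_iff_isConj.mpr h)
      · exact Or.inr (Or.inl (ConjClasses.mk_eq_mk_iff_isConj.mpr h))
      · exact Or.inr (Or.inr (ConjClasses.mk_eq_mk_iff_isConj.mpr h))
    · rintro (rfl | rfl | rfl)
      · exact ⟨t1, h1, rfl⟩
      · exact ⟨t2, h2, rfl⟩
      · exact ⟨t3, h3, rfl⟩
  show Nat.card ↥{C : ConjClasses G | ∃ t : G, orderOf t = k ∧ ConjClasses.mk t = C} = 3
  rw [hset, Nat.card_coe_set_eq, Set.ncard_eq_three]
  refine ⟨_, _, _, ?_, ?_, ?_, rfl⟩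
  · exact fun h => h12 (ConjClasses.mk_eq_mk_iff_isConj.mp h)
  · exact fun h => h13 (ConjClasses.mk_eq_mk_iff_isConj.mp h)
  · exact fun h => h23 (ConjClasses.mk_eq_mk_iff_isConj.mp h)

/-- Counting classes of elements of order `k`: two representatives. -/
theorem card_classes_eq_two (k : ℕ) (t1 t2 : G)
    (h1 : orderOf t1 = k) (h2 : orderOf t2 = k)
    (h12 : ¬ IsConj t1 t2)
    (hall : ∀ t : G, orderOf t = k → IsConj t t1 ∨ IsConj t t2) :
    Nat.card {C : ConjClasses G // ∃ t : G, orderOf t = k ∧ ConjClasses.mk t = C} = 2 := by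
  have hset : {C : ConjClasses G | ∃ t : G, orderOf t = k ∧ ConjClasses.mk t = C} =
      {ConjClasses.mk t1, ConjClasses.mk t2} := by
    ext C
    simp only [Set.mem_setOf_eq, Set.mem_insert_iff, Set.mem_singleton_iff]
    constructor
    · rintro ⟨t, ht, rfl⟩
      rcases hall t ht with h | h
      · exact Or.inl (ConjClasses.mk_eq_mk_iff_isConj.mpr h)
      · exact Or.inr (ConjClasses.mk_eq_mk_iff_isConj.mpr h)
    · rintro (rfl | rfl)
      · exact ⟨t1, h1, rfl⟩
      · exact ⟨t2, h2, rfl⟩
  show Nat.card ↥{C : ConjClasses G | ∃ t : G, orderOf t = k ∧ ConjClasses.mk t = C} = 2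
  rw [hset, Nat.card_coe_set_eq, Set.ncard_eq_two]
  exact ⟨_, _, fun h => h12 (ConjClasses.mk_eq_mk_iff_isConj.mp h), rfl⟩

/-- Counting classes of elements of order `k`: one representative. -/
theorem card_classes_eq_one (k : ℕ) (t1 : G) (h1 : orderOf t1 = k)
    (hall : ∀ t : G, orderOf t = k → IsConj t t1) :
    Nat.card {C : ConjClasses G // ∃ t : G, orderOf t = k ∧ ConjClasses.mk t = C} = 1 := by
  have hset : {C : ConjClasses G | ∃ t : G, orderOf t = k ∧ ConjClasses.mk t = C} =
      {ConjClasses.mk t1} := by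
    ext C
    simp only [Set.mem_setOf_eq, Set.mem_singleton_iff]
    constructor
    · rintro ⟨t, ht, rfl⟩
      exact ConjClasses.mk_eq_mk_iff_isConj.mpr (hall t ht)
    · rintro rfl
      exact ⟨t1, h1, rfl⟩
  show Nat.card ↥{C : ConjClasses G | ∃ t : G, orderOf t = k ∧ ConjClasses.mk t = C} = 1
  rw [hset, Nat.card_coe_set_eq, Set.ncard_singleton]

end

end Cfsg.Agent.Helper98
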