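import Mathlib
import Cfsg.Prelude.Def_CaseTheorems
import Cfsg.Agent.Lib.Helper98.ZPow

set_option autoImplicit false
set_option linter.unusedSectionVars false
set_option linter.unusedSimpArgs false

namespace Cfsg.Agent.Helper98

/-- Model of the wreathed group `Z_N ≀ Z_2`: triples `(a, b, e)` standing for `x^a y^b z^e`. -/
@[ext]
structure Wr (N : ℕ) where
  a : ZMod N
  b : ZMod N
  e : Bool
deriving DecidableEq

namespace Wr

variable {N : ℕ}

instance : Mul (Wr N) :=
  ⟨fun p q => if p.e then ⟨p.a + q.b, p.b + q.a, !q.e⟩ else ⟨p.a + q.a, p.b + q.b, q.e⟩⟩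

instance : One (Wr N) := ⟨⟨0, 0, false⟩⟩

instance : Inv (Wr N) := ⟨fun p => if p.e then ⟨-p.b, -p.a, true⟩ else ⟨-p.a, -p.b, false⟩⟩

theorem mul_def (p q : Wr N) :
    p * q = if p.e then ⟨p.a + q.b, p.b + q.a, !q.e⟩ else ⟨p.a + q.a, p.b + q.b, q.e⟩ := rfl

theorem one_def : (1 : Wr N) = ⟨0, 0, false⟩ := rfl

theorem inv_def (p : Wr N) :
    p⁻¹ = if p.e then ⟨-p.b, -p.a, true⟩ else ⟨-p.a, -p.b, false⟩ := rfl

@[simp] theorem mk_mul_mk_false (a b c d : ZMod N) (f : Bool) :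
    (⟨a, b, false⟩ : Wr N) * ⟨c, d, f⟩ = ⟨a + c, b + d, f⟩ := rfl

@[simp] theorem mk_mul_mk_true (a b c d : ZMod N) (f : Bool) :
    (⟨a, b, true⟩ : Wr N) * ⟨c, d, f⟩ = ⟨a + d, b + c, !f⟩ := rfl

@[simp] theorem inv_mk_false (a b : ZMod N) : (⟨a, b, false⟩ : Wr N)⁻¹ = ⟨-a, -b, false⟩ := rfl

@[simp] theorem inv_mk_true (a b : ZMod N) : (⟨a, b, true⟩ : Wr N)⁻¹ = ⟨-b, -a, true⟩ := rfl

@[simp] theorem one_a : (1 : Wr N).a = 0 := rfl
@[simp] theorem one_b : (1 : Wr N).b = 0 := rfl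
@[simp] theorem one_e : (1 : Wr N).e = false := rfl

instance : Group (Wr N) where
  mul_assoc p q r := by
    rcases p with ⟨a, b, e⟩; rcases q with ⟨c, d, f⟩; rcases r with ⟨u, v, w⟩
    cases e <;> cases f <;> cases w <;> simp [Wr.ext_iff] <;> constructor <;> ring
  one_mul p := by
    rcases p with ⟨a, b, e⟩
    simp [one_def]
  mul_one p := by
    rcases p with ⟨a, b, e⟩
    cases e <;> simp [one_def]
  inv_mul_cancel p := by
    rcases p with ⟨a, b, e⟩
    cases e <;> simp [one_def]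

instance [NeZero N] : Fintype (Wr N) :=
  Fintype.ofEquiv (ZMod N × ZMod N × Bool)
    { toFun := fun t => ⟨t.1, t.2.1, t.2.2⟩
      invFun := fun p => (p.a, p.b, p.e)
      left_inv := fun _ => rfl
      right_inv := fun _ => rfl }

theorem card [NeZero N] : Fintype.card (Wr N) = N * (N * 2) := by
  rw [Fintype.card_congr (β := ZMod N × ZMod N × Bool)
    { toFun := fun p => (p.a, p.b, p.e)
      invFun := fun t => ⟨t.1, t.2.1, t.2.2⟩
      left_inv := fun _ => rfl
      right_inv := fun _ => rfl }]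
  simp [ZMod.card]

end Wr

/-- The data in `Cfsg.IsWreathed`. -/
structure WrData (S : Type*) [Group S] (n : ℕ) (x y z : S) : Prop where
  card : Nat.card S = 2 ^ (2 * n + 1)
  ox : orderOf x = 2 ^ n
  comm : x * y = y * x
  disj : Subgroup.zpowers x ⊓ Subgroup.zpowers y = ⊥
  oz : orderOf z = 2
  conj : z * x * z⁻¹ = y

namespace WrData

variable {S : Type*} [Group S] {n : ℕ} {x y z : S} (D : WrData S n x y z)
include D

theorem x_pow : x ^ (2 ^ n) = 1 := D.ox ▸ pow_orderOf_eq_one x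

theorem z_sq : z * z = 1 := by
  have := pow_orderOf_eq_one z
  rw [D.oz, pow_two] at this
  exact this

theorem z_inv : z⁻¹ = z := inv_eq_of_mul_eq_one_left D.z_sq

theorem conj' : z * y * z⁻¹ = x := by
  rw [← D.conj, D.z_inv]
  calc z * (z * x * z) * z = (z * z) * x * (z * z) := by group
    _ = x := by rw [D.z_sq]; group

theorem oy : orderOf y = 2 ^ n := by
  have h : SemiconjBy z x y := by
    unfold SemiconjBy
    rw [← D.conj]
    group
  rw [← h.orderOf_eq, D.ox]

theorem y_pow : y ^ (2 ^ n) = 1 := D.oy ▸ pow_orderOf_eq_one y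

local notation "X" => zpw (2 ^ n) x
local notation "Y" => zpw (2 ^ n) y

theorem zX (a : ZMod (2 ^ n)) : z * zpw (2 ^ n) x a = zpw (2 ^ n) y a * z := by
  have h := zpw_conj (N := 2 ^ n) (g := x) z a
  rw [D.conj] at h
  rw [← h]
  group

theorem zY (a : ZMod (2 ^ n)) : z * zpw (2 ^ n) y a = zpw (2 ^ n) x a * z := by
  have h := zpw_conj (N := 2 ^ n) (g := y) z a
  rw [D.conj'] at h
  rw [← h]
  group

theorem XY (a b : ZMod (2 ^ n)) :
    zpw (2 ^ n) y b * zpw (2 ^ n) x a = zpw (2 ^ n) x a * zpw (2 ^ n) y b :=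
  (zpw_commute (show Commute x y from D.comm) a b).eq.symm

theorem zX' (a : ZMod (2 ^ n)) (w : S) :
    z * (zpw (2 ^ n) x a * w) = zpw (2 ^ n) y a * (z * w) := by
  rw [← mul_assoc, D.zX, mul_assoc]

theorem zY' (a : ZMod (2 ^ n)) (w : S) :
    z * (zpw (2 ^ n) y a * w) = zpw (2 ^ n) x a * (z * w) := by
  rw [← mul_assoc, D.zY, mul_assoc]

theorem XY' (a b : ZMod (2 ^ n)) (w : S) :
    zpw (2 ^ n) y b * (zpw (2 ^ n) x a * w) = zpw (2 ^ n) x a * (zpw (2 ^ n) y b * w) := by
  rw [← mul_assoc, D.XY, mul_assoc]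

/-- The element `x^a y^b z^e`. -/
noncomputable def elt (_ : WrData S n x y z) (p : Wr (2 ^ n)) : S :=
  zpw (2 ^ n) x p.a * zpw (2 ^ n) y p.b * (if p.e then z else 1)

theorem elt_mul (p q : Wr (2 ^ n)) : D.elt (p * q) = D.elt p * D.elt q := by
  rcases p with ⟨a, b, e⟩
  rcases q with ⟨c, d, f⟩
  have hx := D.x_pow
  have hy := D.y_pow
  cases e
  · simp only [Wr.mk_mul_mk_false, elt, zpw_add hx, zpw_add hy, Bool.false_eq_true, if_false,
      mul_one, mul_assoc, D.XY']
  · cases f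
    · simp only [Wr.mk_mul_mk_true, elt, zpw_add hx, zpw_add hy, Bool.false_eq_true, if_false,
        if_true, Bool.not_false, mul_one, mul_assoc, D.XY', D.zX', D.zY', D.zX, D.zY, D.XY]
    · simp only [Wr.mk_mul_mk_true, elt, zpw_add hx, zpw_add hy, Bool.false_eq_true, if_false,
        if_true, Bool.not_true, mul_one, mul_assoc, D.XY', D.zX', D.zY', D.zX, D.zY, D.XY,
        D.z_sq]

theorem elt_one : D.elt 1 = 1 := by
  simp [elt, zpw_zero]

theorem z_not_mem : ∀ a b : ZMod (2 ^ n), zpw (2 ^ n) x a * zpw (2 ^ n) y b * z ≠ 1 := by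
  intro a b h
  -- then z lies in the abelian group generated by x and y, so commutes with x, hence y = x
  have hz : z = (zpw (2 ^ n) x a * zpw (2 ^ n) y b)⁻¹ := by
    rw [eq_inv_iff_mul_eq_one, ← D.z_sq] 
    have : zpw (2 ^ n) x a * zpw (2 ^ n) y b = z⁻¹ := eq_inv_of_mul_eq_one_left h
    rw [this, D.z_inv]
  have hcx : Commute (zpw (2 ^ n) x a * zpw (2 ^ n) y b) x := by
    refine Commute.mul_left ?_ ?_
    · unfold zpw; exact (Commute.refl x).zpow_left _
    · unfold zpw; exact (show Commute y x from D.comm.symm).zpow_left _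
  have hzx : Commute z x := by rw [hz]; exact hcx.inv_left
  have hxy : x = y := by
    rw [← D.conj, hzx.eq]; group
  have hmem : x ∈ Subgroup.zpowers x ⊓ Subgroup.zpowers y :=
    ⟨Subgroup.mem_zpowers x, hxy ▸ Subgroup.mem_zpowers x⟩
  rw [D.disj, Subgroup.mem_bot] at hmem
  have hy1 : y = 1 := by rw [← hxy, hmem]
  have hz1 : z = 1 := by
    rw [hz, hmem, hy1]
    unfold zpw
    simp
  have := D.oz
  rw [hz1, orderOf_one] at this
  omega

theorem elt_injective : Function.Injective D.elt := by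
  have key : ∀ p : Wr (2 ^ n), D.elt p = 1 → p = 1 := by
    rintro ⟨a, b, e⟩ h
    cases e
    · simp only [elt, Bool.false_eq_true, if_false, mul_one] at h
      have hX : zpw (2 ^ n) x a ∈ Subgroup.zpowers x ⊓ Subgroup.zpowers y := by
        refine ⟨zpw_mem_zpowers a, ?_⟩
        have : zpw (2 ^ n) x a = (zpw (2 ^ n) y b)⁻¹ := eq_inv_of_mul_eq_one_left h
        rw [this]
        exact (Subgroup.zpowers y).inv_mem (zpw_mem_zpowers b)
      rw [D.disj, Subgroup.mem_bot] at hX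
      have ha : a = 0 := (zpw_eq_one_iff D.ox a).mp hX
      rw [hX, one_mul] at h
      have hb : b = 0 := (zpw_eq_one_iff D.oy b).mp h
      rw [ha, hb]; rfl
    · simp only [elt, if_true] at h
      exact absurd h (D.z_not_mem a b)
  intro p q h
  have : D.elt (p⁻¹ * q) = 1 := by
    rw [D.elt_mul]
    have h1 : D.elt p⁻¹ * D.elt p = 1 := by rw [← D.elt_mul, inv_mul_cancel, D.elt_one]
    rw [← h, h1]
  have := key _ this
  exact inv_mul_eq_one.mp this

theorem elt_bijective : Function.Bijective D.elt := by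
  have hfin : Finite S := Nat.finite_of_card_ne_zero (by rw [D.card]; positivity)
  refine D.elt_injective.bijective_of_nat_card_le ?_
  rw [D.card, Nat.card_eq_fintype_card, Wr.card]
  rw [pow_succ, two_mul, pow_add]
  ring_nf
  exact le_rfl

/-- The isomorphism from the model to `S`. -/
noncomputable def iso : Wr (2 ^ n) ≃* S :=
  MulEquiv.ofBijective (MonoidHom.mk' D.elt D.elt_mul) D.elt_bijective

theorem iso_apply (p : Wr (2 ^ n)) : D.iso p = D.elt p := rfl

end WrData

theorem exists_wrData {S : Type*} [Group S] (hS : Cfsg.IsWreathed S) :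
    ∃ (n : ℕ) (x y z : S), 2 ≤ n ∧ WrData S n x y z := by
  obtain ⟨n, hn, hcard, x, y, z, ox, comm, disj, oz, conj⟩ := hS
  exact ⟨n, x, y, z, hn, ⟨hcard, ox, comm, disj, oz, conj⟩⟩

/-- Change of the modulus along an equality. -/
def Wr.castEquiv {N N' : ℕ} (h : N = N') : Wr N ≃* Wr N' := h ▸ MulEquiv.refl _

theorem two_pow_eq_two_mul {n : ℕ} (hn : 1 ≤ n) : 2 ^ n = 2 * 2 ^ (n - 1) := by
  obtain ⟨m, rfl⟩ : ∃ m, n = m + 1 := ⟨n - 1, by omega⟩
  simp [pow_succ, mul_comm]

end Cfsg.Agent.Helper98
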