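import Mathlib
import Cfsg.Agent.Lib.Helper98.Wreathed
import Cfsg.Agent.Lib.Helper98.Transport

set_option autoImplicit false
set_option linter.unusedSectionVars false
set_option linter.unusedSimpArgs false

namespace Cfsg.Agent.Helper98

theorem zmod_add_self_eq_zero_iff {M : ℕ} [NeZero M] (a : ZMod (2 * M)) :
    a + a = 0 ↔ a = 0 ∨ a = (M : ZMod (2 * M)) := by
  constructor
  · intro h
    have ha : a = (a.val : ZMod (2 * M)) := (ZMod.natCast_zmod_val a).symm
    have hlt : a.val < 2 * M := ZMod.val_lt a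
    have h2 : ((a.val + a.val : ℕ) : ZMod (2 * M)) = 0 := by
      push_cast
      rw [← ha]
      exact h
    rw [ZMod.natCast_eq_zero_iff] at h2
    have h3 : M ∣ a.val := by
      obtain ⟨c, hc⟩ := h2
      exact ⟨c, by nlinarith⟩
    obtain ⟨c, hc⟩ := h3
    have hM : 0 < M := Nat.pos_of_ne_zero (NeZero.ne M)
    have hc2 : c < 2 := by
      by_contra hcc
      push Not at hcc
      have : 2 * M ≤ M * c := by nlinarith
      omega
    interval_cases c
    · left
      rw [ha, hc]
      simp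
    · right
      rw [ha, hc]
      simp
  · rintro (rfl | rfl)
    · simp
    · have : ((M + M : ℕ) : ZMod (2 * M)) = 0 := by
        rw [ZMod.natCast_eq_zero_iff]
        exact ⟨1, by ring⟩
      push_cast at this
      exact this

theorem zmod_half_ne_zero {M : ℕ} [NeZero M] : (M : ZMod (2 * M)) ≠ 0 := by
  intro h
  rw [ZMod.natCast_eq_zero_iff] at h
  have hM : 0 < M := Nat.pos_of_ne_zero (NeZero.ne M)
  have := Nat.le_of_dvd hM h
  omega

namespace Wr

variable {N : ℕ}

theorem mul_e (p q : Wr N) : (p * q).e = xor p.e q.e := by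
  rcases p with ⟨a, b, e⟩; rcases q with ⟨c, d, f⟩
  cases e <;> cases f <;> rfl

theorem inv_e (p : Wr N) : (p⁻¹).e = p.e := by
  rcases p with ⟨a, b, e⟩
  cases e <;> rfl

theorem conj_e (q p : Wr N) : (q * p * q⁻¹).e = p.e := by
  rw [mul_e, mul_e, inv_e]
  cases q.e <;> cases p.e <;> rfl

theorem isConj_e {p q : Wr N} (h : IsConj p q) : p.e = q.e := by
  obtain ⟨c, hc⟩ := isConj_iff.mp h
  rw [← hc, conj_e]

theorem orderOf_eq_two_iff' (p : Wr N) : orderOf p = 2 ↔ p ≠ 1 ∧ p * p = 1 := by
  rw [orderOf_eq_iff (by norm_num)]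
  constructor
  · rintro ⟨h1, h2⟩
    refine ⟨?_, by rw [← pow_two]; exact h1⟩
    intro hp
    exact h2 1 (by norm_num) (by norm_num) (by rw [hp]; simp)
  · rintro ⟨h1, h2⟩
    refine ⟨by rw [pow_two]; exact h2, ?_⟩
    intro m hm hm0
    have : m = 1 := by omega
    subst this
    simpa using h1

theorem card_invol_classes {M : ℕ} [NeZero M] :
    Nat.card {C : ConjClasses (Wr (2 * M)) // ∃ t : Wr (2 * M), orderOf t = 2 ∧ ConjClasses.mk t = C}
      = 3 := by
  have hMM : (M : ZMod (2 * M)) + M = 0 := (zmod_add_self_eq_zero_iff _).mpr (Or.inr rfl)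
  have hM0 : (M : ZMod (2 * M)) ≠ 0 := zmod_half_ne_zero
  refine card_classes_eq_three 2 (⟨M, M, false⟩ : Wr (2 * M)) ⟨M, 0, false⟩ ⟨0, 0, true⟩
    ?_ ?_ ?_ ?_ ?_ ?_ ?_
  · rw [orderOf_eq_two_iff']
    refine ⟨?_, ?_⟩
    · intro h
      exact hM0 (congrArg Wr.a h)
    · simp [Wr.ext_iff, hMM]
  · rw [orderOf_eq_two_iff']
    refine ⟨?_, ?_⟩
    · intro h
      exact hM0 (congrArg Wr.a h)
    · simp [Wr.ext_iff, hMM]
  · rw [orderOf_eq_two_iff']
    refine ⟨?_, ?_⟩
    · intro h
      have := congrArg Wr.e h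
      simp at this
    · simp [Wr.ext_iff]
  · intro h
    obtain ⟨c, hc⟩ := isConj_iff.mp h
    rcases c with ⟨a, b, e⟩
    cases e
    · simp [Wr.ext_iff] at hc
      exact hM0 hc
    · simp [Wr.ext_iff] at hc
      exact hM0 hc
  · intro h
    have := isConj_e h
    simp at this
  · intro h
    have := isConj_e h
    simp at this
  · rintro ⟨a, b, e⟩ ht
    rw [orderOf_eq_two_iff'] at ht
    obtain ⟨hne, hsq⟩ := ht
    cases e
    · simp only [mk_mul_mk_false, Wr.ext_iff, one_a, one_b, one_e, and_true] at hsq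
      rcases (zmod_add_self_eq_zero_iff a).mp hsq.1 with rfl | rfl <;>
      rcases (zmod_add_self_eq_zero_iff b).mp hsq.2 with rfl | rfl
      · exact absurd rfl hne
      · right; left
        rw [isConj_iff]
        refine ⟨⟨0, 0, true⟩, ?_⟩
        simp [Wr.ext_iff]
      · right; left
        exact IsConj.refl _
      · left
        exact IsConj.refl _
    · simp only [mk_mul_mk_true, Wr.ext_iff, one_a, one_b, one_e] at hsq
      right; right
      rw [isConj_comm, isConj_iff]
      refine ⟨⟨a, 0, false⟩, ?_⟩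
      have hb : b = -a := eq_neg_of_add_eq_zero_right hsq.1
      simp [Wr.ext_iff, hb]

theorem card_invol_classes' {N M : ℕ} [NeZero M] (hN : N = 2 * M) :
    Nat.card {C : ConjClasses (Wr N) // ∃ t : Wr N, orderOf t = 2 ∧ ConjClasses.mk t = C} = 3 := by
  subst hN
  exact card_invol_classes

end Wr

end Cfsg.Agent.Helper98
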