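import Mathlib
import Cfsg.Agent.Lib.Helper98.WrFacts

set_option autoImplicit false
set_option linter.unusedSectionVars false
set_option linter.unusedSimpArgs false

namespace Cfsg.Agent.Helper98

namespace Wr

variable {N : ℕ}

/-- The base group `{x^a y^b}` of the wreathed group. -/
def base (N : ℕ) : Subgroup (Wr N) where
  carrier := {p | p.e = false}
  mul_mem' {p q} hp hq := by
    simp only [Set.mem_ofPred_eq] at *
    rw [mul_e, hp, hq]; rfl
  one_mem' := rfl
  inv_mem' {p} hp := by
    simp only [Set.mem_ofPred_eq] at *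
    rw [inv_e, hp]

theorem mem_base {p : Wr N} : p ∈ base N ↔ p.e = false := Iff.rfl

instance base_normal : (base N).Normal where
  conj_mem p hp q := by
    rw [mem_base] at *
    rw [conj_e, hp]

/-- The base group is `Z_N × Z_N`. -/
def baseEquiv (N : ℕ) : base N ≃* Multiplicative (ZMod N × ZMod N) where
  toFun p := Multiplicative.ofAdd (p.1.a, p.1.b)
  invFun t := ⟨⟨(Multiplicative.toAdd t).1, (Multiplicative.toAdd t).2, false⟩, rfl⟩
  left_inv := by
    rintro ⟨⟨a, b, e⟩, he⟩
    have : e = false := he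
    subst this
    rfl
  right_inv t := rfl
  map_mul' := by
    rintro ⟨⟨a, b, e⟩, he⟩ ⟨⟨c, d, f⟩, hf⟩
    have : e = false := he
    subst this
    rfl

instance base_comm : IsMulCommutative (base N) :=
  ⟨⟨fun p q => by
    apply (baseEquiv N).injective
    rw [map_mul, map_mul, mul_comm]⟩⟩

theorem card_base [NeZero N] : Nat.card (base N) = N * N := by
  rw [Nat.card_congr (baseEquiv N).toEquiv]
  simp [Nat.card_eq_fintype_card, ZMod.card]

theorem index_base [NeZero N] : (base N).index = 2 := by
  have h := (base N).card_mul_index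
  rw [card_base, Nat.card_eq_fintype_card, Wr.card] at h
  have hN : 0 < N := Nat.pos_of_ne_zero (NeZero.ne N)
  have : N * N * (base N).index = N * N * 2 := by rw [h]; ring
  exact Nat.eq_of_mul_eq_mul_left (by positivity) this

/-- The diagonal subgroup, which is the centre when `N ≥ 2`. -/
def diag (N : ℕ) : Subgroup (Wr N) where
  carrier := {p | p.e = false ∧ p.a = p.b}
  mul_mem' {p q} hp hq := by
    rcases p with ⟨a, b, e⟩; rcases q with ⟨c, d, f⟩
    simp only [Set.mem_ofPred_eq] at *
    obtain ⟨rfl, rfl⟩ := hp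
    obtain ⟨rfl, rfl⟩ := hq
    simp
  one_mem' := ⟨rfl, rfl⟩
  inv_mem' {p} hp := by
    rcases p with ⟨a, b, e⟩
    simp only [Set.mem_ofPred_eq] at *
    obtain ⟨rfl, rfl⟩ := hp
    simp

theorem mem_diag {p : Wr N} : p ∈ diag N ↔ p.e = false ∧ p.a = p.b := Iff.rfl

/-- The diagonal is cyclic of order `N`. -/
def diagEquiv (N : ℕ) : diag N ≃* Multiplicative (ZMod N) where
  toFun p := Multiplicative.ofAdd p.1.a
  invFun t := ⟨⟨Multiplicative.toAdd t, Multiplicative.toAdd t, false⟩, rfl, rfl⟩
  left_inv := by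
    rintro ⟨⟨a, b, e⟩, he, hab⟩
    have : e = false := he
    subst this
    have : a = b := hab
    subst this
    rfl
  right_inv t := rfl
  map_mul' := by
    rintro ⟨⟨a, b, e⟩, he, hab⟩ ⟨⟨c, d, f⟩, hf, hcd⟩
    have : e = false := he
    subst this
    rfl

theorem card_diag [NeZero N] : Nat.card (diag N) = N := by
  rw [Nat.card_congr (diagEquiv N).toEquiv]
  simp [Nat.card_eq_fintype_card, ZMod.card]

theorem diag_le_base : diag N ≤ base N := fun _ hp => hp.1

theorem center_eq (hN : 2 ≤ N) : Subgroup.center (Wr N) = diag N := by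
  have : Fact (1 < N) := ⟨by omega⟩
  ext p
  rw [Subgroup.mem_center_iff, mem_diag]
  constructor
  · intro h
    rcases p with ⟨a, b, e⟩
    cases e
    · have := h ⟨0, 0, true⟩
      simp [Wr.ext_iff] at this
      exact ⟨rfl, this.2⟩
    · have := h ⟨1, 0, false⟩
      simp [Wr.ext_iff] at this
  · rintro ⟨he, hab⟩ q
    rcases p with ⟨a, b, e⟩; rcases q with ⟨c, d, f⟩
    simp only at he hab
    subst he; subst hab
    cases f <;> simp [Wr.ext_iff, add_comm]

/-- Elements of the base group commuting with an element outside the base group are diagonal. -/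
theorem mem_diag_of_commute {p w : Wr N} (hp : p ∈ base N) (hw : w ∉ base N) (h : p * w = w * p) :
    p ∈ diag N := by
  rcases p with ⟨a, b, e⟩; rcases w with ⟨c, d, f⟩
  rw [mem_base] at hp hw
  simp only at hp hw
  subst hp
  have : f = true := by simpa using hw
  subst this
  simp [Wr.ext_iff] at h
  refine ⟨rfl, ?_⟩
  have h1 := h.1
  calc a = (a + c) - c := by ring
    _ = (c + b) - c := by rw [h1]
    _ = b := by ring

/-- A commutative subgroup of order `N^2` is the base group (for `N ≥ 3`). -/
theorem eq_base_of_comm [NeZero N] (hN : 3 ≤ N) (U : Subgroup (Wr N)) [hU : IsMulCommutative U]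
    (hcard : Nat.card U = N * N) : U = base N := by
  by_contra hne
  have hnle : ¬ U ≤ base N := by
    intro hle
    apply hne
    apply Subgroup.eq_of_le_of_card_ge hle
    rw [hcard, card_base]
  obtain ⟨w, hwU, hw⟩ := SetLike.not_le_iff_exists.mp hnle
  have hle : base N ⊓ U ≤ diag N := by
    intro p hp
    refine mem_diag_of_commute hp.1 hw ?_
    exact setLike_mul_comm hp.2 hwU
  have h1 : Nat.card ↥(base N ⊓ U) ≤ N := by
    calc Nat.card ↥(base N ⊓ U) ≤ Nat.card ↥(diag N) := Subgroup.card_le_of_le hle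
      _ = N := card_diag
  have h2 : Nat.card ↥(base N ⊓ U) * (base N ⊓ U).relIndex U = Nat.card U := by
    have := Subgroup.relIndex_mul_relIndex (H := ⊥) (K := base N ⊓ U) (L := U) bot_le inf_le_right
    rwa [Subgroup.relIndex_bot_left, Subgroup.relIndex_bot_left] at this
  rw [Subgroup.inf_relIndex_right] at h2
  have h3 : (base N).relIndex U ∣ 2 := by
    rw [← index_base (N := N)]
    exact Subgroup.relIndex_dvd_index_of_normal _ _
  have h4 : (base N).relIndex U ≤ 2 := Nat.le_of_dvd (by norm_num) h3
  have : N * N ≤ N * 2 := by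
    rw [← hcard, ← h2]
    exact Nat.mul_le_mul h1 h4
  nlinarith

theorem base_mul_comm {p q : Wr N} (hp : p ∈ base N) (hq : q ∈ base N) : p * q = q * p :=
  setLike_mul_comm hp hq

theorem mul_inv_mem_base {p c : Wr N} (hp : p ∉ base N) (hc : c ∉ base N) : p * c⁻¹ ∈ base N := by
  rw [mem_base] at *
  rw [mul_e, inv_e]
  cases hpe : p.e <;> cases hce : c.e <;> simp_all

/-- The centre of a non-commutative subgroup lies in the centre of the whole group. -/
theorem center_of_nonabelian (hN : 2 ≤ N) (X : Subgroup (Wr N))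
    (hX : ¬ ∀ p ∈ X, ∀ q ∈ X, p * q = q * p) (c : Wr N) (hc : c ∈ X)
    (hcc : ∀ u ∈ X, c * u = u * c) : c ∈ Subgroup.center (Wr N) := by
  rw [center_eq hN]
  by_cases hcb : c ∈ base N
  · -- some element of X lies outside the base group
    have : ∃ w ∈ X, w ∉ base N := by
      by_contra hall
      push Not at hall
      exact hX fun p hp q hq => base_mul_comm (hall p hp) (hall q hq)
    obtain ⟨w, hwX, hw⟩ := this
    exact mem_diag_of_commute hcb hw (hcc w hwX)
  · exfalso
    apply hX
    -- every element of X is b or b * c with b in X ∩ base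
    have hdecomp : ∀ p ∈ X, ∃ b ∈ X, b ∈ base N ∧ (p = b ∨ p = b * c) := by
      intro p hp
      by_cases hpb : p ∈ base N
      · exact ⟨p, hp, hpb, Or.inl rfl⟩
      · exact ⟨p * c⁻¹, X.mul_mem hp (X.inv_mem hc), mul_inv_mem_base hpb hcb, Or.inr (by group)⟩
    intro p hp q hq
    obtain ⟨b1, hb1X, hb1, h1⟩ := hdecomp p hp
    obtain ⟨b2, hb2X, hb2, h2⟩ := hdecomp q hq
    have hbb : b1 * b2 = b2 * b1 := base_mul_comm hb1 hb2
    have hc1 : c * b1 = b1 * c := hcc b1 hb1X
    have hc2 : c * b2 = b2 * c := hcc b2 hb2X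
    rcases h1 with h1 | h1 <;> rcases h2 with h2 | h2 <;> rw [h1, h2]
    · exact hbb
    · calc b1 * (b2 * c) = (b1 * b2) * c := by group
        _ = (b2 * b1) * c := by rw [hbb]
        _ = b2 * (b1 * c) := by group
        _ = b2 * (c * b1) := by rw [hc1]
        _ = b2 * c * b1 := by group
    · calc b1 * c * b2 = b1 * (c * b2) := by group
        _ = b1 * (b2 * c) := by rw [hc2]
        _ = (b1 * b2) * c := by group
        _ = (b2 * b1) * c := by rw [hbb]
        _ = b2 * (b1 * c) := by group
    · calc b1 * c * (b2 * c) = b1 * (c * b2) * c := by group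
        _ = b1 * (b2 * c) * c := by rw [hc2]
        _ = (b1 * b2) * c * c := by group
        _ = (b2 * b1) * c * c := by rw [hbb]
        _ = b2 * (b1 * c) * c := by group
        _ = b2 * (c * b1) * c := by rw [hc1]
        _ = b2 * c * (b1 * c) := by group

end Wr

end Cfsg.Agent.Helper98
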