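import Mathlib
import Cfsg.Agent.Lib.Helper98.WrSubgroups

set_option autoImplicit false
set_option linter.unusedSectionVars false
set_option linter.unusedSimpArgs false

namespace Cfsg.Agent.Helper98

open scoped commutatorElement

namespace Wr

variable {N : ℕ}

/-- The antidiagonal subgroup `{(a, -a, false)}`: the commutator subgroup. -/
def antidiag (N : ℕ) : Subgroup (Wr N) where
  carrier := {p | p.e = false ∧ p.a + p.b = 0}
  mul_mem' {p q} hp hq := by
    rcases p with ⟨a, b, e⟩; rcases q with ⟨c, d, f⟩
    simp only [Set.mem_ofPred_eq] at *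
    obtain ⟨rfl, hab⟩ := hp
    obtain ⟨rfl, hcd⟩ := hq
    refine ⟨rfl, ?_⟩
    simp only [mk_mul_mk_false]
    calc a + c + (b + d) = (a + b) + (c + d) := by ring
      _ = 0 := by rw [hab, hcd, add_zero]
  one_mem' := ⟨rfl, by simp⟩
  inv_mem' {p} hp := by
    rcases p with ⟨a, b, e⟩
    simp only [Set.mem_ofPred_eq] at *
    obtain ⟨rfl, hab⟩ := hp
    refine ⟨rfl, ?_⟩
    simp only [inv_mk_false]
    calc -a + -b = -(a + b) := by ring
      _ = 0 := by rw [hab, neg_zero]

theorem mem_antidiag {p : Wr N} : p ∈ antidiag N ↔ p.e = false ∧ p.a + p.b = 0 := Iff.rfl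

/-- The antidiagonal is cyclic of order `N`. -/
def antidiagEquiv (N : ℕ) : antidiag N ≃* Multiplicative (ZMod N) where
  toFun p := Multiplicative.ofAdd p.1.a
  invFun t := ⟨⟨Multiplicative.toAdd t, -Multiplicative.toAdd t, false⟩, rfl, by simp⟩
  left_inv := by
    rintro ⟨⟨a, b, e⟩, he, hab⟩
    have : e = false := he
    subst this
    have : b = -a := eq_neg_of_add_eq_zero_right hab
    subst this
    rfl
  right_inv t := rfl
  map_mul' := by
    rintro ⟨⟨a, b, e⟩, he, hab⟩ ⟨⟨c, d, f⟩, hf, hcd⟩
    have : e = false := he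
    subst this
    rfl

theorem card_antidiag [NeZero N] : Nat.card (antidiag N) = N := by
  rw [Nat.card_congr (antidiagEquiv N).toEquiv]
  simp [Nat.card_eq_fintype_card, ZMod.card]

theorem commutator_eq : commutator (Wr N) = antidiag N := by
  apply le_antisymm
  · rw [commutator_def, Subgroup.commutator_le]
    rintro ⟨a, b, e⟩ - ⟨c, d, f⟩ -
    rw [commutatorElement_def, mem_antidiag]
    cases e <;> cases f <;> simp <;> ring
  · rintro ⟨a, b, e⟩ ⟨he, hab⟩
    simp only at he hab
    subst he
    have hb : b = -a := eq_neg_of_add_eq_zero_right hab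
    subst hb
    have : (⟨a, -a, false⟩ : Wr N) = ⁅(⟨a, 0, false⟩ : Wr N), ⟨0, 0, true⟩⁆ := by
      rw [commutatorElement_def]
      simp [Wr.ext_iff]
    rw [this]
    exact Subgroup.commutator_mem_commutator (Subgroup.mem_top _) (Subgroup.mem_top _)

/-- The quotient map onto the dihedral group. -/
def toDihedral (N : ℕ) : Wr N →* DihedralGroup N where
  toFun p := if p.e then DihedralGroup.sr (p.b - p.a) else DihedralGroup.r (p.a - p.b)
  map_one' := by simp [one_def]
  map_mul' := by
    rintro ⟨a, b, e⟩ ⟨c, d, f⟩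
    cases e <;> cases f <;> simp <;> ring_nf

theorem toDihedral_surjective : Function.Surjective (toDihedral N) := by
  intro g
  cases g with
  | r i => exact ⟨⟨i, 0, false⟩, by simp [toDihedral]⟩
  | sr i => exact ⟨⟨0, i, true⟩, by simp [toDihedral]⟩

theorem toDihedral_ker : (toDihedral N).ker = diag N := by
  ext ⟨a, b, e⟩
  rw [MonoidHom.mem_ker, mem_diag]
  cases e
  · show DihedralGroup.r (a - b) = DihedralGroup.r 0 ↔ _
    simp only [true_and]
    constructor
    · intro h
      exact sub_eq_zero.mp (DihedralGroup.r.inj h)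
    · intro h
      have : a = b := h
      rw [this, sub_self]
  · show DihedralGroup.sr (b - a) = DihedralGroup.r 0 ↔ _
    simp only [Bool.true_eq_false, false_and, iff_false]
    intro h
    cases h

/-- `Wr N / Z(Wr N) ≅ D_N`. -/
noncomputable def quotCenterEquiv (hN : 2 ≤ N) :
    Wr N ⧸ Subgroup.center (Wr N) ≃* DihedralGroup N :=
  (QuotientGroup.quotientMulEquivOfEq ((center_eq hN).trans toDihedral_ker.symm)).trans
    (QuotientGroup.quotientKerEquivOfSurjective (toDihedral N) toDihedral_surjective)

end Wr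

end Cfsg.Agent.Helper98
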