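import Mathlib
import Cfsg.Agent.Lib.Helper98.WrCenter

set_option autoImplicit false
set_option linter.unusedSectionVars false
set_option linter.unusedSimpArgs false

namespace Cfsg.Agent.Helper98

namespace Wr

variable {M : ℕ}

/-- The subgroup generated by the involutions of `Wr (2 * M)`: `a + b ∈ {0, M}`. -/
def omega (M : ℕ) [NeZero M] : Subgroup (Wr (2 * M)) where
  carrier := {p | p.a + p.b = 0 ∨ p.a + p.b = M}
  mul_mem' {p q} hp hq := by
    have hMM : (M : ZMod (2 * M)) + M = 0 := (zmod_add_self_eq_zero_iff _).mpr (Or.inr rfl)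
    rcases p with ⟨a, b, e⟩; rcases q with ⟨c, d, f⟩
    simp only [Set.mem_ofPred_eq] at *
    have key : ∀ u v : ZMod (2 * M), (u = 0 ∨ u = M) → (v = 0 ∨ v = M) → (u + v = 0 ∨ u + v = M) := by
      rintro u v (rfl | rfl) (rfl | rfl)
      · left; simp
      · right; simp
      · right; simp
      · left; exact hMM
    cases e
    · simp only [mk_mul_mk_false]
      have := key _ _ hp hq
      rwa [show a + c + (b + d) = (a + b) + (c + d) by ring]
    · simp only [mk_mul_mk_true]
      have := key _ _ hp hq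
      rwa [show a + d + (b + c) = (a + b) + (c + d) by ring]
  one_mem' := Or.inl (by simp)
  inv_mem' {p} hp := by
    have hMM : (M : ZMod (2 * M)) + M = 0 := (zmod_add_self_eq_zero_iff _).mpr (Or.inr rfl)
    have hneg : -(M : ZMod (2 * M)) = M := neg_eq_of_add_eq_zero_left hMM
    rcases p with ⟨a, b, e⟩
    simp only [Set.mem_ofPred_eq] at *
    have key : ∀ u : ZMod (2 * M), (u = 0 ∨ u = M) → (-u = 0 ∨ -u = M) := by
      rintro u (rfl | rfl)
      · left; simp
      · right; exact hneg
    cases e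
    · simp only [inv_mk_false]
      have := key _ hp
      rwa [show -a + -b = -(a + b) by ring]
    · simp only [inv_mk_true]
      have := key _ hp
      rwa [show -b + -a = -(a + b) by ring]

theorem mem_omega [NeZero M] {p : Wr (2 * M)} :
    p ∈ omega M ↔ (p.a + p.b = 0 ∨ p.a + p.b = M) := Iff.rfl

theorem orderOf_two_mem_omega [NeZero M] {p : Wr (2 * M)} (hp : orderOf p = 2) : p ∈ omega M := by
  have hMM : (M : ZMod (2 * M)) + M = 0 := (zmod_add_self_eq_zero_iff _).mpr (Or.inr rfl)
  rw [orderOf_eq_two_iff'] at hp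
  obtain ⟨hne, hsq⟩ := hp
  rcases p with ⟨a, b, e⟩
  rw [mem_omega]
  cases e
  · simp only [mk_mul_mk_false, Wr.ext_iff, one_a, one_b, one_e, and_true] at hsq
    rcases (zmod_add_self_eq_zero_iff a).mp hsq.1 with rfl | rfl <;>
    rcases (zmod_add_self_eq_zero_iff b).mp hsq.2 with rfl | rfl
    · left; simp
    · right; simp
    · right; simp
    · left; exact hMM
  · simp only [mk_mul_mk_true, Wr.ext_iff, one_a, one_b, one_e] at hsq
    left
    exact hsq.1

theorem orderOf_mk_true [NeZero M] (a : ZMod (2 * M)) :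
    orderOf (⟨a, -a, true⟩ : Wr (2 * M)) = 2 := by
  rw [orderOf_eq_two_iff']
  refine ⟨fun h => ?_, by simp [Wr.ext_iff]⟩
  have := congrArg Wr.e h
  simp at this

theorem orderOf_half [NeZero M] : orderOf (⟨M, 0, false⟩ : Wr (2 * M)) = 2 := by
  have hMM : (M : ZMod (2 * M)) + M = 0 := (zmod_add_self_eq_zero_iff _).mpr (Or.inr rfl)
  rw [orderOf_eq_two_iff']
  refine ⟨fun h => ?_, by simp [Wr.ext_iff, hMM]⟩
  exact zmod_half_ne_zero (congrArg Wr.a h)

theorem closure_invol [NeZero M] :
    Subgroup.closure {p : Wr (2 * M) | orderOf p = 2} = omega M := by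
  have hMM : (M : ZMod (2 * M)) + M = 0 := (zmod_add_self_eq_zero_iff _).mpr (Or.inr rfl)
  apply le_antisymm
  · rw [Subgroup.closure_le]
    intro p hp
    exact orderOf_two_mem_omega hp
  · -- first: the elements with a + b = 0
    have h0 : ∀ (a : ZMod (2 * M)) (e : Bool),
        (⟨a, -a, e⟩ : Wr (2 * M)) ∈ Subgroup.closure {p : Wr (2 * M) | orderOf p = 2} := by
      intro a e
      cases e
      · have : (⟨a, -a, false⟩ : Wr (2 * M)) = ⟨a, -a, true⟩ * ⟨0, -0, true⟩ := by
          simp [Wr.ext_iff]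
        rw [this]
        exact Subgroup.mul_mem _ (Subgroup.subset_closure (orderOf_mk_true a))
          (Subgroup.subset_closure (orderOf_mk_true 0))
      · exact Subgroup.subset_closure (orderOf_mk_true a)
    rintro ⟨a, b, e⟩ hp
    rw [mem_omega] at hp
    simp only at hp
    rcases hp with hp | hp
    · have hb : b = -a := eq_neg_of_add_eq_zero_right hp
      subst hb
      exact h0 a e
    · have : (⟨a, b, e⟩ : Wr (2 * M)) = ⟨M, 0, false⟩ * ⟨a - M, -(a - M), e⟩ := by
        have hb : b = M - a := by rw [← hp]; ring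
        simp only [mk_mul_mk_false, Wr.ext_iff, and_true]
        constructor
        · ring
        · rw [hb]; ring
      rw [this]
      exact Subgroup.mul_mem _ (Subgroup.subset_closure orderOf_half) (h0 _ e)

/-- An explicit parametrisation of `omega`. -/
noncomputable def omegaEquiv (M : ℕ) [NeZero M] : omega M ≃ (ZMod (2 * M) × Bool) × Bool where
  toFun p := ((p.1.a, p.1.e), decide (p.1.a + p.1.b = M))
  invFun t := ⟨⟨t.1.1, (if t.2 then (M : ZMod (2 * M)) else 0) - t.1.1, t.1.2⟩, by
    rw [mem_omega]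
    rcases t with ⟨⟨a, e⟩, fl⟩
    cases fl
    · left; simp
    · right; simp⟩
  left_inv := by
    rintro ⟨⟨a, b, e⟩, hp⟩
    have hM0 : (M : ZMod (2 * M)) ≠ 0 := zmod_half_ne_zero
    rw [mem_omega] at hp
    simp only at hp
    apply Subtype.ext
    simp only [Wr.ext_iff, true_and, and_true]
    rcases hp with hp | hp
    · have hne : ¬ (a + b = (M : ZMod (2 * M))) := by rw [hp]; exact hM0.symm
      simp only [decide_eq_true_eq, hne, if_false, zero_sub]
      exact (eq_neg_of_add_eq_zero_right hp).symm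
    · simp only [decide_eq_true_eq, hp, if_true]
      rw [← hp]; ring
  right_inv := by
    rintro ⟨⟨a, e⟩, fl⟩
    have hM0 : (M : ZMod (2 * M)) ≠ 0 := zmod_half_ne_zero
    cases fl
    · simp [hM0.symm]
    · simp

theorem card_omega [NeZero M] : Nat.card (omega M) = 4 * (2 * M) := by
  rw [Nat.card_congr (omegaEquiv M)]
  simp [Nat.card_eq_fintype_card, ZMod.card]
  ring

theorem omega_sup_zpowers [NeZero M] :
    omega M ⊔ Subgroup.zpowers (⟨1, 0, false⟩ : Wr (2 * M)) = ⊤ := by
  rw [eq_top_iff]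
  rintro ⟨a, b, e⟩ -
  have hpow : ∀ k : ℕ, (⟨1, 0, false⟩ : Wr (2 * M)) ^ k = ⟨k, 0, false⟩ := by
    intro k
    induction k with
    | zero => simp [one_def]
    | succ k ih => rw [pow_succ, ih]; simp [Wr.ext_iff]
  have hdec : (⟨a, b, e⟩ : Wr (2 * M)) =
      (⟨1, 0, false⟩ : Wr (2 * M)) ^ ((a + b).val) * ⟨-b, b, e⟩ := by
    rw [hpow, ZMod.natCast_zmod_val]
    simp [Wr.ext_iff]
  rw [hdec]
  refine Subgroup.mul_mem _ (Subgroup.mem_sup_right ?_) (Subgroup.mem_sup_left ?_)
  · exact Subgroup.pow_mem _ (Subgroup.mem_zpowers _) _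
  · rw [mem_omega]
    left
    simp

end Wr

end Cfsg.Agent.Helper98
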