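import Mathlib
import Cfsg.Agent.Lib.Helper98.WrOmega

set_option autoImplicit false
set_option linter.unusedSectionVars false
set_option linter.unusedSimpArgs false

namespace Cfsg.Agent.Helper98

/-- A subgroup of order four all of whose elements square to one is a Klein four-group. -/
theorem isKleinFour_of_card_of_sq {G : Type*} [Group G] (V : Subgroup G) (hcard : Nat.card V = 4)
    (hsq : ∀ p ∈ V, p * p = 1) : IsKleinFour V := by
  have hfin : Finite V := Nat.finite_of_card_ne_zero (by rw [hcard]; norm_num)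
  have hnt : Nontrivial V := Finite.one_lt_card_iff_nontrivial.mp (by rw [hcard]; norm_num)
  refine ⟨hcard, ?_⟩
  rw [Monoid.exponent_eq_prime_iff Nat.prime_two]
  intro g hg
  refine orderOf_eq_prime ?_ hg
  rw [pow_two]
  exact Subtype.ext (hsq g.1 g.2)

theorem IsKleinFour_sq {G : Type*} [Group G] (V : Subgroup G) [hV : IsKleinFour V] {p : G}
    (hp : p ∈ V) : p * p = 1 := by
  have := IsKleinFour.mul_self (⟨p, hp⟩ : V)
  exact congrArg Subtype.val this

theorem IsKleinFour_comm {G : Type*} [Group G] (V : Subgroup G) [hV : IsKleinFour V] {p q : G}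
    (hp : p ∈ V) (hq : q ∈ V) : p * q = q * p := by
  have hc : IsMulCommutative V := IsKleinFour.isMulCommutative
  exact setLike_mul_comm hp hq

namespace Wr

variable {M : ℕ} [NeZero M]

/-- The normal four-group of `Wr (2 * M)`. -/
def four (M : ℕ) [NeZero M] : Subgroup (Wr (2 * M)) where
  carrier := {p | p.e = false ∧ p.a + p.a = 0 ∧ p.b + p.b = 0}
  mul_mem' {p q} hp hq := by
    rcases p with ⟨a, b, e⟩; rcases q with ⟨c, d, f⟩
    simp only [Set.mem_ofPred_eq] at *
    obtain ⟨rfl, ha, hb⟩ := hp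
    obtain ⟨rfl, hc, hd⟩ := hq
    refine ⟨rfl, ?_, ?_⟩
    · simp only [mk_mul_mk_false]
      calc a + c + (a + c) = (a + a) + (c + c) := by ring
        _ = 0 := by rw [ha, hc, add_zero]
    · simp only [mk_mul_mk_false]
      calc b + d + (b + d) = (b + b) + (d + d) := by ring
        _ = 0 := by rw [hb, hd, add_zero]
  one_mem' := ⟨rfl, by simp, by simp⟩
  inv_mem' {p} hp := by
    rcases p with ⟨a, b, e⟩
    simp only [Set.mem_ofPred_eq] at *
    obtain ⟨rfl, ha, hb⟩ := hp
    refine ⟨rfl, ?_, ?_⟩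
    · simp only [inv_mk_false]
      calc -a + -a = -(a + a) := by ring
        _ = 0 := by rw [ha, neg_zero]
    · simp only [inv_mk_false]
      calc -b + -b = -(b + b) := by ring
        _ = 0 := by rw [hb, neg_zero]

theorem mem_four {p : Wr (2 * M)} :
    p ∈ four M ↔ p.e = false ∧ p.a + p.a = 0 ∧ p.b + p.b = 0 := Iff.rfl

/-- An element of the base group squaring to one lies in `four`. -/
theorem mem_four_of_sq {p : Wr (2 * M)} (hp : p ∈ base (2 * M)) (hsq : p * p = 1) : p ∈ four M := by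
  rcases p with ⟨a, b, e⟩
  rw [mem_base] at hp
  simp only at hp
  subst hp
  simp only [mk_mul_mk_false, Wr.ext_iff, one_a, one_b, one_e, and_true] at hsq
  exact ⟨rfl, hsq.1, hsq.2⟩

instance four_normal : (four M).Normal where
  conj_mem p hp q := by
    rcases p with ⟨a, b, e⟩
    obtain ⟨he, ha, hb⟩ := hp
    simp only at he ha hb
    subst he
    rcases q with ⟨c, d, f⟩
    rw [mem_four]
    cases f
    · simp only [mk_mul_mk_false, inv_mk_false]
      refine ⟨by trivial, ?_, ?_⟩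
      · calc c + a + -c + (c + a + -c) = a + a := by ring
          _ = 0 := ha
      · calc d + b + -d + (d + b + -d) = b + b := by ring
          _ = 0 := hb
    · simp only [mk_mul_mk_true, inv_mk_true, Bool.not_false, Bool.not_true]
      refine ⟨by trivial, ?_, ?_⟩
      · calc c + b + -c + (c + b + -c) = b + b := by ring
          _ = 0 := hb
      · calc d + a + -d + (d + a + -d) = a + a := by ring
          _ = 0 := ha

noncomputable def fourEquiv (M : ℕ) [NeZero M] : four M ≃ Bool × Bool where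
  toFun p := (decide (p.1.a = M), decide (p.1.b = M))
  invFun t := ⟨⟨if t.1 then M else 0, if t.2 then M else 0, false⟩, by
    have hMM : (M : ZMod (2 * M)) + M = 0 := (zmod_add_self_eq_zero_iff _).mpr (Or.inr rfl)
    rw [mem_four]
    rcases t with ⟨s, t⟩
    cases s <;> cases t <;> simp [hMM]⟩
  left_inv := by
    rintro ⟨⟨a, b, e⟩, he, ha, hb⟩
    have hM0 : (M : ZMod (2 * M)) ≠ 0 := zmod_half_ne_zero
    simp only at he ha hb
    subst he
    apply Subtype.ext
    simp only [Wr.ext_iff, and_true, decide_eq_true_eq]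
    constructor
    · rcases (zmod_add_self_eq_zero_iff a).mp ha with rfl | rfl
      · simp [hM0.symm]
      · simp
    · rcases (zmod_add_self_eq_zero_iff b).mp hb with rfl | rfl
      · simp [hM0.symm]
      · simp
  right_inv := by
    rintro ⟨s, t⟩
    have hM0 : (M : ZMod (2 * M)) ≠ 0 := zmod_half_ne_zero
    cases s <;> cases t <;> simp [hM0.symm]

theorem card_four : Nat.card (four M) = 4 := by
  rw [Nat.card_congr (fourEquiv M)]
  simp [Nat.card_eq_fintype_card]

theorem four_sq {p : Wr (2 * M)} (hp : p ∈ four M) : p * p = 1 := by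
  rcases p with ⟨a, b, e⟩
  obtain ⟨he, ha, hb⟩ := hp
  simp only at he ha hb
  subst he
  simp [Wr.ext_iff, ha, hb]

theorem four_le_base : four M ≤ base (2 * M) := fun _ hp => hp.1

instance isKleinFour_four : IsKleinFour (four M) :=
  isKleinFour_of_card_of_sq _ card_four (fun _ hp => four_sq hp)

/-- The four-group `{1, ζ, u, uζ}` with `u = (0,0,true)`. -/
def vee (M : ℕ) [NeZero M] : Subgroup (Wr (2 * M)) where
  carrier := {p | p.a = p.b ∧ p.a + p.a = 0}
  mul_mem' {p q} hp hq := by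
    rcases p with ⟨a, b, e⟩; rcases q with ⟨c, d, f⟩
    simp only [Set.mem_ofPred_eq] at *
    obtain ⟨rfl, ha⟩ := hp
    obtain ⟨rfl, hc⟩ := hq
    cases e
    · simp only [mk_mul_mk_false, true_and]
      calc a + c + (a + c) = (a + a) + (c + c) := by ring
        _ = 0 := by rw [ha, hc, add_zero]
    · simp only [mk_mul_mk_true, true_and]
      calc a + c + (a + c) = (a + a) + (c + c) := by ring
        _ = 0 := by rw [ha, hc, add_zero]
  one_mem' := ⟨rfl, by simp⟩
  inv_mem' {p} hp := by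
    rcases p with ⟨a, b, e⟩
    simp only [Set.mem_ofPred_eq] at *
    obtain ⟨rfl, ha⟩ := hp
    cases e
    · simp only [inv_mk_false, true_and]
      calc -a + -a = -(a + a) := by ring
        _ = 0 := by rw [ha, neg_zero]
    · simp only [inv_mk_true, true_and]
      calc -a + -a = -(a + a) := by ring
        _ = 0 := by rw [ha, neg_zero]

theorem mem_vee {p : Wr (2 * M)} : p ∈ vee M ↔ p.a = p.b ∧ p.a + p.a = 0 := Iff.rfl

/-- `vee` consists of the elements commuting with `u` and squaring to one. -/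
theorem mem_vee_iff {p : Wr (2 * M)} :
    p ∈ vee M ↔ p * ⟨0, 0, true⟩ = ⟨0, 0, true⟩ * p ∧ p * p = 1 := by
  rcases p with ⟨a, b, e⟩
  rw [mem_vee]
  cases e
  · simp only [mk_mul_mk_false, mk_mul_mk_true, Wr.ext_iff, one_a, one_b, one_e, and_true,
      Bool.not_false, add_zero, zero_add]
    constructor
    · rintro ⟨rfl, ha⟩
      exact ⟨⟨rfl, rfl⟩, ha, ha⟩
    · rintro ⟨⟨hab, -⟩, ha, -⟩
      exact ⟨hab, ha⟩
  · simp only [mk_mul_mk_true, Wr.ext_iff, one_a, one_b, one_e, and_true,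
      Bool.not_true, add_zero, zero_add]
    constructor
    · rintro ⟨rfl, ha⟩
      exact ⟨⟨rfl, rfl⟩, ha, ha⟩
    · rintro ⟨⟨hab, -⟩, ha, -⟩
      refine ⟨hab, ?_⟩
      rw [← hab] at ha
      exact ha

noncomputable def veeEquiv (M : ℕ) [NeZero M] : vee M ≃ Bool × Bool where
  toFun p := (decide (p.1.a = M), p.1.e)
  invFun t := ⟨⟨if t.1 then M else 0, if t.1 then M else 0, t.2⟩, by
    have hMM : (M : ZMod (2 * M)) + M = 0 := (zmod_add_self_eq_zero_iff _).mpr (Or.inr rfl)
    rw [mem_vee]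
    rcases t with ⟨s, t⟩
    cases s <;> simp [hMM]⟩
  left_inv := by
    rintro ⟨⟨a, b, e⟩, hab, ha⟩
    have hM0 : (M : ZMod (2 * M)) ≠ 0 := zmod_half_ne_zero
    simp only at hab ha
    subst hab
    apply Subtype.ext
    simp only [Wr.ext_iff, and_true, decide_eq_true_eq, and_self]
    rcases (zmod_add_self_eq_zero_iff a).mp ha with rfl | rfl
    · simp [hM0.symm]
    · simp
  right_inv := by
    rintro ⟨s, t⟩
    have hM0 : (M : ZMod (2 * M)) ≠ 0 := zmod_half_ne_zero
    cases s <;> simp [hM0.symm]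

theorem card_vee : Nat.card (vee M) = 4 := by
  rw [Nat.card_congr (veeEquiv M)]
  simp [Nat.card_eq_fintype_card]

instance isKleinFour_vee : IsKleinFour (vee M) :=
  isKleinFour_of_card_of_sq _ card_vee (fun _ hp => (mem_vee_iff.mp hp).2)

theorem vee_ne_four : vee M ≠ four M := by
  intro h
  have h1 : (⟨0, 0, true⟩ : Wr (2 * M)) ∈ vee M := ⟨rfl, by simp⟩
  rw [h] at h1
  have := h1.1
  simp at this

/-- Every Klein four-subgroup other than `four` is conjugate to `vee`. -/
theorem exists_conj_vee (V : Subgroup (Wr (2 * M))) [hV : IsKleinFour V] (hne : V ≠ four M) :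
    ∃ c : Wr (2 * M), (vee M).map (MulAut.conj c).toMonoidHom = V := by
  -- V is not inside the base group
  have hnb : ∃ p ∈ V, p ∉ base (2 * M) := by
    by_contra hall
    push Not at hall
    apply hne
    apply Subgroup.eq_of_le_of_card_ge
    · intro p hp
      exact mem_four_of_sq (hall p hp) (IsKleinFour_sq V hp)
    · rw [card_four, IsKleinFour.card_four]
  obtain ⟨p, hpV, hpb⟩ := hnb
  rcases p with ⟨i, b, e⟩
  rw [mem_base] at hpb
  simp only [Bool.not_eq_false] at hpb
  subst hpb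
  have hsq := IsKleinFour_sq V hpV
  simp only [mk_mul_mk_true, Wr.ext_iff, one_a, one_b, one_e] at hsq
  have hb : b = -i := eq_neg_of_add_eq_zero_right hsq.1
  subst hb
  -- conjugating element
  refine ⟨⟨i, 0, false⟩, ?_⟩
  symm
  apply Subgroup.eq_of_le_of_card_ge
  · intro q hq
    rw [Subgroup.mem_map]
    refine ⟨(⟨i, 0, false⟩ : Wr (2 * M))⁻¹ * q * ⟨i, 0, false⟩, ?_, ?_⟩
    · rw [mem_vee_iff]
      have hcomm := IsKleinFour_comm V hq hpV
      have hqq := IsKleinFour_sq V hq
      have hu : (⟨i, -i, true⟩ : Wr (2 * M)) =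
          ⟨i, 0, false⟩ * ⟨0, 0, true⟩ * (⟨i, 0, false⟩ : Wr (2 * M))⁻¹ := by
        simp [Wr.ext_iff]
      rw [hu] at hcomm
      constructor
      · have h1 : (⟨i, 0, false⟩ : Wr (2 * M))⁻¹ * (q * (⟨i, 0, false⟩ * ⟨0, 0, true⟩ *
            (⟨i, 0, false⟩ : Wr (2 * M))⁻¹)) * ⟨i, 0, false⟩ =
            (⟨i, 0, false⟩ : Wr (2 * M))⁻¹ * (⟨i, 0, false⟩ * ⟨0, 0, true⟩ *
            (⟨i, 0, false⟩ : Wr (2 * M))⁻¹ * q) * ⟨i, 0, false⟩ := by rw [hcomm]
        calc (⟨i, 0, false⟩ : Wr (2 * M))⁻¹ * q * ⟨i, 0, false⟩ * ⟨0, 0, true⟩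
            = (⟨i, 0, false⟩ : Wr (2 * M))⁻¹ * (q * (⟨i, 0, false⟩ * ⟨0, 0, true⟩ *
              (⟨i, 0, false⟩ : Wr (2 * M))⁻¹)) * ⟨i, 0, false⟩ := by group
          _ = (⟨i, 0, false⟩ : Wr (2 * M))⁻¹ * (⟨i, 0, false⟩ * ⟨0, 0, true⟩ *
              (⟨i, 0, false⟩ : Wr (2 * M))⁻¹ * q) * ⟨i, 0, false⟩ := h1
          _ = ⟨0, 0, true⟩ * ((⟨i, 0, false⟩ : Wr (2 * M))⁻¹ * q * ⟨i, 0, false⟩) := by group
      · calc (⟨i, 0, false⟩ : Wr (2 * M))⁻¹ * q * ⟨i, 0, false⟩ *
              ((⟨i, 0, false⟩ : Wr (2 * M))⁻¹ * q * ⟨i, 0, false⟩)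
            = (⟨i, 0, false⟩ : Wr (2 * M))⁻¹ * (q * q) * ⟨i, 0, false⟩ := by group
          _ = 1 := by rw [hqq]; group
    · simp only [MulEquiv.coe_toMonoidHom, MulAut.conj_apply]
      group
  · rw [Subgroup.card_map_of_injective (MulAut.conj _).injective, card_vee, IsKleinFour.card_four]

end Wr

end Cfsg.Agent.Helper98
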