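import Mathlib
import Cfsg.Agent.Lib.Helper98.WrCenter
import Cfsg.Agent.Lib.Helper98.WrFacts
import Cfsg.Agent.Lib.Helper73.QuatRecog

set_option autoImplicit false
set_option linter.unusedSectionVars false
set_option linter.unusedSimpArgs false
namespace Cfsg.Agent.Helper98

namespace Wr

variable {M : ℕ}

/-- The value `a + b + M·[e]` of the character cutting out the quaternion subgroup. -/
def sigVal (M : ℕ) (p : Wr (2 * M)) : ZMod (2 * M) :=
  p.a + p.b + (if p.e then (M : ZMod (2 * M)) else 0)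

theorem half_add_half (M : ℕ) : (M : ZMod (2 * M)) + (M : ZMod (2 * M)) = 0 := by
  have : ((2 * M : ℕ) : ZMod (2 * M)) = 0 := ZMod.natCast_self _
  rw [← this]
  push_cast
  ring

theorem sigVal_mul (p q : Wr (2 * M)) : sigVal M (p * q) = sigVal M p + sigVal M q := by
  rcases p with ⟨a, b, e⟩
  rcases q with ⟨c, d, f⟩
  have h := half_add_half M
  cases e <;> cases f <;> simp [sigVal]
  · ring
  · ring
  · ring
  · linear_combination -h

/-- The character `Wr (2M) → Z_{2M}` whose kernel is the generalized quaternion subgroup. -/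
def sig (M : ℕ) : Wr (2 * M) →* Multiplicative (ZMod (2 * M)) where
  toFun p := Multiplicative.ofAdd (sigVal M p)
  map_one' := by simp [sigVal, one_def]
  map_mul' p q := by rw [sigVal_mul]; rfl

/-- The generalized quaternion subgroup of `Wr (2M)`. -/
def quat (M : ℕ) : Subgroup (Wr (2 * M)) := (sig M).ker

instance quat_normal : (quat M).Normal := MonoidHom.normal_ker _

theorem mem_quat {p : Wr (2 * M)} : p ∈ quat M ↔ sigVal M p = 0 := by
  unfold quat
  rw [MonoidHom.mem_ker]
  rfl

theorem mem_quat_false {a b : ZMod (2 * M)} : (⟨a, b, false⟩ : Wr (2 * M)) ∈ quat M ↔ a + b = 0 := by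
  rw [mem_quat]; simp [sigVal]

theorem mem_quat_true [NeZero M] {a b : ZMod (2 * M)} :
    (⟨a, b, true⟩ : Wr (2 * M)) ∈ quat M ↔ a + b = M := by
  rw [mem_quat]
  simp only [sigVal, if_true]
  have h := half_add_half M
  constructor
  · intro h1; linear_combination h1 - h
  · intro h1; linear_combination h1 + h

theorem sig_surjective : Function.Surjective (sig M) := by
  intro t
  refine ⟨⟨Multiplicative.toAdd t, 0, false⟩, ?_⟩
  simp [sig, sigVal]

theorem card_quat [NeZero M] : Nat.card (quat M) = 4 * M := by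
  have h1 := Subgroup.card_mul_index (quat M)
  have h2 : (quat M).index = 2 * M := by
    unfold quat
    rw [Subgroup.index_ker, MonoidHom.range_eq_top.mpr sig_surjective, Subgroup.card_top,
      Nat.card_eq_fintype_card, Fintype.card_multiplicative, ZMod.card]
  rw [h2, Nat.card_eq_fintype_card (α := Wr (2 * M)), Wr.card] at h1
  have hM : 0 < M := Nat.pos_of_ne_zero (NeZero.ne M)
  have : Nat.card (quat M) * (2 * M) = (4 * M) * (2 * M) := by rw [h1]; ring
  exact Nat.eq_of_mul_eq_mul_right (by omega) this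


theorem mk_false_pow {N : ℕ} (a b : ZMod N) (k : ℕ) :
    (⟨a, b, false⟩ : Wr N) ^ k = ⟨k • a, k • b, false⟩ := by
  induction k with
  | zero => simp [one_def]
  | succ k ih => rw [pow_succ, ih, mk_mul_mk_false, succ_nsmul, succ_nsmul]

theorem mk_true_sq {N : ℕ} (a b : ZMod N) :
    (⟨a, b, true⟩ : Wr N) ^ 2 = ⟨a + b, a + b, false⟩ := by
  rw [pow_two, mk_mul_mk_true]
  simp [add_comm]

theorem orderOf_mk_false {N : ℕ} (a b : ZMod N) :
    orderOf (⟨a, b, false⟩ : Wr N) = Nat.lcm (addOrderOf a) (addOrderOf b) := by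
  apply Nat.dvd_antisymm
  · rw [orderOf_dvd_iff_pow_eq_one, mk_false_pow, one_def]
    congr 1
    · exact addOrderOf_dvd_iff_nsmul_eq_zero.mp (Nat.dvd_lcm_left _ _)
    · exact addOrderOf_dvd_iff_nsmul_eq_zero.mp (Nat.dvd_lcm_right _ _)
  · have h := pow_orderOf_eq_one (⟨a, b, false⟩ : Wr N)
    rw [mk_false_pow, one_def, Wr.mk.injEq] at h
    exact Nat.lcm_dvd (addOrderOf_dvd_iff_nsmul_eq_zero.mpr h.1)
      (addOrderOf_dvd_iff_nsmul_eq_zero.mpr h.2.1)

theorem orderOf_anti_one {N : ℕ} [NeZero N] : orderOf (⟨1, -1, false⟩ : Wr N) = N := by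
  rw [orderOf_mk_false, addOrderOf_neg, ZMod.addOrderOf_one, Nat.lcm_self]

theorem neg_half (M : ℕ) : -(M : ZMod (2 * M)) = M := by
  have h := half_add_half M
  linear_combination -h

theorem quat_iso [NeZero M] : Nonempty (quat M ≃* QuaternionGroup M) := by
  have ha_mem : (⟨1, -1, false⟩ : Wr (2 * M)) ∈ quat M := mem_quat_false.mpr (by ring)
  have ht_mem : (⟨0, M, true⟩ : Wr (2 * M)) ∈ quat M := mem_quat_true.mpr (by ring)
  refine Cfsg.Agent.Helper73.quat_equiv (a := ⟨_, ha_mem⟩) (t := ⟨_, ht_mem⟩) ?_ ?_ ?_ ?_ card_quat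
  · rw [Subgroup.orderOf_mk, orderOf_anti_one]
  · apply Subtype.ext
    simp only [Subgroup.coe_pow, mk_true_sq, mk_false_pow, zero_add, nsmul_eq_mul, mul_one, mul_neg,
      neg_half]
  · apply Subtype.ext
    have h := half_add_half M
    simp [neg_half]
    linear_combination h
  · intro h
    have hle : Subgroup.zpowers (⟨⟨1, -1, false⟩, ha_mem⟩ : quat M) ≤ (base (2 * M)).subgroupOf (quat M) := by
      rw [Subgroup.zpowers_le]
      rfl
    have := hle h
    simp [Subgroup.mem_subgroupOf, mem_base] at this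


set_option maxRecDepth 100000 in
theorem quat_rel_two : ∀ α β : Wr (2 * 2), α ^ 2 ≠ 1 → β * α * β⁻¹ = α⁻¹ → β ^ 2 = α ^ 2 →
    sigVal 2 α = 0 ∧ sigVal 2 β = 0 := by
  decide


theorem mem_quat_of_rel [NeZero M] (hM : 2 ≤ M) (α β : Wr (2 * M)) (ho : orderOf α = 2 * M)
    (hc : β * α * β⁻¹ = α⁻¹) (hs : β ^ 2 = α ^ M) : α ∈ quat M ∧ β ∈ quat M := by
  have hpow : ∀ k : ℕ, α ^ k = 1 → 2 * M ∣ k := by
    intro k hk
    rw [← ho]
    exact orderOf_dvd_of_pow_eq_one hk
  rcases α with ⟨a, b, e1⟩
  rcases β with ⟨c, d, e2⟩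
  cases e1
  · cases e2
    · -- both in the base: impossible
      exfalso
      simp only [mk_mul_mk_false, inv_mk_false, Wr.mk.injEq, and_true] at hc
      have h2 : (⟨a, b, false⟩ : Wr (2 * M)) ^ 2 = 1 := by
        rw [mk_false_pow, one_def]
        congr 1
        · rw [two_nsmul]; linear_combination hc.1
        · rw [two_nsmul]; linear_combination hc.2
      have := Nat.le_of_dvd (by norm_num) (hpow 2 h2)
      omega
    · simp only [mk_mul_mk_true, mk_mul_mk_false, inv_mk_true, inv_mk_false, Wr.mk.injEq,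
        Bool.not_true, Bool.not_false, and_true] at hc
      have hb : b = -a := by linear_combination hc.1
      subst hb
      refine ⟨mem_quat_false.mpr (by ring), ?_⟩
      rw [mk_true_sq, mk_false_pow, Wr.mk.injEq] at hs
      have h2 : (c + d) + (c + d) = 0 := by
        have h1 := hs.1
        have h2 := hs.2.1
        rw [smul_neg] at h2
        linear_combination h1 + h2
      rcases (zmod_add_self_eq_zero_iff (c + d)).mp h2 with h0 | h0
      · exfalso
        have hM0 : (⟨a, -a, false⟩ : Wr (2 * M)) ^ M = 1 := by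
          rw [mk_false_pow, one_def, ← hs.1, ← hs.2.1, h0]
        have := Nat.le_of_dvd (by omega) (hpow M hM0)
        omega
      · exact mem_quat_true.mpr h0
  · -- α outside the base: forces M = 2
    have hab : (a + b) + (a + b) = 0 := by
      cases e2
      · simp only [mk_mul_mk_true, mk_mul_mk_false, inv_mk_true, inv_mk_false, Wr.mk.injEq,
          Bool.not_true, Bool.not_false, and_true] at hc
        linear_combination hc.1 + hc.2
      · simp only [mk_mul_mk_true, mk_mul_mk_false, inv_mk_true, inv_mk_false, Wr.mk.injEq,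
          Bool.not_true, Bool.not_false, and_true] at hc
        linear_combination hc.1 + hc.2
    have h4 : (⟨a, b, true⟩ : Wr (2 * M)) ^ 4 = 1 := by
      rw [show 4 = 2 * 2 from rfl, pow_mul, mk_true_sq, mk_false_pow, one_def, two_nsmul, hab]
    have h := Nat.le_of_dvd (by norm_num) (hpow 4 h4)
    obtain rfl : M = 2 := by omega
    have hne : (⟨a, b, true⟩ : Wr (2 * 2)) ^ 2 ≠ 1 := by
      intro h2
      have := Nat.le_of_dvd (by norm_num) (hpow 2 h2)
      omega
    have := quat_rel_two _ _ hne hc hs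
    exact ⟨mem_quat.mpr this.1, mem_quat.mpr this.2⟩


theorem quat_unique [NeZero M] (hM : 2 ≤ M) (Y : Subgroup (Wr (2 * M)))
    (hcard : Nat.card Y = 4 * M) (ψ : Y ≃* QuaternionGroup M) : Y = quat M := by
  set f : QuaternionGroup M →* Wr (2 * M) := Y.subtype.comp ψ.symm.toMonoidHom with hf
  have hfinj : Function.Injective f := Y.subtype_injective.comp ψ.symm.injective
  have hfmem : ∀ q, f q ∈ Y := fun q => (ψ.symm q).2
  have ho : orderOf (f (QuaternionGroup.a 1)) = 2 * M := by
    rw [orderOf_injective f hfinj, QuaternionGroup.orderOf_a_one]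
  have hc : f (QuaternionGroup.xa 0) * f (QuaternionGroup.a 1) * (f (QuaternionGroup.xa 0))⁻¹
      = (f (QuaternionGroup.a 1))⁻¹ := by
    have h0 : (QuaternionGroup.a 1 : QuaternionGroup M) * (QuaternionGroup.xa 0 * QuaternionGroup.a 1)
        = QuaternionGroup.xa 0 := by
      rw [QuaternionGroup.xa_mul_a, QuaternionGroup.a_mul_xa]
      congr 1
      ring
    have h : (QuaternionGroup.xa 0 : QuaternionGroup M) * QuaternionGroup.a 1 *
        (QuaternionGroup.xa 0)⁻¹ = (QuaternionGroup.a 1)⁻¹ := by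
      rw [mul_inv_eq_iff_eq_mul, eq_inv_mul_iff_mul_eq]
      exact h0
    rw [← map_inv, ← map_mul, ← map_inv, ← map_mul, h]
  have hs : f (QuaternionGroup.xa 0) ^ 2 = f (QuaternionGroup.a 1) ^ M := by
    rw [← map_pow, ← map_pow, QuaternionGroup.xa_sq, QuaternionGroup.a_one_pow]
  obtain ⟨hα, hβ⟩ := mem_quat_of_rel hM _ _ ho hc hs
  have hle : Y ≤ quat M := by
    intro y hy
    have hy' : y = f (ψ ⟨y, hy⟩) := by
      simp [hf]
    rw [hy']
    cases ψ ⟨y, hy⟩ with
    | a i =>
      have : (QuaternionGroup.a i : QuaternionGroup M) = (QuaternionGroup.a 1) ^ i.val := by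
        rw [QuaternionGroup.a_one_pow, ZMod.natCast_zmod_val]
      rw [this, map_pow]
      exact Subgroup.pow_mem _ hα _
    | xa i =>
      have : (QuaternionGroup.xa i : QuaternionGroup M)
          = QuaternionGroup.xa 0 * (QuaternionGroup.a 1) ^ i.val := by
        rw [QuaternionGroup.a_one_pow, ZMod.natCast_zmod_val, QuaternionGroup.xa_mul_a, zero_add]
      rw [this, map_mul, map_pow]
      exact Subgroup.mul_mem _ hβ (Subgroup.pow_mem _ hα _)
  exact Subgroup.eq_of_le_of_card_ge hle (by rw [card_quat, hcard])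

end Wr
end Cfsg.Agent.Helper98
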