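import Mathlib

set_option autoImplicit false

namespace Cfsg.Agent.Helper98.OddAutFix

variable {G : Type*} [Group G]

/-- If `β x = x * k` with `β k = k`, then `β^j x = x * k^j`. -/
theorem pow_apply_of_mul (β : MulAut G) (x k : G) (hx : β x = x * k) (hk : β k = k) (j : ℕ) :
    (β ^ j) x = x * k ^ j := by
  induction j with
  | zero => simp
  | succ j ih =>
    rw [pow_succ', MulAut.mul_apply, ih, map_mul, map_pow, hx, hk, mul_assoc, ← pow_succ']

theorem eq_one_of_pow_odd_two (k : G) (m r : ℕ) (hm : Odd m) (h1 : k ^ m = 1)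
    (h2 : k ^ (2 ^ r) = 1) : k = 1 := by
  have hcop : Nat.Coprime m (2 ^ r) := Nat.Coprime.pow_right r hm.coprime_two_right
  have := pow_gcd_eq_one.mpr ⟨h1, h2⟩
  rw [hcop] at this
  simpa using this

/-- An automorphism of odd order moving `x` by a fixed `2`-element `k` fixes `x`. -/
theorem fix_of_mul (β : MulAut G) (m : ℕ) (hm : Odd m) (hβ : β ^ m = 1) (x k : G)
    (hx : β x = x * k) (hk : β k = k) (r : ℕ) (hkr : k ^ (2 ^ r) = 1) : β x = x := by
  have h := pow_apply_of_mul β x k hx hk m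
  rw [hβ, MulAut.one_apply] at h
  have hkm : k ^ m = 1 := by
    have h' : x * 1 = x * k ^ m := by rw [mul_one]; exact h
    exact (mul_left_cancel h').symm
  rw [hx, eq_one_of_pow_odd_two k m r hm hkm hkr, mul_one]

/-- An odd order automorphism of a group which fixes all involutions of an invariant
abelian `2`-subgroup fixes that subgroup pointwise. -/
theorem fix_abelian (β : MulAut G) (m : ℕ) (hm : Odd m) (hβ : β ^ m = 1) (H : Subgroup G)
    (hcomm : ∀ x ∈ H, ∀ y ∈ H, x * y = y * x) (hinv : ∀ x ∈ H, β x ∈ H)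
    (h2 : ∀ x ∈ H, ∃ r : ℕ, x ^ (2 ^ r) = 1)
    (hinvol : ∀ x ∈ H, x * x = 1 → β x = x) : ∀ x ∈ H, β x = x := by
  have key : ∀ r : ℕ, ∀ x ∈ H, x ^ (2 ^ r) = 1 → β x = x := by
    intro r
    induction r with
    | zero =>
      intro x _ hx
      simp only [pow_zero, pow_one] at hx
      rw [hx, map_one]
    | succ r ih =>
      intro x hxH hx
      have hy : β (x * x) = x * x := by
        apply ih _ (H.mul_mem hxH hxH)
        rw [← pow_two, ← pow_mul, ← pow_succ']
        exact hx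
      have hbx : β x ∈ H := hinv x hxH
      have hkH : x⁻¹ * β x ∈ H := H.mul_mem (H.inv_mem hxH) hbx
      have hk2 : (x⁻¹ * β x) * (x⁻¹ * β x) = 1 := by
        have hc : β x * x⁻¹ = x⁻¹ * β x := hcomm _ hbx _ (H.inv_mem hxH)
        calc (x⁻¹ * β x) * (x⁻¹ * β x) = x⁻¹ * (β x * x⁻¹) * β x := by group
          _ = x⁻¹ * (x⁻¹ * β x) * β x := by rw [hc]
          _ = x⁻¹ * x⁻¹ * (β x * β x) := by group
          _ = x⁻¹ * x⁻¹ * (x * x) := by rw [← map_mul, hy]
          _ = 1 := by group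
      have hkfix : β (x⁻¹ * β x) = x⁻¹ * β x := hinvol _ hkH hk2
      refine fix_of_mul β m hm hβ x (x⁻¹ * β x) (by group) hkfix 1 ?_
      rw [pow_one, pow_two]
      exact hk2
  intro x hx
  obtain ⟨r, hr⟩ := h2 x hx
  exact key r x hx hr

/-- A finite group in which every element of odd order is trivial is a `2`-group. -/
theorem isPGroup_two_of_odd_trivial {A : Type*} [Group A] [Finite A]
    (h : ∀ β : A, ∀ m : ℕ, Odd m → β ^ m = 1 → β = 1) : IsPGroup 2 A := by
  intro g
  obtain ⟨a, m, hm, ho⟩ := Nat.exists_eq_two_pow_mul_odd (orderOf_pos g).ne'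
  refine ⟨a, ?_⟩
  apply h _ m hm
  rw [← pow_mul, ← ho, pow_orderOf_eq_one]

end Cfsg.Agent.Helper98.OddAutFix
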