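import Mathlib
import Cfsg.Agent.Lib.Helper98.WrSubgroups
import Cfsg.Agent.Lib.Helper98.WrQuat
import Cfsg.Agent.Lib.Helper98.OddAutFix
import Cfsg.Agent.Lib.Helper73.QuatRecog

set_option autoImplicit false
set_option linter.unusedSectionVars false
set_option linter.unusedSimpArgs false
set_option linter.unusedVariables false

namespace Cfsg.Agent.Helper98

namespace Wr

open OddAutFix

variable {M : ℕ} [NeZero M]

theorem zmod_parity (s : ZMod (2 * M)) : ∃ c : ZMod (2 * M), s = c + c ∨ s = c + c + 1 := by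
  have hs : s = (s.val : ZMod (2 * M)) := (ZMod.natCast_zmod_val s).symm
  obtain ⟨c, hc | hc⟩ := Nat.even_or_odd' s.val
  · refine ⟨(c : ZMod (2 * M)), Or.inl ?_⟩
    rw [hs, hc]; push_cast; ring
  · refine ⟨(c : ZMod (2 * M)), Or.inr ?_⟩
    rw [hs, hc]; push_cast; ring

theorem two_mul_cast_eq_zero : ((2 * M : ℕ) : ZMod (2 * M)) = 0 := ZMod.natCast_self _

theorem eq_mk_of_e_false {N : ℕ} {p : Wr N} (h : p.e = false) : p = ⟨p.a, p.b, false⟩ := by
  rcases p with ⟨a, b, e⟩
  simp only at h
  subst h
  rfl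

theorem eq_mk_of_e_true {N : ℕ} {p : Wr N} (h : p.e = true) : p = ⟨p.a, p.b, true⟩ := by
  rcases p with ⟨a, b, e⟩
  simp only at h
  subst h
  rfl

theorem e_true_of_not_mem_base {N : ℕ} {p : Wr N} (h : p ∉ base N) : p.e = true := by
  rw [mem_base] at h
  simpa using h

/-- elements of the base group have order dividing `N`. -/
theorem base_pow_eq_one {p : Wr (2 * M)} (hp : p ∈ base (2 * M)) : p ^ (2 * M) = 1 := by
  rw [eq_mk_of_e_false hp, mk_false_pow, one_def]
  simp only [nsmul_eq_mul, two_mul_cast_eq_zero, zero_mul]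

theorem base_pow_two_pow (n : ℕ) (hN : 2 * M = 2 ^ n) {p : Wr (2 * M)} (hp : p ∈ base (2 * M)) :
    p ^ (2 ^ n) = 1 := by
  rw [← hN]; exact base_pow_eq_one hp

theorem sq_mem_base {N : ℕ} (p : Wr N) : p * p ∈ base N := by
  rw [mem_base, mul_e]; cases p.e <;> rfl

theorem pow_two_pow_succ (n : ℕ) (hN : 2 * M = 2 ^ n) (p : Wr (2 * M)) :
    p ^ (2 ^ (n + 1)) = 1 := by
  rw [pow_succ', pow_mul, pow_two]
  exact base_pow_two_pow n hN (sq_mem_base p)

/-- The central involution. -/
def z0 (M : ℕ) : Wr (2 * M) := ⟨M, M, false⟩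

theorem z0_mem_diag : z0 M ∈ diag (2 * M) := ⟨rfl, rfl⟩

theorem z0_ne_one : z0 M ≠ 1 := by
  intro h
  rw [z0, one_def, Wr.mk.injEq] at h
  exact zmod_half_ne_zero h.1

theorem z0_mul_self : z0 M * z0 M = 1 := by
  rw [z0, mk_mul_mk_false, one_def, half_add_half]

theorem diag_invol {p : Wr (2 * M)} (hp : p ∈ diag (2 * M)) (h2 : p * p = 1) :
    p = 1 ∨ p = z0 M := by
  obtain ⟨he, hab⟩ := hp
  rw [eq_mk_of_e_false he, mk_mul_mk_false, one_def, Wr.mk.injEq] at h2
  rcases (zmod_add_self_eq_zero_iff _).mp h2.1 with h | h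
  · left
    rw [eq_mk_of_e_false he, one_def, ← hab, h]
  · right
    rw [eq_mk_of_e_false he, z0, ← hab, h]

theorem diag_commute {p : Wr (2 * M)} (hp : p ∈ diag (2 * M)) (q : Wr (2 * M)) : p * q = q * p := by
  have hM : 0 < M := Nat.pos_of_ne_zero (NeZero.ne M)
  have : p ∈ Subgroup.center (Wr (2 * M)) := by
    rw [center_eq (by omega)]; exact hp
  exact (Subgroup.mem_center_iff.mp this q).symm

theorem sub_eq_half {a b : ZMod (2 * M)} (ha : a + a = 0) (hb : b + b = 0) (hab : a ≠ b) :
    a - b = M := by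
  rcases (zmod_add_self_eq_zero_iff _).mp ha with rfl | rfl <;>
    rcases (zmod_add_self_eq_zero_iff _).mp hb with rfl | rfl
  · exact absurd rfl hab
  · rw [zero_sub, neg_half]
  · rw [sub_zero]
  · exact absurd rfl hab

section main

variable (n : ℕ) (hN : 2 * M = 2 ^ n) (X : Subgroup (Wr (2 * M))) (hZ : diag (2 * M) ≤ X)
include hN hZ

/-- The main lemma: an odd order automorphism of `X` preserving `X ∩ base` and fixing the
central involution is trivial. -/
theorem aut_eq_one (w : Wr (2 * M)) (hwX : w ∈ X) (hw : w ∉ base (2 * M))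
    (β : MulAut X) (m : ℕ) (hm : Odd m) (hβ : β ^ m = 1)
    (hA : ∀ x : X, x.1 ∈ base (2 * M) → (β x).1 ∈ base (2 * M))
    (hz : ∀ x : X, x.1 = z0 M → β x = x) : β = 1 := by
  -- the subgroup X ∩ base of X
  set H : Subgroup X := (base (2 * M)).subgroupOf X with hH
  have hmemH : ∀ x : X, x ∈ H ↔ x.1 ∈ base (2 * M) := fun x => Subgroup.mem_subgroupOf
  have hone : ∀ x : X, x.1 = 1 → β x = x := by
    intro x hx
    have : x = 1 := Subtype.ext hx
    rw [this, map_one]
  have hdiag2 : ∀ k : X, k.1 ∈ diag (2 * M) → k * k = 1 → β k = k := by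
    intro k hk hk2
    have hk2' : k.1 * k.1 = 1 := by
      have := congrArg Subtype.val hk2
      simpa using this
    rcases diag_invol hk hk2' with h | h
    · exact hone k h
    · exact hz k h
  have hfixH : ∀ x ∈ H, β x = x := by
    apply fix_abelian β m hm hβ H
    · intro x hx y hy
      exact Subtype.ext (base_mul_comm ((hmemH x).mp hx) ((hmemH y).mp hy))
    · intro x hx
      exact (hmemH _).mpr (hA x ((hmemH x).mp hx))
    · intro x hx
      refine ⟨n, Subtype.ext ?_⟩
      rw [Subgroup.coe_pow]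
      exact base_pow_two_pow n hN ((hmemH x).mp hx)
    · intro x hx hx2
      have hxb : x.1 ∈ base (2 * M) := (hmemH x).mp hx
      have hyb : (β x).1 ∈ base (2 * M) := hA x hxb
      have hx2' : x.1 * x.1 = 1 := by
        have := congrArg Subtype.val hx2
        simpa using this
      have hy2 : β x * β x = 1 := by rw [← map_mul, hx2, map_one]
      have hy2' : (β x).1 * (β x).1 = 1 := by
        have := congrArg Subtype.val hy2
        simpa using this
      by_cases hxd : x.1 ∈ diag (2 * M)
      · exact hdiag2 x hxd hx2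
      · have hyd : (β x).1 ∉ diag (2 * M) := by
          intro hyd
          have h1 : β (β x) = β x := hdiag2 _ hyd hy2
          have h2 : β x = x := β.injective h1
          rw [h2] at hyd
          exact hxd hyd
        -- coordinates
        have ex := eq_mk_of_e_false hxb
        have ey := eq_mk_of_e_false hyb
        rw [ex, mk_mul_mk_false, one_def, Wr.mk.injEq] at hx2'
        rw [ey, mk_mul_mk_false, one_def, Wr.mk.injEq] at hy2'
        have hxab : x.1.a ≠ x.1.b := fun h => hxd ⟨hxb, h⟩
        have hyab : (β x).1.a ≠ (β x).1.b := fun h => hyd ⟨hyb, h⟩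
        have d1 := sub_eq_half hx2'.1 hx2'.2.1 hxab
        have d2 := sub_eq_half hy2'.1 hy2'.2.1 hyab
        have hkd : (x⁻¹ * β x).1 ∈ diag (2 * M) := by
          rw [Subgroup.coe_mul, Subgroup.coe_inv, ex, ey, inv_mk_false, mk_mul_mk_false]
          refine ⟨rfl, ?_⟩
          show -x.1.a + (β x).1.a = -x.1.b + (β x).1.b
          linear_combination d2 - d1
        have hk2 : (x⁻¹ * β x) * (x⁻¹ * β x) = 1 := by
          apply Subtype.ext
          have hc : (β x).1 * (x.1)⁻¹ = (x.1)⁻¹ * (β x).1 :=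
            base_mul_comm hyb ((base (2 * M)).inv_mem hxb)
          simp only [Subgroup.coe_mul, Subgroup.coe_inv, Subgroup.coe_one]
          calc (x.1)⁻¹ * (β x).1 * ((x.1)⁻¹ * (β x).1)
              = (x.1)⁻¹ * ((β x).1 * (x.1)⁻¹) * (β x).1 := by group
            _ = (x.1)⁻¹ * ((x.1)⁻¹ * (β x).1) * (β x).1 := by rw [hc]
            _ = (x.1)⁻¹ * (x.1)⁻¹ * ((β x).1 * (β x).1) := by group
            _ = (x.1)⁻¹ * (x.1)⁻¹ * (x.1 * x.1) := by
                have h1 : (β x).1 * (β x).1 = 1 := by
                  have := congrArg Subtype.val hy2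
                  simpa using this
                have h2 : x.1 * x.1 = 1 := by
                  have := congrArg Subtype.val hx2
                  simpa using this
                rw [h1, h2]
            _ = 1 := by group
        have hkfix := hdiag2 _ hkd hk2
        refine fix_of_mul β m hm hβ x (x⁻¹ * β x) (by group) hkfix 1 ?_
        rw [pow_one, pow_two]
        exact hk2
  -- the element w
  set wX : X := ⟨w, hwX⟩ with hwXdef
  have hbw : (β wX).1 ∉ base (2 * M) := by
    intro h
    have h1 : β (β wX) = β wX := hfixH _ ((hmemH _).mpr h)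
    have h2 : β wX = wX := β.injective h1
    rw [h2] at h
    exact hw h
  have hwfix : β wX = wX := by
    have hk : (wX⁻¹ * β wX) ∈ H := by
      rw [hmemH, Subgroup.coe_mul, Subgroup.coe_inv, mem_base, mul_e, inv_e,
        e_true_of_not_mem_base hw, e_true_of_not_mem_base hbw]
      rfl
    refine fix_of_mul β m hm hβ wX (wX⁻¹ * β wX) (by group) (hfixH _ hk) n ?_
    apply Subtype.ext
    rw [Subgroup.coe_pow]
    exact base_pow_two_pow n hN ((hmemH _).mp hk)
  apply MulEquiv.ext
  intro x
  rw [MulAut.one_apply]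
  by_cases hx : x.1 ∈ base (2 * M)
  · rw [hfixH x ((hmemH x).mpr hx)]
  · have hk : x * wX⁻¹ ∈ H := by
      rw [hmemH]
      exact mul_inv_mem_base hx hw
    have : x = (x * wX⁻¹) * wX := by group
    rw [this, map_mul, hfixH _ hk, hwfix]

end main


section cases

variable (X : Subgroup (Wr (2 * M))) (hZ : diag (2 * M) ≤ X)

/-- Case (a): if `X ∩ base` contains `h` with `2 (h.a - h.b) ≠ 0`, then `X ∩ base` is invariant
under all automorphisms of `X`. -/
theorem base_inv_of_nonab (h : Wr (2 * M)) (hhX : h ∈ X) (hh : h ∈ base (2 * M))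
    (hne : (h.a - h.b) + (h.a - h.b) ≠ 0) (γ : MulAut X) (x : X) (hx : x.1 ∈ base (2 * M)) :
    (γ x).1 ∈ base (2 * M) := by
  by_contra hy
  set hX : X := ⟨h, hhX⟩ with hXdef
  set s : X := γ.symm hX * γ.symm hX with hs
  have hsb : s.1 ∈ base (2 * M) := by
    rw [hs, Subgroup.coe_mul]; exact sq_mem_base _
  have hγs : γ s = hX * hX := by rw [hs, map_mul, MulEquiv.apply_symm_apply]
  have hcomm : x * s = s * x := Subtype.ext (base_mul_comm hx hsb)
  have h1 : γ x * (hX * hX) = (hX * hX) * γ x := by
    rw [← hγs, ← map_mul, ← map_mul, hcomm]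
  have h2 : (h * h) * (γ x).1 = (γ x).1 * (h * h) := by
    have := congrArg Subtype.val h1
    simpa using this.symm
  have h3 := mem_diag_of_commute (sq_mem_base h) hy h2
  have eh := eq_mk_of_e_false hh
  rw [eh, mk_mul_mk_false] at h3
  apply hne
  have : h.a + h.a = h.b + h.b := h3.2
  linear_combination this

include hZ in
theorem z0_fixed_of_nonab (h : Wr (2 * M)) (hhX : h ∈ X) (hh : h ∈ base (2 * M))
    (hne : (h.a - h.b) + (h.a - h.b) ≠ 0) (w : Wr (2 * M)) (hwX : w ∈ X) (hw : w ∉ base (2 * M))
    (γ : MulAut X) (z : X) (hz : z.1 = z0 M) : γ z = z := by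
  have hzb : z.1 ∈ base (2 * M) := by rw [hz]; exact diag_le_base z0_mem_diag
  have hcb : (γ z).1 ∈ base (2 * M) := base_inv_of_nonab X h hhX hh hne γ z hzb
  set wX : X := ⟨w, hwX⟩ with hwXdef
  have hzc : ∀ u : X, z * u = u * z := by
    intro u
    apply Subtype.ext
    simp only [Subgroup.coe_mul]
    rw [hz]
    exact diag_commute z0_mem_diag _
  have hcw : γ z * wX = wX * γ z := by
    have : wX = γ (γ.symm wX) := (MulEquiv.apply_symm_apply γ wX).symm
    rw [this, ← map_mul, ← map_mul, hzc]
  have hcw' : (γ z).1 * w = w * (γ z).1 := by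
    have := congrArg Subtype.val hcw
    simpa using this
  have hcd : (γ z).1 ∈ diag (2 * M) := mem_diag_of_commute hcb hw hcw'
  have hc2 : (γ z).1 * (γ z).1 = 1 := by
    have hz2 : z * z = 1 := by
      apply Subtype.ext
      simp only [Subgroup.coe_mul, Subgroup.coe_one]
      rw [hz]; exact z0_mul_self
    have : γ z * γ z = 1 := by rw [← map_mul, hz2, map_one]
    have := congrArg Subtype.val this
    simpa using this
  rcases diag_invol hcd hc2 with h1 | h1
  · exfalso
    have : γ z = 1 := Subtype.ext h1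
    have hz1 : z = 1 := by
      have := γ.injective (this.trans (map_one γ).symm)
      exact this
    apply z0_ne_one (M := M)
    rw [← hz, hz1]; rfl
  · exact Subtype.ext (h1.trans hz.symm)

/-- Case P1: elements outside the base have `N`-th power `z0`. -/
theorem pow_eq_z0_of_odd (hP1 : ∀ w ∈ X, w ∉ base (2 * M) → w * w ≠ 1) (hZ : diag (2 * M) ≤ X)
    (x : Wr (2 * M)) (hxX : x ∈ X) (hx : x ∉ base (2 * M)) : x ^ (2 * M) = z0 M := by
  have ex := eq_mk_of_e_true (e_true_of_not_mem_base hx)
  obtain ⟨c, hc | hc⟩ := zmod_parity (x.a + x.b)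
  · exfalso
    have hmem : x * ⟨-c, -c, false⟩ ∈ X := X.mul_mem hxX (hZ ⟨rfl, rfl⟩)
    refine hP1 _ hmem ?_ ?_
    · rw [mem_base, mul_e, e_true_of_not_mem_base hx]; simp
    · rw [ex]
      simp only [mk_mul_mk_true, mk_mul_mk_false, Bool.not_false, Bool.not_true, one_def,
        Wr.mk.injEq, and_true]
      constructor <;> linear_combination hc
  · rw [pow_mul, ex, mk_true_sq, mk_false_pow, z0, hc]
    have h0 : ((2 * M : ℕ) : ZMod (2 * M)) = 0 := two_mul_cast_eq_zero
    push_cast at h0
    simp only [nsmul_eq_mul, Wr.mk.injEq, and_true]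
    constructor <;> linear_combination (c) * h0

theorem base_iff_pow_of_odd (hP1 : ∀ w ∈ X, w ∉ base (2 * M) → w * w ≠ 1) (hZ : diag (2 * M) ≤ X)
    (x : X) : x.1 ∈ base (2 * M) ↔ x ^ (2 * M) = 1 := by
  constructor
  · intro h
    apply Subtype.ext
    rw [Subgroup.coe_pow]
    exact base_pow_eq_one h
  · intro h
    by_contra hx
    have := pow_eq_z0_of_odd X hP1 hZ x.1 x.2 hx
    have h' : x.1 ^ (2 * M) = 1 := by
      have := congrArg Subtype.val h
      simpa using this
    rw [h'] at this
    exact z0_ne_one this.symm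

theorem base_inv_of_odd (hP1 : ∀ w ∈ X, w ∉ base (2 * M) → w * w ≠ 1) (hZ : diag (2 * M) ≤ X)
    (γ : MulAut X) (x : X) (hx : x.1 ∈ base (2 * M)) : (γ x).1 ∈ base (2 * M) := by
  rw [base_iff_pow_of_odd X hP1 hZ] at hx ⊢
  rw [← map_pow, hx, map_one]

theorem z0_fixed_of_odd (hP1 : ∀ w ∈ X, w ∉ base (2 * M) → w * w ≠ 1) (hZ : diag (2 * M) ≤ X)
    (w : Wr (2 * M)) (hwX : w ∈ X) (hw : w ∉ base (2 * M))
    (γ : MulAut X) (z : X) (hz : z.1 = z0 M) : γ z = z := by
  set wX : X := ⟨w, hwX⟩ with hwXdef
  have h1 : wX ^ (2 * M) = z := by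
    apply Subtype.ext
    rw [Subgroup.coe_pow, hz]
    exact pow_eq_z0_of_odd X hP1 hZ w hwX hw
  have hγw : (γ wX).1 ∉ base (2 * M) := by
    intro h
    have := base_inv_of_odd X hP1 hZ γ.symm (γ wX) h
    rw [MulEquiv.symm_apply_apply] at this
    exact hw this
  have h2 : (γ wX) ^ (2 * M) = z := by
    apply Subtype.ext
    rw [Subgroup.coe_pow, hz]
    exact pow_eq_z0_of_odd X hP1 hZ _ (γ wX).2 hγw
  rw [← h1, map_pow, h2, h1]

end cases


section abelian

variable (n : ℕ) (hN : 2 * M = 2 ^ n) (K : ℕ) (hK : M = 2 * K)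
  (X : Subgroup (Wr (2 * M))) (hZ : diag (2 * M) ≤ X)

theorem half_cast (K : ℕ) (hK : M = 2 * K) : (K : ZMod (2 * M)) + (K : ZMod (2 * M)) = M := by
  have : ((K + K : ℕ) : ZMod (2 * M)) = ((M : ℕ) : ZMod (2 * M)) := by
    congr 1; omega
  push_cast at this
  exact this

theorem sq_mem_diag_of (hX0 : ∀ x ∈ X, x ∈ base (2 * M) → x ∈ diag (2 * M))
    (y : Wr (2 * M)) (hy : y ∈ X) : y * y ∈ diag (2 * M) := by
  by_cases hyb : y ∈ base (2 * M)
  · exact (diag (2 * M)).mul_mem (hX0 y hy hyb) (hX0 y hy hyb)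
  · rw [eq_mk_of_e_true (e_true_of_not_mem_base hyb), mk_mul_mk_true]
    exact ⟨rfl, by show y.a + y.b = y.b + y.a; ring⟩

theorem comm_of_base_le_diag (hX0 : ∀ x ∈ X, x ∈ base (2 * M) → x ∈ diag (2 * M))
    (x y : Wr (2 * M)) (hx : x ∈ X) (hy : y ∈ X) : x * y = y * x := by
  by_cases hxb : x ∈ base (2 * M)
  · exact diag_commute (hX0 x hx hxb) y
  · by_cases hyb : y ∈ base (2 * M)
    · exact (diag_commute (hX0 y hy hyb) x).symm
    · have hd : x * y⁻¹ ∈ diag (2 * M) :=
        hX0 _ (X.mul_mem hx (X.inv_mem hy)) (mul_inv_mem_base hxb hyb)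
      have h1 := diag_commute hd y
      calc x * y = (x * y⁻¹ * y) * y := by group
        _ = (y * (x * y⁻¹)) * y := by rw [h1]
        _ = y * x := by group

include hN hK hZ in
/-- Case (d0): `X ∩ base = diag` and `M` even: odd order automorphisms of `X` are trivial. -/
theorem aut_eq_one_abelian (hX0 : ∀ x ∈ X, x ∈ base (2 * M) → x ∈ diag (2 * M))
    (β : MulAut X) (m : ℕ) (hm : Odd m) (hβ : β ^ m = 1) : β = 1 := by
  have hcomm : ∀ x y : X, x * y = y * x := fun x y =>
    Subtype.ext (comm_of_base_le_diag X hX0 x.1 y.1 x.2 y.2)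
  have hone : ∀ x : X, x.1 = 1 → β x = x := by
    intro x hx
    have : x = 1 := Subtype.ext hx
    rw [this, map_one]
  -- z0 is fixed
  have hz : ∀ z : X, z.1 = z0 M → β z = z := by
    intro z hz
    set q : X := ⟨⟨K, K, false⟩, hZ ⟨rfl, rfl⟩⟩ with hq
    have hqq : q * q = z := by
      apply Subtype.ext
      rw [Subgroup.coe_mul, hz, hq]
      simp only [mk_mul_mk_false, z0, half_cast K hK]
    have h1 : β z = β q * β q := by rw [← map_mul, hqq]
    have hd : (β z).1 ∈ diag (2 * M) := by
      rw [h1, Subgroup.coe_mul]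
      exact sq_mem_diag_of X hX0 _ (β q).2
    have hz2 : z * z = 1 := by
      apply Subtype.ext
      simp only [Subgroup.coe_mul, Subgroup.coe_one]
      rw [hz]; exact z0_mul_self
    have h2 : (β z).1 * (β z).1 = 1 := by
      have : β z * β z = 1 := by rw [← map_mul, hz2, map_one]
      have := congrArg Subtype.val this
      simpa using this
    rcases diag_invol hd h2 with h3 | h3
    · exfalso
      have : β z = 1 := Subtype.ext h3
      have hz1 : z = 1 := β.injective (this.trans (map_one β).symm)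
      apply z0_ne_one (M := M)
      rw [← hz, hz1]; rfl
    · exact Subtype.ext (h3.trans hz.symm)
  have hdiag2 : ∀ k : X, k.1 ∈ diag (2 * M) → k * k = 1 → β k = k := by
    intro k hk hk2
    have hk2' : k.1 * k.1 = 1 := by
      have := congrArg Subtype.val hk2
      simpa using this
    rcases diag_invol hk hk2' with h | h
    · exact hone k h
    · exact hz k h
  have hfix : ∀ x ∈ (⊤ : Subgroup X), β x = x := by
    apply fix_abelian β m hm hβ ⊤
    · intro x _ y _
      exact hcomm x y
    · intro x _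
      exact Subgroup.mem_top _
    · intro x _
      refine ⟨n + 1, Subtype.ext ?_⟩
      rw [Subgroup.coe_pow]
      exact pow_two_pow_succ n hN x.1
    · intro x _ hx2
      by_cases hxb : x.1 ∈ base (2 * M)
      · exact hdiag2 x (hX0 x.1 x.2 hxb) hx2
      · have hy2 : β x * β x = 1 := by rw [← map_mul, hx2, map_one]
        have hyb : (β x).1 ∉ base (2 * M) := by
          intro hyb
          have h1 : β (β x) = β x := hdiag2 _ (hX0 _ (β x).2 hyb) hy2
          have h2 : β x = x := β.injective h1
          rw [h2] at hyb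
          exact hxb hyb
        have hkb : (x⁻¹ * β x).1 ∈ base (2 * M) := by
          rw [Subgroup.coe_mul, Subgroup.coe_inv, mem_base, mul_e, inv_e,
            e_true_of_not_mem_base hxb, e_true_of_not_mem_base hyb]
          rfl
        have hk2 : (x⁻¹ * β x) * (x⁻¹ * β x) = 1 := by
          calc (x⁻¹ * β x) * (x⁻¹ * β x) = x⁻¹ * (β x * x⁻¹) * β x := by group
            _ = x⁻¹ * (x⁻¹ * β x) * β x := by rw [hcomm (β x) x⁻¹]
            _ = x⁻¹ * x⁻¹ * (β x * β x) := by group
            _ = x⁻¹ * x⁻¹ * (x * x) := by rw [hy2, hx2]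
            _ = 1 := by group
        have hkfix := hdiag2 _ (hX0 _ (x⁻¹ * β x).2 hkb) hk2
        refine fix_of_mul β m hm hβ x (x⁻¹ * β x) (by group) hkfix 1 ?_
        rw [pow_one, pow_two]
        exact hk2
  apply MulEquiv.ext
  intro x
  rw [MulAut.one_apply]
  exact hfix x (Subgroup.mem_top _)

end abelian


section good

/-- The model subgroup `Q₈ ∘ Z(S)`: pairs whose difference is killed by `2`. -/
def good (M : ℕ) : Subgroup (Wr (2 * M)) where
  carrier := {p | (p.a - p.b) + (p.a - p.b) = 0}
  mul_mem' {p q} hp hq := by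
    rcases p with ⟨a, b, e⟩; rcases q with ⟨c, d, f⟩
    simp only [Set.mem_ofPred_eq] at *
    cases e
    · simp only [mk_mul_mk_false]
      linear_combination hp + hq
    · simp only [mk_mul_mk_true]
      linear_combination hp - hq
  one_mem' := by
    simp only [Set.mem_ofPred_eq, one_a, one_b]; ring
  inv_mem' {p} hp := by
    rcases p with ⟨a, b, e⟩
    simp only [Set.mem_ofPred_eq] at *
    cases e
    · simp only [inv_mk_false]
      linear_combination -hp
    · simp only [inv_mk_true]
      linear_combination hp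

theorem mem_good {p : Wr (2 * M)} : p ∈ good M ↔ (p.a - p.b) + (p.a - p.b) = 0 := Iff.rfl

theorem diag_le_good : diag (2 * M) ≤ good M := by
  intro p hp
  rw [mem_good, hp.2]; ring

theorem good_not_comm : ¬ IsMulCommutative (good M) := by
  intro h
  have h1 : (⟨M, 0, false⟩ : Wr (2 * M)) ∈ good M := by
    rw [mem_good]; simp only [sub_zero]; exact half_add_half M
  have h2 : (⟨0, 0, true⟩ : Wr (2 * M)) ∈ good M := by
    rw [mem_good]; simp
  have := setLike_mul_comm h1 h2
  simp only [mk_mul_mk_false, mk_mul_mk_true, Wr.mk.injEq, add_zero, zero_add, and_true] at this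
  exact zmod_half_ne_zero this.1

variable (X : Subgroup (Wr (2 * M))) (hZ : diag (2 * M) ≤ X)

include hZ in
/-- The good case: `X` is conjugate to the model. -/
theorem exists_conj_good (w : Wr (2 * M)) (hwX : w ∈ X) (hw : w ∉ base (2 * M)) (hw2 : w * w = 1)
    (hD : ∀ h ∈ X, h ∈ base (2 * M) → (h.a - h.b) + (h.a - h.b) = 0)
    (h₀ : Wr (2 * M)) (h₀X : h₀ ∈ X) (h₀b : h₀ ∈ base (2 * M)) (h₀d : h₀ ∉ diag (2 * M)) :
    ∃ g : Wr (2 * M), (good M).map (MulAut.conj g).toMonoidHom = X := by
  have ew := eq_mk_of_e_true (e_true_of_not_mem_base hw)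
  have hsum : w.a + w.b = 0 := by
    rw [ew, mk_mul_mk_true, one_def, Wr.mk.injEq] at hw2
    exact hw2.1
  have eh := eq_mk_of_e_false h₀b
  have hd0 : h₀.a - h₀.b = M := by
    rcases (zmod_add_self_eq_zero_iff _).mp (hD h₀ h₀X h₀b) with h | h
    · exfalso
      exact h₀d ⟨h₀b, sub_eq_zero.mp h⟩
    · exact h
  -- membership of base elements of `good` in X
  have hbase : ∀ a b : ZMod (2 * M), (a - b) + (a - b) = 0 → (⟨a, b, false⟩ : Wr (2 * M)) ∈ X := by
    intro a b hab
    rcases (zmod_add_self_eq_zero_iff _).mp hab with h | h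
    · apply hZ
      exact ⟨rfl, sub_eq_zero.mp h⟩
    · have h1 : (⟨a - h₀.a, a - h₀.a, false⟩ : Wr (2 * M)) ∈ X := hZ ⟨rfl, rfl⟩
      have h2 := X.mul_mem h₀X h1
      rw [eh, mk_mul_mk_false] at h2
      have e1 : h₀.a + (a - h₀.a) = a := by ring
      have e2 : h₀.b + (a - h₀.a) = b := by linear_combination h - hd0
      rwa [e1, e2] at h2
  refine ⟨⟨w.a, 0, false⟩, ?_⟩
  ext x
  rw [Subgroup.mem_map]
  constructor
  · rintro ⟨y, hy, rfl⟩
    simp only [MulEquiv.coe_toMonoidHom, MulAut.conj_apply]
    rcases y with ⟨a, b, e⟩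
    rw [mem_good] at hy
    simp only at hy
    cases e
    · simp only [mk_mul_mk_false, inv_mk_false]
      have e1 : w.a + a + -w.a = a := by ring
      have e2 : (0 : ZMod (2 * M)) + b + -0 = b := by ring
      rw [e1, e2]
      exact hbase a b hy
    · simp only [mk_mul_mk_false, inv_mk_false, mk_mul_mk_true, Bool.not_false]
      have h1 := X.mul_mem (hbase a b hy) hwX
      rw [ew, mk_mul_mk_false] at h1
      have e1 : w.a + a + -0 = a + w.a := by ring
      have e2 : (0 : ZMod (2 * M)) + b + -w.a = b + w.b := by linear_combination -hsum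
      rw [e1, e2]
      exact h1
  · intro hx
    refine ⟨(⟨w.a, 0, false⟩ : Wr (2 * M))⁻¹ * x * ⟨w.a, 0, false⟩, ?_, ?_⟩
    · rcases x with ⟨a, b, e⟩
      rw [mem_good]
      cases e
      · simp only [mk_mul_mk_false, inv_mk_false]
        have := hD _ hx rfl
        simp only at this
        linear_combination this
      · simp only [mk_mul_mk_false, inv_mk_false, mk_mul_mk_true, Bool.not_false]
        have h1 := X.mul_mem hx hwX
        rw [ew, mk_mul_mk_true] at h1
        have := hD _ h1 rfl
        simp only at this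
        linear_combination this - 2 * hsum
    · simp only [MulEquiv.coe_toMonoidHom, MulAut.conj_apply]
      group

end good


section classify

/-- Classification of self-centralizing subgroups with an automorphism of odd order. -/
theorem classify (n : ℕ) (hN : 2 * M = 2 ^ n) (K : ℕ) (hK : M = 2 * K)
    (X : Subgroup (Wr (2 * M))) (hC : Subgroup.centralizer (X : Set (Wr (2 * M))) ≤ X)
    (hA : ¬ IsPGroup 2 (MulAut X)) :
    X = base (2 * M) ∨ ∃ g : Wr (2 * M), (good M).map (MulAut.conj g).toMonoidHom = X := by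
  by_cases hXA : X ≤ base (2 * M)
  · left
    apply le_antisymm hXA
    intro p hp
    apply hC
    rw [Subgroup.mem_centralizer_iff]
    intro x hx
    exact base_mul_comm (hXA hx) hp
  · right
    obtain ⟨w, hwX, hw⟩ := SetLike.not_le_iff_exists.mp hXA
    have hZ : diag (2 * M) ≤ X := by
      intro p hp
      apply hC
      rw [Subgroup.mem_centralizer_iff]
      intro x _
      exact (diag_commute hp x).symm
    by_contra hno
    apply hA
    apply isPGroup_two_of_odd_trivial
    intro β m hm hβ
    by_cases ha : ∃ h ∈ X, h ∈ base (2 * M) ∧ (h.a - h.b) + (h.a - h.b) ≠ 0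
    · obtain ⟨h, hhX, hh, hne⟩ := ha
      exact aut_eq_one n hN X hZ w hwX hw β m hm hβ
        (fun x hx => base_inv_of_nonab X h hhX hh hne β x hx)
        (fun z hz => z0_fixed_of_nonab X hZ h hhX hh hne w hwX hw β z hz)
    · push Not at ha
      by_cases hP1 : ∀ w ∈ X, w ∉ base (2 * M) → w * w ≠ 1
      · exact aut_eq_one n hN X hZ w hwX hw β m hm hβ
          (fun x hx => base_inv_of_odd X hP1 hZ β x hx)
          (fun z hz => z0_fixed_of_odd X hP1 hZ w hwX hw β z hz)
      · push Not at hP1
        obtain ⟨w₁, hw₁X, hw₁, hw₁2⟩ := hP1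
        by_cases hX0 : ∀ x ∈ X, x ∈ base (2 * M) → x ∈ diag (2 * M)
        · exact aut_eq_one_abelian n hN K hK X hZ hX0 β m hm hβ
        · push Not at hX0
          obtain ⟨h₀, h₀X, h₀b, h₀d⟩ := hX0
          exact absurd (exists_conj_good X hZ w₁ hw₁X hw₁ hw₁2 ha h₀ h₀X h₀b h₀d) hno

theorem relIndex_base : (base (2 * M)).relIndex (Subgroup.normalizer (base (2 * M) : Set (Wr (2 * M)))) = 2 := by
  rw [Subgroup.normalizer_eq_top, Subgroup.relIndex_top_right, index_base]

/-- The normalizer of the model subgroup has index two over it. -/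
theorem relIndex_good (K : ℕ) (hK : M = 2 * K) :
    (good M).relIndex (Subgroup.normalizer (good M : Set (Wr (2 * M)))) = 2 := by
  have hKK := half_cast K hK
  have hMM := half_add_half M
  rw [Subgroup.relIndex_eq_two_iff]
  refine ⟨⟨K, 0, false⟩, ?_, ?_⟩
  · rw [Subgroup.mem_normalizer_iff]
    intro p
    rcases p with ⟨c, d, f⟩
    rw [mem_good, mem_good]
    cases f
    · simp only [mk_mul_mk_false, inv_mk_false]
      constructor <;> intro h <;> linear_combination h
    · simp only [mk_mul_mk_false, inv_mk_false, mk_mul_mk_true, Bool.not_false]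
      constructor <;> intro h
      · linear_combination h + 2 * hKK + hMM
      · linear_combination h - 2 * hKK - hMM
  · intro b hb
    have h4 : (b.a - b.b) + (b.a - b.b) + ((b.a - b.b) + (b.a - b.b)) = 0 := by
      rw [Subgroup.mem_normalizer_iff] at hb
      have ht : (⟨0, 0, true⟩ : Wr (2 * M)) ∈ good M := by rw [mem_good]; simp
      have := (hb _).mp ht
      rcases b with ⟨s1, s2, e⟩
      rw [mem_good] at this
      cases e
      · simp only [mk_mul_mk_false, inv_mk_false, mk_mul_mk_true, Bool.not_false] at this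
        simp only
        linear_combination this
      · simp only [mk_mul_mk_false, inv_mk_true, mk_mul_mk_true, Bool.not_false,
          Bool.not_true] at this
        simp only
        linear_combination this
    have hba : (b * ⟨K, 0, false⟩ ∈ good M) ↔ (b.a - b.b) + (b.a - b.b) + M = 0 := by
      rcases b with ⟨s1, s2, e⟩
      rw [mem_good]
      cases e
      · simp only [mk_mul_mk_false]
        constructor <;> intro h
        · linear_combination h - hKK
        · linear_combination h + hKK
      · simp only [mk_mul_mk_true, Bool.not_false]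
        constructor <;> intro h
        · linear_combination h + hKK + hMM
        · linear_combination h - hKK - hMM
    rw [hba, mem_good]
    rcases (zmod_add_self_eq_zero_iff _).mp h4 with h | h
    · refine Or.inr ⟨h, ?_⟩
      rw [h, zero_add]
      exact zmod_half_ne_zero
    · refine Or.inl ⟨?_, ?_⟩
      · rw [h]; exact hMM
      · rw [h]; exact zmod_half_ne_zero

/-- The model subgroup is `Q ⊔ Z(S)` with `Q ≅ Q₈`. -/
theorem good_eq_sup (K : ℕ) (hK : M = 2 * K) :
    ∃ Q : Subgroup (Wr (2 * M)), Nonempty (Q ≃* QuaternionGroup 2) ∧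
      good M = Q ⊔ Subgroup.center (Wr (2 * M)) := by
  have hKK := half_cast K hK
  have hMM := half_add_half M
  have hM0 : 0 < M := Nat.pos_of_ne_zero (NeZero.ne M)
  set a : Wr (2 * M) := ⟨K, -K, false⟩ with ha_def
  set t : Wr (2 * M) := ⟨0, M, true⟩ with ht_def
  have ha2 : a ^ 2 = z0 M := by
    rw [ha_def, mk_false_pow, z0]
    simp only [nsmul_eq_mul, Nat.cast_ofNat, Wr.mk.injEq, and_true]
    constructor
    · linear_combination hKK
    · linear_combination -hKK - hMM
  have ha : orderOf a = 2 * 2 := by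
    have : orderOf a = 2 ^ (1 + 1) := by
      apply orderOf_eq_prime_pow
      · rw [pow_one, ha2]; exact z0_ne_one
      · have h22 : (2 : ℕ) ^ (1 + 1) = 2 * 2 := by norm_num
        rw [h22, pow_mul, ha2, pow_two, z0_mul_self]
    rw [this]; norm_num
  have ht2 : t ^ 2 = a ^ 2 := by
    rw [ha2, ht_def, mk_true_sq, z0, zero_add]
  have hta : t * a * t⁻¹ = a⁻¹ := by
    rw [ht_def, ha_def]
    simp only [mk_mul_mk_true, inv_mk_true, inv_mk_false, Bool.not_false, Bool.not_true,
      Wr.mk.injEq, and_true]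
    constructor <;> ring
  have ht : t ∉ Subgroup.zpowers a := by
    intro h
    have hle : Subgroup.zpowers a ≤ base (2 * M) := by
      rw [Subgroup.zpowers_le]; rfl
    have := hle h
    rw [mem_base] at this
    simp [ht_def] at this
  have hinj := Cfsg.Agent.Helper73.quatHom_injective ha ht2 hta ht
  set f := Cfsg.Agent.Helper73.quatHom ha ht2 hta with hf
  have hfa : f (QuaternionGroup.a 1) = a := by
    show Cfsg.Agent.Helper73.quatFun a t 2 (QuaternionGroup.a 1) = a
    simp only [Cfsg.Agent.Helper73.quatFun]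
    have := Cfsg.Agent.Helper73.zq_natCast a (2 * 2) ha 1
    simpa using this
  have hft : f (QuaternionGroup.xa 0) = t := by
    show Cfsg.Agent.Helper73.quatFun a t 2 (QuaternionGroup.xa 0) = t
    simp only [Cfsg.Agent.Helper73.quatFun]
    have := Cfsg.Agent.Helper73.zq_natCast a (2 * 2) ha 0
    simp only [Nat.cast_zero, pow_zero] at this
    rw [this, mul_one]
  have haG : a ∈ good M := by
    rw [mem_good, ha_def]
    simp only
    linear_combination 2 * hKK + hMM
  have htG : t ∈ good M := by
    rw [mem_good, ht_def]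
    simp only
    linear_combination -hMM
  refine ⟨f.range, ⟨(MonoidHom.ofInjective hinj).symm⟩, ?_⟩
  have hc : Subgroup.center (Wr (2 * M)) = diag (2 * M) := center_eq (by omega)
  rw [hc]
  apply le_antisymm
  · have haR : a ∈ f.range := ⟨_, hfa⟩
    have htR : t ∈ f.range := ⟨_, hft⟩
    -- base elements
    have hbase : ∀ x y : ZMod (2 * M), (x - y) + (x - y) = 0 →
        (⟨x, y, false⟩ : Wr (2 * M)) ∈ f.range ⊔ diag (2 * M) := by
      intro x y hxy
      rcases (zmod_add_self_eq_zero_iff _).mp hxy with h | h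
      · apply Subgroup.mem_sup_right
        exact ⟨rfl, sub_eq_zero.mp h⟩
      · have h1 : (⟨x - K, x - K, false⟩ : Wr (2 * M)) ∈ diag (2 * M) := ⟨rfl, rfl⟩
        have h2 := Subgroup.mul_mem_sup haR h1
        rw [ha_def, mk_mul_mk_false] at h2
        have e1 : (K : ZMod (2 * M)) + (x - K) = x := by ring
        have e2 : -(K : ZMod (2 * M)) + (x - K) = y := by linear_combination -hKK + h
        rwa [e1, e2] at h2
    intro p hp
    rcases p with ⟨x, y, e⟩
    rw [mem_good] at hp
    simp only at hp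
    cases e
    · exact hbase x y hp
    · have h1 : (⟨y - M, x, false⟩ : Wr (2 * M)) ∈ f.range ⊔ diag (2 * M) := by
        apply hbase
        linear_combination -hp - hMM
      have h2 := (f.range ⊔ diag (2 * M)).mul_mem (Subgroup.mem_sup_left htR) h1
      rw [ht_def, mk_mul_mk_true] at h2
      have e1 : (0 : ZMod (2 * M)) + x = x := by ring
      have e2 : (M : ZMod (2 * M)) + (y - M) = y := by ring
      rw [e1, e2] at h2
      exact h2
  · apply sup_le
    · rintro _ ⟨q, rfl⟩
      cases q with
      | a i =>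
        show Cfsg.Agent.Helper73.quatFun a t 2 (QuaternionGroup.a i) ∈ good M
        simp only [Cfsg.Agent.Helper73.quatFun, Cfsg.Agent.Helper73.zq]
        exact (good M).zpow_mem haG _
      | xa i =>
        show Cfsg.Agent.Helper73.quatFun a t 2 (QuaternionGroup.xa i) ∈ good M
        simp only [Cfsg.Agent.Helper73.quatFun, Cfsg.Agent.Helper73.zq]
        exact (good M).mul_mem htG ((good M).zpow_mem haG _)
    · exact diag_le_good

end classify

end Wr

end Cfsg.Agent.Helper98
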