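import Mathlib
import Cfsg.Agent.Lib.Helper93.RU0

/-!
# RT project (S2278): `SL_3(F)` is generated by two conjugate regular unipotent elements.
Shared definitions.  We work in the RU project's `SLm 0 F = SL (Fin (0 + 3)) F` so that the RU
transvection calculus (`tvS`, `Wset`, pieces A, D, E1) applies verbatim with `m := 0`.

Mathematics.  `y = Ymat n w` is regular unipotent for ALL `n w` (it is `B J B⁻¹`, `B` lower unitriangular).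
`s = Smat ζ ρ = z t`, `z = diag(ζ, ζ, ζ⁻²)`, `t = 1 + (ρ/ζ) E₁₀` (commuting).  For the parameters
`w = c ζ²`, `n = c² ζ - 3 (1 + c ζ)/(1 + ζ + ζ²)`, `ρ = (1 - ζ)(3 - c (1 + ζ + ζ²))` one has
`s y = d (Ymat (ζ² n) c) d⁻¹`, `d = diag(ζ, 1, ζ⁻¹)`: so `s y` is regular unipotent and conjugate to `y` in `SL_3(F)`.
`H = ⟨y, s y⟩ = ⟨y, s⟩ ∋ t, z` (powers of `s`).  `y⁻¹ t y = 1 + (ρ/ζ) (-w e₀ + (n w + 1) e₂) e₁ᵀ`, hence
`(y⁻¹ t y)⁻¹ · z (y⁻¹ t y) z⁻¹ = x₂₁(μ₀)`, `μ₀ ≠ 0`; `z⁻¹ x₂₁(μ) z = x₂₁(ζ³ μ)` so `x₂₁(F) ⊆ H`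
(`F_p[ζ³] = F` for `q ≠ 2, 4`); `s x₂₁(μ) s⁻¹` gives `x₂₀(F) ⊆ H`; so `e₂` is a full centre, and so are
`y e₂ = (0,1,w)`, `y² e₂ = (1,*,*)`; RU's `W`-lemmas finish.  `q = 2, 4`: explicit words.
-/

set_option autoImplicit false

namespace Cfsg.Agent.Helper98.RT

open Matrix Cfsg.Agent.Helper93.RU
open Classical in
attribute [local instance] Classical.propDecidable

variable {F : Type*} [Field F]

/-- `SL_3(F)` in the RU project's form (`Fin (0 + 3)`) -/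
abbrev G3 (F : Type*) [Field F] := SLm 0 F

/-- the universal regular unipotent matrix -/
def Ymat (n w : F) : Matrix (Fin (0 + 3)) (Fin (0 + 3)) F :=
  !![0, 1, 0; n, 3 - w, 1; n * w + 1, (3 - w) * w - n - 3, w]

/-- `s = z t` -/
def Smat (ζ ρ : F) : Matrix (Fin (0 + 3)) (Fin (0 + 3)) F :=
  !![ζ, 0, 0; ρ, ζ, 0; 0, 0, (ζ ^ 2)⁻¹]

/-- `z = diag(ζ, ζ, ζ⁻²)` -/
def Zmat (ζ : F) : Matrix (Fin (0 + 3)) (Fin (0 + 3)) F :=
  !![ζ, 0, 0; 0, ζ, 0; 0, 0, (ζ ^ 2)⁻¹]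

/-- `d = diag(ζ, 1, ζ⁻¹)` -/
def Dmat (ζ : F) : Matrix (Fin (0 + 3)) (Fin (0 + 3)) F :=
  !![ζ, 0, 0; 0, 1, 0; 0, 0, ζ⁻¹]

/-- `y` as an element of `SL_3(F)` (the determinant is always `1`: piece V1) -/
noncomputable def yEl (n w : F) : G3 F :=
  if h : (Ymat n w).det = 1 then ⟨Ymat n w, h⟩ else 1

/-- `s` as an element of `SL_3(F)` (junk value `1` if `ζ = 0`) -/
noncomputable def sEl (ζ ρ : F) : G3 F :=
  if h : (Smat ζ ρ).det = 1 then ⟨Smat ζ ρ, h⟩ else 1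

/-- `z` as an element of `SL_3(F)` (junk value `1` if `ζ = 0`) -/
noncomputable def zEl (ζ : F) : G3 F :=
  if h : (Zmat ζ).det = 1 then ⟨Zmat ζ, h⟩ else 1

/-- `d` as an element of `SL_3(F)` (junk value `1` if `ζ = 0`) -/
noncomputable def dEl (ζ : F) : G3 F :=
  if h : (Dmat ζ).det = 1 then ⟨Dmat ζ, h⟩ else 1

/-- the column / row vector `(a, b, c)` -/
def v3 (a b c : F) : Fin (0 + 3) → F := ![a, b, c]

/-- parameter `w = c ζ²` -/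
def wP (ζ c : F) : F := c * ζ ^ 2

/-- parameter `ρ = (1 - ζ)(3 - c (1 + ζ + ζ²))` -/
def rhoP (ζ c : F) : F := (1 - ζ) * (3 - c * (1 + ζ + ζ ^ 2))

/-- parameter `n = c² ζ - 3 (1 + c ζ)/(1 + ζ + ζ²)` -/
noncomputable def nP (ζ c : F) : F := c ^ 2 * ζ - 3 * (1 + c * ζ) / (1 + ζ + ζ ^ 2)

/-- `ζ³` generates `F` additively-multiplicatively: an additive subgroup stable under `ζ³` is `0` or `F` -/
def Gen3 (ζ : F) : Prop :=
  ∀ M : AddSubgroup F, (∀ μ ∈ M, ζ ^ 3 * μ ∈ M) → (∃ μ ∈ M, μ ≠ 0) → M = ⊤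

end Cfsg.Agent.Helper98.RT
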