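import Cfsg.Agent.Lib.Helper73.BG161Ctx

/-!
# (C0) for S1435 = B–G 16.1 (helper73's lemma server): `H_σ ∩ M* = 1`
-/

set_option autoImplicit false
set_option linter.unusedSectionVars false
set_option linter.style.haveILetI false

namespace Cfsg.Agent.Helper98.BG161

open Subgroup Cfsg.Agent.Helper73.BG161

variable {G : Type*} [Group G] [Finite G]

/-- `M ≤ N_G(M_σ)` (local copy, to keep imports minimal) -/
lemma c0_conj_mem_sigmaCore {M : Subgroup G} {m x : G} (hm : m ∈ M) (hx : x ∈ Cfsg.sigmaCore M) :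
    m * x * m⁻¹ ∈ Cfsg.sigmaCore M := by
  unfold Cfsg.sigmaCore at hx ⊢
  obtain ⟨k, hk, rfl⟩ := hx
  have hn : (Cfsg.piCore (Cfsg.sigma M) M).Normal := inferInstance
  exact ⟨⟨m, hm⟩ * k * ⟨m, hm⟩⁻¹, hn.conj_mem k hk ⟨m, hm⟩, by simp⟩

lemma c0_sigmaCore_le (M : Subgroup G) : Cfsg.sigmaCore M ≤ M := by
  unfold Cfsg.sigmaCore
  exact Subgroup.map_subtype_le _

/-- (C0) `H_σ ∩ M* = 1`. -/
theorem sigmaCore_inf_Mstar (f : Facts G) {M K U Mstar H : Subgroup G} (b : Base M K U Mstar H)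
    (hreg : ∀ Y : Subgroup G, Y ≤ K → (Nat.card Y).Prime →
      Cfsg.sigmaCore H ⊓ centralizer (Y : Set G) = ⊥) :
    Cfsg.sigmaCore H ⊓ Mstar = ⊥ := by
  -- `H_σ ∩ M*_σ = 1`
  have hdisj : Cfsg.sigmaCore H ⊓ Cfsg.sigmaCore Mstar = ⊥ := by
    by_contra hne
    have hcard : Nat.card ↥(Cfsg.sigmaCore H ⊓ Cfsg.sigmaCore Mstar) ≠ 1 := by
      intro h1
      exact hne (Subgroup.card_eq_one.mp h1)
    obtain ⟨p, hp, hpd⟩ := Nat.exists_prime_and_dvd hcard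
    have h1 : p ∈ Cfsg.sigma H :=
      (f.t1350 H b.hH).1.2.1 p hp (dvd_trans hpd (Subgroup.card_dvd_of_le inf_le_left))
    have h2 : p ∈ Cfsg.sigma Mstar :=
      (f.t1350 Mstar b.hMstar).1.2.1 p hp (dvd_trans hpd (Subgroup.card_dvd_of_le inf_le_right))
    obtain ⟨g, hg⟩ := f.t1378.2 Mstar H b.hMstar b.hH ⟨p, h2, h1⟩
    exact b.hHMs g hg
  -- a subgroup of prime order of `K`
  obtain ⟨Y, hYK, hYp⟩ : ∃ Y : Subgroup G, Y ≤ K ∧ (Nat.card Y).Prime := by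
    have hcard : Nat.card K ≠ 1 := by
      intro h1
      exact b.hK1 (Subgroup.card_eq_one.mp h1)
    obtain ⟨p, hp, hpd⟩ := Nat.exists_prime_and_dvd hcard
    haveI : Fact p.Prime := ⟨hp⟩
    obtain ⟨y, hy⟩ := exists_prime_orderOf_dvd_card' p hpd
    refine ⟨Subgroup.zpowers (y : G), ?_, ?_⟩
    · rw [Subgroup.zpowers_le]; exact y.2
    · rw [Nat.card_zpowers, Subgroup.orderOf_coe, hy]; exact hp
  rw [eq_bot_iff]
  intro x hx
  obtain ⟨hxH, hxM⟩ := Subgroup.mem_inf.mp hx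
  have hxcent : x ∈ centralizer (Y : Set G) := by
    rw [Subgroup.mem_centralizer_iff]
    intro k hk
    have hkK : k ∈ K := hYK hk
    -- the commutator `x k x⁻¹ k⁻¹` lies in `H_σ ∩ M*_σ = 1`
    have hc1 : x * k * x⁻¹ * k⁻¹ ∈ Cfsg.sigmaCore H := by
      have h3 : k * x⁻¹ * k⁻¹ ∈ Cfsg.sigmaCore H :=
        c0_conj_mem_sigmaCore (b.hKH hkK) (inv_mem hxH)
      have h4 := mul_mem hxH h3
      have e : x * (k * x⁻¹ * k⁻¹) = x * k * x⁻¹ * k⁻¹ := by group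
      rwa [e] at h4
    have hc2 : x * k * x⁻¹ * k⁻¹ ∈ Cfsg.sigmaCore Mstar := by
      have h3 : x * k * x⁻¹ ∈ Cfsg.sigmaCore Mstar := c0_conj_mem_sigmaCore hxM (b.hKMs hkK)
      exact mul_mem h3 (inv_mem (b.hKMs hkK))
    have hc : x * k * x⁻¹ * k⁻¹ ∈ Cfsg.sigmaCore H ⊓ Cfsg.sigmaCore Mstar :=
      Subgroup.mem_inf.mpr ⟨hc1, hc2⟩
    rw [hdisj, Subgroup.mem_bot] at hc
    have : x * k = k * x := by
      have e : x * k = (x * k * x⁻¹ * k⁻¹) * (k * x) := by group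
      rw [e, hc, one_mul]
    exact this.symm
  have : x ∈ Cfsg.sigmaCore H ⊓ centralizer (Y : Set G) := Subgroup.mem_inf.mpr ⟨hxH, hxcent⟩
  rwa [hreg Y hYK hYp] at this

end Cfsg.Agent.Helper98.BG161
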