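import Cfsg.Agent.Lib.Helper98.CTNum

set_option autoImplicit false
set_option linter.unusedSectionVars false
set_option linter.unusedVariables false
set_option linter.style.haveILetI false

/-!
# The arithmetic of the class equation (order divisible by the characteristic)
-/

namespace Cfsg.Agent.Helper98.CTNum

/-- the nonlinear core: `m (N r + 2) = N (r + 2) k` with `N = 1 + j (r + 2)`. -/
theorem p_core (r j k m : ℕ) (hj : 1 ≤ j) (hk2 : 2 ≤ k) (hk : k ≤ r + 1)
    (h : m * ((1 + j * (r + 2)) * r + 2) = (1 + j * (r + 2)) * (r + 2) * k) :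
    j = 1 ∨ (r = 1 ∧ j = 3 ∧ k = 2 ∧ m = 5) := by
  -- e = 1 + j r
  have he : (1 + j * (r + 2)) * r + 2 = (r + 2) * (1 + j * r) := by ring
  rw [he] at h
  have h1 : m * (1 + j * r) = (1 + j * (r + 2)) * k := by
    have hpos : 0 < r + 2 := by omega
    apply Nat.eq_of_mul_eq_mul_left hpos
    rw [← mul_assoc, mul_comm (r + 2) m, mul_assoc, h]
    ring
  have h2 : (1 + j * (r + 2)) = (1 + j * r) + 2 * j := by ring
  rw [h2] at h1
  -- e ∣ 2 j k
  have hdvd : (1 + j * r) ∣ 2 * j * k := by
    have : (1 + j * r) ∣ ((1 + j * r) + 2 * j) * k := Dvd.intro_left m h1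
    have h3 : ((1 + j * r) + 2 * j) * k = (1 + j * r) * k + 2 * j * k := by ring
    rw [h3] at this
    exact (Nat.dvd_add_right (Dvd.intro k rfl)).mp this
  have hcop : Nat.Coprime (1 + j * r) j := by
    rw [Nat.coprime_comm]
    have : Nat.Coprime j (1 + j * r) := by
      rw [Nat.coprime_add_mul_left_right]
      exact Nat.coprime_one_right j
    exact this
  have hdvd2 : (1 + j * r) ∣ 2 * k := by
    have h4 : 2 * j * k = j * (2 * k) := by ring
    rw [h4] at hdvd
    exact hcop.dvd_of_dvd_mul_left hdvd
  by_contra hcon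
  push Not at hcon
  obtain ⟨hj1, hcon⟩ := hcon
  have hj2 : 2 ≤ j := by omega
  have hle : 1 + j * r ≤ 2 * k := Nat.le_of_dvd (by omega) hdvd2
  rcases Nat.lt_or_ge j 3 with hj3 | hj3
  · -- j = 2
    have hj' : j = 2 := by omega
    subst hj'
    -- 1 + 2 r odd divides 2k, so divides k
    have hc2 : Nat.Coprime (1 + 2 * r) 2 := by
      rw [Nat.coprime_comm, Nat.coprime_add_mul_left_right]
      exact Nat.coprime_one_right 2
    have hdk : (1 + 2 * r) ∣ k := hc2.dvd_of_dvd_mul_left hdvd2
    have := Nat.le_of_dvd (by omega) hdk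
    omega
  · -- j ≥ 3
    have h3r : 3 * r ≤ j * r := Nat.mul_le_mul_right r hj3
    have hr : r ≤ 1 := by omega
    rcases (by omega : r = 0 ∨ r = 1) with hr0 | hr1
    · subst hr0
      omega
    · subst hr1
      have hk' : k = 2 := by omega
      subst hk'
      have hj4 : 1 + j * 1 ≤ 4 := by omega
      have hj' : j = 3 := by omega
      subst hj'
      apply hcon rfl rfl rfl
      omega

/-- one further class, `k = 1` -/
theorem p_k1 (q0 N N1 n1 a1 : ℕ) (hq : 2 ≤ q0) (hN : 2 ≤ N) (ha1 : 2 ≤ a1)
    (hn1 : n1 = 1 ∨ n1 = 2) (h1 : N1 * n1 * a1 = N * q0) (h2 : N1 * (a1 - 1) = N - 1) :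
    N = q0 + 1 ∨ (q0 = 2 ∧ N1 = 1 ∧ n1 = 2) := by
  obtain ⟨⟨hP, hZ⟩, hT⟩ := prod_facts (N := N1) ha1
  rw [hT] at h2
  have e1 : N1 * n1 * a1 = n1 * (N1 * a1) := by ring
  rw [e1] at h1
  have c1 : (a1 = 2 ∧ N1 * a1 = 2 * N1) ∨ (3 ≤ a1 ∧ 3 * N1 ≤ N1 * a1) := by
    rcases (by omega : a1 = 2 ∨ 3 ≤ a1) with r | r
    · left; subst r; exact ⟨rfl, by ring⟩
    · right
      exact ⟨r, by have := Nat.mul_le_mul_left N1 r; omega⟩
  have c2 : (q0 = 2 ∧ N * q0 = 2 * N) ∨ (q0 = 3 ∧ N * q0 = 3 * N) ∨ (4 ≤ q0 ∧ 4 * N ≤ N * q0) := by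
    rcases (by omega : q0 = 2 ∨ q0 = 3 ∨ 4 ≤ q0) with r | r | r
    · left; subst r; exact ⟨rfl, by ring⟩
    · right; left; subst r; exact ⟨rfl, by ring⟩
    · right; right
      exact ⟨r, by have := Nat.mul_le_mul_left N r; omega⟩
  have hq2 : 2 * N ≤ N * q0 := by have := Nat.mul_le_mul_left N hq; omega
  generalize N1 * a1 = P1 at *
  generalize N * q0 = Nq at *
  rcases hn1 with rfl | rfl
  · omega
  · rcases c2 with ⟨r, s⟩ | ⟨r, s⟩ | ⟨r, s⟩
    · right; omega
    · left
      rcases c1 with ⟨r1, s1⟩ | ⟨r1, s1⟩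
      · omega
      · omega
    · omega

/-- The arithmetic of the class equation with one unipotent class `i0`. -/
theorem core_p {ι : Type*} [Fintype ι] [DecidableEq ι] (h : ℕ) (a n N : ι → ℕ) (i0 : ι)
    (q0 k : ℕ) (ha : ∀ i, 2 ≤ a i) (hn : ∀ i, i ≠ i0 → n i = 1 ∨ n i = 2)
    (hN : ∀ i, N i * n i * a i = h) (heq : h = 1 + ∑ i, N i * (a i - 1)) (ha0 : a i0 = q0)
    (hn0 : n i0 = k) (hk1 : 1 ≤ k) (hkq : k ≤ q0 - 1) (hN2 : 2 ≤ N i0)
    (hmod : q0 ∣ N i0 - 1) (hi1 : 2 ≤ k → ∃ i1, i1 ≠ i0 ∧ a i1 = k) :
    N i0 = q0 + 1 ∨ (q0 = 2 ∧ ∃ i1, i1 ≠ i0 ∧ N i1 = 1 ∧ n i1 = 2) ∨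
      (q0 = 3 ∧ k = 2 ∧ h = 60 ∧ ∃ i2, i2 ≠ i0 ∧ a i2 = 5 ∧ n i2 = 2) := by
  classical
  have hq : 2 ≤ q0 := by rw [← ha0]; exact ha i0
  have hh : N i0 * k * q0 = h := by rw [← hn0, ← ha0]; exact hN i0
  have hterm : ∀ i, i ≠ i0 → h ≤ 4 * (N i * (a i - 1)) :=
    fun i hi => term_ge (ha i) (hn i hi) (hN i)
  rw [← Finset.add_sum_erase Finset.univ _ (Finset.mem_univ i0), ha0] at heq
  obtain ⟨⟨hP0, -⟩, hT0⟩ := prod_facts (N := N i0) hq
  rw [hT0] at heq
  have hNq : N i0 * k * q0 = k * (N i0 * q0) := by ring
  rw [hNq] at hh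
  obtain ⟨s, hs⟩ : ∃ s, s = (Finset.univ : Finset ι).erase i0 := ⟨_, rfl⟩
  rw [← hs] at heq
  have hmem_s : ∀ i, i ∈ s ↔ i ≠ i0 := by
    intro i
    rw [hs, Finset.mem_erase]
    simp
  obtain ⟨M, hM⟩ : ∃ M, M = N i0 := ⟨_, rfl⟩
  rw [← hM] at heq hh hP0 hN2 hmod ⊢
  rcases Nat.lt_or_ge k 2 with hk2 | hk2
  · -- k = 1
    have hk' : k = 1 := by omega
    subst hk'
    rw [one_mul] at hh
    rcases Nat.lt_or_ge s.card 2 with hc | hc
    · rcases (by omega : s.card = 0 ∨ s.card = 1) with hc0 | hc1
      · rw [Finset.card_eq_zero] at hc0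
        rw [hc0, Finset.sum_empty] at heq
        generalize M * q0 = Mq at *
        omega
      · rw [Finset.card_eq_one] at hc1
        obtain ⟨i1, hi1s⟩ := hc1
        have hi1ne : i1 ≠ i0 := by
          rw [← hmem_s, hi1s]
          exact Finset.mem_singleton_self _
        rw [hi1s, Finset.sum_singleton] at heq
        have h1 : N i1 * n i1 * a i1 = M * q0 := by rw [hN i1, hh]
        have h2 : N i1 * (a i1 - 1) = M - 1 := by
          generalize N i1 * (a i1 - 1) = T at *
          generalize M * q0 = Mq at *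
          omega
        rcases p_k1 q0 M (N i1) (n i1) (a i1) hq hN2 (ha i1) (hn i1 hi1ne) h1 h2 with r | r
        · left; exact r
        · right; left
          exact ⟨r.1, i1, hi1ne, r.2.1, r.2.2⟩
    · exfalso
      obtain ⟨i, his, j, hjs, hij⟩ := Finset.one_lt_card.mp hc
      have h1 := hterm i ((hmem_s i).mp his)
      have h2 := hterm j ((hmem_s j).mp hjs)
      have h3 : N i * (a i - 1) + N j * (a j - 1) ≤ ∑ x ∈ s, N x * (a x - 1) := by
        have hsub : ({i, j} : Finset ι) ⊆ s := by
          intro x hx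
          rw [Finset.mem_insert, Finset.mem_singleton] at hx
          rcases hx with rfl | rfl
          · exact his
          · exact hjs
        have := Finset.sum_le_sum_of_subset (f := fun x => N x * (a x - 1)) hsub
        rw [Finset.sum_pair hij] at this
        exact this
      generalize N i * (a i - 1) = Ti at *
      generalize N j * (a j - 1) = Tj at *
      generalize ∑ x ∈ s, N x * (a x - 1) = S at *
      generalize M * q0 = Mq at *
      omega
  · -- k ≥ 2
    obtain ⟨i1, hi1ne, hi1a⟩ := hi1 hk2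
    have hi1s : i1 ∈ s := (hmem_s i1).mpr hi1ne
    rw [← Finset.add_sum_erase s _ hi1s, hi1a] at heq
    obtain ⟨s2, hs2⟩ : ∃ s2, s2 = s.erase i1 := ⟨_, rfl⟩
    rw [← hs2] at heq
    have hmem_s2 : ∀ i, i ∈ s2 → i ≠ i0 := by
      intro i hi
      rw [hs2] at hi
      exact (hmem_s i).mp (Finset.mem_of_mem_erase hi)
    have hk2' : 2 ≤ k := hk2
    obtain ⟨⟨hP1, -⟩, hT1⟩ := prod_facts (N := N i1) hk2'
    rw [hT1] at heq
    have h1 : N i1 * n i1 = M * q0 := by
      have := hN i1
      rw [hi1a, ← hh] at this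
      have hkpos : 0 < k := by omega
      apply Nat.eq_of_mul_eq_mul_right hkpos
      rw [this]
      ring
    have hMq2 : 2 * M ≤ M * q0 := by have := Nat.mul_le_mul_left M hq; omega
    have hh2 : 2 * (M * q0) ≤ h := by
      rw [← hh]
      exact Nat.mul_le_mul_right _ hk2
    have hN1k : N i1 * k * 1 = N i1 * k := mul_one _
    rcases hn i1 hi1ne with hn1 | hn1
    · -- n1 = 1
      exfalso
      rw [hn1, mul_one] at h1
      have hP1' : N i1 * k = h := by rw [h1, ← hh]; ring
      rcases Finset.eq_empty_or_nonempty s2 with he | ⟨i, hi⟩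
      · rw [he, Finset.sum_empty] at heq
        generalize M * q0 = Mq at *
        generalize N i1 * k = P1 at *
        omega
      · have h2 := hterm i (hmem_s2 i hi)
        have h3 : N i * (a i - 1) ≤ ∑ x ∈ s2, N x * (a x - 1) :=
          Finset.single_le_sum (f := fun x => N x * (a x - 1)) (fun _ _ => Nat.zero_le _) hi
        generalize N i * (a i - 1) = Ti at *
        generalize ∑ x ∈ s2, N x * (a x - 1) = S at *
        generalize M * q0 = Mq at *
        generalize N i1 * k = P1 at *
        omega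
    · -- n1 = 2
      rw [hn1] at h1
      have hP1' : 2 * (N i1 * k) = h := by
        rw [← hh]
        have : 2 * (N i1 * k) = (N i1 * 2) * k := by ring
        rw [this, h1]
        ring
      rcases Nat.lt_or_ge s2.card 2 with hc | hc
      · rcases (by omega : s2.card = 0 ∨ s2.card = 1) with hc0 | hc1
        · exfalso
          rw [Finset.card_eq_zero] at hc0
          rw [hc0, Finset.sum_empty] at heq
          generalize M * q0 = Mq at *
          generalize N i1 * k = P1 at *
          omega
        · rw [Finset.card_eq_one] at hc1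
          obtain ⟨i2, hi2s⟩ := hc1
          have hi2ne : i2 ≠ i0 := by
            apply hmem_s2
            rw [hi2s]
            exact Finset.mem_singleton_self _
          rw [hi2s, Finset.sum_singleton] at heq
          obtain ⟨⟨hP2, -⟩, hT2⟩ := prod_facts (N := N i2) (ha i2)
          rw [hT2] at heq
          have hN2' := hN i2
          have e2 : N i2 * n i2 * a i2 = n i2 * (N i2 * a i2) := by ring
          rw [e2] at hN2'
          rcases hn i2 hi2ne with hn2 | hn2
          · exfalso
            rw [hn2, one_mul] at hN2'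
            generalize M * q0 = Mq at *
            generalize N i1 * k = P1 at *
            generalize N i2 * a i2 = P2 at *
            omega
          · rw [hn2] at hN2'
            -- 2 N2 = Mq - 2M + 2
            have h2N2 : 2 * N i2 + 2 * M = M * q0 + 2 := by
              generalize M * q0 = Mq at *
              generalize N i1 * k = P1 at *
              generalize N i2 * a i2 = P2 at *
              omega
            -- write q0 = r + 2, M = 1 + j q0
            obtain ⟨r, hr⟩ : ∃ r, q0 = r + 2 := ⟨q0 - 2, by omega⟩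
            obtain ⟨j, hj⟩ := hmod
            have hM' : M = 1 + j * q0 := by
              have : M - 1 = j * q0 := by rw [hj]; ring
              omega
            have hj1 : 1 ≤ j := by
              rcases Nat.eq_zero_or_pos j with h0 | h0
              · rw [h0, zero_mul] at hM'
                omega
              · exact h0
            have hkey : a i2 * ((1 + j * (r + 2)) * r + 2) =
                (1 + j * (r + 2)) * (r + 2) * k := by
              rw [← hr, ← hM']
              have e3 : M * r + 2 = 2 * N i2 := by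
                have : M * q0 = M * r + 2 * M := by rw [hr]; ring
                omega
              rw [e3]
              have e4 : a i2 * (2 * N i2) = 2 * (N i2 * a i2) := by ring
              rw [e4, hN2', ← hh]
              ring
            have hkr : k ≤ r + 1 := by
              have h9 := hkq
              rw [hr] at h9
              exact h9
            rcases p_core r j k (a i2) hj1 hk2 hkr hkey with hj' | ⟨hr1, hj3, hk', hm⟩
            · left
              rw [hM', hj', one_mul]
              ring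
            · right; right
              subst hr1 hj3 hk'
              refine ⟨by omega, rfl, ?_, i2, hi2ne, hm, hn2⟩
              rw [← hh, hM', hr]
      · exfalso
        obtain ⟨i, his, j, hjs, hij⟩ := Finset.one_lt_card.mp hc
        have h2 := hterm i (hmem_s2 i his)
        have h3 := hterm j (hmem_s2 j hjs)
        have h4 : N i * (a i - 1) + N j * (a j - 1) ≤ ∑ x ∈ s2, N x * (a x - 1) := by
          have hsub : ({i, j} : Finset ι) ⊆ s2 := by
            intro x hx
            rw [Finset.mem_insert, Finset.mem_singleton] at hx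
            rcases hx with rfl | rfl
            · exact his
            · exact hjs
          have := Finset.sum_le_sum_of_subset (f := fun x => N x * (a x - 1)) hsub
          rw [Finset.sum_pair hij] at this
          exact this
        generalize N i * (a i - 1) = Ti at *
        generalize N j * (a j - 1) = Tj at *
        generalize ∑ x ∈ s2, N x * (a x - 1) = S at *
        generalize M * q0 = Mq at *
        generalize N i1 * k = P1 at *
        omega

end Cfsg.Agent.Helper98.CTNum
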