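import Cfsg.Agent.Lib.Helper98.CTPrime
import Cfsg.Agent.Lib.Helper98.CTNumP

set_option autoImplicit false
set_option linter.unusedSectionVars false
set_option linter.unusedVariables false
set_option linter.style.haveILetI false

/-!
# The class equation with one unipotent class
-/

namespace Cfsg.Agent.Helper98.CT

universe u v

variable {G : Type u} [Group G] {Z : Subgroup G}

theorem card_cen_conj (x g : G) : Nat.card (cen (g * x * g⁻¹)) = Nat.card (cen x) := by
  rw [cen_conj]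
  exact Subgroup.card_map_of_injective (MulAut.conj g).injective

theorem nor_conj (x g : G) : nor (g * x * g⁻¹) = (nor x).map (MulAut.conj g).toMonoidHom := by
  unfold nor
  rw [cen_conj]
  exact (Subgroup.map_equiv_normalizer_eq _ _).symm

theorem card_nor_conj (x g : G) : Nat.card (nor (g * x * g⁻¹)) = Nat.card (nor x) := by
  rw [nor_conj]
  exact Subgroup.card_map_of_injective (MulAut.conj g).injective

theorem index_nor_conj (x g : G) : (nor (g * x * g⁻¹)).index = (nor x).index := by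
  rw [nor_conj]
  exact Subgroup.index_map_equiv _ (MulAut.conj g)

theorem nor_eq_of_cen_eq {x y : G} (h : cen x = cen y) : nor x = nor y := by
  unfold nor
  rw [h]

theorem mem_cls_symm {x y : G} (hx : x ∉ Z) (h : x ∈ cls Z y) (hy : y ∉ Z) : y ∈ cls Z x := by
  have r1 : rel Z ⟨x, hx⟩ ⟨y, hy⟩ := h.2
  exact ⟨hy, rel_symm r1⟩

theorem mem_cls_trans {x y w : G} (hy : y ∉ Z) (hw : w ∉ Z) (h1 : x ∈ cls Z y)
    (h2 : y ∈ cls Z w) : x ∈ cls Z w := by
  have r1 : rel Z ⟨x, h1.1⟩ ⟨y, hy⟩ := h1.2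
  have r2 : rel Z ⟨y, hy⟩ ⟨w, hw⟩ := h2.2
  exact ⟨h1.1, rel_trans r1 r2⟩

theorem self_mem_cls {x : G} (hx : x ∉ Z) : x ∈ cls Z x := ⟨hx, 1, by simp⟩

/-- **Structure theorem, one unipotent class.** -/
theorem mixed_main [Finite G] {Hb : Type v} [Group Hb] (D : Data Z) (φ : G →* Hb)
    (hφ : Function.Surjective φ) (hker : φ.ker = Z) {u : G} (hu : u ∉ Z) {q0 k : ℕ}
    (hcu : Nat.card (cen u) = q0 * Nat.card Z) (hnu : Nat.card (nor u) = k * Nat.card (cen u))
    (hk1 : 1 ≤ k) (hkq : k ≤ q0 - 1) (hN2 : 2 ≤ (nor u).index)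
    (hmod : q0 ∣ (nor u).index - 1)
    (hss : ∀ x, x ∉ Z → x ∉ cls Z u → Inv x ∧ IsCyclic (cen x))
    (hy0 : 2 ≤ k → ∃ y0, y0 ∉ Z ∧ y0 ∉ cls Z u ∧ Nat.card (cen y0) = k * Nat.card Z)
    (hinv3 : q0 = 3 → k = 2 → ∀ c, c ∈ cen u → c ∉ Z → ∃ y : G, y * c * y⁻¹ = c⁻¹) :
    (nor u).index = q0 + 1 ∨ (q0 = 2 ∧ ∃ n, 0 < n ∧ Nonempty (Hb ≃* DihedralGroup n)) ∨
      (q0 = 3 ∧ Nonempty (Hb ≃* alternatingGroup (Fin 5))) := by
  classical
  haveI : Finite Hb := Finite.of_surjective φ hφ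
  obtain ⟨ι, hι, rep, a, n, N, hrepZ, hcover, hdist, ha, hn, hNdef, hcls, ha2, hNn, hGH, heq⟩ :=
    class_data0 D φ hφ hker
  have hz : 0 < Nat.card Z := Nat.card_pos
  obtain ⟨i0, hi0⟩ := hcover u hu
  obtain ⟨g, hg⟩ := hi0.2
  have hcen0 : Nat.card (cen (rep i0)) = Nat.card (cen u) := by
    rw [← hg, card_cen_conj]
  have hnor0 : nor (rep i0) = nor (g * u * g⁻¹) := nor_eq_of_cen_eq hg.symm
  have hcnor0 : Nat.card (nor (rep i0)) = Nat.card (nor u) := by
    rw [hnor0, card_nor_conj]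
  have hidx0 : N i0 = (nor u).index := by
    rw [hNdef i0, hnor0, index_nor_conj]
  have ha0 : a i0 = q0 := by
    have := ha i0
    rw [hcen0, hcu] at this
    exact (Nat.eq_of_mul_eq_mul_right hz this).symm
  have hn0 : n i0 = k := by
    have := hn i0
    rw [hcnor0, hcen0, hnu] at this
    have hc : 0 < Nat.card (cen u) := Nat.card_pos
    exact (Nat.eq_of_mul_eq_mul_right hc this).symm
  have hnotcls : ∀ i, i ≠ i0 → rep i ∉ cls Z u := by
    intro i hi hmem
    exact hi (hdist i i0 (mem_cls_trans hu (hrepZ i0) hmem hi0))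
  have hn12 : ∀ i, i ≠ i0 → n i = 1 ∨ n i = 2 := by
    intro i hi
    exact n_eq_of_inv D (hrepZ i) (hss _ (hrepZ i) (hnotcls i hi)).1 (hn i)
  have hi1 : 2 ≤ k → ∃ i1, i1 ≠ i0 ∧ a i1 = k := by
    intro hk2
    obtain ⟨y0, hy0Z, hy0cls, hy0c⟩ := hy0 hk2
    obtain ⟨i1, hi1⟩ := hcover y0 hy0Z
    refine ⟨i1, ?_, ?_⟩
    · intro h
      rw [h] at hi1
      apply hy0cls
      exact mem_cls_trans (hrepZ i0) hu hi1 (mem_cls_symm hu hi0 (hrepZ i0))
    · obtain ⟨g1, hg1⟩ := hi1.2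
      have := ha i1
      rw [← hg1, card_cen_conj, hy0c] at this
      exact (Nat.eq_of_mul_eq_mul_right hz this).symm
  have hN2' : 2 ≤ N i0 := by rw [hidx0]; exact hN2
  have hmod' : q0 ∣ N i0 - 1 := by rw [hidx0]; exact hmod
  rcases CTNum.core_p (Nat.card Hb) a n N i0 q0 k ha2 hn12 hNn heq ha0 hn0 hk1 hkq hN2' hmod' hi1
    with h1 | ⟨hq2, i1, hi1ne, hN1, hn1⟩ | ⟨hq3, hk2, h60, i2, hi2ne, ha5, hn5⟩
  · left
    rw [← hidx0]
    exact h1
  · right; left
    refine ⟨hq2, ?_⟩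
    have hnor : nor (rep i1) = ⊤ := by
      rw [← Subgroup.index_eq_one, ← hNdef i1]
      exact hN1
    have hcn := hn i1
    rw [hn1] at hcn
    have hidx : (cen (rep i1)).index = 2 := by
      have h3 := (cen (rep i1)).card_mul_index
      have h4 : Nat.card (nor (rep i1)) = Nat.card G := by
        rw [hnor]
        exact Subgroup.card_top
      rw [← h4, hcn] at h3
      have hpos : 0 < Nat.card (cen (rep i1)) := Nat.card_pos
      have : Nat.card (cen (rep i1)) * (cen (rep i1)).index = Nat.card (cen (rep i1)) * 2 := by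
        rw [h3]; ring
      exact Nat.eq_of_mul_eq_mul_left hpos this
    obtain ⟨hI1, hC1⟩ := hss _ (hrepZ i1) (hnotcls i1 hi1ne)
    exact dihedral_case D φ hφ hker (hrepZ i1) hI1 hC1 hnor hidx
  · right; right
    refine ⟨hq3, ?_⟩
    subst hq3 hk2
    have hN0 : N i0 = 10 := by
      have := hNn i0
      rw [hn0, ha0, h60] at this
      omega
    have hN5 : N i2 = 6 := by
      have := hNn i2
      rw [hn5, ha5, h60] at this
      omega
    have hx5cls : rep i2 ∉ cls Z u := hnotcls i2 hi2ne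
    refine a5_case D φ hφ hker h60 hGH hu (hrepZ i2) hcu ?_ (hinv3 rfl rfl) ?_ ?_ ?_ ?_
    · rw [ha i2, ha5]
    · apply invert_of_card D (hrepZ i2)
      · intro c hc hcZ
        have hccls : c ∈ cls Z (rep i2) :=
          ⟨hcZ, 1, by simp only [one_mul, inv_one, mul_one]; exact cen_eq_of_mem D (hrepZ i2) hc hcZ⟩
        have hcu' : c ∉ cls Z u := by
          intro hcu'
          exact hx5cls (mem_cls_of_mem_of_mem (hrepZ i2) hu hccls hcu')
        exact (hss c hcZ hcu').1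
      · rw [hn i2, hn5]
    · rw [card_cls D hu, ← hidx0, hN0, hcu]
      have : 3 * Nat.card Z - Nat.card Z = 2 * Nat.card Z := by omega
      rw [this]
      ring
    · rw [hcls i2, hN5, ha5]
    · rw [Set.disjoint_left]
      intro w hw3 hw5
      exact hx5cls (mem_cls_of_mem_of_mem (hrepZ i2) hu hw5 hw3)

end Cfsg.Agent.Helper98.CT
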