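import Cfsg.Agent.Lib.Helper98.DicksonPrime
import Cfsg.Agent.Lib.Helper98.CTMixed
import Cfsg.Agent.Lib.Helper59.SL2Sub
import Cfsg.Agent.Lib.Helper51.CTCount3

set_option autoImplicit false
set_option linter.unusedSectionVars false
set_option linter.unusedVariables false
set_option linter.style.haveILetI false

/-!
# Subgroups of `SL₂(F)` of order divisible by the characteristic: the class data
-/

namespace Cfsg.Agent.Helper98.Dickson

open Matrix Cfsg.Agent.Helper41 Cfsg.Agent.Helper98.SL2CT Cfsg.Agent.Helper59.SL2Sub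
open Cfsg.Agent.Helper5

variable {F : Type*} [Field F]

/-- the upper triangular part of `K` -/
def BK (K : Subgroup (SL2 F)) : Subgroup K where
  carrier := {g | ((g : SL2 F)).1 1 0 = 0}
  one_mem' := by simp
  mul_mem' := by
    intro a b ha hb
    simp only [Set.mem_ofPred_eq, Subgroup.coe_mul] at *
    rw [mul_10 _ _ ha, hb, mul_zero]
  inv_mem' := by
    intro a ha
    simp only [Set.mem_ofPred_eq, Subgroup.coe_inv] at *
    rw [inv_10, ha, neg_zero]

theorem mem_BK {K : Subgroup (SL2 F)} {g : K} : g ∈ BK K ↔ ((g : SL2 F)).1 1 0 = 0 := Iff.rfl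

/-- the diagonal character -/
noncomputable def delta (K : Subgroup (SL2 F)) : BK K →* Fˣ where
  toFun g := Units.mk0 (((g : K) : SL2 F).1 0 0) (by
    have := diag_mul_of_ut _ (mem_BK.mp g.2)
    intro h
    rw [h, zero_mul] at this
    exact zero_ne_one this)
  map_one' := by
    ext
    simp
  map_mul' := by
    intro a b
    ext
    simp only [Subgroup.coe_mul, Units.val_mk0, Units.val_mul]
    exact mul_00 _ _ (mem_BK.mp b.2)

theorem delta_val {K : Subgroup (SL2 F)} (g : BK K) :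
    ((delta K g : Fˣ) : F) = ((g : K) : SL2 F).1 0 0 := rfl

/-- general counting: `|S| = |ker f| * |f(S)|` when `ker f ≤ S` -/
theorem card_eq_ker_mul_map {B A : Type*} [Group B] [Group A] [Finite B] (f : B →* A)
    (S : Subgroup B) (hS : f.ker ≤ S) : Nat.card S = Nat.card f.ker * Nat.card (S.map f) := by
  let fS : S →* A := f.comp S.subtype
  have h1 := fS.ker.card_mul_index
  rw [Subgroup.index_ker] at h1
  have h2 : Nat.card fS.ker = Nat.card f.ker := by
    apply Nat.card_congr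
    exact
      { toFun := fun w => ⟨w.1.1, by
          have := w.2
          rw [MonoidHom.mem_ker] at this ⊢
          exact this⟩
        invFun := fun w => ⟨⟨w.1, hS w.2⟩, by
          have := w.2
          rw [MonoidHom.mem_ker] at this ⊢
          exact this⟩
        left_inv := fun w => rfl
        right_inv := fun w => rfl }
  have h3 : Nat.card fS.range = Nat.card (S.map f) := by
    apply Nat.card_congr
    have : fS.range = S.map f := by
      ext a
      constructor
      · rintro ⟨s, rfl⟩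
        exact ⟨s.1, s.2, rfl⟩
      · rintro ⟨b, hb, rfl⟩
        exact ⟨⟨b, hb⟩, rfl⟩
    rw [this]
  rw [h2, h3] at h1
  exact h1.symm

section setup

variable [Fintype F] (p : ℕ) [Fact p.Prime] [CharP F p]

/-- the standing hypotheses: `K` contains the centre, and a nontrivial Sylow `p`-subgroup `U` of
`K` consists of upper unitriangular matrices. -/
structure Setup (K : Subgroup (SL2 F)) (U : Sylow p K) : Prop where
  cen : Subgroup.center (SL2 F) ≤ K
  inU : ∀ u ∈ U, ((u : K) : SL2 F) ∈ slU F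
  ne : (U : Subgroup K) ≠ ⊥

variable {p} {K : Subgroup (SL2 F)} {U : Sylow p K}

theorem Setup.mem_U_iff (S : Setup p K U) (g : K) : (g : SL2 F) ∈ slU F ↔ g ∈ U :=
  mem_sylow_iff p K.subtype_injective U S.inU g

theorem Setup.normalizer_eq (S : Setup p K U) :
    Subgroup.normalizer ((U : Subgroup K) : Set K) = BK K := by
  ext g
  constructor
  · intro hg
    exact ut_of_mem_normalizer p K.subtype_injective U S.inU S.ne g hg
  · intro hg
    exact mem_normalizer_of_ut p K.subtype_injective U S.inU g hg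

theorem Setup.U_le_BK (S : Setup p K U) : (U : Subgroup K) ≤ BK K := by
  rw [← S.normalizer_eq]
  exact Subgroup.le_normalizer

theorem Setup.delta_eq_one_iff (S : Setup p K U) (g : BK K) : delta K g = 1 ↔ (g : K) ∈ U := by
  rw [← S.mem_U_iff, mem_slU_iff']
  have hd := diag_mul_of_ut _ (mem_BK.mp g.2)
  constructor
  · intro h
    have h00 : ((g : K) : SL2 F).1 0 0 = 1 := by
      have := congrArg Units.val h
      rw [delta_val] at this
      simpa using this
    refine ⟨h00, mem_BK.mp g.2, ?_⟩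
    rw [h00, one_mul] at hd
    exact hd
  · rintro ⟨h00, -, -⟩
    ext
    rw [delta_val, h00]
    simp

theorem Setup.delta_ker (S : Setup p K U) : (delta K).ker = (U : Subgroup K).subgroupOf (BK K) := by
  ext g
  rw [MonoidHom.mem_ker, S.delta_eq_one_iff, Subgroup.mem_subgroupOf]
  rfl

theorem Setup.card_ker (S : Setup p K U) : Nat.card (delta K).ker = Nat.card (U : Subgroup K) := by
  rw [S.delta_ker]
  exact Nat.card_congr (Subgroup.subgroupOfEquivOfLe S.U_le_BK).toEquiv

end setup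

section entries

theorem mul_entry (A B : SL2 F) (i j : Fin 2) :
    (A * B).1 i j = A.1 i 0 * B.1 0 j + A.1 i 1 * B.1 1 j := by
  simp [Matrix.mul_apply, Fin.sum_univ_two]

theorem neg_one_mem_center : (-1 : SL2 F) ∈ Subgroup.center (SL2 F) := by
  rw [sl2_mem_center_iff]
  right
  simp

theorem sl2_ext {A B : SL2 F} (h00 : A.1 0 0 = B.1 0 0) (h01 : A.1 0 1 = B.1 0 1)
    (h10 : A.1 1 0 = B.1 1 0) (h11 : A.1 1 1 = B.1 1 1) : A = B := by
  apply Subtype.ext
  ext i j
  fin_cases i <;> fin_cases j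
  · exact h00
  · exact h01
  · exact h10
  · exact h11

theorem center_entries {z : SL2 F} (hz : z ∈ Subgroup.center (SL2 F)) :
    z.1 1 0 = 0 ∧ z.1 0 1 = 0 ∧ z.1 0 0 = z.1 1 1 ∧ (z.1 0 0 = 1 ∨ z.1 0 0 = -1) := by
  rw [sl2_mem_center_iff] at hz
  rcases hz with h | h
  · rw [h]
    simp
  · rw [h]
    simp

theorem mem_center_of_entries {z : SL2 F} (h10 : z.1 1 0 = 0) (h01 : z.1 0 1 = 0)
    (hd : z.1 0 0 = z.1 1 1) : z ∈ Subgroup.center (SL2 F) := by
  by_contra hz
  exact nonScalar_of_not_mem_center z hz ⟨h01, h10, hd⟩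

end entries

section setup2

variable [Fintype F] {p : ℕ} [Fact p.Prime] [CharP F p]
variable {K : Subgroup (SL2 F)} {U : Sylow p K}

theorem Setup.exists_u (S : Setup p K U) : ∃ u : K, u ∈ U ∧ u ≠ 1 := by
  obtain ⟨⟨u, hu⟩, hne⟩ := (Subgroup.ne_bot_iff_exists_ne_one).mp S.ne
  exact ⟨u, hu, fun h => hne (Subtype.ext h)⟩

/-- entries of an element of `U` -/
theorem Setup.u_entries (S : Setup p K U) {u : K} (hu : u ∈ U) :
    (u : SL2 F).1 0 0 = 1 ∧ (u : SL2 F).1 1 0 = 0 ∧ (u : SL2 F).1 1 1 = 1 :=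
  (mem_slU_iff' _).mp (S.inU u hu)

theorem Setup.u01_ne (S : Setup p K U) {u : K} (hu : u ∈ U) (hu1 : u ≠ 1) :
    (u : SL2 F).1 0 1 ≠ 0 := by
  obtain ⟨h00, h10, h11⟩ := S.u_entries hu
  intro h01
  apply hu1
  apply Subtype.ext
  apply sl2_ext
  · rw [h00]; simp
  · rw [h01]; simp
  · rw [h10]; simp
  · rw [h11]; simp

theorem Setup.u_not_mem_Z (S : Setup p K U) {u : K} (hu : u ∈ U) (hu1 : u ≠ 1) : u ∉ ZK K := by
  intro hz
  rw [mem_ZK] at hz
  exact S.u01_ne hu hu1 (center_entries hz).2.1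

theorem Setup.mem_cen_iff (S : Setup p K U) {u : K} (hu : u ∈ U) (hu1 : u ≠ 1) (g : K) :
    g ∈ CT.cen u ↔ (g : SL2 F).1 1 0 = 0 ∧ (g : SL2 F).1 0 0 = (g : SL2 F).1 1 1 := by
  obtain ⟨h00, h10, h11⟩ := S.u_entries hu
  have ht := S.u01_ne hu hu1
  rw [CT.mem_cen]
  constructor
  · intro h
    have hm : (g : SL2 F) * (u : SL2 F) = (u : SL2 F) * (g : SL2 F) := by
      rw [← Subgroup.coe_mul, h, Subgroup.coe_mul]
    have e00 := congrArg (fun w : SL2 F => w.1 0 0) hm
    have e01 := congrArg (fun w : SL2 F => w.1 0 1) hm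
    simp only [mul_entry, h00, h10, h11, mul_one, mul_zero, add_zero, one_mul] at e00 e01
    have hg10 : (g : SL2 F).1 1 0 = 0 := by
      have : (u : SL2 F).1 0 1 * (g : SL2 F).1 1 0 = 0 := by
        first
          | linear_combination e00
          | linear_combination (-1 : F) * e00
      exact (mul_eq_zero.mp this).resolve_left ht
    refine ⟨hg10, ?_⟩
    have : (u : SL2 F).1 0 1 * ((g : SL2 F).1 0 0 - (g : SL2 F).1 1 1) = 0 := by
      first
        | linear_combination e01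
        | linear_combination (-1 : F) * e01
    exact sub_eq_zero.mp ((mul_eq_zero.mp this).resolve_left ht)
  · rintro ⟨hg10, hgd⟩
    apply Subtype.ext
    rw [Subgroup.coe_mul, Subgroup.coe_mul]
    apply sl2_ext
    · simp only [mul_entry, h00, h10, hg10]; ring
    · simp only [mul_entry, h00, h11, hgd]; ring
    · simp only [mul_entry, h00, h10, hg10]; ring
    · simp only [mul_entry, h10, h11, hg10]; ring

theorem Setup.cen_le_BK (S : Setup p K U) {u : K} (hu : u ∈ U) (hu1 : u ≠ 1) :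
    CT.cen u ≤ BK K := fun g hg => mem_BK.mpr ((S.mem_cen_iff hu hu1 g).mp hg).1

theorem Setup.U_le_cen (S : Setup p K U) {u : K} (hu : u ∈ U) (hu1 : u ≠ 1) :
    (U : Subgroup K) ≤ CT.cen u := by
  intro v hv
  obtain ⟨h00, h10, h11⟩ := S.u_entries hv
  rw [S.mem_cen_iff hu hu1]
  exact ⟨h10, by rw [h00, h11]⟩

/-- the element `-1` of `K` -/
def Setup.m1 (S : Setup p K U) : K := ⟨-1, S.cen neg_one_mem_center⟩

theorem Setup.m1_mem_Z (S : Setup p K U) : S.m1 ∈ ZK K := by
  rw [mem_ZK]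
  exact neg_one_mem_center

theorem Setup.m1_mul_m1 (S : Setup p K U) : S.m1 * S.m1 = 1 := by
  apply Subtype.ext
  rw [Subgroup.coe_mul]
  change (-1 : SL2 F) * (-1 : SL2 F) = 1
  simp

theorem Setup.m1_entry (S : Setup p K U) (g : K) (i j : Fin 2) :
    ((S.m1 * g : K) : SL2 F).1 i j = - (g : SL2 F).1 i j := by
  rw [Subgroup.coe_mul]
  change ((-1 : SL2 F) * (g : SL2 F)).1 i j = _
  simp

/-- the centralizer of `u` is `Z × U` -/
theorem Setup.card_cen (S : Setup p K U) {u : K} (hu : u ∈ U) (hu1 : u ≠ 1) :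
    Nat.card (CT.cen u) = Nat.card (U : Subgroup K) * Nat.card (ZK K) := by
  classical
  have hZc : ∀ z : ZK K, (z : K) ∈ CT.cen u := fun z => CT.Z_le_cen (data K) u z.2
  have hUc : ∀ v : (U : Subgroup K), (v : K) ∈ CT.cen u := fun v => S.U_le_cen hu hu1 v.2
  let f : ↥(U : Subgroup K) × ↥(ZK K) → CT.cen u :=
    fun q => ⟨(q.2 : K) * (q.1 : K), mul_mem (hZc q.2) (hUc q.1)⟩
  have hinj : Function.Injective f := by
    rintro ⟨v, z⟩ ⟨v', z'⟩ h
    have h1 : (z : K) * (v : K) = (z' : K) * (v' : K) := congrArg Subtype.val h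
    have hz := center_entries ((mem_ZK K).mp z.2)
    have hz' := center_entries ((mem_ZK K).mp z'.2)
    obtain ⟨v00, v10, v11⟩ := S.u_entries v.2
    obtain ⟨w00, w10, w11⟩ := S.u_entries v'.2
    have h2 := congrArg (fun w : K => (w : SL2 F).1 0 0) h1
    simp only [Subgroup.coe_mul, mul_entry, v00, v10, w00, w10, mul_one, mul_zero, add_zero] at h2
    have hzz : (z : K) = (z' : K) := by
      apply Subtype.ext
      apply sl2_ext
      · exact h2
      · rw [hz.2.1, hz'.2.1]
      · rw [hz.1, hz'.1]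
      · rw [← hz.2.2.1, ← hz'.2.2.1, h2]
    have hvv : (v : K) = (v' : K) := by
      rw [hzz] at h1
      exact mul_left_cancel h1
    exact Prod.ext (Subtype.ext hvv) (Subtype.ext hzz)
  have hsurj : Function.Surjective f := by
    rintro ⟨g, hg⟩
    obtain ⟨hg10, hgd⟩ := (S.mem_cen_iff hu hu1 g).mp hg
    have hdet := diag_mul_of_ut _ hg10
    rw [← hgd] at hdet
    have h2 : ((g : SL2 F).1 0 0 - 1) * ((g : SL2 F).1 0 0 + 1) = 0 := by
      linear_combination hdet
    rcases mul_eq_zero.mp h2 with h | h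
    · have h00 : (g : SL2 F).1 0 0 = 1 := by linear_combination h
      have hgU : g ∈ U := by
        rw [← S.mem_U_iff, mem_slU_iff']
        exact ⟨h00, hg10, by rw [← hgd, h00]⟩
      refine ⟨(⟨g, hgU⟩, 1), ?_⟩
      apply Subtype.ext
      simp [f]
    · have h00 : (g : SL2 F).1 0 0 = -1 := by linear_combination h
      have hgU : S.m1 * g ∈ U := by
        rw [← S.mem_U_iff, mem_slU_iff']
        refine ⟨?_, ?_, ?_⟩
        · rw [S.m1_entry, h00]; ring
        · rw [S.m1_entry, hg10]; ring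
        · rw [S.m1_entry, ← hgd, h00]; ring
      refine ⟨(⟨S.m1 * g, hgU⟩, ⟨S.m1, S.m1_mem_Z⟩), ?_⟩
      apply Subtype.ext
      simp only [f]
      rw [← mul_assoc, S.m1_mul_m1, one_mul]
  rw [← Nat.card_congr (Equiv.ofBijective f ⟨hinj, hsurj⟩), Nat.card_prod]

/-- `N(C(u))` is the upper triangular part -/
theorem Setup.nor_eq (S : Setup p K U) {u : K} (hu : u ∈ U) (hu1 : u ≠ 1) :
    CT.nor u = BK K := by
  ext g
  rw [CT.mem_nor_iff (data K) (S.u_not_mem_Z hu hu1), S.mem_cen_iff hu hu1, mem_BK]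
  have hslu : (u : SL2 F) ∈ slU F := S.inU u hu
  have hu1' : (u : SL2 F) ≠ 1 := fun h => hu1 (Subtype.ext h)
  constructor
  · rintro ⟨h10, hd⟩
    -- the conjugate is unipotent, hence in slU
    have hdet := diag_mul_of_ut _ h10
    have htr : ((g * u * g⁻¹ : K) : SL2 F).1 0 0 + ((g * u * g⁻¹ : K) : SL2 F).1 1 1 = 2 := by
      have h1 := SL2CT.tr_conj K u g
      unfold SL2CT.tr at h1
      rw [Matrix.trace_fin_two, Matrix.trace_fin_two] at h1
      obtain ⟨h00, -, h11⟩ := S.u_entries hu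
      rw [h00, h11] at h1
      rw [h1]
      norm_num
    have ha : ((g * u * g⁻¹ : K) : SL2 F).1 0 0 = 1 := by
      have : (((g * u * g⁻¹ : K) : SL2 F).1 0 0 - 1) ^ 2 = 0 := by
        rw [← hd] at hdet htr
        linear_combination hdet - htr
      have := pow_eq_zero_iff (two_ne_zero) |>.mp this
      linear_combination this
    have hmem : (g : SL2 F) * (u : SL2 F) * (g : SL2 F)⁻¹ ∈ slU F := by
      rw [mem_slU_iff']
      have e : ((g * u * g⁻¹ : K) : SL2 F) = (g : SL2 F) * (u : SL2 F) * (g : SL2 F)⁻¹ := by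
        simp
      rw [← e]
      exact ⟨ha, h10, by rw [← hd, ha]⟩
    exact ut_of_conj_mem_slU _ _ hslu hu1' hmem
  · intro hg
    have hmem := conj_mem_slU (g : SL2 F) (u : SL2 F) hg hslu
    rw [mem_slU_iff'] at hmem
    have e : ((g * u * g⁻¹ : K) : SL2 F) = (g : SL2 F) * (u : SL2 F) * (g : SL2 F)⁻¹ := by
      simp
    rw [e]
    exact ⟨hmem.2.1, by rw [hmem.1, hmem.2.2]⟩

end setup2

section setup3

variable [Fintype F] {p : ℕ} [Fact p.Prime] [CharP F p]
variable {K : Subgroup (SL2 F)} {U : Sylow p K}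

theorem mem_smul_sylow {G : Type*} [Group G] (g v : G) (P : Sylow p G) :
    v ∈ ((g • P : Sylow p G) : Subgroup G) ↔ g⁻¹ * v * g ∈ P := by
  rw [Sylow.coe_subgroup_smul, Subgroup.mem_pointwise_smul_iff_inv_smul_mem]
  have : (MulAut.conj g)⁻¹ • v = g⁻¹ * v * g := by
    rw [← map_inv, MulAut.smul_def, MulAut.conj_apply, inv_inv]
  rw [this]
  rfl

/-- the Sylow subgroups are TI -/
theorem Setup.TI (S : Setup p K U) (P : Sylow p K) {v : K} (hvU : v ∈ U) (hvP : v ∈ P)
    (hv1 : v ≠ 1) : P = U := by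
  obtain ⟨g, rfl⟩ := MulAction.exists_smul_eq K U P
  have hvP' : g⁻¹ * v * g ∈ U := (mem_smul_sylow g v U).mp hvP
  have h1 : ((g⁻¹ * v * g : K) : SL2 F) ∈ slU F := S.inU _ hvP'
  have e : ((g⁻¹ * v * g : K) : SL2 F) =
      ((g⁻¹ : K) : SL2 F) * (v : SL2 F) * ((g⁻¹ : K) : SL2 F)⁻¹ := by simp
  rw [e] at h1
  have hv1' : (v : SL2 F) ≠ 1 := fun h => hv1 (Subtype.ext h)
  have h2 := ut_of_conj_mem_slU _ _ (S.inU v hvU) hv1' h1
  have h3 : g⁻¹ ∈ Subgroup.normalizer ((U : Subgroup K) : Set K) := by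
    rw [S.normalizer_eq]
    exact h2
  have h4 : g ∈ Subgroup.normalizer ((U : Subgroup K) : Set K) := by
    have := inv_mem h3
    simpa using this
  exact Sylow.smul_eq_iff_mem_normalizer.mpr h4

theorem Setup.card_sylow_mod (S : Setup p K U) :
    Nat.card (U : Subgroup K) ∣ Nat.card (Sylow p K) - 1 := by
  have hfree : ∀ b : ↥(Cfsg.Agent.Helper51.CT.otherSylows U),
      MulAction.stabilizer ↥(U : Subgroup K) b = ⊥ := by
    rintro ⟨P, hP⟩
    rw [eq_bot_iff]
    rintro ⟨v, hv⟩ hstab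
    rw [Subgroup.mem_bot]
    apply Subtype.ext
    change v = 1
    by_contra hv1
    have h1 : (⟨v, hv⟩ : ↥(U : Subgroup K)) •
        (⟨P, hP⟩ : ↥(Cfsg.Agent.Helper51.CT.otherSylows U)) = ⟨P, hP⟩ := hstab
    have h2 : v • P = P := by
      have := congrArg Subtype.val h1
      exact this
    have h3 : v ∈ Subgroup.normalizer ((P : Subgroup K) : Set K) :=
      Sylow.smul_eq_iff_mem_normalizer.mp h2
    have h4 : (U : Subgroup K) ⊓ Subgroup.normalizer ((P : Subgroup K) : Set K) =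
        (U : Subgroup K) ⊓ (P : Subgroup K) := U.isPGroup'.inf_normalizer_sylow P
    have h5 : v ∈ (U : Subgroup K) ⊓ (P : Subgroup K) := by rw [← h4]; exact ⟨hv, h3⟩
    exact hP (S.TI P h5.1 h5.2 hv1)
  have hdvd := Cfsg.Agent.S4208.card_dvd_of_free' hfree
  have hcard : Nat.card (Sylow p K) = Nat.card ↥(Cfsg.Agent.Helper51.CT.otherSylows U) + 1 := by
    classical
    have e : ↥(Cfsg.Agent.Helper51.CT.otherSylows U) ≃ {P : Sylow p K // P ≠ U} := Equiv.refl _
    rw [Nat.card_congr e]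
    haveI : Fintype (Sylow p K) := Fintype.ofFinite _
    rw [Nat.card_eq_fintype_card, Nat.card_eq_fintype_card, Fintype.card_subtype_compl,
      Fintype.card_subtype_eq]
    have hpos : 0 < Fintype.card (Sylow p K) := Fintype.card_pos
    omega
  rw [hcard, Nat.add_sub_cancel]
  exact hdvd

theorem Setup.index_BK (S : Setup p K U) : (BK K).index = Nat.card (Sylow p K) := by
  rw [Sylow.card_eq_index_normalizer U]
  exact congrArg Subgroup.index S.normalizer_eq.symm

/-- `|N(U) : C(u)| ≤ |U| - 1` -/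
theorem Setup.relIndex_le (S : Setup p K U) {u : K} (hu : u ∈ U) (hu1 : u ≠ 1) :
    (CT.cen u).relIndex (BK K) ≤ Nat.card (U : Subgroup K) - 1 := by
  classical
  rw [Subgroup.relIndex, Subgroup.index_eq_card]
  have hconj : ∀ g : BK K, (g : K) * u * (g : K)⁻¹ ∈ U := by
    intro g
    have hg : (g : K) ∈ Subgroup.normalizer ((U : Subgroup K) : Set K) := by
      rw [S.normalizer_eq]; exact g.2
    exact (Subgroup.mem_normalizer_iff.mp hg u).mp hu
  have hne : ∀ g : BK K, (⟨(g : K) * u * (g : K)⁻¹, hconj g⟩ : ↥(U : Subgroup K)) ≠ 1 := by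
    intro g h
    apply hu1
    have h1 : (g : K) * u * (g : K)⁻¹ = 1 := congrArg Subtype.val h
    have : u = (g : K)⁻¹ * ((g : K) * u * (g : K)⁻¹) * (g : K) := by group
    rw [this, h1]
    group
  let ψ0 : BK K → {w : ↥(U : Subgroup K) // w ≠ 1} := fun g => ⟨⟨_, hconj g⟩, hne g⟩
  have hwd : ∀ x y : BK K,
      (QuotientGroup.leftRel ((CT.cen u).subgroupOf (BK K))) x y → ψ0 x = ψ0 y := by
    intro x y hxy
    rw [QuotientGroup.leftRel_apply, Subgroup.mem_subgroupOf, CT.mem_cen] at hxy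
    apply Subtype.ext
    apply Subtype.ext
    change (x : K) * u * (x : K)⁻¹ = (y : K) * u * (y : K)⁻¹
    have hxy' : (x : K)⁻¹ * (y : K) * u = u * ((x : K)⁻¹ * (y : K)) := by
      simpa using hxy
    calc (x : K) * u * (x : K)⁻¹ = (x : K) * (u * ((x : K)⁻¹ * (y : K))) * (y : K)⁻¹ := by group
      _ = (x : K) * ((x : K)⁻¹ * (y : K) * u) * (y : K)⁻¹ := by rw [hxy']
      _ = (y : K) * u * (y : K)⁻¹ := by group
  let ψ : (BK K ⧸ (CT.cen u).subgroupOf (BK K)) → {w : ↥(U : Subgroup K) // w ≠ 1} :=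
    Quotient.lift ψ0 hwd
  have hinj : Function.Injective ψ := by
    intro a b
    refine Quotient.inductionOn₂ a b ?_
    intro x y hxy
    apply Quotient.sound
    change (QuotientGroup.leftRel ((CT.cen u).subgroupOf (BK K))) x y
    rw [QuotientGroup.leftRel_apply, Subgroup.mem_subgroupOf, CT.mem_cen]
    have h1 : (x : K) * u * (x : K)⁻¹ = (y : K) * u * (y : K)⁻¹ := by
      have := congrArg (fun w : {w : ↥(U : Subgroup K) // w ≠ 1} => ((w : ↥(U : Subgroup K)) : K)) hxy
      exact this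
    have : ((x⁻¹ * y : BK K) : K) = (x : K)⁻¹ * (y : K) := by simp
    rw [this]
    calc (x : K)⁻¹ * (y : K) * u = (x : K)⁻¹ * ((y : K) * u * (y : K)⁻¹) * (y : K) := by group
      _ = (x : K)⁻¹ * ((x : K) * u * (x : K)⁻¹) * (y : K) := by rw [h1]
      _ = u * ((x : K)⁻¹ * (y : K)) := by group
  have h1 := Nat.card_le_card_of_injective ψ hinj
  have h2 : Nat.card {w : ↥(U : Subgroup K) // w ≠ 1} = Nat.card (U : Subgroup K) - 1 := by
    haveI : Fintype ↥(U : Subgroup K) := Fintype.ofFinite _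
    rw [Nat.card_eq_fintype_card, Nat.card_eq_fintype_card, Fintype.card_subtype_compl,
      Fintype.card_subtype_eq]
  rw [h2] at h1
  exact h1

/-- elements of trace `±2` are conjugate into `C(u)` -/
theorem Setup.mem_cls_of_tr (S : Setup p K U) {u : K} (hu : u ∈ U) (hu1 : u ≠ 1) {x : K}
    (hx : x ∉ ZK K) (h4 : SL2CT.tr K x ^ 2 = 4) : x ∈ CT.cls (ZK K) u := by
  have huZ := S.u_not_mem_Z hu hu1
  -- normalise the trace to 2
  obtain ⟨z, hz, htr⟩ : ∃ z : K, z ∈ ZK K ∧ SL2CT.tr K (z * x) = 2 := by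
    have h : (SL2CT.tr K x - 2) * (SL2CT.tr K x + 2) = 0 := by linear_combination h4
    rcases mul_eq_zero.mp h with h | h
    · exact ⟨1, one_mem _, by rw [one_mul]; linear_combination h⟩
    · refine ⟨S.m1, S.m1_mem_Z, ?_⟩
      unfold SL2CT.tr at h ⊢
      rw [Matrix.trace_fin_two] at h ⊢
      rw [S.m1_entry, S.m1_entry]
      linear_combination (-1 : F) * h
  have hvZ : z * x ∉ ZK K := by
    intro h
    apply hx
    have := mul_mem (inv_mem hz) h
    simpa using this
  -- v = z x has order p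
  have hvp : (z * x) ^ p = 1 := by
    apply Subtype.ext
    apply Subtype.ext
    rw [Subgroup.coe_pow, Matrix.SpecialLinearGroup.coe_pow, Subgroup.coe_one,
      Matrix.SpecialLinearGroup.coe_one]
    apply pow_char_eq_one_of_sub_one_sq p
    have hdet : (((z * x : K) : SL2 F) : Matrix (Fin 2) (Fin 2) F).det = 1 :=
      ((z * x : K) : SL2 F).2
    have hCH := sq_eq_of_det_one _ hdet
    unfold SL2CT.tr at htr
    rw [(Commute.one_right _).sub_sq, hCH, htr]
    simp only [one_pow, mul_one]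
    rw [two_smul, two_mul]
    abel
  have hpg : IsPGroup p (Subgroup.zpowers (z * x)) := by
    rintro ⟨w, hw⟩
    obtain ⟨n, rfl⟩ := Subgroup.mem_zpowers_iff.mp hw
    refine ⟨1, ?_⟩
    apply Subtype.ext
    rw [pow_one, Subgroup.coe_pow, Subgroup.coe_one, ← zpow_natCast, ← _root_.zpow_mul, mul_comm,
      _root_.zpow_mul, zpow_natCast, hvp, _root_.one_zpow]
  obtain ⟨Q, hQ⟩ := hpg.exists_le_sylow
  obtain ⟨g, rfl⟩ := MulAction.exists_smul_eq K U Q
  have hv0 : z * x ∈ ((g • U : Sylow p K) : Subgroup K) := hQ (Subgroup.mem_zpowers _)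
  have hv : g⁻¹ * (z * x) * g ∈ U := (mem_smul_sylow g (z * x) U).mp hv0
  rw [CT.mem_cls_iff (data K) huZ]
  refine ⟨hx, g⁻¹, ?_⟩
  have h1 : g⁻¹ * (z * x) * g ∈ CT.cen u := S.U_le_cen hu hu1 hv
  have h2 : g⁻¹ * x * g⁻¹⁻¹ = z⁻¹ * (g⁻¹ * (z * x) * g) := by
    have hzc := (data K).central z hz
    rw [inv_inv]
    have : g⁻¹ * (z * x) * g = z * (g⁻¹ * x * g) := by
      calc g⁻¹ * (z * x) * g = g⁻¹ * z * x * g := by group
        _ = z * g⁻¹ * x * g := by rw [hzc g⁻¹]
        _ = z * (g⁻¹ * x * g) := by group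
    rw [this]
    group
  rw [h2]
  exact mul_mem (CT.Z_le_cen (data K) u (inv_mem hz)) h1

/-- elements of the unipotent class have trace `±2` -/
theorem Setup.tr_of_mem_cls (S : Setup p K U) {u : K} (hu : u ∈ U) (hu1 : u ≠ 1) {x : K}
    (hx : x ∈ CT.cls (ZK K) u) : SL2CT.tr K x ^ 2 = 4 := by
  have huZ := S.u_not_mem_Z hu hu1
  rw [CT.mem_cls_iff (data K) huZ] at hx
  obtain ⟨-, k, hk⟩ := hx
  rw [S.mem_cen_iff hu hu1] at hk
  obtain ⟨h10, hd⟩ := hk
  have hdet := diag_mul_of_ut _ h10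
  rw [← SL2CT.tr_conj K x k]
  unfold SL2CT.tr
  rw [Matrix.trace_fin_two, ← hd]
  rw [← hd] at hdet
  linear_combination 4 * hdet

end setup3

section setup4

variable [Fintype F] {p : ℕ} [Fact p.Prime] [CharP F p]
variable {K : Subgroup (SL2 F)} {U : Sylow p K}

theorem Setup.card_BK (S : Setup p K U) :
    Nat.card (BK K) = Nat.card (U : Subgroup K) * Nat.card (delta K).range := by
  have h := card_eq_ker_mul_map (delta K) ⊤ le_top
  rw [Subgroup.card_top, S.card_ker, ← MonoidHom.range_eq_map] at h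
  exact h

/-- a generator of the diagonal part -/
theorem Setup.exists_y0 (S : Setup p K U) {u : K} (hu : u ∈ U) (hu1 : u ≠ 1)
    (hk : ¬ BK K ≤ CT.cen u) :
    ∃ y0 : K, y0 ∉ ZK K ∧ SL2CT.tr K y0 ^ 2 ≠ 4 ∧
      Nat.card (CT.cen y0) * Nat.card (U : Subgroup K) = Nat.card (BK K) := by
  classical
  haveI : IsCyclic (delta K).range := inferInstance
  obtain ⟨⟨τ0, hτ0⟩, hgen⟩ := IsCyclic.exists_generator (α := (delta K).range)
  obtain ⟨y0, hy0⟩ := hτ0
  have hzp : ∀ g : BK K, ∃ n : ℤ, delta K g = (delta K y0) ^ n := by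
    intro g
    have := hgen ⟨delta K g, ⟨g, rfl⟩⟩
    rw [Subgroup.mem_zpowers_iff] at this
    obtain ⟨n, hn⟩ := this
    refine ⟨n, ?_⟩
    have h2 := congrArg Subtype.val hn
    simp only [Subgroup.coe_zpow] at h2
    rw [hy0]
    exact h2.symm
  have h10 : ((y0 : K) : SL2 F).1 1 0 = 0 := mem_BK.mp y0.2
  have hdet := diag_mul_of_ut _ h10
  have hne : ((y0 : K) : SL2 F).1 0 0 ≠ ((y0 : K) : SL2 F).1 1 1 := by
    intro hd
    apply hk
    have hy0c : (y0 : K) ∈ CT.cen u := (S.mem_cen_iff hu hu1 _).mpr ⟨h10, hd⟩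
    intro g hg
    obtain ⟨n, hn⟩ := hzp ⟨g, hg⟩
    have h1 : delta K (⟨g, hg⟩ * (y0 ^ n)⁻¹) = 1 := by
      rw [map_mul, map_inv, map_zpow, hn, mul_inv_cancel]
    rw [S.delta_eq_one_iff] at h1
    have h2 : ((⟨g, hg⟩ * (y0 ^ n)⁻¹ : BK K) : K) ∈ CT.cen u := S.U_le_cen hu hu1 h1
    have h3 : ((y0 ^ n : BK K) : K) ∈ CT.cen u := by
      rw [Subgroup.coe_zpow]
      exact zpow_mem hy0c n
    have h4 := mul_mem h2 h3
    have h5 : ((⟨g, hg⟩ * (y0 ^ n)⁻¹ : BK K) : K) * ((y0 ^ n : BK K) : K) = g := by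
      rw [← Subgroup.coe_mul, inv_mul_cancel_right]
    rw [h5] at h4
    exact h4
  refine ⟨(y0 : K), ?_, ?_, ?_⟩
  · intro hz
    exact hne (center_entries ((mem_ZK K).mp hz)).2.2.1
  · unfold SL2CT.tr
    rw [Matrix.trace_fin_two]
    intro h
    apply hne
    have : (((y0 : K) : SL2 F).1 0 0 - ((y0 : K) : SL2 F).1 1 1) ^ 2 = 0 := by
      linear_combination h - 4 * hdet
    have := pow_eq_zero_iff (two_ne_zero) |>.mp this
    exact sub_eq_zero.mp this
  · have hle : CT.cen (y0 : K) ≤ BK K := by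
      intro g hg
      rw [CT.mem_cen] at hg
      have hcg : (g : SL2 F) * ((y0 : K) : SL2 F) = ((y0 : K) : SL2 F) * (g : SL2 F) := by
        rw [← Subgroup.coe_mul, hg, Subgroup.coe_mul]
      exact mem_BK.mpr (ut_of_commute _ _ h10 hne hcg)
    let ψ : CT.cen (y0 : K) →* Fˣ := (delta K).comp (Subgroup.inclusion hle)
    have hψ : ∀ g : CT.cen (y0 : K), ((ψ g : Fˣ) : F) = ((g : K) : SL2 F).1 0 0 := fun g => rfl
    have hinj : Function.Injective ψ := by
      rw [injective_iff_map_eq_one]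
      intro g hg
      have hgU : ((Subgroup.inclusion hle g : BK K) : K) ∈ U := (S.delta_eq_one_iff _).mp hg
      have hgU' : (g : K) ∈ U := hgU
      obtain ⟨g00, g10, g11⟩ := S.u_entries hgU'
      have hcomm := CT.mem_cen.mp g.2
      have hm : ((g : K) : SL2 F) * ((y0 : K) : SL2 F) =
          ((y0 : K) : SL2 F) * ((g : K) : SL2 F) := by
        rw [← Subgroup.coe_mul, hcomm, Subgroup.coe_mul]
      have e01 := congrArg (fun w : SL2 F => w.1 0 1) hm
      simp only [mul_entry, g00, g10, g11, h10, mul_one, one_mul] at e01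
      have hb : ((g : K) : SL2 F).1 0 1 *
          (((y0 : K) : SL2 F).1 0 0 - ((y0 : K) : SL2 F).1 1 1) = 0 := by
        first
          | linear_combination e01
          | linear_combination (-1 : F) * e01
      have hb0 : ((g : K) : SL2 F).1 0 1 = 0 :=
        (mul_eq_zero.mp hb).resolve_right (sub_ne_zero.mpr hne)
      apply Subtype.ext
      apply Subtype.ext
      apply sl2_ext
      · rw [g00]; simp
      · rw [hb0]; simp
      · rw [g10]; simp
      · rw [g11]; simp
    have hrange : ψ.range = (delta K).range := by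
      apply le_antisymm
      · rintro _ ⟨g, rfl⟩
        exact ⟨Subgroup.inclusion hle g, rfl⟩
      · rintro _ ⟨g, rfl⟩
        obtain ⟨n, hn⟩ := hzp g
        refine ⟨(⟨(y0 : K), CT.self_mem_cen _⟩ : CT.cen (y0 : K)) ^ n, ?_⟩
        rw [map_zpow, hn]
        rfl
    have h1 : Nat.card ψ.range = Nat.card (CT.cen (y0 : K)) :=
      (Nat.card_congr (MonoidHom.ofInjective hinj).toEquiv).symm
    rw [S.card_BK, ← hrange, h1, mul_comm]

theorem eq_inv_of_card_three {G : Type*} [Group G] (h : Nat.card G = 3) {v w : G} (hv : v ≠ 1)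
    (hw1 : w ≠ 1) (hwv : w ≠ v) : w = v⁻¹ := by
  classical
  haveI : Finite G := Nat.finite_of_card_ne_zero (by rw [h]; norm_num)
  haveI : Fintype G := Fintype.ofFinite G
  have hcard : ({1, v, w} : Finset G).card = 3 := by
    rw [Finset.card_insert_of_notMem, Finset.card_pair hwv.symm]
    simp only [Finset.mem_insert, Finset.mem_singleton, not_or]
    exact ⟨hv.symm, hw1.symm⟩
  have huniv : ({1, v, w} : Finset G) = Finset.univ := by
    apply Finset.eq_univ_of_card
    rw [hcard, ← Nat.card_eq_fintype_card, h]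
  have hmem : v⁻¹ ∈ ({1, v, w} : Finset G) := by rw [huniv]; exact Finset.mem_univ _
  simp only [Finset.mem_insert, Finset.mem_singleton] at hmem
  rcases hmem with h1 | h1 | h1
  · exact absurd (inv_eq_one.mp h1) hv
  · exfalso
    have h2 : v * v = 1 := by
      nth_rewrite 1 [← h1]
      exact inv_mul_cancel v
    have h3 : v ^ 3 = 1 := by rw [← h]; exact pow_card_eq_one'
    apply hv
    calc v = v ^ 3 * (v * v)⁻¹ := by group
      _ = 1 := by rw [h3, h2]; simp
  · exact h1.symm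

/-- when `|U| = 3` and `N(U) ≠ C(u)`, all elements of `C(u) ∖ Z` are inverted -/
theorem Setup.invert3 (S : Setup p K U) {u : K} (hu : u ∈ U) (hu1 : u ≠ 1)
    (h3 : Nat.card (U : Subgroup K) = 3) (hk : ¬ BK K ≤ CT.cen u) :
    ∀ c, c ∈ CT.cen u → c ∉ ZK K → ∃ y : K, y * c * y⁻¹ = c⁻¹ := by
  intro c hc hcZ
  obtain ⟨y, hyB, hyc⟩ := SetLike.not_le_iff_exists.mp hk
  have huZ := S.u_not_mem_Z hu hu1
  -- decompose c = z v
  obtain ⟨z, hz, hzz, hzc⟩ : ∃ z : K, z ∈ ZK K ∧ z * z = 1 ∧ z * c ∈ U := by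
    obtain ⟨hc10, hcd⟩ := (S.mem_cen_iff hu hu1 c).mp hc
    have hdet := diag_mul_of_ut _ hc10
    rw [← hcd] at hdet
    have h2 : ((c : SL2 F).1 0 0 - 1) * ((c : SL2 F).1 0 0 + 1) = 0 := by
      linear_combination hdet
    rcases mul_eq_zero.mp h2 with h | h
    · have h00 : (c : SL2 F).1 0 0 = 1 := by linear_combination h
      refine ⟨1, one_mem _, one_mul 1, ?_⟩
      rw [one_mul, ← S.mem_U_iff, mem_slU_iff']
      exact ⟨h00, hc10, by rw [← hcd, h00]⟩
    · have h00 : (c : SL2 F).1 0 0 = -1 := by linear_combination h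
      refine ⟨S.m1, S.m1_mem_Z, S.m1_mul_m1, ?_⟩
      rw [← S.mem_U_iff, mem_slU_iff']
      refine ⟨?_, ?_, ?_⟩
      · rw [S.m1_entry, h00]; ring
      · rw [S.m1_entry, hc10]; ring
      · rw [S.m1_entry, ← hcd, h00]; ring
  have hzcen := (data K).central z hz
  have hv1 : z * c ≠ 1 := by
    intro h
    apply hcZ
    have : c = z⁻¹ := by
      have := congrArg (fun t => z⁻¹ * t) h
      simpa using this
    rw [this]
    exact inv_mem hz
  have hvZ : z * c ∉ ZK K := S.u_not_mem_Z hzc hv1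
  have hvcen : z * c ∈ CT.cen u := S.U_le_cen hu hu1 hzc
  have hyN : y ∈ Subgroup.normalizer ((U : Subgroup K) : Set K) := by
    rw [S.normalizer_eq]; exact hyB
  have hw : y * (z * c) * y⁻¹ ∈ U := (Subgroup.mem_normalizer_iff.mp hyN _).mp hzc
  have hw1 : y * (z * c) * y⁻¹ ≠ 1 := by
    intro h
    apply hv1
    have : z * c = y⁻¹ * (y * (z * c) * y⁻¹) * y := by group
    rw [this, h]
    group
  have hwv : y * (z * c) * y⁻¹ ≠ z * c := by
    intro h
    apply hyc
    rw [← CT.cen_eq_of_mem (data K) huZ hvcen hvZ, CT.mem_cen]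
    calc y * (z * c) = (y * (z * c) * y⁻¹) * y := by group
      _ = z * c * y := by rw [h]
  have hinv : (⟨y * (z * c) * y⁻¹, hw⟩ : ↥(U : Subgroup K)) = (⟨z * c, hzc⟩ : ↥(U : Subgroup K))⁻¹ := by
    apply eq_inv_of_card_three h3
    · intro h
      exact hv1 (congrArg Subtype.val h)
    · intro h
      exact hw1 (congrArg Subtype.val h)
    · intro h
      exact hwv (congrArg Subtype.val h)
  have hinv' : y * (z * c) * y⁻¹ = (z * c)⁻¹ := by
    have := congrArg Subtype.val hinv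
    simpa using this
  refine ⟨y, ?_⟩
  have hzinv : z⁻¹ = z := by
    have := congrArg (fun t => t * z⁻¹) hzz
    simpa using this.symm
  have e1 : y * c * y⁻¹ = z⁻¹ * (y * (z * c) * y⁻¹) := by
    have : y * (z * c) * y⁻¹ = z * (y * c * y⁻¹) := by
      calc y * (z * c) * y⁻¹ = (y * z) * c * y⁻¹ := by group
        _ = (z * y) * c * y⁻¹ := by rw [hzcen y]
        _ = z * (y * c * y⁻¹) := by group
    rw [this]
    group
  rw [e1, hinv']
  have e2 : (z * c)⁻¹ = c⁻¹ * z⁻¹ := by group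
  rw [e2, hzinv]
  have := hzcen c⁻¹
  rw [← mul_assoc, this, mul_assoc, hzz, mul_one]

end setup4

section setup5

variable [Fintype F] {p : ℕ} [Fact p.Prime] [CharP F p]
variable {K : Subgroup (SL2 F)} {U : Sylow p K}

/-- **The mixed case**: if the Sylow `p`-subgroup `U` of `K` is nontrivial and not normal, then
`K` has `|U| + 1` Sylow `p`-subgroups, or `K/Z` is dihedral with `|U| = 2` or `A₅` with `|U| = 3`. -/
theorem Setup.main (S : Setup p K U) {Hb : Type*} [Group Hb] (φ : K →* Hb)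
    (hφ : Function.Surjective φ) (hker : φ.ker = ZK K) (hne : BK K ≠ ⊤) :
    (BK K).index = Nat.card (U : Subgroup K) + 1 ∨
      (Nat.card (U : Subgroup K) = 2 ∧ ∃ n, 0 < n ∧ Nonempty (Hb ≃* DihedralGroup n)) ∨
      (Nat.card (U : Subgroup K) = 3 ∧ Nonempty (Hb ≃* alternatingGroup (Fin 5))) := by
  classical
  obtain ⟨u, hu, hu1⟩ := S.exists_u
  have huZ := S.u_not_mem_Z hu hu1
  have hcu := S.card_cen hu hu1
  have hnor := S.nor_eq hu hu1
  have hle := S.cen_le_BK hu hu1
  have hnu : Nat.card (CT.nor u) = (CT.cen u).relIndex (BK K) * Nat.card (CT.cen u) := by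
    rw [hnor]
    exact CT.card_eq_relIndex_mul hle
  have hk1 : 1 ≤ (CT.cen u).relIndex (BK K) := by
    have : (CT.cen u).relIndex (BK K) ≠ 0 := Subgroup.index_ne_zero_of_finite
    omega
  have hkq := S.relIndex_le hu hu1
  have hN2 : 2 ≤ (CT.nor u).index := by
    rw [hnor]
    have h0 : (BK K).index ≠ 0 := Subgroup.index_ne_zero_of_finite
    have h1 : (BK K).index ≠ 1 := fun h => hne (Subgroup.index_eq_one.mp h)
    omega
  have hmod : Nat.card (U : Subgroup K) ∣ (CT.nor u).index - 1 := by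
    rw [hnor, S.index_BK]
    exact S.card_sylow_mod
  have hnle : 2 ≤ (CT.cen u).relIndex (BK K) → ¬ BK K ≤ CT.cen u := by
    intro h2 hle'
    have := Subgroup.relIndex_eq_one.mpr hle'
    omega
  have h := CT.mixed_main (data K) φ hφ hker huZ hcu hnu hk1 hkq hN2 hmod ?_ ?_ ?_
  · rw [hnor] at h
    exact h
  · intro x hxZ hxcls
    have h4 : SL2CT.tr K x ^ 2 ≠ 4 := fun h4 => hxcls (S.mem_cls_of_tr hu hu1 hxZ h4)
    exact ⟨inv_of_tr K h4, isCyclic_cen K h4⟩
  · intro h2
    obtain ⟨y0, hy0Z, hy0tr, hy0c⟩ := S.exists_y0 hu hu1 (hnle h2)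
    refine ⟨y0, hy0Z, fun hc => hy0tr (S.tr_of_mem_cls hu hu1 hc), ?_⟩
    have e1 : Nat.card (BK K) = (CT.cen u).relIndex (BK K) * Nat.card (CT.cen u) :=
      CT.card_eq_relIndex_mul hle
    rw [e1, hcu] at hy0c
    have hU : 0 < Nat.card (U : Subgroup K) := Nat.card_pos
    apply Nat.eq_of_mul_eq_mul_right hU
    rw [hy0c]
    ring
  · intro h3 h2
    exact S.invert3 hu hu1 h3 (hnle (le_of_eq h2.symm))

end setup5

end Cfsg.Agent.Helper98.Dickson
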