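import Mathlib
import Cfsg.Agent.Lib.Helper5.SLCard
import Cfsg.Agent.Lib.Helper41.SL2

set_option autoImplicit false
set_option linter.style.haveILetI false

/-!
# Order of `PSL₂(q)` and elements of order four in characteristic two
-/

namespace Cfsg.Agent.Helper98.PSL2Card

open Matrix

variable {F : Type*} [Field F]

/-- `|PSL₂(q)| * 2 = (q² - 1) q` for odd `q` -/
theorem card_psl2_odd [Fintype F] {q : ℕ} (hF : Fintype.card F = q) (hodd : Odd q) :
    Nat.card (ProjectiveSpecialLinearGroup (Fin 2) F) * 2 = (q ^ 2 - 1) * q := by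
  have h := Cfsg.Agent.Helper5.card_PSL_mul hF 2 (by norm_num)
  rw [Fin.prod_univ_two] at h
  simp only [Fin.val_zero, pow_zero, Fin.val_one, pow_one] at h
  have hq1 : 1 < q := by rw [← hF]; exact Fintype.one_lt_card
  obtain ⟨m, rfl⟩ := hodd
  have hg : Nat.gcd 2 (2 * m + 1 - 1) = 2 := by
    apply Nat.gcd_eq_left
    exact ⟨m, by omega⟩
  rw [hg] at h
  have h1 : (2 * m + 1) ^ 2 - (2 * m + 1) = (2 * m + 1) * (2 * m + 1 - 1) := by
    rw [pow_two, Nat.mul_sub, mul_one]
  rw [h1, ← mul_assoc] at h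
  exact Nat.eq_of_mul_eq_mul_right (by omega) h

/-- `|PSL₂(q)| = (q² - 1) q` for even `q` -/
theorem card_psl2_even [Fintype F] {q : ℕ} (hF : Fintype.card F = q) (heven : Even q) :
    Nat.card (ProjectiveSpecialLinearGroup (Fin 2) F) = (q ^ 2 - 1) * q := by
  have h := Cfsg.Agent.Helper5.card_PSL_mul hF 2 (by norm_num)
  rw [Fin.prod_univ_two] at h
  simp only [Fin.val_zero, pow_zero, Fin.val_one, pow_one] at h
  have hq1 : 1 < q := by rw [← hF]; exact Fintype.one_lt_card
  obtain ⟨m, rfl⟩ := heven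
  have hg : Nat.gcd 2 (m + m - 1) = 1 := by
    have : Nat.Coprime 2 (m + m - 1) := by
      rw [Nat.coprime_two_left]
      exact ⟨m - 1, by omega⟩
    exact this
  rw [hg, mul_one] at h
  have h1 : (m + m) ^ 2 - (m + m) = (m + m) * (m + m - 1) := by
    rw [pow_two, Nat.mul_sub, mul_one]
  rw [h1, ← mul_assoc] at h
  exact Nat.eq_of_mul_eq_mul_right (by omega) h

/-- even order forces characteristic two -/
theorem two_eq_zero_of_even_card [Fintype F] (h : Even (Fintype.card F)) : (2 : F) = 0 := by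
  obtain ⟨p, hp⟩ := CharP.exists F
  haveI := hp
  obtain ⟨n, hprime, hcard⟩ := FiniteField.card F p
  rw [hcard] at h
  have h2 : 2 ∣ p ^ (n : ℕ) := even_iff_two_dvd.mp h
  have h3 : 2 ∣ p := Nat.Prime.dvd_of_dvd_pow Nat.prime_two h2
  have h4 : p = 2 := ((Nat.prime_dvd_prime_iff_eq Nat.prime_two hprime).mp h3).symm
  subst h4
  have := CharP.cast_eq_zero F 2
  exact_mod_cast this

/-- in characteristic two a determinant-one `2×2` matrix of order dividing four has order dividing
two -/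
theorem sq_eq_one_of_pow_four (h2 : (2 : F) = 0) (M : Matrix (Fin 2) (Fin 2) F) (hdet : M.det = 1)
    (h4 : M ^ 4 = 1) : M ^ 2 = 1 := by
  have hsq := Cfsg.Agent.Helper41.sq_eq_of_det_one M hdet
  set t := M.trace with ht
  have hneg : (-1 : Matrix (Fin 2) (Fin 2) F) = 1 := by
    rw [neg_eq_iff_add_eq_zero, ← two_smul F (1 : Matrix (Fin 2) (Fin 2) F), h2, zero_smul]
  have h5 : M ^ 4 = (t ^ 2) • (M ^ 2) + 1 := by
    have : M ^ 4 = M ^ 2 * M ^ 2 := by rw [← pow_add]
    rw [this]
    nth_rewrite 1 [hsq]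
    nth_rewrite 1 [hsq]
    have e : (t • M - 1) * (t • M - 1) = (t ^ 2) • (M * M) - (2 * t) • M + 1 := by
      simp only [sub_mul, mul_sub, smul_mul_assoc, mul_smul_comm, one_mul, mul_one]
      module
    rw [e, h2, zero_mul, zero_smul, sub_zero, pow_two M]
  rw [h4] at h5
  have h6 : (t ^ 2) • (M ^ 2) = 0 := by
    have := h5
    rw [right_eq_add] at this
    exact this
  have h7 := congrArg Matrix.det h6
  rw [Matrix.det_smul, Matrix.det_pow, hdet, one_pow, mul_one, Matrix.det_zero,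
    Fintype.card_fin] at h7
  have ht0 : t = 0 := by
    have := pow_eq_zero_iff (n := 2) (by norm_num) |>.mp h7
    exact pow_eq_zero_iff (n := 2) (by norm_num) |>.mp this
  rw [hsq, ht0, zero_smul, zero_sub, hneg]

end Cfsg.Agent.Helper98.PSL2Card
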