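import Cfsg.Agent.Lib.Helper98.CTPrime
import Cfsg.Agent.Lib.Helper41.SL2NormCent
import Cfsg.Agent.Lib.Helper41.SL2Spec
import Cfsg.Agent.Lib.Helper41.SL2Conj

set_option autoImplicit false
set_option linter.unusedSectionVars false
set_option linter.unusedVariables false
set_option linter.style.haveILetI false

/-!
# `SL₂` facts for the class equation
-/

namespace Cfsg.Agent.Helper98.SL2CT

open Matrix Cfsg.Agent.Helper41

variable {F : Type*} [Field F]

theorem det_sub_one (M : Matrix (Fin 2) (Fin 2) F) : (M - 1).det = M.det - M.trace + 1 := by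
  rw [Matrix.det_fin_two, Matrix.det_fin_two, Matrix.trace_fin_two]
  simp only [Matrix.sub_apply, Matrix.one_apply_eq, Matrix.one_apply_ne, ne_eq, zero_ne_one,
    not_false_eq_true, one_ne_zero, sub_zero]
  ring

/-- Commuting determinant-one matrices of the same trace `τ`, `τ² ≠ 4`, are equal or inverse. -/
theorem eq_or_eq_adj_of_commute_trace (X W : Matrix (Fin 2) (Fin 2) F) (hX : X.det = 1)
    (hW : W.det = 1) (hc : W * X = X * W) (htr : W.trace = X.trace) (h4 : X.trace ^ 2 ≠ 4) :
    W = X ∨ W = X.trace • (1 : Matrix (Fin 2) (Fin 2) F) - X := by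
  obtain ⟨τ, hτ⟩ : ∃ τ, τ = X.trace := ⟨_, rfl⟩
  rw [← hτ] at h4 ⊢
  have hXX : X * X = τ • X - 1 := by rw [← sq, sq_eq_of_det_one X hX, hτ]
  have hWW : W * W = τ • W - 1 := by rw [← sq, sq_eq_of_det_one W hW, htr, hτ]
  obtain ⟨Y, hY⟩ : ∃ Y, Y = τ • (1 : Matrix (Fin 2) (Fin 2) F) - X := ⟨_, rfl⟩
  rw [← hY]
  have hXY : X * Y = 1 := by
    rw [hY, mul_sub, hXX, Matrix.mul_smul, Matrix.mul_one]
    abel
  have hYX : Y * X = 1 := by
    rw [hY, sub_mul, hXX, Matrix.smul_mul, Matrix.one_mul]
    abel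
  have hWY : W * Y = Y * W := by
    rw [hY, mul_sub, sub_mul, hc, Matrix.mul_smul, Matrix.smul_mul, Matrix.mul_one,
      Matrix.one_mul]
  have hYpX : Y + X = τ • (1 : Matrix (Fin 2) (Fin 2) F) := by
    rw [hY]; abel
  have hAB : W * Y * (W * X) = W * W := by
    calc W * Y * (W * X) = W * (Y * W) * X := by simp only [Matrix.mul_assoc]
      _ = W * (W * Y) * X := by rw [hWY]
      _ = W * W * (Y * X) := by simp only [Matrix.mul_assoc]
      _ = W * W := by rw [hYX, Matrix.mul_one]
  have hBA : W * X * (W * Y) = W * W := by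
    calc W * X * (W * Y) = W * (X * W) * Y := by simp only [Matrix.mul_assoc]
      _ = W * (W * X) * Y := by rw [hc]
      _ = W * W * (X * Y) := by simp only [Matrix.mul_assoc]
      _ = W * W := by rw [hXY, Matrix.mul_one]
  have hsum : W * Y + W * X = τ • W := by
    rw [← Matrix.mul_add, hYpX, Matrix.mul_smul, Matrix.mul_one]
  have key1 : (W * Y - 1) * (W * X - 1) = 0 := by
    rw [sub_mul, mul_sub, mul_sub, mul_one, one_mul, mul_one, hAB, hWW]
    rw [← hsum]
    abel
  have key2 : (W * X - 1) * (W * Y - 1) = 0 := by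
    rw [sub_mul, mul_sub, mul_sub, mul_one, one_mul, mul_one, hBA, hWW]
    rw [← hsum]
    abel
  have hdetY : Y.det = 1 := by
    have := congrArg Matrix.det hXY
    rw [Matrix.det_mul, hX, one_mul, Matrix.det_one] at this
    exact this
  by_cases hB : (W * X - 1).det = 0
  · by_cases hA : (W * Y - 1).det = 0
    · exfalso
      rw [det_sub_one, Matrix.det_mul, hW, hX] at hB
      rw [det_sub_one, Matrix.det_mul, hW, hdetY] at hA
      have h1 : (W * Y).trace + (W * X).trace = τ * τ := by
        rw [← Matrix.trace_add, hsum, Matrix.trace_smul, htr, hτ, smul_eq_mul]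
      apply h4
      linear_combination (-1 : F) * h1 - hA - hB
    · right
      have hunit : IsUnit (W * Y - 1) := by
        rw [Matrix.isUnit_iff_isUnit_det]
        exact isUnit_iff_ne_zero.mpr hA
      obtain ⟨u, hu⟩ := hunit
      rw [← hu] at key2
      have h0 : W * X - 1 = 0 := (Units.mul_left_eq_zero u).mp key2
      have h1 : W * X = 1 := sub_eq_zero.mp h0
      calc W = W * (X * Y) := by rw [hXY, Matrix.mul_one]
        _ = (W * X) * Y := by rw [Matrix.mul_assoc]
        _ = Y := by rw [h1, Matrix.one_mul]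
  · left
    have hunit : IsUnit (W * X - 1) := by
      rw [Matrix.isUnit_iff_isUnit_det]
      exact isUnit_iff_ne_zero.mpr hB
    obtain ⟨u, hu⟩ := hunit
    rw [← hu] at key1
    have h0 : W * Y - 1 = 0 := (Units.mul_left_eq_zero u).mp key1
    have h1 : W * Y = 1 := sub_eq_zero.mp h0
    calc W = W * (Y * X) := by rw [hYX, Matrix.mul_one]
      _ = (W * Y) * X := by rw [Matrix.mul_assoc]
      _ = X := by rw [h1, Matrix.one_mul]

/-- group version -/
theorem eq_or_eq_inv_of_commute_trace' (x w : Matrix.SpecialLinearGroup (Fin 2) F)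
    (hc : w * x = x * w)
    (htr : (w : Matrix (Fin 2) (Fin 2) F).trace = (x : Matrix (Fin 2) (Fin 2) F).trace)
    (h4 : (x : Matrix (Fin 2) (Fin 2) F).trace ^ 2 ≠ 4) : w = x ∨ w = x⁻¹ := by
  have hc' : (w : Matrix (Fin 2) (Fin 2) F) * (x : Matrix (Fin 2) (Fin 2) F) =
      (x : Matrix (Fin 2) (Fin 2) F) * (w : Matrix (Fin 2) (Fin 2) F) := by
    rw [← Matrix.SpecialLinearGroup.coe_mul, hc, Matrix.SpecialLinearGroup.coe_mul]
  rcases eq_or_eq_adj_of_commute_trace _ _ x.2 w.2 hc' htr h4 with h | h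
  · left
    exact Subtype.ext h
  · right
    apply Subtype.ext
    rw [h]
    have := coe_add_coe_inv x
    rw [← this]
    abel

section chi

variable {E : Type*} [Field E] (φ : F →+* E)

/-- not a scalar matrix -/
def NonScalar (A : Matrix (Fin 2) (Fin 2) F) : Prop := ¬ (A 0 1 = 0 ∧ A 1 0 = 0 ∧ A 0 0 = A 1 1)

theorem repr_entries (α β : F) (A : Matrix (Fin 2) (Fin 2) F) :
    (α • (1 : Matrix (Fin 2) (Fin 2) F) + β • A) 0 0 = α + β * A 0 0 ∧
    (α • (1 : Matrix (Fin 2) (Fin 2) F) + β • A) 0 1 = β * A 0 1 ∧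
    (α • (1 : Matrix (Fin 2) (Fin 2) F) + β • A) 1 0 = β * A 1 0 ∧
    (α • (1 : Matrix (Fin 2) (Fin 2) F) + β • A) 1 1 = α + β * A 1 1 := by
  refine ⟨?_, ?_, ?_, ?_⟩
  · simp only [Matrix.add_apply, Matrix.smul_apply, Matrix.one_apply_eq, smul_eq_mul, mul_one]
  · simp only [Matrix.add_apply, Matrix.smul_apply, smul_eq_mul]
    rw [Matrix.one_apply_ne (by decide : (0 : Fin 2) ≠ 1), mul_zero, zero_add]
  · simp only [Matrix.add_apply, Matrix.smul_apply, smul_eq_mul]
    rw [Matrix.one_apply_ne (by decide : (1 : Fin 2) ≠ 0), mul_zero, zero_add]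
  · simp only [Matrix.add_apply, Matrix.smul_apply, Matrix.one_apply_eq, smul_eq_mul, mul_one]

theorem repr_unique {A : Matrix (Fin 2) (Fin 2) F} (hA : NonScalar A) {α β α' β' : F}
    (h : α • (1 : Matrix (Fin 2) (Fin 2) F) + β • A = α' • (1 : Matrix (Fin 2) (Fin 2) F) + β' • A) :
    α = α' ∧ β = β' := by
  obtain ⟨a00, a01, a10, a11⟩ := repr_entries α β A
  obtain ⟨b00, b01, b10, b11⟩ := repr_entries α' β' A
  have e00 := congrFun (congrFun h 0) 0
  have e01 := congrFun (congrFun h 0) 1
  have e10 := congrFun (congrFun h 1) 0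
  have e11 := congrFun (congrFun h 1) 1
  rw [a00, b00] at e00
  rw [a01, b01] at e01
  rw [a10, b10] at e10
  rw [a11, b11] at e11
  have hβ : β = β' := by
    by_contra hne
    apply hA
    have hne' : β - β' ≠ 0 := sub_ne_zero.mpr hne
    refine ⟨?_, ?_, ?_⟩
    · have : (β - β') * A 0 1 = 0 := by linear_combination e01
      exact (mul_eq_zero.mp this).resolve_left hne'
    · have : (β - β') * A 1 0 = 0 := by linear_combination e10
      exact (mul_eq_zero.mp this).resolve_left hne'
    · have : (β - β') * (A 0 0 - A 1 1) = 0 := by linear_combination e00 - e11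
      exact sub_eq_zero.mp ((mul_eq_zero.mp this).resolve_left hne')
  subst hβ
  exact ⟨by linear_combination e00, rfl⟩

open Classical in
/-- the character `α + β A ↦ α + β λ` -/
noncomputable def chi (A : Matrix (Fin 2) (Fin 2) F) (lam : E) (Y : Matrix (Fin 2) (Fin 2) F) : E :=
  if h : ∃ α β : F, Y = α • (1 : Matrix (Fin 2) (Fin 2) F) + β • A then
    φ h.choose + φ h.choose_spec.choose * lam else 0

theorem chi_eq {A : Matrix (Fin 2) (Fin 2) F} (hA : NonScalar A) (lam : E) (α β : F) :
    chi φ A lam (α • (1 : Matrix (Fin 2) (Fin 2) F) + β • A) = φ α + φ β * lam := by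
  have h : ∃ α' β' : F, α • (1 : Matrix (Fin 2) (Fin 2) F) + β • A =
      α' • (1 : Matrix (Fin 2) (Fin 2) F) + β' • A := ⟨α, β, rfl⟩
  unfold chi
  rw [dif_pos h]
  obtain ⟨h1, h2⟩ := repr_unique hA h.choose_spec.choose_spec
  have e1 : φ h.choose = φ α := by rw [← h1]
  have e2 : φ h.choose_spec.choose = φ β := by rw [← h2]
  rw [e1, e2]

theorem repr_mul {A : Matrix (Fin 2) (Fin 2) F} (hdet : A.det = 1) (α β α' β' : F) :
    (α • (1 : Matrix (Fin 2) (Fin 2) F) + β • A) * (α' • (1 : Matrix (Fin 2) (Fin 2) F) + β' • A) =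
      (α * α' - β * β') • (1 : Matrix (Fin 2) (Fin 2) F) +
        (α * β' + α' * β + β * β' * A.trace) • A := by
  have hAA : A * A = A.trace • A - 1 := by rw [← sq, sq_eq_of_det_one A hdet]
  simp only [Matrix.add_mul, Matrix.mul_add, Matrix.smul_mul, Matrix.mul_smul, Matrix.one_mul,
    Matrix.mul_one, hAA, smul_sub, smul_smul, add_smul, sub_smul]
  module

theorem repr_det (A : Matrix (Fin 2) (Fin 2) F) (hdet : A.det = 1) (α β : F) :
    (α • (1 : Matrix (Fin 2) (Fin 2) F) + β • A).det = α ^ 2 + α * β * A.trace + β ^ 2 := by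
  obtain ⟨a00, a01, a10, a11⟩ := repr_entries α β A
  rw [Matrix.det_fin_two, a00, a01, a10, a11, Matrix.trace_fin_two]
  rw [Matrix.det_fin_two] at hdet
  linear_combination β ^ 2 * hdet

/-- a finite group of matrices commuting with a regular semisimple element is cyclic -/
theorem isCyclic_of_hom {C : Type*} [Group C] [Finite C]
    (f : C →* Matrix.SpecialLinearGroup (Fin 2) F) (hf : Function.Injective f)
    (x : Matrix.SpecialLinearGroup (Fin 2) F)
    (h4 : (x : Matrix (Fin 2) (Fin 2) F).trace ^ 2 ≠ 4)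
    (hcomm : ∀ c, f c * x = x * f c) : IsCyclic C := by
  classical
  obtain ⟨X, hXdef⟩ : ∃ X : Matrix (Fin 2) (Fin 2) F, X = (x : Matrix (Fin 2) (Fin 2) F) :=
    ⟨_, rfl⟩
  have hXdet : X.det = 1 := by rw [hXdef]; exact x.2
  rw [← hXdef] at h4
  have hXns : NonScalar X := not_scalar_of_trace_sq_ne_four X hXdet h4
  obtain ⟨τ, hτ⟩ : ∃ τ, τ = X.trace := ⟨_, rfl⟩
  rw [← hτ] at h4
  let E := AlgebraicClosure F
  let φ : F →+* E := algebraMap F E
  have hφ : Function.Injective φ := (algebraMap F E).injective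
  obtain ⟨lam, hlam⟩ : ∃ lam : E, lam ^ 2 - φ τ * lam + 1 = 0 := by
    have hdeg : (Polynomial.C (1 : E) * Polynomial.X ^ 2 + Polynomial.C (-(φ τ)) * Polynomial.X +
        Polynomial.C 1 : Polynomial E).degree ≠ 0 := by
      rw [Polynomial.degree_quadratic one_ne_zero]
      norm_num
    obtain ⟨r, hr⟩ := IsAlgClosed.exists_root _ hdeg
    refine ⟨r, ?_⟩
    simp only [Polynomial.IsRoot, Polynomial.eval_add, Polynomial.eval_mul, Polynomial.eval_C,
      Polynomial.eval_pow, Polynomial.eval_X] at hr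
    linear_combination hr
  have hrep : ∀ c : C, ∃ α β : F, ((f c : Matrix.SpecialLinearGroup (Fin 2) F) :
      Matrix (Fin 2) (Fin 2) F) = α • (1 : Matrix (Fin 2) (Fin 2) F) + β • X := by
    intro c
    apply exists_eq_smul_add_smul_of_commute X _ hXns
    rw [hXdef, ← Matrix.SpecialLinearGroup.coe_mul, ← hcomm c, Matrix.SpecialLinearGroup.coe_mul]
  let ψ : C →* E :=
    { toFun := fun c => chi φ X lam ((f c : Matrix.SpecialLinearGroup (Fin 2) F) :
        Matrix (Fin 2) (Fin 2) F)
      map_one' := by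
        have h1 : ((f 1 : Matrix.SpecialLinearGroup (Fin 2) F) : Matrix (Fin 2) (Fin 2) F) =
            (1 : F) • (1 : Matrix (Fin 2) (Fin 2) F) + (0 : F) • X := by
          rw [map_one, Matrix.SpecialLinearGroup.coe_one, one_smul, zero_smul, add_zero]
        change chi φ X lam ((f 1 : Matrix.SpecialLinearGroup (Fin 2) F) :
          Matrix (Fin 2) (Fin 2) F) = 1
        rw [h1, chi_eq φ hXns, map_one, map_zero, zero_mul, add_zero]
      map_mul' := by
        intro c d
        obtain ⟨α, β, h1⟩ := hrep c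
        obtain ⟨α', β', h2⟩ := hrep d
        change chi φ X lam ((f (c * d) : Matrix.SpecialLinearGroup (Fin 2) F) :
          Matrix (Fin 2) (Fin 2) F) = chi φ X lam _ * chi φ X lam _
        rw [map_mul, Matrix.SpecialLinearGroup.coe_mul, h1, h2, repr_mul hXdet, chi_eq φ hXns,
          chi_eq φ hXns, chi_eq φ hXns, ← hτ]
        simp only [map_sub, map_add, map_mul]
        linear_combination (-(φ β * φ β')) * hlam }
  apply isCyclic_of_injective_ringHom ψ
  rw [injective_iff_map_eq_one]
  intro c hc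
  obtain ⟨α, β, h1⟩ := hrep c
  have hc' : φ α + φ β * lam = 1 := by
    have : ψ c = chi φ X lam ((f c : Matrix.SpecialLinearGroup (Fin 2) F) :
        Matrix (Fin 2) (Fin 2) F) := rfl
    rw [this, h1, chi_eq φ hXns] at hc
    exact hc
  have hdet : α ^ 2 + α * β * τ + β ^ 2 = 1 := by
    have := (f c).2
    rw [h1, repr_det X hXdet, ← hτ] at this
    exact this
  have hdetE : φ α ^ 2 + φ α * φ β * φ τ + φ β ^ 2 = 1 := by
    have := congrArg φ hdet
    simpa only [map_add, map_mul, map_pow, map_one] using this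
  -- the other eigenvalue
  have h2 : (φ α + φ β * lam) * (φ α + φ β * (φ τ - lam)) = 1 := by
    linear_combination hdetE - (φ β) ^ 2 * hlam
  rw [hc', one_mul] at h2
  have h3 : φ β * (2 * lam - φ τ) = 0 := by linear_combination hc' - h2
  have h5 : (2 * lam - φ τ) ≠ 0 := by
    intro h0
    apply h4
    apply hφ
    rw [map_pow, map_ofNat]
    linear_combination (-(φ τ + 2 * lam) + 4 * lam) * h0 - 4 * hlam
  have hβ : φ β = 0 := (mul_eq_zero.mp h3).resolve_right h5
  have hβ0 : β = 0 := by
    apply hφ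
    rw [hβ, map_zero]
  have hα : α = 1 := by
    apply hφ
    rw [map_one]
    rw [hβ, zero_mul, add_zero] at hc'
    exact hc'
  apply hf
  apply Subtype.ext
  rw [h1, hα, hβ0, map_one, Matrix.SpecialLinearGroup.coe_one, one_smul, zero_smul, add_zero]

end chi

section data

local notation "SL2" => Matrix.SpecialLinearGroup (Fin 2) F

theorem nonScalar_of_not_mem_center (x : SL2) (hx : x ∉ Subgroup.center SL2) :
    NonScalar (x : Matrix (Fin 2) (Fin 2) F) := by
  rintro ⟨h01, h10, h00⟩
  apply hx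
  rw [sl2_mem_center_iff]
  have hdet : (x : Matrix (Fin 2) (Fin 2) F).det = 1 := x.2
  rw [Matrix.det_fin_two, h01, h00] at hdet
  have h1 : ((x : Matrix (Fin 2) (Fin 2) F) 1 1 - 1) * ((x : Matrix (Fin 2) (Fin 2) F) 1 1 + 1) = 0 := by
    linear_combination hdet
  rcases mul_eq_zero.mp h1 with h | h
  · left
    have h11 : (x : Matrix (Fin 2) (Fin 2) F) 1 1 = 1 := by linear_combination h
    ext i j
    fin_cases i <;> fin_cases j <;> simp [h01, h10, h00, h11]
  · right
    have h11 : (x : Matrix (Fin 2) (Fin 2) F) 1 1 = -1 := by linear_combination h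
    ext i j
    fin_cases i <;> fin_cases j <;> simp [h01, h10, h00, h11]

variable (K : Subgroup (Matrix.SpecialLinearGroup (Fin 2) F))

/-- the central subgroup -/
def ZK : Subgroup K := (Subgroup.center SL2).subgroupOf K

theorem mem_ZK {x : K} : x ∈ ZK K ↔ (x : SL2) ∈ Subgroup.center SL2 := Subgroup.mem_subgroupOf

theorem data : CT.Data (ZK K) where
  central := by
    intro z hz k
    rw [mem_ZK] at hz
    apply Subtype.ext
    rw [Subgroup.coe_mul, Subgroup.coe_mul]
    exact (Subgroup.mem_center_iff.mp hz k).symm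
  comm := by
    intro x hx y w hyx hwx
    rw [mem_ZK] at hx
    apply Subtype.ext
    rw [Subgroup.coe_mul, Subgroup.coe_mul]
    apply Subtype.ext
    rw [Matrix.SpecialLinearGroup.coe_mul, Matrix.SpecialLinearGroup.coe_mul]
    apply commute_of_commute_nonscalar _ _ _ (nonScalar_of_not_mem_center _ hx)
    · have := congrArg (fun t : K => ((t : SL2) : Matrix (Fin 2) (Fin 2) F)) hyx
      simp only [Subgroup.coe_mul, Matrix.SpecialLinearGroup.coe_mul] at this
      exact this.symm
    · have := congrArg (fun t : K => ((t : SL2) : Matrix (Fin 2) (Fin 2) F)) hwx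
      simp only [Subgroup.coe_mul, Matrix.SpecialLinearGroup.coe_mul] at this
      exact this.symm

/-- the trace of an element of `K` -/
def tr (x : K) : F := ((x : SL2) : Matrix (Fin 2) (Fin 2) F).trace

theorem tr_conj (x y : K) : tr K (y * x * y⁻¹) = tr K x := by
  unfold tr
  rw [Subgroup.coe_mul, Subgroup.coe_mul, Matrix.SpecialLinearGroup.coe_mul,
    Matrix.trace_mul_comm, ← Matrix.SpecialLinearGroup.coe_mul, Subgroup.coe_inv,
    ← mul_assoc, inv_mul_cancel, one_mul]

theorem inv_of_tr {x : K} (h4 : tr K x ^ 2 ≠ 4) : CT.Inv x := by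
  intro y hy
  rw [CT.mem_cen] at hy
  have hc : ((y * x * y⁻¹ : K) : SL2) * (x : SL2) = (x : SL2) * ((y * x * y⁻¹ : K) : SL2) := by
    rw [← Subgroup.coe_mul, hy, Subgroup.coe_mul]
  rcases eq_or_eq_inv_of_commute_trace' (x : SL2) ((y * x * y⁻¹ : K) : SL2) hc (tr_conj K x y) h4
    with h | h
  · left
    exact Subtype.ext h
  · right
    apply Subtype.ext
    rw [h, Subgroup.coe_inv]

theorem isCyclic_cen [Finite K] {x : K} (h4 : tr K x ^ 2 ≠ 4) : IsCyclic (CT.cen x) := by
  apply isCyclic_of_hom (K.subtype.comp (CT.cen x).subtype) ?_ (x : SL2) h4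
  · intro c
    have := CT.mem_cen.mp c.2
    have h2 := congrArg (fun t : K => (t : SL2)) this
    simp only [Subgroup.coe_mul] at h2
    exact h2
  · intro a b hab
    apply Subtype.ext
    apply Subtype.ext
    exact hab

end data

end Cfsg.Agent.Helper98.SL2CT
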