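import Mathlib

set_option autoImplicit false
set_option linter.style.haveILetI false

/-!
# Normalizers of self-centralizing Klein four subgroups

Generic finite group theory: if `V ≤ G` is a Klein four subgroup with `C_G(V) = V`, then
`N_G(V) / V` embeds in the stabilizer of `1` in `Perm V` (of order `6`).
-/

namespace Cfsg.Agent.Helper98.KleinNorm

open Subgroup

/-- decidable fact about `S₄` -/
theorem perm_fin4 : ∀ (a : Fin 4) (σ : Equiv.Perm (Fin 4)), σ a = a →
    σ ^ 2 = 1 ∨ (σ ^ 3 = 1 ∧ ∀ x, σ x = x → x = a) := by decide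

theorem perm_four {α : Type*} [Finite α] (h : Nat.card α = 4) (a : α) (σ : Equiv.Perm α)
    (ha : σ a = a) : σ ^ 2 = 1 ∨ (σ ^ 3 = 1 ∧ ∀ x, σ x = x → x = a) := by
  obtain ⟨e⟩ : Nonempty (α ≃ Fin 4) := ⟨Finite.equivFinOfCardEq h⟩
  have h1 := perm_fin4 (e a) (e.permCongrHom σ) (by simp [Equiv.permCongrHom, ha])
  rcases h1 with h | ⟨h, hfix⟩
  · left
    apply (e.permCongrHom).injective
    rw [map_pow, h, map_one]
  · right
    refine ⟨?_, fun x hx => ?_⟩
    · apply (e.permCongrHom).injective
      rw [map_pow, h, map_one]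
    · have := hfix (e x) (by simp [Equiv.permCongrHom, hx])
      exact e.injective this

theorem card_stabilizer_one {α : Type*} [Finite α] (h : Nat.card α = 4) (a : α) :
    Nat.card (MulAction.stabilizer (Equiv.Perm α) a) = 6 := by
  classical
  have h1 := Subgroup.card_mul_index (MulAction.stabilizer (Equiv.Perm α) a)
  have h2 : MulAction.orbit (Equiv.Perm α) a = Set.univ := MulAction.orbit_eq_univ _ a
  rw [MulAction.index_stabilizer, h2, Set.ncard_univ, h, Nat.card_perm, h] at h1
  have : Nat.factorial 4 = 24 := by decide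
  omega

variable {G : Type*} [Group G]

/-- the permutation action of the normalizer on `V` -/
noncomputable def phi (V : Subgroup G) : (normalizer (V : Set G)) →* Equiv.Perm V :=
  (MulAut.toPerm V).comp V.normalizerMonoidHom

theorem phi_apply (V : Subgroup G) (g : normalizer (V : Set G)) (v : V) :
    ((phi V g v : V) : G) = g * v * (g : G)⁻¹ := by
  rfl

theorem phi_one (V : Subgroup G) (g : normalizer (V : Set G)) : phi V g 1 = 1 := by
  apply Subtype.ext
  rw [phi_apply]
  simp

theorem phi_ker (V : Subgroup G) (hC : centralizer (V : Set G) = V) :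
    (phi V).ker = V.subgroupOf (normalizer (V : Set G)) := by
  have h1 : (phi V).ker = V.normalizerMonoidHom.ker := by
    ext g
    simp only [MonoidHom.mem_ker, phi, MonoidHom.coe_comp, Function.comp_apply]
    constructor
    · intro h
      apply MulEquiv.ext
      intro v
      have := DFunLike.congr_fun h v
      exact this
    · intro h
      rw [h]; rfl
  rw [h1, normalizerMonoidHom_ker, hC]

theorem card_ker [Finite G] (V : Subgroup G) (hV : IsKleinFour V)
    (hC : centralizer (V : Set G) = V) : Nat.card (phi V).ker = 4 := by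
  rw [phi_ker V hC]
  rw [Nat.card_congr (Subgroup.subgroupOfEquivOfLe (le_normalizer)).toEquiv]
  exact hV.card_four

theorem card_normalizer_eq [Finite G] (V : Subgroup G) (hV : IsKleinFour V)
    (hC : centralizer (V : Set G) = V) :
    Nat.card (normalizer (V : Set G)) = 4 * Nat.card (phi V).range := by
  rw [← card_ker V hV hC, ← Subgroup.index_ker, Subgroup.card_mul_index]

theorem card_range_dvd [Finite G] (V : Subgroup G) (hV : IsKleinFour V) :
    Nat.card (phi V).range ∣ 6 := by
  have hle : (phi V).range ≤ MulAction.stabilizer (Equiv.Perm V) (1 : V) := by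
    rintro _ ⟨g, rfl⟩
    rw [MulAction.mem_stabilizer_iff]
    exact phi_one V g
  have := Subgroup.card_dvd_of_le hle
  rwa [card_stabilizer_one hV.card_four] at this

theorem card_normalizer_dvd [Finite G] (V : Subgroup G) (hV : IsKleinFour V)
    (hC : centralizer (V : Set G) = V) : Nat.card (normalizer (V : Set G)) ∣ 24 := by
  rw [card_normalizer_eq V hV hC]
  exact Nat.mul_dvd_mul_left 4 (card_range_dvd V hV)

/-- the basic dichotomy for elements of the normalizer -/
theorem dichotomy [Finite G] (V : Subgroup G) (hV : IsKleinFour V)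
    (hC : centralizer (V : Set G) = V) (g : normalizer (V : Set G)) :
    ((g : G) ^ 2 ∈ V) ∨ ((g : G) ^ 3 ∈ V ∧ ∀ v ∈ V, (g : G) * v = v * g → v = 1) := by
  rcases perm_four hV.card_four (1 : V) (phi V g) (phi_one V g) with h | ⟨h, hfix⟩
  · left
    have : g ^ 2 ∈ (phi V).ker := by rw [MonoidHom.mem_ker, map_pow, h]
    rw [phi_ker V hC, mem_subgroupOf] at this
    simpa using this
  · right
    constructor
    · have : g ^ 3 ∈ (phi V).ker := by rw [MonoidHom.mem_ker, map_pow, h]
      rw [phi_ker V hC, mem_subgroupOf] at this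
      simpa using this
    · intro v hv hcomm
      have h1 := hfix ⟨v, hv⟩ (by
        apply Subtype.ext
        rw [phi_apply]
        simp only
        rw [hcomm, mul_inv_cancel_right])
      exact congrArg Subtype.val h1

theorem sq_eq_one_of_mem {V : Subgroup G} (hV : IsKleinFour V) {v : G} (hv : v ∈ V) :
    v ^ 2 = 1 := by
  have := hV.mul_self (⟨v, hv⟩ : V)
  have h2 := congrArg Subtype.val this
  simpa [pow_two] using h2

/-- no element of order `6` in the normalizer -/
theorem orderOf_ne_six [Finite G] (V : Subgroup G) (hV : IsKleinFour V)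
    (hC : centralizer (V : Set G) = V) (g : normalizer (V : Set G)) : orderOf g ≠ 6 := by
  intro h6
  have h6' : orderOf (g : G) = 6 := by rw [← h6]; exact Subgroup.orderOf_coe g
  rcases dichotomy V hV hC g with h | ⟨h, hfix⟩
  · have h4 : (g : G) ^ 4 = 1 := by
      have := sq_eq_one_of_mem hV h
      rw [← pow_mul] at this
      exact this
    have := orderOf_dvd_of_pow_eq_one h4
    rw [h6'] at this
    omega
  · have h3 := hfix _ h (by rw [← pow_succ', ← pow_succ])
    have := orderOf_dvd_of_pow_eq_one h3
    rw [h6'] at this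
    omega

/-- if the normalizer has order `12` it has no central involution -/
theorem no_central_involution [Finite G] (V : Subgroup G) (hV : IsKleinFour V)
    (hC : centralizer (V : Set G) = V) (h12 : Nat.card (normalizer (V : Set G)) = 12)
    (z : normalizer (V : Set G)) (hz : orderOf z = 2) :
    z ∉ Subgroup.center (normalizer (V : Set G)) := by
  intro hzc
  have hzV : (z : G) ∈ V := by
    have h0 : (z : G) ∈ centralizer (V : Set G) := by
      rw [mem_centralizer_iff]
      intro v hv
      have := (Subgroup.mem_center_iff.mp hzc) ⟨v, le_normalizer hv⟩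
      exact congrArg Subtype.val this
    rw [hC] at h0
    exact h0
  haveI : Fact (Nat.Prime 3) := ⟨by norm_num⟩
  obtain ⟨g, hg⟩ := exists_prime_orderOf_dvd_card' (G := normalizer (V : Set G)) 3
    (by rw [h12]; norm_num)
  have hg' : orderOf (g : G) = 3 := by rw [← hg]; exact Subgroup.orderOf_coe g
  rcases dichotomy V hV hC g with h | ⟨h, hfix⟩
  · have h4 : (g : G) ^ 4 = 1 := by
      have := sq_eq_one_of_mem hV h
      rw [← pow_mul] at this
      exact this
    have := orderOf_dvd_of_pow_eq_one h4
    rw [hg'] at this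
    omega
  · have h1 := hfix _ hzV (by
      have := (Subgroup.mem_center_iff.mp hzc) g
      have h5 := (congrArg Subtype.val this)
      simpa using h5)
    have : z = 1 := Subtype.ext h1
    rw [this, orderOf_one] at hz
    omega

/-- `8 ∣ |G|` forces `8 ∣ |N_G(V)|` -/
theorem eight_dvd_card_normalizer [Finite G] (V : Subgroup G) (hV : IsKleinFour V)
    (h8 : 8 ∣ Nat.card G) : 8 ∣ Nat.card (normalizer (V : Set G)) := by
  haveI : Fact (Nat.Prime 2) := ⟨Nat.prime_two⟩
  have hVp : IsPGroup 2 V := IsPGroup.of_card (n := 2) (by rw [hV.card_four]; norm_num)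
  obtain ⟨P, hVP⟩ := hVp.exists_le_sylow
  have hP8 : 2 ^ 3 ∣ Nat.card (P : Subgroup G) :=
    P.pow_dvd_card_of_pow_dvd_card (n := 3) (by norm_num; exact h8)
  haveI : Group.IsNilpotent (P : Subgroup G) := P.2.isNilpotent
  have hnc : NormalizerCondition (P : Subgroup G) := Group.normalizerCondition_of_isNilpotent
  set V' : Subgroup (P : Subgroup G) := V.subgroupOf P with hV'
  have hV'card : Nat.card V' = 4 := by
    rw [hV', Nat.card_congr (Subgroup.subgroupOfEquivOfLe hVP).toEquiv]
    exact hV.card_four
  have hV'top : V' < ⊤ := by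
    rw [lt_top_iff_ne_top]
    intro h
    have : Nat.card V' = Nat.card P := by rw [h, Subgroup.card_top]
    rw [hV'card] at this
    rw [← this] at hP8
    omega
  have hlt := hnc V' hV'top
  set M : Subgroup (P : Subgroup G) := normalizer (V' : Set (P : Subgroup G)) with hM
  have hMp : IsPGroup 2 M := P.2.to_subgroup M
  obtain ⟨k, hk⟩ := IsPGroup.iff_card.mp hMp
  have h4M : Nat.card V' ∣ Nat.card M := Subgroup.card_dvd_of_le hlt.le
  have hneM : Nat.card V' < Nat.card M := by
    apply lt_of_le_of_ne (Nat.le_of_dvd Nat.card_pos h4M)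
    intro h
    have := Subgroup.eq_of_le_of_card_ge hlt.le (le_of_eq h.symm)
    exact hlt.ne this
  have h8M : 8 ∣ Nat.card M := by
    rw [hk, hV'card] at hneM h4M
    rw [hk]
    have hk3 : 3 ≤ k := by
      by_contra hlt3
      push Not at hlt3
      interval_cases k <;> omega
    exact ⟨2 ^ (k - 3), by rw [show (8 : ℕ) = 2 ^ 3 by norm_num, ← pow_add]; congr 1; omega⟩
  have hMle : M.map P.1.subtype ≤ normalizer (V : Set G) := by
    rintro _ ⟨x, hx, rfl⟩
    rw [SetLike.mem_coe, hM, mem_normalizer_iff] at hx
    rw [mem_normalizer_iff]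
    intro v
    constructor
    · intro hv
      have := (hx ⟨v, hVP hv⟩).mp (by rw [hV', mem_subgroupOf]; exact hv)
      rw [hV', mem_subgroupOf] at this
      simpa using this
    · intro hv
      have hvP : v ∈ (P : Subgroup G) := by
        have h1 : (x : G) * v * (x : G)⁻¹ ∈ (P : Subgroup G) := hVP hv
        have h2 : v = (x : G)⁻¹ * ((x : G) * v * (x : G)⁻¹) * (x : G) := by group
        rw [h2]
        exact mul_mem (mul_mem (inv_mem x.2) h1) x.2
      have := (hx ⟨v, hvP⟩).mpr (by rw [hV', mem_subgroupOf]; simpa using hv)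
      rw [hV', mem_subgroupOf] at this
      exact this
  have hcard : Nat.card (M.map P.1.subtype) = Nat.card M :=
    Nat.card_congr (Subgroup.equivMapOfInjective M _ (Subgroup.subtype_injective _)).toEquiv.symm
  have := Subgroup.card_dvd_of_le hMle
  rw [hcard] at this
  exact h8M.trans this

/-- conjugates of Klein four subgroups are Klein four subgroups -/
theorem isKleinFour_map {H : Type*} [Group H] (f : G →* H) (hf : Function.Injective f)
    (V : Subgroup G) (hV : IsKleinFour V) : IsKleinFour (V.map f) := by
  have e := Subgroup.equivMapOfInjective V f hf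
  exact ⟨by rw [← Nat.card_congr e.toEquiv]; exact hV.card_four,
    by rw [← Monoid.exponent_eq_of_mulEquiv e]; exact hV.exponent_two⟩

theorem map_conj_eq_iff (V : Subgroup G) (a b : G) :
    V.map (MulAut.conj a).toMonoidHom = V.map (MulAut.conj b).toMonoidHom ↔
      a⁻¹ * b ∈ normalizer (V : Set G) := by
  rw [mem_normalizer_iff]
  constructor
  · intro h v
    constructor
    · intro hv
      have h2 : b * v * b⁻¹ ∈ V.map (MulAut.conj a).toMonoidHom := by
        rw [h]
        exact ⟨v, hv, by simp⟩
      obtain ⟨w, hw, hw2⟩ := h2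
      simp only [MulEquiv.coe_toMonoidHom, MulAut.conj_apply] at hw2
      have : a⁻¹ * b * v * (a⁻¹ * b)⁻¹ = a⁻¹ * (b * v * b⁻¹) * a := by group
      rw [this, ← hw2]
      have : a⁻¹ * (a * w * a⁻¹) * a = w := by group
      rw [this]
      exact hw
    · intro hv
      have h2 : b * v * b⁻¹ ∈ V.map (MulAut.conj b).toMonoidHom := by
        rw [← h]
        refine ⟨_, hv, ?_⟩
        simp only [MulEquiv.coe_toMonoidHom, MulAut.conj_apply]
        group
      obtain ⟨w, hw, hw2⟩ := h2
      simp only [MulEquiv.coe_toMonoidHom, MulAut.conj_apply] at hw2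
      have : w = v := by
        have h3 : b⁻¹ * (b * w * b⁻¹) * b = b⁻¹ * (b * v * b⁻¹) * b := by rw [hw2]
        have h4 : b⁻¹ * (b * w * b⁻¹) * b = w := by group
        have h5 : b⁻¹ * (b * v * b⁻¹) * b = v := by group
        rw [h4, h5] at h3
        exact h3
      rw [← this]
      exact hw
  · intro hab
    ext x
    simp only [Subgroup.mem_map, MulEquiv.coe_toMonoidHom, MulAut.conj_apply]
    constructor
    · rintro ⟨v, hv, rfl⟩
      refine ⟨(a⁻¹ * b)⁻¹ * v * (a⁻¹ * b), ?_, by group⟩
      rw [hab]
      have : a⁻¹ * b * ((a⁻¹ * b)⁻¹ * v * (a⁻¹ * b)) * (a⁻¹ * b)⁻¹ = v := by group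
      rw [this]
      exact hv
    · rintro ⟨w, hw, rfl⟩
      exact ⟨a⁻¹ * b * w * (a⁻¹ * b)⁻¹, (hab w).mp hw, by group⟩

/-- orbit counting: the index of the normalizer is at most the number of Klein four subgroups -/
theorem index_normalizer_le [Finite G] (V : Subgroup G) (hV : IsKleinFour V) :
    (normalizer (V : Set G)).index ≤ Nat.card {W : Subgroup G // IsKleinFour W} := by
  classical
  let f : G ⧸ (normalizer (V : Set G)) → {W : Subgroup G // IsKleinFour W} := fun x =>
    Quotient.liftOn' x (fun g => (⟨V.map (MulAut.conj g).toMonoidHom,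
      isKleinFour_map _ (MulAut.conj g).injective V hV⟩ : {W : Subgroup G // IsKleinFour W}))
      (by
        intro a b hab
        rw [QuotientGroup.leftRel_apply] at hab
        apply Subtype.ext
        exact (map_conj_eq_iff V a b).mpr hab)
  have hf : Function.Injective f := by
    intro x y
    refine Quotient.inductionOn₂' x y ?_
    intro a b hab
    simp only [f, Quotient.liftOn'_mk''] at hab
    have h1 := congrArg Subtype.val hab
    simp only at h1
    rw [Quotient.eq'', QuotientGroup.leftRel_apply]
    exact (map_conj_eq_iff V a b).mp h1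
  have := Nat.card_le_card_of_injective f hf
  rwa [Subgroup.index]

/-- with the count `12 * #Klein4 = |G|`, normalizers of Klein four subgroups have order `≥ 12` -/
theorem twelve_le_card_normalizer [Finite G] (V : Subgroup G) (hV : IsKleinFour V)
    (hcount : 12 * Nat.card {W : Subgroup G // IsKleinFour W} = Nat.card G) :
    12 ≤ Nat.card (normalizer (V : Set G)) := by
  have h1 := index_normalizer_le V hV
  have h2 := Subgroup.card_mul_index (normalizer (V : Set G))
  have hpos : 0 < (normalizer (V : Set G)).index := Nat.pos_of_ne_zero Subgroup.index_ne_zero_of_finite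
  by_contra hlt
  push Not at hlt
  have h3 : Nat.card (normalizer (V : Set G)) * (normalizer (V : Set G)).index <
      12 * (normalizer (V : Set G)).index := Nat.mul_lt_mul_of_pos_right hlt hpos
  have h4 : 12 * (normalizer (V : Set G)).index ≤
      12 * Nat.card {W : Subgroup G // IsKleinFour W} := Nat.mul_le_mul_left _ h1
  omega

end Cfsg.Agent.Helper98.KleinNorm
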