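import Mathlib
import Cfsg.Agent.Lib.Helper41.SL2Quat
import Cfsg.Agent.Lib.Helper98.KleinNorm

set_option autoImplicit false
set_option linter.style.haveILetI false

/-!
# Klein four subgroups of `PSL₂(F)`, odd characteristic: self-centralizing
-/

namespace Cfsg.Agent.Helper98.PSL2Klein

open Matrix Cfsg.Agent.Helper41

/-- pick two distinct nonidentity elements of a Klein four-group -/
theorem exists_pair {G : Type*} [Group G] (V : Subgroup G) (hV : IsKleinFour V) :
    ∃ a b : G, a ∈ V ∧ b ∈ V ∧ a ≠ 1 ∧ b ≠ 1 ∧ a ≠ b := by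
  classical
  haveI : Finite V := Nat.finite_of_card_ne_zero (by rw [hV.card_four]; norm_num)
  haveI := Fintype.ofFinite V
  have h4 : 2 < Fintype.card V := by
    rw [← Nat.card_eq_fintype_card, hV.card_four]; norm_num
  obtain ⟨x, y, z, hxy, hxz, hyz⟩ := Fintype.two_lt_card_iff.mp h4
  have key : ∀ u w : V, u ≠ 1 → w ≠ 1 → u ≠ w →
      ∃ a b : G, a ∈ V ∧ b ∈ V ∧ a ≠ 1 ∧ b ≠ 1 ∧ a ≠ b := by
    intro u w hu hw huw
    refine ⟨u, w, u.2, w.2, ?_, ?_, ?_⟩
    · intro h; exact hu (Subtype.ext h)
    · intro h; exact hw (Subtype.ext h)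
    · intro h; exact huw (Subtype.ext h)
  by_cases hx : x = 1
  · subst hx
    exact key y z (Ne.symm hxy) (Ne.symm hxz) hyz
  · by_cases hy : y = 1
    · subst hy
      exact key x z hx (Ne.symm hyz) hxz
    · exact key x y hx hy hxy

variable {F : Type*} [Field F]

/-- an element of `SL₂` commuting with a quaternion pair is `±1` -/
theorem mk_eq_one_of_commute (h2 : (2 : F) ≠ 0) (A B X : SpecialLinearGroup (Fin 2) F)
    (hA : (A : Matrix (Fin 2) (Fin 2) F).trace = 0)
    (hBA : B * A = -(A * B)) (hXA : X * A = A * X) (hXB : X * B = B * X) :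
    (QuotientGroup.mk X : ProjectiveSpecialLinearGroup (Fin 2) F) = 1 := by
  have hXA' : (A : Matrix (Fin 2) (Fin 2) F) * X = X * A := by
    have := congrArg (fun Y : SpecialLinearGroup (Fin 2) F => (Y : Matrix (Fin 2) (Fin 2) F)) hXA
    simp only [Matrix.SpecialLinearGroup.coe_mul] at this
    exact this.symm
  have hXB' : (X : Matrix (Fin 2) (Fin 2) F) * B = B * X := by
    have := congrArg (fun Y : SpecialLinearGroup (Fin 2) F => (Y : Matrix (Fin 2) (Fin 2) F)) hXB
    simp only [Matrix.SpecialLinearGroup.coe_mul] at this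
    exact this
  have hBA' := (sl2_anticomm_iff A B).mp hBA
  obtain ⟨α, β, hαβ⟩ := exists_eq_smul_add_smul_of_commute _ _
    (not_scalar_of_trace_zero h2 _ A.2 hA) hXA'
  have hβ : β = 0 := by
    rw [hαβ] at hXB'
    simp only [Matrix.add_mul, Matrix.mul_add, Matrix.smul_mul, Matrix.mul_smul, Matrix.one_mul,
      Matrix.mul_one] at hXB'
    rw [hBA'] at hXB'
    have h3 : (2 * β) • ((A : Matrix (Fin 2) (Fin 2) F) * B) = 0 := by
      have h4 : β • ((A : Matrix (Fin 2) (Fin 2) F) * B) = β • -((A : Matrix (Fin 2) (Fin 2) F) * B) :=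
        add_left_cancel hXB'
      rw [mul_smul, two_smul]
      nth_rewrite 2 [h4]
      rw [smul_neg, add_neg_cancel]
    have h5 := congrArg Matrix.det h3
    rw [Matrix.det_smul, Matrix.det_mul, A.2, B.2, Matrix.det_zero] at h5
    simp only [Fintype.card_fin, mul_one] at h5
    have h6 : 2 * β = 0 := by
      exact pow_eq_zero_iff (n := 2) (by norm_num) |>.mp h5
    exact (mul_eq_zero.mp h6).resolve_left h2
  rw [hβ, zero_smul, add_zero] at hαβ
  have hα : α ^ 2 = 1 := by
    have h3 := X.2
    rw [hαβ, Matrix.det_smul, Matrix.det_one, Fintype.card_fin, mul_one] at h3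
    exact h3
  rw [psl2_mk_eq_one_iff]
  have hα' : (α - 1) * (α + 1) = 0 := by linear_combination hα
  rcases mul_eq_zero.mp hα' with hb | hb
  · left
    rw [hαβ, sub_eq_zero.mp hb, one_smul]
  · right
    rw [hαβ, eq_neg_of_add_eq_zero_left hb, neg_smul, one_smul]

/-- an element of `PSL₂` centralizing the images of a quaternion pair lies in the four-group -/
theorem mem_of_centralizes (h2 : (2 : F) ≠ 0) (A B X : SpecialLinearGroup (Fin 2) F)
    (hA : (A : Matrix (Fin 2) (Fin 2) F).trace = 0)
    (hB : (B : Matrix (Fin 2) (Fin 2) F).trace = 0)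
    (hAB : ((A : Matrix (Fin 2) (Fin 2) F) * B).trace = 0)
    (h1 : (QuotientGroup.mk X : ProjectiveSpecialLinearGroup (Fin 2) F) * QuotientGroup.mk A =
      QuotientGroup.mk A * QuotientGroup.mk X)
    (h3 : (QuotientGroup.mk X : ProjectiveSpecialLinearGroup (Fin 2) F) * QuotientGroup.mk B =
      QuotientGroup.mk B * QuotientGroup.mk X) :
    (QuotientGroup.mk X : ProjectiveSpecialLinearGroup (Fin 2) F) = 1 ∨
    (QuotientGroup.mk X : ProjectiveSpecialLinearGroup (Fin 2) F) = QuotientGroup.mk A ∨
    (QuotientGroup.mk X : ProjectiveSpecialLinearGroup (Fin 2) F) = QuotientGroup.mk B ∨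
    (QuotientGroup.mk X : ProjectiveSpecialLinearGroup (Fin 2) F) =
      QuotientGroup.mk A * QuotientGroup.mk B := by
  have hAA := sl2_mul_self_of_trace_zero A hA
  have hBB := sl2_mul_self_of_trace_zero B hB
  have hBA : B * A = -(A * B) :=
    (sl2_anticomm_iff A B).mpr ((anticomm_iff_trace_mul_zero h2 _ _ hA hB).mpr hAB)
  have haa := psl2_mk_mul_self_of_trace_zero A hA
  have hbb := psl2_mk_mul_self_of_trace_zero B hB
  rw [← QuotientGroup.mk_mul, ← QuotientGroup.mk_mul, psl2_mk_eq_mk_iff] at h1 h3
  -- h1 : A * X = X * A ∨ A * X = -(X * A)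
  rcases h1 with h1 | h1 <;> rcases h3 with h3 | h3
  · left
    exact mk_eq_one_of_commute h2 A B X hA hBA h1.symm h3.symm
  · -- X commutes with A, anticommutes with B : X * A commutes with both
    right; left
    have hc := mk_eq_one_of_commute h2 A B (X * A) hA hBA
      (by
        calc X * A * A = A * X * A := by rw [h1]
          _ = A * (X * A) := mul_assoc _ _ _)
      (by
        have e1 : X * B = -(B * X) := by rw [h3, neg_neg]
        calc X * A * B = X * (A * B) := mul_assoc _ _ _
          _ = X * -(B * A) := by rw [hBA, neg_neg]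
          _ = -(X * B * A) := by rw [mul_neg, mul_assoc]
          _ = -(-(B * X) * A) := by rw [e1]
          _ = B * (X * A) := by rw [neg_mul, neg_neg, mul_assoc])
    rw [QuotientGroup.mk_mul] at hc
    have : (QuotientGroup.mk X : ProjectiveSpecialLinearGroup (Fin 2) F) =
        (QuotientGroup.mk A)⁻¹ := eq_inv_of_mul_eq_one_left hc
    rw [this, inv_eq_of_mul_eq_one_left haa]
  · right; right; left
    have hc := mk_eq_one_of_commute h2 A B (X * B) hA hBA
      (by
        have e1 : X * A = -(A * X) := by rw [h1, neg_neg]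
        calc X * B * A = X * (B * A) := mul_assoc _ _ _
          _ = X * -(A * B) := by rw [hBA]
          _ = -(X * A * B) := by rw [mul_neg, mul_assoc]
          _ = -(-(A * X) * B) := by rw [e1]
          _ = A * (X * B) := by rw [neg_mul, neg_neg, mul_assoc])
      (by
        calc X * B * B = B * X * B := by rw [h3]
          _ = B * (X * B) := mul_assoc _ _ _)
    rw [QuotientGroup.mk_mul] at hc
    have : (QuotientGroup.mk X : ProjectiveSpecialLinearGroup (Fin 2) F) =
        (QuotientGroup.mk B)⁻¹ := eq_inv_of_mul_eq_one_left hc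
    rw [this, inv_eq_of_mul_eq_one_left hbb]
  · right; right; right
    have e1 : X * A = -(A * X) := by rw [h1, neg_neg]
    have e2 : X * B = -(B * X) := by rw [h3, neg_neg]
    have hc := mk_eq_one_of_commute h2 A B (X * (A * B)) hA hBA
      (by
        calc X * (A * B) * A = X * (A * (B * A)) := by simp only [mul_assoc]
          _ = X * (A * -(A * B)) := by rw [hBA]
          _ = -(X * A * (A * B)) := by rw [mul_neg, mul_neg, mul_assoc]
          _ = -(-(A * X) * (A * B)) := by rw [e1]
          _ = A * (X * (A * B)) := by rw [neg_mul, neg_neg, mul_assoc])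
      (by
        calc X * (A * B) * B = X * (-(B * A)) * B := by rw [hBA, neg_neg]
          _ = -(X * B * A * B) := by rw [mul_neg, neg_mul]; simp only [mul_assoc]
          _ = -(-(B * X) * A * B) := by rw [e2]
          _ = B * (X * (A * B)) := by rw [neg_mul, neg_mul, neg_neg]; simp only [mul_assoc])
    rw [QuotientGroup.mk_mul, QuotientGroup.mk_mul] at hc
    have : (QuotientGroup.mk X : ProjectiveSpecialLinearGroup (Fin 2) F) =
        (QuotientGroup.mk A * QuotientGroup.mk B)⁻¹ := eq_inv_of_mul_eq_one_left hc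
    rw [this, _root_.mul_inv_rev, inv_eq_of_mul_eq_one_left haa, inv_eq_of_mul_eq_one_left hbb]
    rw [← QuotientGroup.mk_mul, ← QuotientGroup.mk_mul, hBA, psl2_mk_neg]

/-- Klein four subgroups of `PSL₂(F)` are self-centralizing in odd characteristic -/
theorem centralizer_eq (h2 : (2 : F) ≠ 0) (V : Subgroup (ProjectiveSpecialLinearGroup (Fin 2) F))
    (hV : IsKleinFour V) :
    Subgroup.centralizer (V : Set (ProjectiveSpecialLinearGroup (Fin 2) F)) = V := by
  apply le_antisymm
  · intro g hg
    rw [Subgroup.mem_centralizer_iff] at hg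
    obtain ⟨a, b, haV, hbV, ha1, hb1, hab⟩ := exists_pair V hV
    obtain ⟨A, rfl⟩ := QuotientGroup.mk_surjective a
    obtain ⟨B, rfl⟩ := QuotientGroup.mk_surjective b
    obtain ⟨X, rfl⟩ := QuotientGroup.mk_surjective g
    have haa : (QuotientGroup.mk A : ProjectiveSpecialLinearGroup (Fin 2) F) *
        QuotientGroup.mk A = 1 := by
      have := KleinNorm.sq_eq_one_of_mem hV haV
      rwa [pow_two] at this
    have hbb : (QuotientGroup.mk B : ProjectiveSpecialLinearGroup (Fin 2) F) *
        QuotientGroup.mk B = 1 := by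
      have := KleinNorm.sq_eq_one_of_mem hV hbV
      rwa [pow_two] at this
    have hcomm : (QuotientGroup.mk A : ProjectiveSpecialLinearGroup (Fin 2) F) *
        QuotientGroup.mk B = QuotientGroup.mk B * QuotientGroup.mk A := by
      have := mul_comm_of_exponent_two hV.exponent_two (⟨_, haV⟩ : V) ⟨_, hbV⟩
      exact congrArg Subtype.val this
    obtain ⟨hA, hB, hAB⟩ := (quat_pair_iff h2 A B).mpr ⟨ha1, hb1, haa, hbb, hcomm, hab⟩
    rcases mem_of_centralizes h2 A B X hA hB hAB (hg _ haV).symm (hg _ hbV).symm with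
      h | h | h | h
    · rw [h]; exact one_mem _
    · rw [h]; exact haV
    · rw [h]; exact hbV
    · rw [h]; exact mul_mem haV hbV
  · intro v hv
    rw [Subgroup.mem_centralizer_iff]
    intro w hw
    have := mul_comm_of_exponent_two hV.exponent_two (⟨w, hw⟩ : V) ⟨v, hv⟩
    exact congrArg Subtype.val this

end Cfsg.Agent.Helper98.PSL2Klein
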