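import Mathlib

set_option autoImplicit false
set_option linter.unusedSectionVars false
set_option linter.unusedVariables false
set_option linter.unusedSimpArgs false
set_option linter.style.haveILetI false

/-!
# Identification of subgroups of `SL₂(F)` containing a "root subgroup pair"
-/

namespace Cfsg.Agent.Helper98.Ident

open Matrix

/-- `SL₂(F)` -/
abbrev S2 (F : Type*) [Field F] := Matrix.SpecialLinearGroup (Fin 2) F

variable {F : Type*} [Field F]

/-- explicit element -/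
def mk2 (a b c d : F) (h : a * d - b * c = 1) : S2 F :=
  ⟨!![a, b; c, d], by rw [Matrix.det_fin_two_of]; exact h⟩

@[simp] theorem mk2_00 (a b c d : F) (h : a * d - b * c = 1) : (mk2 a b c d h).1 0 0 = a := rfl
@[simp] theorem mk2_01 (a b c d : F) (h : a * d - b * c = 1) : (mk2 a b c d h).1 0 1 = b := rfl
@[simp] theorem mk2_10 (a b c d : F) (h : a * d - b * c = 1) : (mk2 a b c d h).1 1 0 = c := rfl
@[simp] theorem mk2_11 (a b c d : F) (h : a * d - b * c = 1) : (mk2 a b c d h).1 1 1 = d := rfl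

theorem mul_ent (A B : S2 F) (i j : Fin 2) :
    (A * B).1 i j = A.1 i 0 * B.1 0 j + A.1 i 1 * B.1 1 j := by
  simp [Matrix.mul_apply, Fin.sum_univ_two]

theorem inv_ent00 (A : S2 F) : (A⁻¹).1 0 0 = A.1 1 1 := by
  simp [Matrix.SpecialLinearGroup.coe_inv, Matrix.adjugate_fin_two]
theorem inv_ent01 (A : S2 F) : (A⁻¹).1 0 1 = - A.1 0 1 := by
  simp [Matrix.SpecialLinearGroup.coe_inv, Matrix.adjugate_fin_two]
theorem inv_ent10 (A : S2 F) : (A⁻¹).1 1 0 = - A.1 1 0 := by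
  simp [Matrix.SpecialLinearGroup.coe_inv, Matrix.adjugate_fin_two]
theorem inv_ent11 (A : S2 F) : (A⁻¹).1 1 1 = A.1 0 0 := by
  simp [Matrix.SpecialLinearGroup.coe_inv, Matrix.adjugate_fin_two]

theorem one_ent00 : (1 : S2 F).1 0 0 = 1 := by simp
theorem one_ent01 : (1 : S2 F).1 0 1 = 0 := by simp
theorem one_ent10 : (1 : S2 F).1 1 0 = 0 := by simp
theorem one_ent11 : (1 : S2 F).1 1 1 = 1 := by simp

theorem det_eq (A : S2 F) : A.1 0 0 * A.1 1 1 - A.1 0 1 * A.1 1 0 = 1 := by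
  have := A.2
  rwa [Matrix.det_fin_two] at this

theorem ext2 {A B : S2 F} (h00 : A.1 0 0 = B.1 0 0) (h01 : A.1 0 1 = B.1 0 1)
    (h10 : A.1 1 0 = B.1 1 0) (h11 : A.1 1 1 = B.1 1 1) : A = B := by
  apply Subtype.ext
  ext i j
  fin_cases i <;> fin_cases j
  · exact h00
  · exact h01
  · exact h10
  · exact h11

/-- upper unipotent -/
def uu (a : F) : S2 F := mk2 1 a 0 1 (by ring)
/-- lower unipotent -/
def ll (c : F) : S2 F := mk2 1 0 c 1 (by ring)
/-- diagonal -/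
def dd (t : Fˣ) : S2 F := mk2 (t : F) 0 0 ((t⁻¹ : Fˣ) : F) (by simp)
/-- the Weyl element -/
def w1 : S2 F := mk2 0 1 (-1) 0 (by ring)

@[simp] theorem uu_00 (a : F) : (uu a).1 0 0 = 1 := rfl
@[simp] theorem uu_01 (a : F) : (uu a).1 0 1 = a := rfl
@[simp] theorem uu_10 (a : F) : (uu a).1 1 0 = 0 := rfl
@[simp] theorem uu_11 (a : F) : (uu a).1 1 1 = 1 := rfl
@[simp] theorem ll_00 (a : F) : (ll a).1 0 0 = 1 := rfl
@[simp] theorem ll_01 (a : F) : (ll a).1 0 1 = 0 := rfl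
@[simp] theorem ll_10 (a : F) : (ll a).1 1 0 = a := rfl
@[simp] theorem ll_11 (a : F) : (ll a).1 1 1 = 1 := rfl
@[simp] theorem dd_00 (t : Fˣ) : (dd t).1 0 0 = (t : F) := rfl
@[simp] theorem dd_01 (t : Fˣ) : (dd t).1 0 1 = 0 := rfl
@[simp] theorem dd_10 (t : Fˣ) : (dd t).1 1 0 = 0 := rfl
@[simp] theorem dd_11 (t : Fˣ) : (dd t).1 1 1 = ((t⁻¹ : Fˣ) : F) := rfl
@[simp] theorem w1_00 : (w1 : S2 F).1 0 0 = 0 := rfl
@[simp] theorem w1_01 : (w1 : S2 F).1 0 1 = 1 := rfl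
@[simp] theorem w1_10 : (w1 : S2 F).1 1 0 = -1 := rfl
@[simp] theorem w1_11 : (w1 : S2 F).1 1 1 = 0 := rfl

theorem uu_mul (a b : F) : uu a * uu b = uu (a + b) := by
  apply ext2 <;> simp [mul_ent] <;> ring

theorem uu_zero : uu (0 : F) = 1 := by
  apply ext2 <;> simp

theorem uu_inv (a : F) : (uu a)⁻¹ = uu (-a) := by
  apply ext2 <;> simp [inv_ent00, inv_ent01, inv_ent10, inv_ent11]

theorem ll_mul (a b : F) : ll a * ll b = ll (a + b) := by
  apply ext2 <;> simp [mul_ent] <;> ring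

theorem ll_zero : ll (0 : F) = 1 := by
  apply ext2 <;> simp

theorem ll_inv (a : F) : (ll a)⁻¹ = ll (-a) := by
  apply ext2 <;> simp [inv_ent00, inv_ent01, inv_ent10, inv_ent11]

/-- the hypotheses -/
structure Hyp (L : Subgroup (S2 F)) : Prop where
  h1 : uu 1 ∈ L
  hw : ∃ w ∈ L, w.1 0 0 = 0
  hx : ∀ g ∈ L, g.1 1 0 ≠ 0 → uu (g.1 0 0 / g.1 1 0) ∈ L

/-- the additive group of parameters of upper unipotents in `L` -/
def AA (L : Subgroup (S2 F)) : AddSubgroup F where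
  carrier := {a | uu a ∈ L}
  add_mem' := by
    intro a b ha hb
    change uu (a + b) ∈ L
    rw [← uu_mul]
    exact mul_mem ha hb
  zero_mem' := by
    change uu 0 ∈ L
    rw [uu_zero]
    exact one_mem L
  neg_mem' := by
    intro a ha
    change uu (-a) ∈ L
    rw [← uu_inv]
    exact inv_mem ha

theorem mem_AA {L : Subgroup (S2 F)} {a : F} : a ∈ AA L ↔ uu a ∈ L := Iff.rfl

variable {L : Subgroup (S2 F)}

theorem conj_w (w : S2 F) (h00 : w.1 0 0 = 0) (a : F) :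
    w * uu a * w⁻¹ = ll (-a * w.1 1 0 ^ 2) := by
  have hd := det_eq w
  rw [h00] at hd
  apply ext2 <;> simp [mul_ent, inv_ent00, inv_ent01, inv_ent10, inv_ent11, h00]
  · linear_combination hd
  · ring
  · linear_combination hd

theorem ll_inv_mem (hL : Hyp L) {a : F} (ha : a ∈ AA L) (ha0 : a ≠ 0) : ll a⁻¹ ∈ L := by
  obtain ⟨w, hw, h00⟩ := hL.hw
  have hd := det_eq w
  rw [h00] at hd
  have hγ : w.1 1 0 ≠ 0 := by
    intro h
    rw [h] at hd
    simp at hd
  have key : ∀ b, b ∈ AA L → ll (-b * w.1 1 0 ^ 2) ∈ L := by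
    intro b hb
    rw [← conj_w w h00 b]
    exact mul_mem (mul_mem hw hb) (inv_mem hw)
  have h1 := key a ha
  have hne : (ll (-a * w.1 1 0 ^ 2)).1 1 0 ≠ 0 := by
    simp only [ll_10]
    exact mul_ne_zero (neg_ne_zero.mpr ha0) (pow_ne_zero 2 hγ)
  have h2 := hL.hx _ h1 hne
  simp only [ll_00, ll_10] at h2
  have h3 := key _ h2
  have e : -(1 / (-a * w.1 1 0 ^ 2)) * w.1 1 0 ^ 2 = a⁻¹ := by
    field_simp
  rw [e] at h3
  exact h3

theorem ll_one_mem (hL : Hyp L) : ll (1 : F) ∈ L := by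
  have := ll_inv_mem hL hL.h1 one_ne_zero
  rwa [inv_one] at this

theorem w1_eq : (w1 : S2 F) = uu 1 * ll (-1) * uu 1 := by
  apply ext2 <;> simp [mul_ent]

theorem w1_mem (hL : Hyp L) : (w1 : S2 F) ∈ L := by
  rw [w1_eq]
  refine mul_mem (mul_mem hL.h1 ?_) hL.h1
  rw [← ll_inv]
  exact inv_mem (ll_one_mem hL)

theorem conj_w1_ll (c : F) : w1 * ll c * w1⁻¹ = uu (-c) := by
  apply ext2 <;> simp [mul_ent, inv_ent00, inv_ent01, inv_ent10, inv_ent11]

theorem mem_AA_of_ll (hL : Hyp L) {c : F} (hc : ll c ∈ L) : c ∈ AA L := by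
  have h : uu (-c) ∈ L := by
    rw [← conj_w1_ll]
    exact mul_mem (mul_mem (w1_mem hL) hc) (inv_mem (w1_mem hL))
  have := (AA L).neg_mem h
  rwa [neg_neg] at this

theorem inv_mem_AA (hL : Hyp L) {a : F} (ha : a ∈ AA L) : a⁻¹ ∈ AA L := by
  by_cases ha0 : a = 0
  · rw [ha0, _root_.inv_zero]
    exact (AA L).zero_mem
  · exact mem_AA_of_ll hL (ll_inv_mem hL ha ha0)

theorem ll_mem (hL : Hyp L) {c : F} (hc : c ∈ AA L) : ll c ∈ L := by
  by_cases hc0 : c = 0
  · rw [hc0, ll_zero]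
    exact one_mem L
  · have := ll_inv_mem hL (inv_mem_AA hL hc) (inv_ne_zero hc0)
    rwa [inv_inv] at this

theorem dd_eq (t : Fˣ) : dd t = uu (t : F) * ll (-((t⁻¹ : Fˣ) : F)) * uu (t : F) * w1⁻¹ := by
  apply ext2 <;> simp [mul_ent, inv_ent00, inv_ent01, inv_ent10, inv_ent11]

theorem dd_mem (hL : Hyp L) (t : Fˣ) (ht : (t : F) ∈ AA L) : dd t ∈ L := by
  rw [dd_eq]
  refine mul_mem (mul_mem (mul_mem ht (ll_mem hL ?_)) ht) (inv_mem (w1_mem hL))
  apply (AA L).neg_mem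
  have := inv_mem_AA hL ht
  rwa [← Units.val_inv_eq_inv_val] at this

theorem conj_dd (t : Fˣ) (c : F) : dd t * uu c * (dd t)⁻¹ = uu ((t : F) ^ 2 * c) := by
  apply ext2 <;> simp [mul_ent, inv_ent00, inv_ent01, inv_ent10, inv_ent11]
  ring

theorem sq_mul_mem (hL : Hyp L) {a c : F} (ha : a ∈ AA L) (hc : c ∈ AA L) : a ^ 2 * c ∈ AA L := by
  by_cases ha0 : a = 0
  · rw [ha0]
    simp only [ne_eq, OfNat.ofNat_ne_zero, not_false_eq_true, zero_pow, zero_mul]
    exact (AA L).zero_mem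
  · have h := dd_mem hL (Units.mk0 a ha0) ha
    change uu (a ^ 2 * c) ∈ L
    have := conj_dd (Units.mk0 a ha0) c
    rw [Units.val_mk0] at this
    rw [← this]
    exact mul_mem (mul_mem h hc) (inv_mem h)

theorem sq_mem (hL : Hyp L) {a : F} (ha : a ∈ AA L) : a ^ 2 ∈ AA L := by
  have := sq_mul_mem hL ha hL.h1
  rwa [mul_one] at this

theorem mul_mem_AA [Finite F] (p : ℕ) [Fact p.Prime] [CharP F p] (hL : Hyp L) {a c : F}
    (ha : a ∈ AA L) (hc : c ∈ AA L) : a * c ∈ AA L := by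
  by_cases hp : p = 2
  · -- squaring is a bijection of `AA L`
    subst hp
    let f : AA L → AA L := fun x => ⟨(x : F) ^ 2, sq_mem hL x.2⟩
    have hinj : Function.Injective f := by
      intro x y hxy
      have h : (x : F) ^ 2 = (y : F) ^ 2 := congrArg Subtype.val hxy
      apply Subtype.ext
      have h2 : ((x : F) - y) ^ 2 = 0 := by
        rw [sub_sq, h]
        have : (2 : F) = 0 := CharTwo.two_eq_zero
        ring_nf
        rw [this]
        ring
      have := pow_eq_zero_iff (two_ne_zero) |>.mp h2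
      exact sub_eq_zero.mp this
    haveI : Finite (AA L) := Finite.of_injective (fun x : AA L => (x : F)) Subtype.val_injective
    have hsurj := Finite.surjective_of_injective hinj
    obtain ⟨s, hs⟩ := hsurj ⟨a, ha⟩
    have hs' : (s : F) ^ 2 = a := congrArg Subtype.val hs
    rw [← hs']
    exact sq_mul_mem hL s.2 hc
  · -- halving
    have hodd : p % 2 = 1 := by
      rcases (Fact.out : p.Prime).eq_two_or_odd with h | h
      · exact absurd h hp
      · exact h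
    have h2 : (2 : F) ≠ 0 := by
      intro h
      have : ((2 : ℕ) : F) = 0 := by exact_mod_cast h
      rw [CharP.cast_eq_zero_iff F p] at this
      have := Nat.le_of_dvd (by norm_num) this
      have := (Fact.out : p.Prime).two_le
      omega
    have e : (2 : F) * (a * c) = (a + 1) ^ 2 * c - a ^ 2 * c - c := by ring
    have hmem : (2 : F) * (a * c) ∈ AA L := by
      rw [e]
      refine (AA L).sub_mem ((AA L).sub_mem (sq_mul_mem hL ((AA L).add_mem ha hL.h1) hc)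
        (sq_mul_mem hL ha hc)) hc
    have hn := (AA L).nsmul_mem hmem ((p + 1) / 2)
    have e2 : ((p + 1) / 2) • ((2 : F) * (a * c)) = a * c := by
      rw [nsmul_eq_mul, ← mul_assoc]
      have : (((p + 1) / 2 : ℕ) : F) * 2 = 1 := by
        have h3 : (p + 1) / 2 * 2 = p + 1 := by omega
        have : ((((p + 1) / 2 * 2 : ℕ)) : F) = ((p + 1 : ℕ) : F) := by rw [h3]
        push_cast at this
        rw [this, CharP.cast_eq_zero F p, zero_add]
      rw [this, one_mul]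
    rw [e2] at hn
    exact hn

/-- the subfield of parameters -/
def K0 [Finite F] (p : ℕ) [Fact p.Prime] [CharP F p] (hL : Hyp L) : Subfield F where
  carrier := {a | a ∈ AA L}
  mul_mem' := fun ha hc => mul_mem_AA p hL ha hc
  one_mem' := hL.h1
  add_mem' := fun ha hb => (AA L).add_mem ha hb
  zero_mem' := (AA L).zero_mem
  neg_mem' := fun ha => (AA L).neg_mem ha
  inv_mem' := fun a ha => inv_mem_AA hL ha

theorem mem_K0 [Finite F] (p : ℕ) [Fact p.Prime] [CharP F p] (hL : Hyp L) {a : F} :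
    a ∈ K0 p hL ↔ uu a ∈ L := Iff.rfl

/-- matrices with entries in a subfield -/
def SLK (k : Subfield F) : Subgroup (S2 F) where
  carrier := {g | ∀ i j, g.1 i j ∈ k}
  mul_mem' := by
    intro a b ha hb i j
    rw [mul_ent]
    exact add_mem (mul_mem (ha i 0) (hb 0 j)) (mul_mem (ha i 1) (hb 1 j))
  one_mem' := by
    intro i j
    fin_cases i <;> fin_cases j <;> simp
  inv_mem' := by
    intro a ha i j
    fin_cases i <;> fin_cases j
    · change (a⁻¹).1 0 0 ∈ k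
      rw [inv_ent00]; exact ha 1 1
    · change (a⁻¹).1 0 1 ∈ k
      rw [inv_ent01]; exact neg_mem (ha 0 1)
    · change (a⁻¹).1 1 0 ∈ k
      rw [inv_ent10]; exact neg_mem (ha 1 0)
    · change (a⁻¹).1 1 1 ∈ k
      rw [inv_ent11]; exact ha 0 0

theorem mem_SLK {k : Subfield F} {g : S2 F} : g ∈ SLK k ↔ ∀ i j, g.1 i j ∈ k := Iff.rfl

theorem mem_SLK_of {k : Subfield F} {g : S2 F} (h00 : g.1 0 0 ∈ k) (h01 : g.1 0 1 ∈ k)
    (h10 : g.1 1 0 ∈ k) (h11 : g.1 1 1 ∈ k) : g ∈ SLK k := by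
  intro i j
  fin_cases i <;> fin_cases j
  · exact h00
  · exact h01
  · exact h10
  · exact h11

section main

variable [Finite F] (p : ℕ) [Fact p.Prime] [CharP F p] (hL : Hyp L)

theorem decomp3 (g : S2 F) (h10 : g.1 1 0 ≠ 0) :
    g = uu ((g.1 0 0 - 1) / g.1 1 0) * ll (g.1 1 0) * uu ((g.1 1 1 - 1) / g.1 1 0) := by
  have hd := det_eq g
  apply ext2 <;> simp [mul_ent]
  · field_simp
    ring
  · field_simp
    linear_combination (-1 : F) * hd
  · field_simp
    ring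

theorem SLK_le : SLK (K0 p hL) ≤ L := by
  have key : ∀ g : S2 F, g ∈ SLK (K0 p hL) → g.1 1 0 ≠ 0 → g ∈ L := by
    intro g hg h10
    rw [decomp3 g h10]
    have hk := K0 p hL
    have h1 : (g.1 0 0 - 1) / g.1 1 0 ∈ K0 p hL :=
      div_mem (sub_mem (hg 0 0) (one_mem _)) (hg 1 0)
    have h2 : (g.1 1 1 - 1) / g.1 1 0 ∈ K0 p hL :=
      div_mem (sub_mem (hg 1 1) (one_mem _)) (hg 1 0)
    exact mul_mem (mul_mem h1 (ll_mem hL (hg 1 0))) h2
  intro g hg
  by_cases h10 : g.1 1 0 = 0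
  · have hl1 : ll (1 : F) ∈ SLK (K0 p hL) := by
      apply mem_SLK_of <;> simp [one_mem, zero_mem]
    have h2 : ll 1 * g ∈ L := by
      apply key _ (mul_mem hl1 hg)
      rw [mul_ent]
      simp only [ll_10, ll_11, h10, one_mul, mul_zero, add_zero]
      intro h00
      have hd := det_eq g
      rw [h00, h10] at hd
      simp at hd
    have : g = (ll 1)⁻¹ * (ll 1 * g) := by group
    rw [this]
    exact mul_mem (inv_mem (ll_one_mem hL)) h2
  · exact key g hg h10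

theorem decomp_ut (b : S2 F) (hb : b ∈ L) (h10 : b.1 1 0 = 0) :
    ∃ t : Fˣ, dd t ∈ L ∧ (t : F) ^ 2 ∈ K0 p hL ∧ b * (dd t)⁻¹ ∈ SLK (K0 p hL) := by
  have hd := det_eq b
  rw [h10, mul_zero, sub_zero] at hd
  have ht0 : b.1 0 0 ≠ 0 := left_ne_zero_of_mul_eq_one hd
  have hs0 : b.1 1 1 ≠ 0 := right_ne_zero_of_mul_eq_one hd
  have hinv : (b.1 0 0)⁻¹ = b.1 1 1 := by
    field_simp
    rw [hd]
  -- t² ∈ K0
  have hc1 : b * uu 1 * b⁻¹ = uu (b.1 0 0 ^ 2) := by
    apply ext2 <;> simp [mul_ent, inv_ent00, inv_ent01, inv_ent10, inv_ent11, h10]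
    · exact hd
    · ring
    · rw [mul_comm]; exact hd
  have ht2 : b.1 0 0 ^ 2 ∈ K0 p hL := by
    rw [mem_K0, ← hc1]
    exact mul_mem (mul_mem hb hL.h1) (inv_mem hb)
  -- r t ∈ K0
  have hbl : b * ll 1 ∈ L := mul_mem hb (ll_one_mem hL)
  have hne : (b * ll 1).1 1 0 ≠ 0 := by
    rw [mul_ent]
    simp only [ll_00, ll_10, h10, zero_mul, mul_one, zero_add]
    exact hs0
  have h3 := hL.hx _ hbl hne
  have e3 : (b * ll 1).1 0 0 / (b * ll 1).1 1 0 = b.1 0 0 ^ 2 + b.1 0 1 * b.1 0 0 := by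
    rw [mul_ent, mul_ent]
    simp only [ll_00, ll_10, h10, zero_mul, mul_one, zero_add]
    rw [← hinv]
    field_simp
  rw [e3] at h3
  have hrt : b.1 0 1 * b.1 0 0 ∈ K0 p hL := by
    have h4 : b.1 0 0 ^ 2 + b.1 0 1 * b.1 0 0 ∈ K0 p hL := h3
    have := sub_mem h4 ht2
    rwa [add_sub_cancel_left] at this
  have hy : b.1 0 1 / b.1 0 0 ∈ K0 p hL := by
    have : b.1 0 1 / b.1 0 0 = (b.1 0 1 * b.1 0 0) / (b.1 0 0 ^ 2) := by
      field_simp
    rw [this]
    exact div_mem hrt ht2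
  refine ⟨Units.mk0 _ ht0, ?_, ?_, ?_⟩
  · have e : dd (Units.mk0 _ ht0) = b * uu (-(b.1 0 1 / b.1 0 0)) := by
      apply ext2 <;> simp [mul_ent, h10]
      · field_simp
        ring
      · exact hinv
    rw [e]
    exact mul_mem hb ((mem_K0 p hL).mp (neg_mem hy))
  · rw [Units.val_mk0]
    exact ht2
  · apply mem_SLK_of <;>
      simp only [mul_ent, inv_ent00, inv_ent01, inv_ent10, inv_ent11, dd_00, dd_01, dd_10, dd_11,
        h10, Units.val_mk0, Units.val_inv_eq_inv_val, neg_zero, mul_zero, zero_mul, add_zero,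
        zero_add]
    · rw [hinv, hd]; exact one_mem _
    · exact hrt
    · exact zero_mem _
    · rw [mul_comm, hd]; exact one_mem _

theorem decomp (g : S2 F) (hg : g ∈ L) :
    ∃ t : Fˣ, dd t ∈ L ∧ (t : F) ^ 2 ∈ K0 p hL ∧ g * (dd t)⁻¹ ∈ SLK (K0 p hL) := by
  by_cases h10 : g.1 1 0 = 0
  · exact decomp_ut p hL g hg h10
  · have hx := hL.hx g hg h10
    have hxK : g.1 0 0 / g.1 1 0 ∈ K0 p hL := hx
    set x := g.1 0 0 / g.1 1 0 with hxdef
    have hb : w1 * uu (-x) * g ∈ L :=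
      mul_mem (mul_mem (w1_mem hL) ((mem_K0 p hL).mp (neg_mem hxK))) hg
    have hb10 : (w1 * uu (-x) * g).1 1 0 = 0 := by
      simp only [mul_ent, w1_10, w1_11, uu_00, uu_01, uu_10, uu_11]
      rw [hxdef]
      field_simp
      ring
    obtain ⟨t, ht, ht2, hdec⟩ := decomp_ut p hL _ hb hb10
    refine ⟨t, ht, ht2, ?_⟩
    have e : g * (dd t)⁻¹ = uu x * w1⁻¹ * (w1 * uu (-x) * g * (dd t)⁻¹) := by
      have : uu (-x) = (uu x)⁻¹ := (uu_inv x).symm
      rw [this]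
      group
    rw [e]
    refine mul_mem (mul_mem ?_ (inv_mem ?_)) hdec
    · apply mem_SLK_of <;> simp [one_mem, zero_mem]
      exact hxK
    · apply mem_SLK_of <;> simp [one_mem, zero_mem]

/-- **Identification.** -/
theorem ident (p : ℕ) [Fact p.Prime] [CharP F p] (hL : Hyp L) :
    ∃ k : Subfield F, SLK k ≤ L ∧ (∀ a : F, a ∈ k ↔ uu a ∈ L) ∧
    ∀ g ∈ L, ∃ t : Fˣ, dd t ∈ L ∧ (t : F) ^ 2 ∈ k ∧ g * (dd t)⁻¹ ∈ SLK k :=
  ⟨K0 p hL, SLK_le p hL, fun a => mem_K0 p hL, fun g hg => decomp p hL g hg⟩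

end main

end Cfsg.Agent.Helper98.Ident
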