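import Mathlib
import Cfsg.Agent.Lib.Helper98.SL2Mixed
import Cfsg.Agent.Lib.Helper98.SL2Ident

set_option autoImplicit false
set_option linter.unusedSectionVars false
set_option linter.unusedVariables false
set_option linter.unusedSimpArgs false
set_option linter.style.haveILetI false

/-!
# Bruhat decomposition by counting, and normalisation of a subgroup of `SL₂(F)`
-/

namespace Cfsg.Agent.Helper98.Dickson

open Matrix Cfsg.Agent.Helper41 Cfsg.Agent.Helper98.SL2CT Cfsg.Agent.Helper59.SL2Sub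
open Cfsg.Agent.Helper5 Cfsg.Agent.Helper98.Ident

variable {F : Type*} [Field F]

section sigma

/-- diagonal scaling automorphism `[[α, β],[γ, δ]] ↦ [[α, sβ],[γ/s, δ]]` -/
def sigma (s : Fˣ) : S2 F ≃* S2 F where
  toFun g := mk2 (g.1 0 0) ((s : F) * g.1 0 1) (g.1 1 0 * ((s⁻¹ : Fˣ) : F)) (g.1 1 1) (by
    have := det_eq g
    have hs : (s : F) * ((s⁻¹ : Fˣ) : F) = 1 := by simp
    linear_combination this - g.1 0 1 * g.1 1 0 * hs)
  invFun g := mk2 (g.1 0 0) (((s⁻¹ : Fˣ) : F) * g.1 0 1) (g.1 1 0 * (s : F)) (g.1 1 1) (by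
    have := det_eq g
    have hs : (s : F) * ((s⁻¹ : Fˣ) : F) = 1 := by simp
    linear_combination this - g.1 0 1 * g.1 1 0 * hs)
  left_inv g := by
    apply ext2 <;> simp [mul_assoc]
  right_inv g := by
    apply ext2 <;> simp [mul_assoc]
  map_mul' g h := by
    have hs : (s : F) * ((s⁻¹ : Fˣ) : F) = 1 := by simp
    apply ext2 <;> simp only [mul_ent, mk2_00, mk2_01, mk2_10, mk2_11]
    · linear_combination (-(g.1 0 1 * h.1 1 0)) * hs
    · ring
    · ring
    · linear_combination (-(g.1 1 0 * h.1 0 1)) * hs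

theorem sigma_00 (s : Fˣ) (g : S2 F) : (sigma s g).1 0 0 = g.1 0 0 := rfl
theorem sigma_01 (s : Fˣ) (g : S2 F) : (sigma s g).1 0 1 = (s : F) * g.1 0 1 := rfl
theorem sigma_10 (s : Fˣ) (g : S2 F) : (sigma s g).1 1 0 = g.1 1 0 * ((s⁻¹ : Fˣ) : F) := rfl
theorem sigma_11 (s : Fˣ) (g : S2 F) : (sigma s g).1 1 1 = g.1 1 1 := rfl

/-- conjugation by `[[s, -s x0],[0, 1]]` -/
def theta (s : Fˣ) (x0 : F) : S2 F ≃* S2 F := (MulAut.conj (uu (-x0))).trans (sigma s)

theorem theta_apply (s : Fˣ) (x0 : F) (g : S2 F) :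
    theta s x0 g = sigma s (uu (-x0) * g * (uu (-x0))⁻¹) := rfl

theorem theta_00 (s : Fˣ) (x0 : F) (g : S2 F) :
    (theta s x0 g).1 0 0 = g.1 0 0 - x0 * g.1 1 0 := by
  rw [theta_apply, sigma_00]
  simp [mul_ent, inv_ent00, inv_ent01, inv_ent10, inv_ent11]
  ring

theorem theta_10 (s : Fˣ) (x0 : F) (g : S2 F) :
    (theta s x0 g).1 1 0 = g.1 1 0 * ((s⁻¹ : Fˣ) : F) := by
  rw [theta_apply, sigma_10]
  simp [mul_ent, inv_ent00, inv_ent01, inv_ent10, inv_ent11]

theorem theta_uu (s : Fˣ) (x0 : F) (a : F) : theta s x0 (uu a) = uu ((s : F) * a) := by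
  rw [theta_apply]
  apply ext2
  · rw [sigma_00]; simp [mul_ent, inv_ent00, inv_ent01, inv_ent10, inv_ent11]
  · rw [sigma_01]; simp [mul_ent, inv_ent00, inv_ent01, inv_ent10, inv_ent11]
  · rw [sigma_10]; simp [mul_ent, inv_ent00, inv_ent01, inv_ent10, inv_ent11]
  · rw [sigma_11]; simp [mul_ent, inv_ent00, inv_ent01, inv_ent10, inv_ent11]

end sigma

section bruhat

variable [Fintype F] {p : ℕ} [Fact p.Prime] [CharP F p]
variable {K : Subgroup (SL2 F)} {U : Sylow p K}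

theorem Setup.coe_eq_uu (S : Setup p K U) {v : K} (hv : v ∈ U) :
    (v : SL2 F) = uu ((v : SL2 F).1 0 1) := by
  obtain ⟨h00, h10, h11⟩ := S.u_entries hv
  apply ext2 <;> simp [h00, h10, h11]

theorem conj_10 (w c : SL2 F) (c00 : c.1 0 0 = 1) (c10 : c.1 1 0 = 0) (c11 : c.1 1 1 = 1) :
    (w⁻¹ * c * w).1 1 0 = -(c.1 0 1 * w.1 1 0 ^ 2) := by
  simp only [mul_ent, inv_ent00, inv_ent01, inv_ent10, inv_ent11, c00, c10, c11]
  ring

/-- Bruhat decomposition, by counting -/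
theorem Setup.bruhat (S : Setup p K U)
    (hidx : (BK K).index = Nat.card (U : Subgroup K) + 1) {w : K} (hw : w ∉ BK K)
    (g : K) (hg : g ∉ BK K) : ∃ v ∈ (U : Subgroup K), ∃ b ∈ BK K, g = v * w * b := by
  classical
  have hUB := S.U_le_BK
  let f : ↥(U : Subgroup K) × ↥(BK K) → {g : K // g ∉ BK K} := fun x =>
    ⟨(x.1 : K) * w * (x.2 : K), by
      intro h
      apply hw
      have : w = (x.1 : K)⁻¹ * ((x.1 : K) * w * (x.2 : K)) * (x.2 : K)⁻¹ := by group
      rw [this]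
      exact mul_mem (mul_mem (inv_mem (hUB x.1.2)) h) (inv_mem x.2.2)⟩
  have hw10 : (w : SL2 F).1 1 0 ≠ 0 := fun h => hw (mem_BK.mpr h)
  have hinj : Function.Injective f := by
    rintro ⟨⟨v, hv⟩, ⟨b, hb⟩⟩ ⟨⟨v', hv'⟩, ⟨b', hb'⟩⟩ h
    have h1 : v * w * b = v' * w * b' := congrArg Subtype.val h
    have h2 : w⁻¹ * (v'⁻¹ * v) * w = b' * b⁻¹ := by
      have : v'⁻¹ * v = w * b' * b⁻¹ * w⁻¹ := by
        have e1 : v = v' * w * b' * b⁻¹ * w⁻¹ := by
          have := congrArg (fun t => t * b⁻¹ * w⁻¹) h1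
          simpa [mul_assoc] using this
        rw [e1]
        group
      rw [this]
      group
    have hc : v'⁻¹ * v ∈ (U : Subgroup K) := mul_mem (inv_mem hv') hv
    have hcB : w⁻¹ * (v'⁻¹ * v) * w ∈ BK K := by
      rw [h2]
      exact mul_mem hb' (inv_mem hb)
    obtain ⟨c00, c10, c11⟩ := S.u_entries hc
    have h10 : ((w⁻¹ * (v'⁻¹ * v) * w : K) : SL2 F).1 1 0 = 0 := mem_BK.mp hcB
    have hexp : ((w⁻¹ * (v'⁻¹ * v) * w : K) : SL2 F).1 1 0 =
        -(((v'⁻¹ * v : K) : SL2 F).1 0 1 * (w : SL2 F).1 1 0 ^ 2) := by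
      have := conj_10 (w : SL2 F) ((v'⁻¹ * v : K) : SL2 F) c00 c10 c11
      rw [← this]
      simp only [Subgroup.coe_mul, Subgroup.coe_inv]
    rw [hexp, neg_eq_zero] at h10
    have hc01 : ((v'⁻¹ * v : K) : SL2 F).1 0 1 = 0 := by
      rcases mul_eq_zero.mp h10 with h | h
      · exact h
      · exact absurd (pow_eq_zero_iff (two_ne_zero) |>.mp h) hw10
    have hc1 : v'⁻¹ * v = 1 := by
      apply Subtype.ext
      apply ext2
      · rw [c00]; simp
      · rw [hc01]; simp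
      · rw [c10]; simp
      · rw [c11]; simp
    have hvv : v = v' := by
      have := congrArg (fun t => v' * t) hc1
      simpa using this
    subst hvv
    have hbb : b = b' := by
      have := congrArg (fun t => (v * w)⁻¹ * t) h1
      simpa [mul_assoc] using this
    subst hbb
    rfl
  have hcard : Nat.card {g : K // g ∉ BK K} ≤ Nat.card (↥(U : Subgroup K) × ↥(BK K)) := by
    rw [Nat.card_prod]
    haveI : Fintype K := Fintype.ofFinite _
    have h1 : Nat.card {g : K // g ∉ BK K} = Nat.card K - Nat.card (BK K) := by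
      rw [Nat.card_eq_fintype_card, Nat.card_eq_fintype_card, Nat.card_eq_fintype_card,
        Fintype.card_subtype_compl]
    have h2 := (BK K).card_mul_index
    rw [hidx] at h2
    rw [h1, ← h2]
    have : Nat.card (BK K) * (Nat.card (U : Subgroup K) + 1) - Nat.card (BK K) =
        Nat.card (U : Subgroup K) * Nat.card (BK K) := by
      rw [mul_add, mul_one, Nat.add_sub_cancel, mul_comm]
    rw [this]
  have hbij := hinj.bijective_of_nat_card_le hcard
  obtain ⟨⟨⟨v, hv⟩, ⟨b, hb⟩⟩, hx⟩ := hbij.2 ⟨g, hg⟩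
  exact ⟨v, hv, b, hb, (congrArg Subtype.val hx).symm⟩

/-- the normalised conjugate satisfies the identification hypotheses -/
theorem Setup.hyp (S : Setup p K U)
    (hidx : (BK K).index = Nat.card (U : Subgroup K) + 1) :
    ∃ (s : Fˣ) (x0 : F), Hyp (K.map (theta s x0).toMonoidHom) := by
  classical
  obtain ⟨u, hu, hu1⟩ := S.exists_u
  have ha0 := S.u01_ne hu hu1
  have hne : BK K ≠ ⊤ := by
    intro h
    rw [h, Subgroup.index_top] at hidx
    have : 0 < Nat.card (U : Subgroup K) := Nat.card_pos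
    omega
  obtain ⟨w, hw⟩ : ∃ w : K, w ∉ BK K := by
    by_contra hcon
    push Not at hcon
    exact hne (eq_top_iff.mpr fun x _ => hcon x)
  have hw10 : (w : SL2 F).1 1 0 ≠ 0 := fun h => hw (mem_BK.mpr h)
  set s : Fˣ := (Units.mk0 _ ha0)⁻¹ with hs
  set x0 : F := (w : SL2 F).1 0 0 / (w : SL2 F).1 1 0 with hx0
  refine ⟨s, x0, ?_, ?_, ?_⟩
  · -- uu 1
    have h1 : theta s x0 (u : SL2 F) = uu 1 := by
      rw [S.coe_eq_uu hu, theta_uu, hs]
      simp [ha0]
    rw [← h1]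
    exact Subgroup.mem_map_of_mem _ u.2
  · refine ⟨theta s x0 (w : SL2 F), Subgroup.mem_map_of_mem _ w.2, ?_⟩
    rw [theta_00, hx0]
    field_simp
    ring
  · rintro g' ⟨g, hgK, rfl⟩ h10
    change (theta s x0 g).1 1 0 ≠ 0 at h10
    change uu ((theta s x0 g).1 0 0 / (theta s x0 g).1 1 0) ∈ _
    rw [theta_10] at h10
    have hg10 : g.1 1 0 ≠ 0 := left_ne_zero_of_mul h10
    have hgB : (⟨g, hgK⟩ : K) ∉ BK K := fun h => hg10 (mem_BK.mp h)
    obtain ⟨v, hv, b, hb, hgvb⟩ := S.bruhat hidx hw ⟨g, hgK⟩ hgB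
    have hgv : g = (v : SL2 F) * (w : SL2 F) * (b : SL2 F) := by
      have := congrArg Subtype.val hgvb
      simpa using this
    have hb10 : (b : SL2 F).1 1 0 = 0 := mem_BK.mp hb
    have hvu := S.coe_eq_uu hv
    set a := (v : SL2 F).1 0 1 with ha
    have e00 : g.1 0 0 = ((w : SL2 F).1 0 0 + a * (w : SL2 F).1 1 0) * (b : SL2 F).1 0 0 := by
      rw [hgv, hvu]
      simp only [mul_ent, uu_00, uu_01, uu_10, uu_11, hb10]
      ring
    have e10 : g.1 1 0 = (w : SL2 F).1 1 0 * (b : SL2 F).1 0 0 := by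
      rw [hgv, hvu]
      simp only [mul_ent, uu_00, uu_01, uu_10, uu_11, hb10]
      ring
    have hb00 : (b : SL2 F).1 0 0 ≠ 0 := by
      intro h
      rw [h, mul_zero] at e10
      exact hg10 e10
    have hratio : (theta s x0 g).1 0 0 / (theta s x0 g).1 1 0 = (s : F) * a := by
      rw [theta_00, theta_10, e00, e10, hx0]
      have hs0 : (s : F) ≠ 0 := Units.ne_zero s
      rw [Units.val_inv_eq_inv_val]
      field_simp
      ring
    rw [hratio, ← theta_uu s x0 a, ← hvu]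
    exact Subgroup.mem_map_of_mem _ v.2

end bruhat

end Cfsg.Agent.Helper98.Dickson
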