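import Cfsg.Agent.Lib.Helper98.SL2CT

set_option autoImplicit false
set_option linter.unusedSectionVars false
set_option linter.unusedVariables false
set_option linter.style.haveILetI false

/-!
# Dickson's theorem for subgroups of `PSL₂(F)` of order prime to the characteristic
-/

namespace Cfsg.Agent.Helper98.Dickson

open Matrix Cfsg.Agent.Helper41 Cfsg.Agent.Helper98.SL2CT

variable {F : Type*} [Field F]

/-- the preimage in `SL₂` -/
def pre (H : Subgroup (Matrix.ProjectiveSpecialLinearGroup (Fin 2) F)) :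
    Subgroup (Matrix.SpecialLinearGroup (Fin 2) F) :=
  H.comap (QuotientGroup.mk' (Subgroup.center (Matrix.SpecialLinearGroup (Fin 2) F)))

/-- the projection `pre H → H` -/
def proj (H : Subgroup (Matrix.ProjectiveSpecialLinearGroup (Fin 2) F)) : pre H →* H :=
  (QuotientGroup.mk' (Subgroup.center (Matrix.SpecialLinearGroup (Fin 2) F))).subgroupComap H

theorem proj_surjective (H : Subgroup (Matrix.ProjectiveSpecialLinearGroup (Fin 2) F)) :
    Function.Surjective (proj H) :=
  MonoidHom.subgroupComap_surjective_of_surjective _ _ (QuotientGroup.mk'_surjective _)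

theorem proj_coe (H : Subgroup (Matrix.ProjectiveSpecialLinearGroup (Fin 2) F)) (x : pre H) :
    ((proj H x : H) : Matrix.ProjectiveSpecialLinearGroup (Fin 2) F) =
      QuotientGroup.mk (x : Matrix.SpecialLinearGroup (Fin 2) F) := rfl

theorem proj_ker (H : Subgroup (Matrix.ProjectiveSpecialLinearGroup (Fin 2) F)) :
    (proj H).ker = ZK (pre H) := by
  ext x
  rw [MonoidHom.mem_ker, mem_ZK, ← QuotientGroup.eq_one_iff]
  constructor
  · intro h
    have := congrArg Subtype.val h
    rw [proj_coe] at this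
    exact this
  · intro h
    apply Subtype.ext
    rw [proj_coe]
    exact h

theorem center_le_pre (H : Subgroup (Matrix.ProjectiveSpecialLinearGroup (Fin 2) F)) :
    Subgroup.center (Matrix.SpecialLinearGroup (Fin 2) F) ≤ pre H := by
  intro z hz
  unfold pre
  rw [Subgroup.mem_comap]
  have : (QuotientGroup.mk' (Subgroup.center (Matrix.SpecialLinearGroup (Fin 2) F))) z = 1 :=
    (QuotientGroup.eq_one_iff z).mpr hz
  rw [this]
  exact one_mem _

/-- non-central elements of trace `±2` give elements of order `p` -/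
theorem dvd_card_of_tr (p : ℕ) [Fact p.Prime] [CharP F p]
    (H : Subgroup (Matrix.ProjectiveSpecialLinearGroup (Fin 2) F)) [Finite H] (x : pre H)
    (hx : x ∉ ZK (pre H)) (h4 : tr (pre H) x ^ 2 = 4) : p ∣ Nat.card H := by
  have hdet : ((x : Matrix.SpecialLinearGroup (Fin 2) F) : Matrix (Fin 2) (Fin 2) F).det = 1 :=
    (x : Matrix.SpecialLinearGroup (Fin 2) F).2
  have h1 := unipotent_pow p _ hdet h4
  have h2 : (proj H x) ^ p = 1 := by
    apply Subtype.ext
    rw [Subgroup.coe_pow, proj_coe, Subgroup.coe_one]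
    exact (psl2_mk_pow_eq_one_iff _ p).mpr h1
  have h3 : proj H x ≠ 1 := by
    intro h
    apply hx
    rw [← proj_ker, MonoidHom.mem_ker]
    exact h
  have h4 : orderOf (proj H x) = p := orderOf_eq_prime h2 h3
  rw [← h4]
  exact orderOf_dvd_natCard _

/-- **Dickson, order prime to `p`.** -/
theorem dickson_pprime [Finite F] (p : ℕ) [Fact p.Prime] [CharP F p]
    (H : Subgroup (Matrix.ProjectiveSpecialLinearGroup (Fin 2) F)) (hp : ¬ p ∣ Nat.card H) :
    IsCyclic H ∨ (∃ n, 0 < n ∧ Nonempty (H ≃* DihedralGroup n)) ∨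
      Nonempty (H ≃* alternatingGroup (Fin 4)) ∨ Nonempty (H ≃* Equiv.Perm (Fin 4)) ∨
      Nonempty (H ≃* alternatingGroup (Fin 5)) := by
  haveI : Finite (Matrix.SpecialLinearGroup (Fin 2) F) :=
    inferInstanceAs (Finite {A : Matrix (Fin 2) (Fin 2) F // A.det = 1})
  haveI : Finite (Matrix.ProjectiveSpecialLinearGroup (Fin 2) F) :=
    inferInstanceAs (Finite (Matrix.SpecialLinearGroup (Fin 2) F ⧸ _))
  have hss : ∀ x : pre H, x ∉ ZK (pre H) → tr (pre H) x ^ 2 ≠ 4 :=
    fun x hx h4 => hp (dvd_card_of_tr p H x hx h4)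
  exact CT.pprime_main (data (pre H)) (proj H) (proj_surjective H) (proj_ker H)
    (fun x hx => inv_of_tr (pre H) (hss x hx)) (fun x hx => isCyclic_cen (pre H) (hss x hx))

end Cfsg.Agent.Helper98.Dickson
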