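import Mathlib
import Cfsg.Agent.S0805
import Cfsg.Agent.Lib.Helper98.SL2Ident
import Cfsg.Agent.Lib.Helper98.DicksonPrime

set_option autoImplicit false
set_option linter.unusedSectionVars false
set_option linter.unusedVariables false
set_option linter.unusedSimpArgs false
set_option linter.style.haveILetI false

/-!
# From the matrix identification to `PSL₂(K)` / `PGL₂(K)`
-/

namespace Cfsg.Agent.Helper98.Final

open Matrix Cfsg.Agent.Helper98.Ident Cfsg.Agent.Helper98.Dickson Cfsg.Agent.S0805

variable {F : Type*} [Field F] {K1 : Type*} [Field K1] (φ : K1 →+* F)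

theorem map_mem_SLK (g0 : S2 K1) : Matrix.SpecialLinearGroup.map φ g0 ∈ SLK φ.fieldRange := by
  intro i j
  exact ⟨g0.1 i j, rfl⟩

theorem exists_sl_of_SLK (g : S2 F) (hg : g ∈ SLK φ.fieldRange) :
    ∃ g0 : S2 K1, Matrix.SpecialLinearGroup.map φ g0 = g := by
  have h : ∀ i j, ∃ a : K1, φ a = g.1 i j := fun i j => RingHom.mem_fieldRange.mp (hg i j)
  choose f hf using h
  have hM : φ.mapMatrix (Matrix.of f) = g.1 := by
    ext i j
    simp [hf]
  have hdet : (Matrix.of f).det = 1 := by
    apply φ.injective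
    rw [RingHom.map_det, hM, map_one]
    exact g.2
  refine ⟨⟨Matrix.of f, hdet⟩, ?_⟩
  apply Subtype.ext
  exact hM

theorem mk_mem_iff (H : Subgroup (Matrix.ProjectiveSpecialLinearGroup (Fin 2) F)) (g : S2 F) :
    (QuotientGroup.mk g : Matrix.ProjectiveSpecialLinearGroup (Fin 2) F) ∈ H ↔ g ∈ pre H :=
  Iff.rfl

/-- the `PSL₂` case -/
theorem iso_psl (H : Subgroup (Matrix.ProjectiveSpecialLinearGroup (Fin 2) F))
    (h1 : SLK φ.fieldRange ≤ pre H) (h2 : pre H ≤ SLK φ.fieldRange) :
    Nonempty (H ≃* Matrix.ProjectiveSpecialLinearGroup (Fin 2) K1) := by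
  have hH : H = (pslMap φ).range := by
    ext x
    obtain ⟨g, rfl⟩ := QuotientGroup.mk_surjective x
    rw [mk_mem_iff]
    constructor
    · intro hg
      obtain ⟨g0, hg0⟩ := exists_sl_of_SLK φ g (h2 hg)
      refine ⟨QuotientGroup.mk g0, ?_⟩
      rw [← hg0]
      rfl
    · rintro ⟨y, hy⟩
      obtain ⟨g0, rfl⟩ := QuotientGroup.mk_surjective y
      have h3 : Matrix.SpecialLinearGroup.map φ g0 ∈ pre H := h1 (map_mem_SLK φ g0)
      rw [← mk_mem_iff] at h3 ⊢
      rw [← hy]
      exact h3
  rw [hH]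
  exact ⟨(MonoidHom.ofInjective (pslMap_injective φ)).symm⟩

theorem dd_mul (s t : Fˣ) : dd s * dd t = dd (s * t) := by
  apply ext2 <;> simp [mul_ent, mul_comm]

theorem dd_mem_SLK (k : Subfield F) (t : Fˣ) (ht : (t : F) ∈ k) : dd t ∈ SLK k := by
  apply mem_SLK_of <;> simp [zero_mem, ht]

/-- the bridge between `SL₂(F)` and `GL₂(K1)` modulo scalars -/
theorem toPGL_eq (g : S2 F) (t : Fˣ) (g' : GL (Fin 2) K1)
    (h : ∀ i j, φ ((g' : Matrix (Fin 2) (Fin 2) K1) i j) = g.1 i j * (t : F)) :
    Matrix.ProjectiveSpecialLinearGroup.toPGL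
      (QuotientGroup.mk g : Matrix.ProjectiveSpecialLinearGroup (Fin 2) F) =
      pglMap φ (Matrix.ProjGenLinGroup.mk g') := by
  rw [pglMap_mk]
  change Matrix.ProjGenLinGroup.mk (Matrix.SpecialLinearGroup.toGL g) = _
  rw [Matrix.ProjGenLinGroup.mk_eq_mk_iff]
  refine ⟨t, Units.ext ?_⟩
  ext i j
  rw [gl_map_val]
  simp only [Units.val_mul, Matrix.SpecialLinearGroup.coe_GL_coe_matrix,
    GeneralLinearGroup.coe_scalar, RingHom.mapMatrix_apply, Matrix.map_apply, h i j]
  simp [Matrix.mul_apply, Fin.sum_univ_two, Matrix.scalar_apply, Matrix.diagonal_apply]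

section pgl

variable [Fintype K1] (H : Subgroup (Matrix.ProjectiveSpecialLinearGroup (Fin 2) F))
  (hk : SLK φ.fieldRange ≤ pre H)
  (hu : ∀ a : F, a ∈ φ.fieldRange ↔ uu a ∈ pre H)
  (hdec : ∀ g ∈ pre H, ∃ t : Fˣ, dd t ∈ pre H ∧ (t : F) ^ 2 ∈ φ.fieldRange ∧
    g * (dd t)⁻¹ ∈ SLK φ.fieldRange)

include hu in
theorem sq_mem_of_dd (t : Fˣ) (ht : dd t ∈ pre H) : (t : F) ^ 2 ∈ φ.fieldRange := by
  rw [hu]
  have := conj_dd t (1 : F)
  rw [mul_one] at this
  rw [← this]
  exact mul_mem (mul_mem ht ((hu 1).mp (one_mem _))) (inv_mem ht)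

include hk hu in
theorem exists_sqrt (π : Fˣ) (hπ : dd π ∈ pre H) (hπk : (π : F) ∉ φ.fieldRange) (a : K1)
    (ha : a ≠ 0) : ∃ t : Fˣ, dd t ∈ pre H ∧ (t : F) ^ 2 = φ a := by
  obtain ⟨ν, hν⟩ := RingHom.mem_fieldRange.mp (sq_mem_of_dd φ H hu π hπ)
  have hν0 : ν ≠ 0 := by
    intro h
    rw [h, map_zero] at hν
    exact (pow_ne_zero 2 (Units.ne_zero π)) hν.symm
  have hνsq : ¬ IsSquare ν := by
    rintro ⟨s, hs⟩
    apply hπk
    have h1 : ((π : F) - φ s) * ((π : F) + φ s) = 0 := by
      have : (π : F) ^ 2 = φ s * φ s := by rw [← hν, hs, map_mul]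
      linear_combination this
    rcases mul_eq_zero.mp h1 with h | h
    · have : (π : F) = φ s := by linear_combination h
      rw [this]
      exact ⟨s, rfl⟩
    · have : (π : F) = φ (-s) := by rw [map_neg]; linear_combination h
      rw [this]
      exact ⟨-s, rfl⟩
  have hsqcase : ∀ (s : K1) (hs : s ≠ 0), dd (Units.mk0 (φ s) ((map_ne_zero φ).mpr hs)) ∈ pre H := by
    intro s hs
    apply hk
    apply dd_mem_SLK
    rw [Units.val_mk0]
    exact ⟨s, rfl⟩
  by_cases hsq : IsSquare a
  · obtain ⟨s, hs⟩ := hsq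
    have hs0 : s ≠ 0 := by
      rintro rfl
      rw [mul_zero] at hs
      exact ha hs
    refine ⟨Units.mk0 (φ s) ((map_ne_zero φ).mpr hs0), hsqcase s hs0, ?_⟩
    rw [Units.val_mk0, hs, map_mul]
    ring
  · have hchar : ringChar K1 ≠ 2 := fun h => hsq (FiniteField.isSquare_of_char_two h a)
    have h1 : a ^ (Fintype.card K1 / 2) = -1 := by
      rcases FiniteField.pow_dichotomy hchar ha with h | h
      · exact absurd ((FiniteField.isSquare_iff hchar ha).mpr h) hsq
      · exact h
    have h2 : ν ^ (Fintype.card K1 / 2) = -1 := by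
      rcases FiniteField.pow_dichotomy hchar hν0 with h | h
      · exact absurd ((FiniteField.isSquare_iff hchar hν0).mpr h) hνsq
      · exact h
    have h3 : IsSquare (a / ν) := by
      rw [FiniteField.isSquare_iff hchar (div_ne_zero ha hν0), div_pow, h1, h2]
      simp
    obtain ⟨s, hs⟩ := h3
    have hs0 : s ≠ 0 := by
      rintro rfl
      rw [mul_zero] at hs
      exact (div_ne_zero ha hν0) hs
    refine ⟨Units.mk0 (φ s) ((map_ne_zero φ).mpr hs0) * π, ?_, ?_⟩
    · rw [← dd_mul]
      exact mul_mem (hsqcase s hs0) hπ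
    · rw [Units.val_mul, Units.val_mk0, mul_pow, ← hν]
      have : a = s * s * ν := by
        rw [← hs]
        field_simp
      rw [this, map_mul, map_mul]
      ring

include hk hu hdec in
/-- the `PGL₂` case -/
theorem iso_pgl (π : Fˣ) (hπ : dd π ∈ pre H) (hπk : (π : F) ∉ φ.fieldRange) :
    Nonempty (H ≃* Matrix.ProjGenLinGroup (Fin 2) K1) := by
  have hH : H.map Matrix.ProjectiveSpecialLinearGroup.toPGL = (pglMap φ).range := by
    ext y
    constructor
    · rintro ⟨x, hx, rfl⟩
      obtain ⟨g, rfl⟩ := QuotientGroup.mk_surjective x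
      have hg : g ∈ pre H := hx
      obtain ⟨t, ht, ht2, hg0⟩ := hdec g hg
      -- entries of `t • g` lie in the subfield
      have hent : ∀ i j, g.1 i j * (t : F) ∈ φ.fieldRange := by
        have h00 := hg0 0 0
        have h01 := hg0 0 1
        have h10 := hg0 1 0
        have h11 := hg0 1 1
        simp only [mul_ent, inv_ent00, inv_ent01, inv_ent10, inv_ent11, dd_00, dd_01, dd_10,
          dd_11, neg_zero, mul_zero, add_zero, zero_add, Units.val_inv_eq_inv_val] at h00 h01 h10 h11
        intro i j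
        fin_cases i <;> fin_cases j
        · have := mul_mem h00 ht2
          have e : g.1 0 0 * (t : F)⁻¹ * (t : F) ^ 2 = g.1 0 0 * (t : F) := by
            have := Units.ne_zero t
            field_simp
          rw [e] at this
          exact this
        · exact h01
        · have := mul_mem h10 ht2
          have e : g.1 1 0 * (t : F)⁻¹ * (t : F) ^ 2 = g.1 1 0 * (t : F) := by
            have := Units.ne_zero t
            field_simp
          rw [e] at this
          exact this
        · exact h11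
      have h : ∀ i j, ∃ a : K1, φ a = g.1 i j * (t : F) :=
        fun i j => RingHom.mem_fieldRange.mp (hent i j)
      choose f hf using h
      have hdet : (Matrix.of f).det ≠ 0 := by
        intro h0
        have h1 : φ ((Matrix.of f).det) = (t : F) ^ 2 := by
          rw [Matrix.det_fin_two, map_sub, map_mul, map_mul]
          simp only [Matrix.of_apply, hf]
          have := det_eq g
          linear_combination (t : F) ^ 2 * this
        rw [h0, map_zero] at h1
        exact (pow_ne_zero 2 (Units.ne_zero t)) h1.symm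
      refine ⟨Matrix.ProjGenLinGroup.mk (Matrix.GeneralLinearGroup.mkOfDetNeZero (Matrix.of f) hdet),
        ?_⟩
      rw [toPGL_eq φ g t]
      intro i j
      exact hf i j
    · rintro ⟨y', rfl⟩
      induction y' using Matrix.ProjGenLinGroup.induction_on with | mk g' =>
      have hd0 : (g' : Matrix (Fin 2) (Fin 2) K1).det ≠ 0 := by
        have := (Matrix.isUnit_iff_isUnit_det _).mp g'.isUnit
        exact this.ne_zero
      obtain ⟨t, ht, ht2⟩ := exists_sqrt φ H hk hu π hπ hπk _ hd0
      have ht0 : (t : F) ≠ 0 := Units.ne_zero t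
      rw [Matrix.det_fin_two, map_sub, map_mul, map_mul] at ht2
      set a := φ ((g' : Matrix (Fin 2) (Fin 2) K1) 0 0) with ha
      set b := φ ((g' : Matrix (Fin 2) (Fin 2) K1) 0 1) with hb
      set c := φ ((g' : Matrix (Fin 2) (Fin 2) K1) 1 0) with hc
      set d := φ ((g' : Matrix (Fin 2) (Fin 2) K1) 1 1) with hd
      have hak : a ∈ φ.fieldRange := ⟨_, rfl⟩
      have hbk : b ∈ φ.fieldRange := ⟨_, rfl⟩
      have hck : c ∈ φ.fieldRange := ⟨_, rfl⟩
      have hdk : d ∈ φ.fieldRange := ⟨_, rfl⟩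
      have ht2k : (t : F) ^ 2 ∈ φ.fieldRange := by
        rw [ht2]
        exact sub_mem (mul_mem hak hdk) (mul_mem hbk hck)
      have hdetg : a * (t : F)⁻¹ * (d * (t : F)⁻¹) - b * (t : F)⁻¹ * (c * (t : F)⁻¹) = 1 := by
        field_simp
        linear_combination -ht2
      set g : S2 F := mk2 (a * (t : F)⁻¹) (b * (t : F)⁻¹) (c * (t : F)⁻¹) (d * (t : F)⁻¹) hdetg
        with hg
      have hgL : g ∈ pre H := by
        have h1 : g * (dd t)⁻¹ ∈ SLK φ.fieldRange := by
          apply mem_SLK_of <;>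
            simp only [hg, mul_ent, inv_ent00, inv_ent01, inv_ent10, inv_ent11, dd_00, dd_01, dd_10,
              dd_11, neg_zero, mul_zero, add_zero, zero_add, Units.val_inv_eq_inv_val, mk2_00,
              mk2_01, mk2_10, mk2_11]
          · have : a * (t : F)⁻¹ * (t : F)⁻¹ = a / (t : F) ^ 2 := by field_simp
            rw [this]
            exact div_mem hak ht2k
          · have : b * (t : F)⁻¹ * (t : F) = b := by field_simp
            rw [this]
            exact hbk
          · have : c * (t : F)⁻¹ * (t : F)⁻¹ = c / (t : F) ^ 2 := by field_simp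
            rw [this]
            exact div_mem hck ht2k
          · have : d * (t : F)⁻¹ * (t : F) = d := by field_simp
            rw [this]
            exact hdk
        have : g = g * (dd t)⁻¹ * dd t := by group
        rw [this]
        exact mul_mem (hk h1) ht
      refine ⟨QuotientGroup.mk g, hgL, ?_⟩
      change Matrix.ProjectiveSpecialLinearGroup.toPGL (QuotientGroup.mk g) = _
      apply toPGL_eq φ g t g'
      intro i j
      fin_cases i <;> fin_cases j <;> simp [hg, ha, hb, hc, hd, ht0]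
  have e1 : H ≃* H.map Matrix.ProjectiveSpecialLinearGroup.toPGL :=
    H.equivMapOfInjective _ Matrix.ProjectiveSpecialLinearGroup.toPGL_injective
  have e2 : (pglMap φ).range ≃* Matrix.ProjGenLinGroup (Fin 2) K1 :=
    (MonoidHom.ofInjective (pglMap_injective φ)).symm
  exact ⟨e1.trans ((MulEquiv.subgroupCongr hH).trans e2)⟩

include hk hu hdec in
/-- **The isomorphism type.** -/
theorem iso_main :
    Nonempty (H ≃* Matrix.ProjectiveSpecialLinearGroup (Fin 2) K1) ∨
      Nonempty (H ≃* Matrix.ProjGenLinGroup (Fin 2) K1) := by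
  by_cases h : ∀ t : Fˣ, dd t ∈ pre H → (t : F) ∈ φ.fieldRange
  · left
    apply iso_psl φ H hk
    intro g hg
    obtain ⟨t, ht, ht2, hg0⟩ := hdec g hg
    have : g = g * (dd t)⁻¹ * dd t := by group
    rw [this]
    exact mul_mem hg0 (dd_mem_SLK _ t (h t ht))
  · right
    push_neg at h
    obtain ⟨π, hπ, hπk⟩ := h
    exact iso_pgl φ H hk hu hdec π hπ hπk

end pgl

end Cfsg.Agent.Helper98.Final
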