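import Mathlib
import Cfsg.Agent.Lib.Helper98.SL2Bruhat
import Cfsg.Agent.Lib.Helper98.SL2Final

set_option autoImplicit false
set_option linter.unusedSectionVars false
set_option linter.unusedVariables false
set_option linter.unusedSimpArgs false
set_option linter.style.haveILetI false

/-!
# Dickson's theorem: subgroups of `PSL₂(F)`, `F` a finite field
-/

namespace Cfsg.Agent.Helper98.Dickson

open Matrix Cfsg.Agent.Helper41 Cfsg.Agent.Helper98.SL2CT Cfsg.Agent.Helper59.SL2Sub
open Cfsg.Agent.Helper5 Cfsg.Agent.Helper98.Ident Cfsg.Agent.Helper98.Final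

variable {F : Type*} [Field F]

section aut

/-- the automorphism of `PSL₂(F)` induced by an automorphism of `SL₂(F)` -/
noncomputable def bar (Θ : S2 F ≃* S2 F) :
    Matrix.ProjectiveSpecialLinearGroup (Fin 2) F ≃* Matrix.ProjectiveSpecialLinearGroup (Fin 2) F :=
  QuotientGroup.congr (Subgroup.center (S2 F)) (Subgroup.center (S2 F)) Θ
    (Subgroup.characteristic_iff_map_eq.mp inferInstance Θ)

theorem bar_mk (Θ : S2 F ≃* S2 F) (g : S2 F) :
    bar Θ (QuotientGroup.mk g) = QuotientGroup.mk (Θ g) := rfl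

theorem bar_symm_mk (Θ : S2 F ≃* S2 F) (g : S2 F) :
    (bar Θ).symm (QuotientGroup.mk g) = QuotientGroup.mk (Θ.symm g) := rfl

theorem mem_pre_map (H : Subgroup (Matrix.ProjectiveSpecialLinearGroup (Fin 2) F))
    (Θ : S2 F ≃* S2 F) (y : S2 F) :
    y ∈ pre (H.map (bar Θ).toMonoidHom) ↔ Θ.symm y ∈ pre H := by
  unfold pre
  rw [Subgroup.mem_comap, Subgroup.mem_comap, Subgroup.mem_map_equiv]
  rfl

theorem pre_map (H : Subgroup (Matrix.ProjectiveSpecialLinearGroup (Fin 2) F))
    (Θ : S2 F ≃* S2 F) :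
    pre (H.map (bar Θ).toMonoidHom) = (pre H).map Θ.toMonoidHom := by
  ext y
  rw [mem_pre_map, Subgroup.mem_map_equiv]

/-- `H ≃* H^Θ` -/
noncomputable def isoMap (H : Subgroup (Matrix.ProjectiveSpecialLinearGroup (Fin 2) F))
    (Θ : S2 F ≃* S2 F) : H ≃* H.map (bar Θ).toMonoidHom :=
  (bar Θ).subgroupMap H

end aut

section sylowTransport

variable {p : ℕ} [Fact p.Prime]

/-- transport of a Sylow subgroup along an automorphism -/
theorem exists_sylow_map [Finite (S2 F)] (K K' : Subgroup (S2 F)) (Θ : S2 F ≃* S2 F)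
    (hK' : K' = K.map Θ.toMonoidHom) (U : Sylow p K) :
    ∃ U' : Sylow p K', Nat.card (U' : Subgroup K') = Nat.card (U : Subgroup K) ∧
      ∀ y ∈ U', ∃ u ∈ U, ((y : K') : S2 F) = Θ ((u : K) : S2 F) := by
  subst hK'
  let e : K ≃* K.map Θ.toMonoidHom := Θ.subgroupMap K
  let U' : Sylow p (K.map Θ.toMonoidHom) :=
    U.comapOfInjective e.symm.toMonoidHom e.symm.injective (by
      intro x _
      exact ⟨e x, e.symm_apply_apply x⟩)
  refine ⟨U', ?_, ?_⟩
  · have h1 : (U' : Subgroup (K.map Θ.toMonoidHom)) = (U : Subgroup K).comap e.symm.toMonoidHom := rfl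
    rw [h1]
    apply Nat.card_congr
    exact
      { toFun := fun y => ⟨e.symm y.1, y.2⟩
        invFun := fun u => ⟨e u.1, by
          change e.symm (e u.1) ∈ U
          rw [MulEquiv.symm_apply_apply]
          exact u.2⟩
        left_inv := fun y => Subtype.ext (e.apply_symm_apply _)
        right_inv := fun u => Subtype.ext (e.symm_apply_apply _) }
  · intro y hy
    have hy' : e.symm y ∈ U := hy
    refine ⟨e.symm y, hy', ?_⟩
    have : y = e (e.symm y) := (MulEquiv.apply_symm_apply e y).symm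
    conv_lhs => rw [this]
    rfl

end sylowTransport

section field

/-- a model in `Type` of a subfield -/
theorem exists_model [Fintype F] (k : Subfield F) :
    ∃ (K2 : Type) (_ : Field K2) (_ : Fintype K2) (φ : K2 →+* F) (m : ℕ),
      φ.fieldRange = k ∧ Fintype.card K2 ^ m = Fintype.card F := by
  classical
  let e : Shrink.{0} k ≃+* k := Shrink.ringEquiv.{0} k
  haveI : Fintype (Shrink.{0} k) := Fintype.ofEquiv k e.symm.toEquiv
  refine ⟨Shrink.{0} k, inferInstance, inferInstance, k.subtype.comp e.toRingHom,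
    Module.finrank k F, ?_, ?_⟩
  · ext x
    rw [RingHom.mem_fieldRange]
    constructor
    · rintro ⟨y, rfl⟩
      exact (e y).2
    · intro hx
      exact ⟨e.symm ⟨x, hx⟩, by simp⟩
  · rw [Fintype.card_congr e.toEquiv]
    exact (Module.card_eq_pow_finrank (K := k) (V := F)).symm

end field

section main

variable [Fintype F] (p : ℕ) [Fact p.Prime] [CharP F p]

/-- the case where everything is upper triangular: normaliser of a Sylow subgroup -/
theorem borel_case (H1 : Subgroup (Matrix.ProjectiveSpecialLinearGroup (Fin 2) F))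
    (hB : ∀ g ∈ pre H1, g.1 1 0 = 0) :
    ∃ P : Sylow p (Matrix.ProjectiveSpecialLinearGroup (Fin 2) F),
      H1 ≤ Subgroup.normalizer ((P : Subgroup (Matrix.ProjectiveSpecialLinearGroup (Fin 2) F)) :
        Set (Matrix.ProjectiveSpecialLinearGroup (Fin 2) F)) := by
  haveI : Finite (S2 F) := inferInstanceAs (Finite {A : Matrix (Fin 2) (Fin 2) F // A.det = 1})
  have hsurj : Function.Surjective
      (QuotientGroup.mk' (Subgroup.center (S2 F))) := QuotientGroup.mk'_surjective _
  refine ⟨(slUSylow p).mapSurjective hsurj, ?_⟩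
  rw [Sylow.coe_mapSurjective]
  intro x hx
  obtain ⟨g, rfl⟩ := QuotientGroup.mk_surjective x
  have hg : g ∈ pre H1 := hx
  apply Subgroup.le_normalizer_map
  refine ⟨g, ?_, rfl⟩
  rw [SetLike.mem_coe, Subgroup.mem_normalizer_iff]
  intro s
  exact (conj_mem_slU_iff g s (hB g hg)).symm

theorem two_of_card_sylow {G : Type*} [Group G] [Finite G] (U : Sylow p G)
    (h : Nat.card (U : Subgroup G) = 2) : p = 2 := by
  have h1 := U.card_eq_multiplicity
  rw [h] at h1
  have hp : p ∣ 2 := by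
    have hne : (Nat.card G).factorization p ≠ 0 := by
      intro h0
      rw [h0, pow_zero] at h1
      omega
    rw [h1]
    exact dvd_pow_self p hne
  exact (Nat.prime_dvd_prime_iff_eq (Fact.out : p.Prime) Nat.prime_two).mp hp

/-- **Dickson's theorem.** -/
theorem dickson_full (H : Subgroup (Matrix.ProjectiveSpecialLinearGroup (Fin 2) F)) :
    (IsCyclic H ∧ ¬ p ∣ Nat.card H) ∨
    (∃ n, 0 < n ∧ ¬ p ∣ n ∧ Nonempty (H ≃* DihedralGroup n)) ∨
    Nonempty (H ≃* alternatingGroup (Fin 4)) ∨ Nonempty (H ≃* Equiv.Perm (Fin 4)) ∨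
    Nonempty (H ≃* alternatingGroup (Fin 5)) ∨
    (p ∣ Nat.card H ∧ ∃ H1 : Subgroup (Matrix.ProjectiveSpecialLinearGroup (Fin 2) F),
      Nonempty (H ≃* H1) ∧ ∀ g ∈ pre H1, g.1 1 0 = 0) ∨
    (∃ (K : Type) (_ : Field K) (_ : Fintype K) (m : ℕ),
      Fintype.card K ^ m = Fintype.card F ∧
      (Nonempty (H ≃* Matrix.ProjectiveSpecialLinearGroup (Fin 2) K) ∨
        Nonempty (H ≃* Matrix.ProjGenLinGroup (Fin 2) K))) := by
  classical
  haveI : Finite (S2 F) := inferInstanceAs (Finite {A : Matrix (Fin 2) (Fin 2) F // A.det = 1})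
  haveI : Finite (Matrix.ProjectiveSpecialLinearGroup (Fin 2) F) :=
    inferInstanceAs (Finite (S2 F ⧸ _))
  by_cases hp : p ∣ Nat.card H
  swap
  · -- order prime to `p`
    rcases dickson_pprime p H hp with h | ⟨n, hn, ⟨e⟩⟩ | h | h | h
    · exact Or.inl ⟨h, hp⟩
    · refine Or.inr (Or.inl ⟨n, hn, ?_, ⟨e⟩⟩)
      intro hpn
      apply hp
      rw [Nat.card_congr e.toEquiv, DihedralGroup.nat_card]
      exact Dvd.dvd.mul_left hpn 2
    · exact Or.inr (Or.inr (Or.inl h))
    · exact Or.inr (Or.inr (Or.inr (Or.inl h)))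
    · exact Or.inr (Or.inr (Or.inr (Or.inr (Or.inl h))))
  -- `p` divides the order
  set K := pre H with hK
  have hpK : p ∣ Nat.card K :=
    hp.trans (Subgroup.card_dvd_of_surjective (proj H) (proj_surjective H))
  obtain U : Sylow p K := default
  have hUne : (U : Subgroup K) ≠ ⊥ := U.ne_bot_of_dvd_card hpK
  -- conjugate the Sylow subgroup into the upper unitriangular group
  obtain ⟨h, hh⟩ := exists_conj p K.subtype U
  set Θ1 : S2 F ≃* S2 F := MulAut.conj h⁻¹ with hΘ1
  set H1 := H.map (bar Θ1).toMonoidHom with hH1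
  have e1 : H ≃* H1 := isoMap H Θ1
  obtain ⟨U1, hU1card, hU1⟩ := exists_sylow_map K (pre H1) Θ1 (pre_map H Θ1) U
  have S : Setup p (pre H1) U1 := by
    refine ⟨center_le_pre H1, ?_, ?_⟩
    · intro y hy
      obtain ⟨u, hu, hyu⟩ := hU1 y hy
      rw [hyu]
      have := hh u hu
      rw [conjHom_apply] at this
      rw [hΘ1, MulAut.conj_apply, inv_inv]
      exact this
    · intro hbot
      apply hUne
      rw [← Subgroup.card_eq_one] at hbot ⊢
      rw [← hU1card]
      exact hbot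
  by_cases hB : BK (pre H1) = ⊤
  · -- Borel case
    right; right; right; right; right; left
    refine ⟨hp, H1, ⟨e1⟩, ?_⟩
    intro g hg
    have : (⟨g, hg⟩ : pre H1) ∈ BK (pre H1) := by rw [hB]; trivial
    exact mem_BK.mp this
  rcases S.main (proj H1) (proj_surjective H1) (proj_ker H1) hB with hidx | ⟨h2, n, hn, ⟨e⟩⟩ | ⟨h3, ⟨e⟩⟩
  · -- the generic case
    right; right; right; right; right; right
    obtain ⟨s, x0, hL⟩ := S.hyp hidx
    set H2 := H1.map (bar (theta s x0)).toMonoidHom with hH2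
    have e2 : H1 ≃* H2 := isoMap H1 (theta s x0)
    rw [← pre_map H1 (theta s x0)] at hL
    obtain ⟨k, hk, hu, hdec⟩ := ident p hL
    obtain ⟨K2, iF, iFin, φ, m, hφ, hcard⟩ := exists_model k
    refine ⟨K2, iF, iFin, m, hcard, ?_⟩
    subst hφ
    rcases iso_main φ H2 hk hu hdec with ⟨⟨e3⟩⟩ | ⟨⟨e3⟩⟩
    · exact Or.inl ⟨(e1.trans e2).trans e3⟩
    · exact Or.inr ⟨(e1.trans e2).trans e3⟩
  · -- dihedral, `p = 2`
    right; left
    have hp2 : p = 2 := two_of_card_sylow p U1 h2
    refine ⟨n, hn, ?_, ⟨e1.trans e⟩⟩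
    intro hpn
    rw [hp2] at hpn
    have hc1 : Nat.card H1 = 2 * n := by
      rw [Nat.card_congr e.toEquiv, DihedralGroup.nat_card]
    have hdvd : Nat.card H1 ∣ Nat.card (pre H1) :=
      Subgroup.card_dvd_of_surjective (proj H1) (proj_surjective H1)
    have h4 : 2 ^ 2 ∣ Nat.card (pre H1) := by
      refine Dvd.dvd.trans ?_ hdvd
      rw [hc1]
      obtain ⟨t, rfl⟩ := hpn
      exact ⟨t, by ring⟩
    have h5 := U1.pow_dvd_card_of_pow_dvd_card (by rw [hp2]; exact h4)
    rw [h2, hp2] at h5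
    omega
  · exact Or.inr (Or.inr (Or.inr (Or.inr (Or.inl ⟨e1.trans e⟩))))

/-- **Dickson's theorem, raw form** (tracking the automorphism used for the normalisation). -/
theorem dickson_raw (H : Subgroup (Matrix.ProjectiveSpecialLinearGroup (Fin 2) F)) :
    (¬ p ∣ Nat.card H) ∨
    (∃ σ : Matrix.ProjectiveSpecialLinearGroup (Fin 2) F ≃* Matrix.ProjectiveSpecialLinearGroup (Fin 2) F,
      ∀ g ∈ pre (H.map σ.toMonoidHom), g.1 1 0 = 0) ∨
    (p = 2 ∧ ∃ n, 0 < n ∧ ¬ 2 ∣ n ∧ Nonempty (H ≃* DihedralGroup n)) ∨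
    (p = 3 ∧ Nonempty (H ≃* alternatingGroup (Fin 5))) ∨
    (∃ σ : Matrix.ProjectiveSpecialLinearGroup (Fin 2) F ≃* Matrix.ProjectiveSpecialLinearGroup (Fin 2) F,
      ∃ k : Subfield F, SLK k ≤ pre (H.map σ.toMonoidHom) ∧
        (∀ a : F, a ∈ k ↔ uu a ∈ pre (H.map σ.toMonoidHom)) ∧
        ∀ g ∈ pre (H.map σ.toMonoidHom), ∃ t : Fˣ, dd t ∈ pre (H.map σ.toMonoidHom) ∧
          (t : F) ^ 2 ∈ k ∧ g * (dd t)⁻¹ ∈ SLK k) := by
  classical
  haveI : Finite (S2 F) := inferInstanceAs (Finite {A : Matrix (Fin 2) (Fin 2) F // A.det = 1})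
  haveI : Finite (Matrix.ProjectiveSpecialLinearGroup (Fin 2) F) :=
    inferInstanceAs (Finite (S2 F ⧸ _))
  by_cases hp : p ∣ Nat.card H
  swap
  · exact Or.inl hp
  right
  set K := pre H with hK
  have hpK : p ∣ Nat.card K :=
    hp.trans (Subgroup.card_dvd_of_surjective (proj H) (proj_surjective H))
  obtain U : Sylow p K := default
  have hUne : (U : Subgroup K) ≠ ⊥ := U.ne_bot_of_dvd_card hpK
  obtain ⟨h, hh⟩ := exists_conj p K.subtype U
  set Θ1 : S2 F ≃* S2 F := MulAut.conj h⁻¹ with hΘ1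
  set H1 := H.map (bar Θ1).toMonoidHom with hH1
  have e1 : H ≃* H1 := isoMap H Θ1
  obtain ⟨U1, hU1card, hU1⟩ := exists_sylow_map K (pre H1) Θ1 (pre_map H Θ1) U
  have S : Setup p (pre H1) U1 := by
    refine ⟨center_le_pre H1, ?_, ?_⟩
    · intro y hy
      obtain ⟨u, hu, hyu⟩ := hU1 y hy
      rw [hyu]
      have := hh u hu
      rw [conjHom_apply] at this
      rw [hΘ1, MulAut.conj_apply, inv_inv]
      exact this
    · intro hbot
      apply hUne
      rw [← Subgroup.card_eq_one] at hbot ⊢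
      rw [← hU1card]
      exact hbot
  by_cases hB : BK (pre H1) = ⊤
  · left
    refine ⟨bar Θ1, ?_⟩
    intro g hg
    have : (⟨g, hg⟩ : pre H1) ∈ BK (pre H1) := by rw [hB]; trivial
    exact mem_BK.mp this
  right
  rcases S.main (proj H1) (proj_surjective H1) (proj_ker H1) hB with hidx | ⟨h2, n, hn, ⟨e⟩⟩ | ⟨h3, ⟨e⟩⟩
  · right; right
    obtain ⟨s, x0, hL⟩ := S.hyp hidx
    set H2 := H1.map (bar (theta s x0)).toMonoidHom with hH2
    rw [← pre_map H1 (theta s x0)] at hL
    obtain ⟨k, hk, hu, hdec⟩ := ident p hL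
    have hmap : H.map ((bar Θ1).trans (bar (theta s x0))).toMonoidHom = H2 := by
      rw [hH2, hH1, Subgroup.map_map]
      rfl
    refine ⟨(bar Θ1).trans (bar (theta s x0)), k, ?_, ?_, ?_⟩
    · rw [hmap]; exact hk
    · rw [hmap]; exact hu
    · rw [hmap]; exact hdec
  · left
    have hp2 : p = 2 := two_of_card_sylow p U1 h2
    refine ⟨hp2, n, hn, ?_, ⟨e1.trans e⟩⟩
    intro hpn
    have hc1 : Nat.card H1 = 2 * n := by
      rw [Nat.card_congr e.toEquiv, DihedralGroup.nat_card]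
    have hdvd : Nat.card H1 ∣ Nat.card (pre H1) :=
      Subgroup.card_dvd_of_surjective (proj H1) (proj_surjective H1)
    have h4 : 2 ^ 2 ∣ Nat.card (pre H1) := by
      refine Dvd.dvd.trans ?_ hdvd
      rw [hc1]
      obtain ⟨t, rfl⟩ := hpn
      exact ⟨t, by ring⟩
    have h5 := U1.pow_dvd_card_of_pow_dvd_card (by rw [hp2]; exact h4)
    rw [h2, hp2] at h5
    omega
  · right; left
    have hp3 : p = 3 := by
      have h1 := U1.card_eq_multiplicity
      rw [h3] at h1
      have hpd : p ∣ 3 := by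
        have hne : (Nat.card (pre H1)).factorization p ≠ 0 := by
          intro h0
          rw [h0, pow_zero] at h1
          omega
        rw [h1]
        exact dvd_pow_self p hne
      exact (Nat.prime_dvd_prime_iff_eq (Fact.out : p.Prime) Nat.prime_three).mp hpd
    exact ⟨hp3, ⟨e1.trans e⟩⟩

end main

end Cfsg.Agent.Helper98.Dickson
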