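import Mathlib
import Cfsg.Agent.Lib.Helper98.DicksonFull
import Cfsg.Agent.Lib.Helper98.PSL2Card

set_option autoImplicit false
set_option linter.unusedSectionVars false
set_option linter.unusedVariables false
set_option linter.unusedSimpArgs false
set_option linter.style.haveILetI false

/-!
# Tools for maximality proofs in `PSL₂(F)` via Dickson's theorem
-/

namespace Cfsg.Agent.Helper98.DMax

open Matrix Cfsg.Agent.Helper98.Ident Cfsg.Agent.Helper98.Dickson

section noncomm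

variable (K : Type*) [Field K] (p : ℕ) [Fact p.Prime] [CharP K p]

theorem uu_pow (a : K) (n : ℕ) : (uu a) ^ n = uu (n • a) := by
  induction n with
  | zero => simp [uu_zero]
  | succ n ih => rw [pow_succ, ih, uu_mul, succ_nsmul]

theorem ll_pow (a : K) (n : ℕ) : (ll a) ^ n = ll (n • a) := by
  induction n with
  | zero => simp [ll_zero]
  | succ n ih => rw [pow_succ, ih, ll_mul, succ_nsmul]

theorem uu_pow_char (a : K) : (uu a) ^ p = 1 := by
  rw [uu_pow, nsmul_eq_mul, CharP.cast_eq_zero K p, zero_mul, uu_zero]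

theorem ll_pow_char (a : K) : (ll a) ^ p = 1 := by
  rw [ll_pow, nsmul_eq_mul, CharP.cast_eq_zero K p, zero_mul, ll_zero]

/-- two non-commuting elements of order `p` in `PSL₂(K)` -/
theorem exists_noncomm_psl :
    ∃ x y : Matrix.ProjectiveSpecialLinearGroup (Fin 2) K, x ^ p = 1 ∧ y ^ p = 1 ∧ x * y ≠ y * x := by
  refine ⟨QuotientGroup.mk (uu 1), QuotientGroup.mk (ll 1), ?_, ?_, ?_⟩
  · rw [← QuotientGroup.mk_pow, uu_pow_char]
    rfl
  · rw [← QuotientGroup.mk_pow, ll_pow_char]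
    rfl
  · intro h
    rw [← QuotientGroup.mk_mul, ← QuotientGroup.mk_mul, eq_comm, QuotientGroup.eq] at h
    have h10 := (center_entries h).1
    simp [mul_ent, inv_ent00, inv_ent01, inv_ent10, inv_ent11] at h10

/-- two non-commuting elements of order `p` in `PGL₂(K)` -/
theorem exists_noncomm_pgl :
    ∃ x y : Matrix.ProjGenLinGroup (Fin 2) K, x ^ p = 1 ∧ y ^ p = 1 ∧ x * y ≠ y * x := by
  obtain ⟨x, y, hx, hy, hxy⟩ := exists_noncomm_psl K p
  refine ⟨Matrix.ProjectiveSpecialLinearGroup.toPGL x, Matrix.ProjectiveSpecialLinearGroup.toPGL y,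
    ?_, ?_, ?_⟩
  · rw [← map_pow, hx, map_one]
  · rw [← map_pow, hy, map_one]
  · intro h
    rw [← map_mul, ← map_mul] at h
    exact hxy (Matrix.ProjectiveSpecialLinearGroup.toPGL_injective h)

end noncomm

section borel

variable {F : Type*} [Field F] (p : ℕ) [Fact p.Prime] [CharP F p]

theorem ut_pow (g : S2 F) (h10 : g.1 1 0 = 0) (n : ℕ) :
    (g ^ n).1 1 0 = 0 ∧ (g ^ n).1 0 0 = g.1 0 0 ^ n ∧ (g ^ n).1 1 1 = g.1 1 1 ^ n := by
  induction n with
  | zero => simp
  | succ n ih =>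
    obtain ⟨i1, i2, i3⟩ := ih
    rw [pow_succ]
    refine ⟨?_, ?_, ?_⟩
    · rw [mul_ent, i1, h10]; ring
    · rw [mul_ent, i2, h10]; ring
    · rw [mul_ent, i1, i3]; ring

/-- in a group of Borel type, elements of order `p` commute -/
theorem borel_comm (H1 : Subgroup (Matrix.ProjectiveSpecialLinearGroup (Fin 2) F))
    (hB : ∀ g ∈ pre H1, g.1 1 0 = 0) (x y : H1) (hx : x ^ p = 1) (hy : y ^ p = 1) :
    x * y = y * x := by
  have key : ∀ z : H1, z ^ p = 1 → ∃ g : S2 F, QuotientGroup.mk g = (z : Matrix.ProjectiveSpecialLinearGroup (Fin 2) F) ∧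
      g.1 1 0 = 0 ∧ g.1 0 0 = g.1 1 1 := by
    intro z hz
    obtain ⟨g, hg⟩ := QuotientGroup.mk_surjective (z : Matrix.ProjectiveSpecialLinearGroup (Fin 2) F)
    have hgH : g ∈ pre H1 := by
      change (QuotientGroup.mk g : Matrix.ProjectiveSpecialLinearGroup (Fin 2) F) ∈ H1
      rw [hg]
      exact z.2
    have h10 := hB g hgH
    refine ⟨g, hg, h10, ?_⟩
    have hz' : ((z ^ p : H1) : Matrix.ProjectiveSpecialLinearGroup (Fin 2) F) = 1 := by
      rw [hz]; rfl
    rw [Subgroup.coe_pow, ← hg, ← QuotientGroup.mk_pow, QuotientGroup.eq_one_iff] at hz'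
    have hc := (center_entries hz').2.2.1
    obtain ⟨-, i2, i3⟩ := ut_pow g h10 p
    rw [i2, i3] at hc
    have hfrob : (g.1 0 0 - g.1 1 1) ^ p = 0 := by
      rw [sub_pow_char, hc, sub_self]
    have := pow_eq_zero_iff (Fact.out : p.Prime).ne_zero |>.mp hfrob
    exact sub_eq_zero.mp this
  obtain ⟨g, hg, g10, gd⟩ := key x hx
  obtain ⟨h, hh, h10, hd⟩ := key y hy
  apply Subtype.ext
  rw [Subgroup.coe_mul, Subgroup.coe_mul, ← hg, ← hh, ← QuotientGroup.mk_mul, ← QuotientGroup.mk_mul]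
  congr 1
  apply ext2 <;> simp only [mul_ent, g10, h10, gd, hd] <;> ring

/-- a group with two non-commuting elements of order `p` is not of Borel type -/
theorem not_borel {M : Type*} [Group M] (x y : M) (hx : x ^ p = 1) (hy : y ^ p = 1)
    (hxy : x * y ≠ y * x) (H1 : Subgroup (Matrix.ProjectiveSpecialLinearGroup (Fin 2) F))
    (e : M ≃* H1) (hB : ∀ g ∈ pre H1, g.1 1 0 = 0) : False := by
  apply hxy
  apply e.injective
  rw [map_mul, map_mul]
  apply borel_comm p H1 hB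
  · rw [← map_pow, hx, map_one]
  · rw [← map_pow, hy, map_one]

end borel

section arith

/-- the exponent arithmetic for subfield subgroups -/
theorem arith_subfield (p b a m r : ℕ) (hp : 2 ≤ p) (hb : 0 < b) (ha : 0 < a) (hr : r.Prime)
    (ham : a * m = b * r) (hdvd : p ^ (2 * b) - 1 ∣ 2 * (p ^ (2 * a) - 1)) :
    a = b ∨ (a = b * r ∧ m = 1) := by
  set g := Nat.gcd a b with hg
  have hgb : g ∣ b := Nat.gcd_dvd_right a b
  have hga : g ∣ a := Nat.gcd_dvd_left a b
  have hgpos : 0 < g := Nat.gcd_pos_of_pos_left b ha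
  have hgcd : Nat.gcd (p ^ (2 * b) - 1) (p ^ (2 * a) - 1) = p ^ (2 * g) - 1 := by
    rw [Nat.pow_sub_one_gcd_pow_sub_one, hg, Nat.gcd_mul_left, Nat.gcd_comm]
  have h1 : p ^ (2 * b) - 1 ∣ 2 * (p ^ (2 * g) - 1) := by
    rw [← hgcd, ← Nat.gcd_mul_left]
    exact Nat.dvd_gcd (Dvd.intro_left 2 rfl) hdvd
  have hgeqb : g = b := by
    by_contra hne
    obtain ⟨c, hc⟩ := hgb
    have hc2 : 2 ≤ c := by
      rcases c with _ | _ | c
      · omega
      · exfalso; apply hne; rw [hc]; ring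
      · omega
    have h2g : 2 * g ≤ b := by rw [hc]; nlinarith
    have hpos : 0 < 2 * (p ^ (2 * g) - 1) := by
      have : 2 ≤ p ^ (2 * g) := by
        calc 2 ≤ p := hp
          _ = p ^ 1 := (pow_one p).symm
          _ ≤ p ^ (2 * g) := Nat.pow_le_pow_right (by omega) (by omega)
      omega
    have hle := Nat.le_of_dvd hpos h1
    have h3 : p ^ (2 * g) ≤ p ^ b := Nat.pow_le_pow_right (by omega) h2g
    have h4 : p ^ (2 * b) = p ^ b * p ^ b := by rw [← pow_add]; congr 1; ring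
    have h5 : 2 ≤ p ^ b := by
      calc 2 ≤ p := hp
        _ = p ^ 1 := (pow_one p).symm
        _ ≤ p ^ b := Nat.pow_le_pow_right (by omega) (by omega)
    have h6 : 2 * p ^ b ≤ p ^ b * p ^ b := Nat.mul_le_mul_right (p ^ b) h5
    rw [h4] at hle
    generalize p ^ b * p ^ b = Z at h6 hle
    generalize p ^ b = X at h3 h5 h6
    generalize p ^ (2 * g) = Y at hle h3 hpos
    omega
  obtain ⟨c, hc⟩ := hga
  rw [hgeqb] at hc
  -- a = b * c, c * m = r
  have hcm : c * m = r := by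
    have : b * (c * m) = b * r := by rw [← mul_assoc, ← hc, ham]
    exact Nat.eq_of_mul_eq_mul_left hb this
  have hcr : c ∣ r := Dvd.intro _ hcm
  rcases (Nat.dvd_prime hr).mp hcr with h | h
  · left
    rw [hc, h, mul_one]
  · right
    refine ⟨by rw [hc, h], ?_⟩
    rw [h] at hcm
    have hr0 : 0 < r := hr.pos
    have : r * m = r * 1 := by rw [hcm, mul_one]
    exact Nat.eq_of_mul_eq_mul_left hr0 this

end arith

end Cfsg.Agent.Helper98.DMax

namespace Cfsg.Agent.Helper98.DMax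

open Matrix Cfsg.Agent.Helper98.Ident Cfsg.Agent.Helper98.Dickson

section skeleton

variable {F : Type*} [Field F] [Fintype F] (p : ℕ) [Fact p.Prime] [CharP F p]

theorem finite_psl : Finite (Matrix.ProjectiveSpecialLinearGroup (Fin 2) F) := by
  haveI : Finite (S2 F) := inferInstanceAs (Finite {A : Matrix (Fin 2) (Fin 2) F // A.det = 1})
  exact inferInstanceAs (Finite (S2 F ⧸ _))

/-- the common skeleton of the maximality proofs -/
theorem coatom_skeleton (H0 : Subgroup (Matrix.ProjectiveSpecialLinearGroup (Fin 2) F))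
    (hnc : ∃ x y : H0, x ^ p = 1 ∧ y ^ p = 1 ∧ x * y ≠ y * x)
    (hlt : Nat.card H0 < Nat.card (Matrix.ProjectiveSpecialLinearGroup (Fin 2) F))
    (hcyc : p ∣ Nat.card H0)
    (hdih : ∀ n, ¬ p ∣ n → ¬ (Nat.card H0 ∣ 2 * n))
    (h12 : ¬ (Nat.card H0 ∣ 12 ∧ Nat.card H0 < 12))
    (h24 : ¬ (Nat.card H0 ∣ 24 ∧ Nat.card H0 < 24 ∧
      24 ∣ Nat.card (Matrix.ProjectiveSpecialLinearGroup (Fin 2) F)))
    (h60 : ¬ (Nat.card H0 ∣ 60 ∧ Nat.card H0 < 60 ∧
      60 ∣ Nat.card (Matrix.ProjectiveSpecialLinearGroup (Fin 2) F)))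
    (hsub : ∀ (K' : Type) [Field K'] [Fintype K'] (m : ℕ),
      Fintype.card K' ^ m = Fintype.card F →
      ∀ M : Subgroup (Matrix.ProjectiveSpecialLinearGroup (Fin 2) F), H0 < M →
        (Nonempty (M ≃* Matrix.ProjectiveSpecialLinearGroup (Fin 2) K') ∨
          Nonempty (M ≃* Matrix.ProjGenLinGroup (Fin 2) K')) → M = ⊤) :
    IsCoatom H0 := by
  haveI := finite_psl (F := F)
  constructor
  · intro h
    rw [h, Subgroup.card_top] at hlt
    exact lt_irrefl _ hlt
  intro M hM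
  have hle : H0 ≤ M := hM.le
  have hdvd : Nat.card H0 ∣ Nat.card M := Subgroup.card_dvd_of_le hle
  have hlt' : Nat.card H0 < Nat.card M := by
    by_contra hcon
    push Not at hcon
    exact hM.ne (Subgroup.eq_of_le_of_card_ge hle hcon)
  have hMG : Nat.card M ∣ Nat.card (Matrix.ProjectiveSpecialLinearGroup (Fin 2) F) :=
    Subgroup.card_subgroup_dvd_card M
  rcases dickson_full p M with ⟨-, hp⟩ | ⟨n, hn, hpn, ⟨e⟩⟩ | ⟨⟨e⟩⟩ | ⟨⟨e⟩⟩ | ⟨⟨e⟩⟩ |
      ⟨-, H1, ⟨e⟩, hB⟩ | ⟨K', iF, iFin, m, hcard, hiso⟩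
  · exact absurd (hcyc.trans hdvd) hp
  · exfalso
    apply hdih n hpn
    rw [Nat.card_congr e.toEquiv, DihedralGroup.nat_card] at hdvd
    exact hdvd
  · exfalso
    have h : Nat.card M = 12 := by
      rw [Nat.card_congr e.toEquiv, Nat.card_eq_fintype_card]
      decide
    rw [h] at hdvd hlt'
    exact h12 ⟨hdvd, hlt'⟩
  · exfalso
    have h : Nat.card M = 24 := by
      rw [Nat.card_congr e.toEquiv, Nat.card_eq_fintype_card, Fintype.card_perm]
      rfl
    rw [h] at hdvd hlt' hMG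
    exact h24 ⟨hdvd, hlt', hMG⟩
  · exfalso
    have h : Nat.card M = 60 := by
      rw [Nat.card_congr e.toEquiv, Nat.card_eq_fintype_card]
      decide
    rw [h] at hdvd hlt' hMG
    exact h60 ⟨hdvd, hlt', hMG⟩
  · exfalso
    obtain ⟨x, y, hx, hy, hxy⟩ := hnc
    refine not_borel p (Subgroup.inclusion hle x) (Subgroup.inclusion hle y) ?_ ?_ ?_ H1 e hB
    · rw [← map_pow, hx, map_one]
    · rw [← map_pow, hy, map_one]
    · intro h
      rw [← map_mul, ← map_mul] at h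
      exact hxy (Subgroup.inclusion_injective hle h)
  · exact hsub K' m hcard M hM hiso

end skeleton

end Cfsg.Agent.Helper98.DMax

namespace Cfsg.Agent.Helper98.DMax

open Matrix

section cards

variable (K : Type*) [Field K] [Fintype K]

theorem finite_pgl : Finite (Matrix.ProjGenLinGroup (Fin 2) K) := by
  classical
  exact Finite.of_surjective _ (Matrix.ProjGenLinGroup.mk_surjective (n := Fin 2) (R := K))

/-- `|PGL₂(K)| = (k² - 1) k` -/
theorem card_pgl2 : Nat.card (Matrix.ProjGenLinGroup (Fin 2) K) =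
    (Fintype.card K ^ 2 - 1) * Fintype.card K := by
  have h := Cfsg.Agent.S0805.card_PGL2 (K := K)
  have hk : 2 ≤ Fintype.card K := Fintype.one_lt_card
  set k := Fintype.card K with hkdef
  have hpos : 0 < k - 1 := by omega
  apply Nat.eq_of_mul_eq_mul_right hpos
  rw [h]
  have : k ^ 2 - k = k * (k - 1) := by
    rw [Nat.mul_sub, mul_one, sq]
  rw [this]
  ring

theorem card_psl2_le_pgl2 : Nat.card (Matrix.ProjectiveSpecialLinearGroup (Fin 2) K) ≤
    Nat.card (Matrix.ProjGenLinGroup (Fin 2) K) := by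
  haveI := finite_pgl K
  exact Nat.card_le_card_of_injective _ Matrix.ProjectiveSpecialLinearGroup.toPGL_injective

theorem card_mono {a b : ℕ} (h : a ≤ b) : (a ^ 2 - 1) * a ≤ (b ^ 2 - 1) * b :=
  Nat.mul_le_mul (Nat.sub_le_sub_right (Nat.pow_le_pow_left h 2) 1) h

end cards

end Cfsg.Agent.Helper98.DMax

namespace Cfsg.Agent.Helper98.DMax

section subfield

/-- the possible subfield overgroups: by orders, the field is `K` or `F` -/
theorem subfield_cases {F K K' : Type*} [Field F] [Fintype F] [Field K] [Fintype K] [Field K']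
    [Fintype K'] (r m : ℕ) (hr : r.Prime) (hK : Fintype.card K ^ r = Fintype.card F)
    (hK' : Fintype.card K' ^ m = Fintype.card F)
    (hdvd : (Fintype.card K ^ 2 - 1) * Fintype.card K ∣
      2 * ((Fintype.card K' ^ 2 - 1) * Fintype.card K')) :
    Fintype.card K' = Fintype.card K ∨ (Fintype.card K' = Fintype.card F ∧ m = 1) := by
  obtain ⟨p, hp⟩ := CharP.exists F
  haveI := hp
  haveI : Fact p.Prime := ⟨CharP.char_is_prime F p⟩
  have hpp : p.Prime := Fact.out
  obtain ⟨φ⟩ := Cfsg.Agent.S0805.exists_ringHom (K := K) (F := F) r hK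
  obtain ⟨φ'⟩ := Cfsg.Agent.S0805.exists_ringHom (K := K') (F := F) m hK'
  haveI : CharP K p := φ.charP φ.injective p
  haveI : CharP K' p := φ'.charP φ'.injective p
  obtain ⟨b, -, hb⟩ := FiniteField.card K p
  obtain ⟨a, -, ha⟩ := FiniteField.card K' p
  rw [hb, ha] at hdvd
  rw [hb] at hK
  rw [ha, ← hK, ← pow_mul, ← pow_mul] at hK'
  have ham : (a : ℕ) * m = (b : ℕ) * r := Nat.pow_right_injective hpp.two_le hK'
  -- coprimality
  have hcop : Nat.Coprime ((p ^ (b : ℕ)) ^ 2 - 1) (p ^ (a : ℕ)) := by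
    apply Nat.Coprime.pow_right
    apply Nat.Coprime.symm
    rw [Nat.Prime.coprime_iff_not_dvd hpp]
    intro h
    have h1 : p ∣ (p ^ (b : ℕ)) ^ 2 := by
      rw [← pow_mul]
      exact dvd_pow_self p (Nat.mul_ne_zero b.ne_zero (by norm_num))
    have h2 : 1 ≤ (p ^ (b : ℕ)) ^ 2 := Nat.one_le_pow _ _ (Nat.pow_pos hpp.pos)
    have h3 : p ∣ 1 := by
      have := (Nat.dvd_sub h1 h)
      rwa [Nat.sub_sub_self h2] at this
    exact hpp.one_lt.ne' (Nat.dvd_one.mp h3)
  have h1 : (p ^ (b : ℕ)) ^ 2 - 1 ∣ 2 * ((p ^ (a : ℕ)) ^ 2 - 1) * p ^ (a : ℕ) := by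
    have : 2 * (((p ^ (a : ℕ)) ^ 2 - 1) * p ^ (a : ℕ)) = 2 * ((p ^ (a : ℕ)) ^ 2 - 1) * p ^ (a : ℕ) := by
      ring
    rw [← this]
    exact (Dvd.intro _ rfl).trans hdvd
  have h2 : (p ^ (b : ℕ)) ^ 2 - 1 ∣ 2 * ((p ^ (a : ℕ)) ^ 2 - 1) := hcop.dvd_of_dvd_mul_right h1
  rw [← pow_mul, ← pow_mul, mul_comm (b : ℕ) 2, mul_comm (a : ℕ) 2] at h2
  rcases arith_subfield p b a m r hpp.two_le b.pos a.pos hr ham h2 with h | ⟨h, hm⟩
  · left
    rw [ha, hb, h]
  · right
    refine ⟨?_, hm⟩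
    rw [ha, ← hK, ← pow_mul, h]

end subfield

end Cfsg.Agent.Helper98.DMax
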