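import Mathlib
import Cfsg.Agent.Lib.Helper40.SL2
import Cfsg.Agent.Lib.Helper41.SL2Class
import Cfsg.Agent.Lib.Helper98.SL2Ident

set_option autoImplicit false
set_option linter.unusedSectionVars false
set_option linter.unusedVariables false
set_option linter.unusedSimpArgs false
set_option linter.style.haveILetI false

/-!
# Tori of `SL₂(F)` in characteristic two: the extended centralizer of a semisimple element
-/

namespace Cfsg.Agent.Helper98.Torus

open Cfsg.Agent.Helper98.Ident

section general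

variable {G : Type*} [Group G]

/-- the extended centralizer of `x`: the elements centralizing or inverting `x` -/
def NX (x : G) : Subgroup G where
  carrier := {h | h * x * h⁻¹ = x ∨ h * x * h⁻¹ = x⁻¹}
  mul_mem' := by
    intro a b ha hb
    have e : a * b * x * (a * b)⁻¹ = a * (b * x * b⁻¹) * a⁻¹ := by group
    change _ ∨ _
    rw [e]
    rcases hb with hb | hb
    · rw [hb]; exact ha
    · rw [hb]
      have e2 : a * x⁻¹ * a⁻¹ = (a * x * a⁻¹)⁻¹ := by group
      rw [e2]
      rcases ha with ha | ha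
      · right; rw [ha]
      · left; rw [ha, inv_inv]
  one_mem' := Or.inl (by group)
  inv_mem' := by
    intro a ha
    change _ ∨ _
    have key : a⁻¹ * (a * x * a⁻¹) * a⁻¹⁻¹ = x := by group
    rcases ha with ha | ha
    · left
      rw [ha] at key
      exact key
    · right
      rw [ha] at key
      have e2 : a⁻¹ * x * a⁻¹⁻¹ = (a⁻¹ * x⁻¹ * a⁻¹⁻¹)⁻¹ := by group
      rw [e2, key]

theorem mem_NX {x h : G} : h ∈ NX x ↔ h * x * h⁻¹ = x ∨ h * x * h⁻¹ = x⁻¹ := Iff.rfl

theorem mem_cen_iff {x h : G} : h ∈ Subgroup.centralizer ({x} : Set G) ↔ h * x * h⁻¹ = x := by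
  rw [Subgroup.mem_centralizer_singleton_iff, mul_inv_eq_iff_eq_mul]

theorem cen_le_NX (x : G) : Subgroup.centralizer ({x} : Set G) ≤ NX x := by
  intro h hh
  exact Or.inl (mem_cen_iff.mp hh)

theorem card_NX [Finite G] (x g : G) (hg : g * x * g⁻¹ = x⁻¹) (hx : x ≠ x⁻¹) :
    Nat.card (NX x) = 2 * Nat.card (Subgroup.centralizer ({x} : Set G)) := by
  set C := Subgroup.centralizer ({x} : Set G) with hC
  have hle : C ≤ NX x := cen_le_NX x
  have hidx : (C.subgroupOf (NX x)).index = 2 := by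
    rw [Subgroup.index_eq_two_iff]
    refine ⟨⟨g, Or.inr hg⟩, ?_⟩
    rintro ⟨b, hb⟩
    rw [Subgroup.mem_subgroupOf, Subgroup.mem_subgroupOf]
    simp only [Subgroup.coe_mul]
    have e : b * g * x * (b * g)⁻¹ = b * (g * x * g⁻¹) * b⁻¹ := by group
    have e2 : b * x⁻¹ * b⁻¹ = (b * x * b⁻¹)⁻¹ := by group
    rcases hb with hb | hb
    · right
      refine ⟨mem_cen_iff.mpr hb, ?_⟩
      intro h
      have := mem_cen_iff.mp h
      rw [e, hg, e2, hb] at this
      exact hx this.symm
    · left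
      refine ⟨?_, ?_⟩
      · apply mem_cen_iff.mpr
        rw [e, hg, e2, hb, inv_inv]
      · intro h
        have := mem_cen_iff.mp h
        rw [hb] at this
        exact hx this.symm
  have h1 := Subgroup.card_mul_index (C.subgroupOf (NX x))
  rw [hidx, Nat.card_congr (Subgroup.subgroupOfEquivOfLe hle).toEquiv] at h1
  omega

end general

section sl2

variable {F : Type*} [Field F] [Fintype F]

theorem four_eq_zero (h2 : (2 : F) = 0) : (4 : F) = 0 := by
  have : (4 : F) = 2 * 2 := by norm_num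
  rw [this, h2, mul_zero]

theorem trace_inv (X : S2 F) : (X⁻¹).1.trace = X.1.trace := by
  rw [Matrix.trace_fin_two, Matrix.trace_fin_two, inv_ent00, inv_ent11, add_comm]

theorem card_centralizer (h2 : (2 : F) = 0) (X : S2 F) (ht : X.1.trace ≠ 0) :
    Nat.card (Subgroup.centralizer ({X} : Set (S2 F))) = Fintype.card F - 1 ∨
      Nat.card (Subgroup.centralizer ({X} : Set (S2 F))) = Fintype.card F + 1 := by
  classical
  haveI : Finite (S2 F) := inferInstanceAs (Finite {A : Matrix (Fin 2) (Fin 2) F // A.det = 1})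
  have hs : X.1.trace ^ 2 ≠ 4 := by
    rw [four_eq_zero h2]
    exact pow_ne_zero 2 ht
  have h1 := Cfsg.Agent.Helper41.index_centralizer_eq_ncard X
  rw [Cfsg.Agent.Helper41.sl2_conj_class_eq X hs] at h1
  have h3 : Set.ncard {Y : S2 F | Y.1.trace = X.1.trace} =
      Nat.card {Y : S2 F // Y.1.trace = X.1.trace} := by
    rw [← Nat.card_coe_set_eq]
    rfl
  rw [h3, Cfsg.Agent.Helper41.card_trace_fiber] at h1
  have h4 := Subgroup.card_mul_index (Subgroup.centralizer ({X} : Set (S2 F)))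
  rw [h1, Cfsg.Agent.Helper40.card_SL2] at h4
  have hq : 2 ≤ Fintype.card F := Fintype.one_lt_card
  obtain ⟨m, hm⟩ := Nat.exists_eq_add_of_le hq
  rw [hm] at h4 ⊢
  have e1 : 2 + m - 1 = m + 1 := by omega
  rw [e1] at h4 ⊢
  set c := Nat.card (Subgroup.centralizer ({X} : Set (S2 F))) with hc
  rcases Cfsg.Agent.Helper41.card_roots_eq X.1.trace hs with h0 | h0
  · right
    rw [h0, mul_zero, add_zero] at h4
    have hpos : 0 < (2 + m) * (m + 1) := by positivity
    have : c * ((2 + m) * (m + 1)) = (2 + m + 1) * ((2 + m) * (m + 1)) := by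
      rw [h4]; ring
    exact Nat.eq_of_mul_eq_mul_right hpos this
  · left
    rw [h0] at h4
    have hpos : 0 < (2 + m) * (m + 3) := by positivity
    have : c * ((2 + m) * (m + 3)) = (m + 1) * ((2 + m) * (m + 3)) := by
      have e : (2 + m) * (m + 1) + (2 + m) * 2 = (2 + m) * (m + 3) := by ring
      rw [e] at h4
      rw [h4]; ring
    exact Nat.eq_of_mul_eq_mul_right hpos this

theorem exists_inverting (h2 : (2 : F) = 0) (X : S2 F) (ht : X.1.trace ≠ 0) :
    ∃ g : S2 F, g * X * g⁻¹ = X⁻¹ := by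
  have hs : X.1.trace ^ 2 ≠ 4 := by
    rw [four_eq_zero h2]
    exact pow_ne_zero 2 ht
  exact Cfsg.Agent.Helper41.sl2_exists_conj_of_trace_eq X X⁻¹ (trace_inv X).symm hs

theorem ne_inv (h2 : (2 : F) = 0) (X : S2 F) (ht : X.1.trace ≠ 0) : X ≠ X⁻¹ := by
  intro h
  apply ht
  have h00 : X.1 0 0 = X.1 1 1 := by
    have := congrArg (fun Y : S2 F => Y.1 0 0) h
    simp only [inv_ent00] at this
    exact this
  rw [Matrix.trace_fin_two, h00, ← two_mul, h2, zero_mul]

theorem card_NX_sl2 (h2 : (2 : F) = 0) (X : S2 F) (ht : X.1.trace ≠ 0) :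
    Nat.card (NX X) = 2 * (Fintype.card F - 1) ∨ Nat.card (NX X) = 2 * (Fintype.card F + 1) := by
  haveI : Finite (S2 F) := inferInstanceAs (Finite {A : Matrix (Fin 2) (Fin 2) F // A.det = 1})
  obtain ⟨g, hg⟩ := exists_inverting h2 X ht
  rw [card_NX X g hg (ne_inv h2 X ht)]
  rcases card_centralizer h2 X ht with h | h
  · left; rw [h]
  · right; rw [h]

theorem sq_eq_one_of_trace_zero (h2 : (2 : F) = 0) (X : S2 F) (ht : X.1.trace = 0) :
    X * X = 1 := by
  have hd := det_eq X
  rw [Matrix.trace_fin_two] at ht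
  apply ext2
  · rw [mul_ent, one_ent00]
    linear_combination (-1 : F) * hd + X.1 0 0 * ht + (-1 : F) * h2
  · rw [mul_ent, one_ent01]
    linear_combination X.1 0 1 * ht
  · rw [mul_ent, one_ent10]
    linear_combination X.1 1 0 * ht
  · rw [mul_ent, one_ent11]
    linear_combination (-1 : F) * hd + X.1 1 1 * ht + (-1 : F) * h2

theorem eq_one_of_odd_pow (h2 : (2 : F) = 0) (X : S2 F) (ht : X.1.trace = 0) (n : ℕ)
    (hn : Odd n) (hX : X ^ n = 1) : X = 1 := by
  have h1 := sq_eq_one_of_trace_zero h2 X ht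
  obtain ⟨k, rfl⟩ := hn
  rw [pow_succ, pow_mul, pow_two, h1, one_pow, one_mul] at hX
  exact hX

/-- a maximal subgroup inside an extended centralizer of a semisimple element -/
theorem coatom_le_NX (h2 : (2 : F) = 0) (h4 : 4 ≤ Fintype.card F) (K : Subgroup (S2 F))
    (hK : IsCoatom K) (X : S2 F) (ht : X.1.trace ≠ 0) (hle : K ≤ NX X) :
    Nat.card K = 2 * (Fintype.card F - 1) ∨ Nat.card K = 2 * (Fintype.card F + 1) := by
  haveI : Finite (S2 F) := inferInstanceAs (Finite {A : Matrix (Fin 2) (Fin 2) F // A.det = 1})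
  have hne : NX X ≠ ⊤ := by
    intro h
    have hc := card_NX_sl2 h2 X ht
    rw [h, Subgroup.card_top, Cfsg.Agent.Helper40.card_SL2] at hc
    obtain ⟨m, hm⟩ := Nat.exists_eq_add_of_le h4
    rw [hm] at hc
    have e1 : 4 + m - 1 = m + 3 := by omega
    rw [e1] at hc
    have a1 : 4 * (m + 3) ≤ (4 + m) * (m + 3) := Nat.mul_le_mul_right _ (by omega)
    rcases hc with hc | hc
    · have a2 : (4 + m) * (m + 3) ≤ (4 + m) * (m + 3) * (4 + m + 1) :=
        Nat.le_mul_of_pos_right _ (by omega)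
      generalize (4 + m) * (m + 3) * (4 + m + 1) = B at hc a2
      generalize (4 + m) * (m + 3) = A at a1 a2
      omega
    · have a2 : 12 * (4 + m + 1) ≤ (4 + m) * (m + 3) * (4 + m + 1) :=
        Nat.mul_le_mul_right _ (by omega)
      generalize (4 + m) * (m + 3) * (4 + m + 1) = B at hc a2
      omega
  have hKN : K = NX X := by
    rcases eq_or_lt_of_le hle with h | h
    · exact h
    · exact absurd (hK.2 _ h) hne
  rw [hKN]
  exact card_NX_sl2 h2 X ht

/-- a maximal subgroup of `SL₂(F)`, `|F| ≥ 4` even, has order at least three -/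
theorem coatom_card_ne (h2 : (2 : F) = 0) (h4 : 4 ≤ Fintype.card F) (K : Subgroup (S2 F))
    (hK : IsCoatom K) : Nat.card K ≠ 1 ∧ Nat.card K ≠ 2 := by
  haveI : Finite (S2 F) := inferInstanceAs (Finite {A : Matrix (Fin 2) (Fin 2) F // A.det = 1})
  haveI : Fact (Nat.Prime 2) := ⟨Nat.prime_two⟩
  haveI : CharP F 2 := CharTwo.of_one_ne_zero_of_two_eq_zero one_ne_zero h2
  obtain ⟨n, -, hn⟩ := FiniteField.card F 2
  have hn2 : 2 ≤ (n : ℕ) := by
    by_contra hlt
    have h1 : (n : ℕ) ≤ 1 := by omega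
    have : (2 : ℕ) ^ (n : ℕ) ≤ 2 ^ 1 := Nat.pow_le_pow_right (by norm_num) h1
    omega
  have h4q : 2 ^ 2 ∣ Fintype.card F := by
    rw [hn]
    exact pow_dvd_pow 2 hn2
  have h4S : 2 ^ 2 ∣ Nat.card (S2 F) := by
    rw [Cfsg.Agent.Helper40.card_SL2]
    exact Dvd.dvd.mul_right (Dvd.dvd.mul_right h4q _) _
  have key : ∀ j : ℕ, j ≤ 1 → Nat.card K ≠ 2 ^ j := by
    intro j hj hc
    have hp : IsPGroup 2 K := IsPGroup.of_card hc
    obtain ⟨Q, hQ⟩ := hp.exists_le_sylow
    have h4Q := Q.pow_dvd_card_of_pow_dvd_card h4S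
    have hne : K ≠ (Q : Subgroup (S2 F)) := by
      intro h
      rw [← h, hc] at h4Q
      have : (2 : ℕ) ^ 2 ≤ 2 ^ j := Nat.le_of_dvd (by positivity) h4Q
      have : (2 : ℕ) ^ j ≤ 2 ^ 1 := Nat.pow_le_pow_right (by norm_num) hj
      omega
    have htop : (Q : Subgroup (S2 F)) = ⊤ := hK.2 _ (lt_of_le_of_ne hQ hne)
    obtain ⟨j', hj'⟩ := IsPGroup.iff_card.mp Q.2
    rw [htop, Subgroup.card_top, Cfsg.Agent.Helper40.card_SL2] at hj'
    have hdvd : Fintype.card F + 1 ∣ 2 ^ j' := by
      rw [← hj']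
      exact Dvd.intro_left _ rfl
    obtain ⟨i, -, hi⟩ := (Nat.dvd_prime_pow Nat.prime_two).mp hdvd
    have hev : Even (Fintype.card F) := by
      rw [hn]
      exact (Nat.even_pow' (by omega)).mpr even_two
    rcases Nat.eq_zero_or_pos i with h0 | h0
    · rw [h0, pow_zero] at hi
      omega
    · have : Even (2 ^ i) := (Nat.even_pow' (by omega)).mpr even_two
      rw [← hi] at this
      have := (Nat.even_add_one.mp this)
      exact this hev
  exact ⟨fun h => key 0 (by norm_num) (by rw [h, pow_zero]),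
    fun h => key 1 le_rfl (by rw [h, pow_one])⟩

end sl2

section subfield

variable {F : Type*} [Field F] [Finite F]

/-- a maximal proper subfield of a finite field has prime index -/
theorem prime_finrank (k : Subfield F) (hk : k ≠ ⊤)
    (hmax : ∀ k₁ : Subfield F, k ≤ k₁ → k₁ = k ∨ k₁ = ⊤) : (Module.finrank k F).Prime := by
  classical
  have hbt : (⊥ : IntermediateField k F) ≠ ⊤ := by
    intro h
    apply hk
    rw [eq_top_iff]
    intro x _
    have hx : x ∈ (⊤ : IntermediateField k F) := IntermediateField.mem_top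
    rw [← h, IntermediateField.mem_bot] at hx
    obtain ⟨y, rfl⟩ := hx
    exact y.2
  haveI : Nontrivial (IntermediateField k F) := ⟨⟨⊥, ⊤, hbt⟩⟩
  haveI : IsSimpleOrder (IntermediateField k F) := by
    refine ⟨fun E => ?_⟩
    have hle : k ≤ E.toSubfield := by
      intro x hx
      exact E.algebraMap_mem ⟨x, hx⟩
    rcases hmax _ hle with h | h
    · left
      rw [eq_bot_iff]
      intro x hx
      have hx' : x ∈ E.toSubfield := hx
      rw [h] at hx'
      rw [IntermediateField.mem_bot]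
      exact ⟨⟨x, hx'⟩, rfl⟩
    · right
      rw [eq_top_iff]
      intro x _
      have hx' : x ∈ E.toSubfield := by rw [h]; trivial
      exact hx'
  haveI : IsSimpleOrder (Subgroup (F ≃ₐ[k] F))ᵒᵈ :=
    (IsGalois.intermediateFieldEquivSubgroup (F := k) (E := F)).symm.isSimpleOrder
  haveI : IsSimpleOrder (Subgroup (F ≃ₐ[k] F)) :=
    isSimpleOrder_iff_isSimpleOrder_orderDual.mpr inferInstance
  letI : CommGroup (F ≃ₐ[k] F) := IsCyclic.commGroup
  haveI : Nontrivial (F ≃ₐ[k] F) := Subgroup.nontrivial_iff.mp inferInstance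
  haveI : IsSimpleGroup (F ≃ₐ[k] F) := ⟨fun H _ => eq_bot_or_eq_top H⟩
  have := IsSimpleGroup.prime_card (α := F ≃ₐ[k] F)
  rwa [IsGalois.card_aut_eq_finrank] at this

/-- in characteristic two, square roots of elements of a finite subfield lie in the subfield -/
theorem mem_of_sq_mem (h2 : (2 : F) = 0) (k : Subfield F) (t : F) (ht : t ^ 2 ∈ k) : t ∈ k := by
  have hinj : Function.Injective (fun x : k => x ^ 2) := by
    intro x y hxy
    have hxy' : (x : F) ^ 2 = (y : F) ^ 2 := by
      have := congrArg (fun z : k => (z : F)) hxy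
      simpa using this
    have h0 : ((x : F) - y) ^ 2 = 0 := by
      linear_combination hxy' + ((y : F) ^ 2 - (x : F) * y) * h2
    have := pow_eq_zero_iff (n := 2) (by norm_num) |>.mp h0
    exact Subtype.ext (sub_eq_zero.mp this)
  obtain ⟨s, hs⟩ := (Finite.injective_iff_surjective.mp hinj) ⟨t ^ 2, ht⟩
  have hs' : (s : F) ^ 2 = t ^ 2 := by
    have := congrArg (fun z : k => (z : F)) hs
    simpa using this
  have h0 : ((s : F) - t) ^ 2 = 0 := by
    linear_combination hs' + (t ^ 2 - (s : F) * t) * h2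
  have := pow_eq_zero_iff (n := 2) (by norm_num) |>.mp h0
  rw [← sub_eq_zero.mp this]
  exact s.2

end subfield

end Cfsg.Agent.Helper98.Torus
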