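import Mathlib
import Cfsg.Agent.Lib.Helper41.Zsigmondy

set_option autoImplicit false
set_option linter.style.haveILetI false
set_option linter.unusedSectionVars false

namespace Cfsg.Agent.Helper98.Singer


/-- A prime power `p^f` with `p^f + 1` a power of two is a prime. -/
theorem prime_pow_add_one_eq_two_pow {p f m : ℕ} (hp : p.Prime) (hf : 0 < f)
    (h : p ^ f + 1 = 2 ^ m) : f = 1 := by
  -- p is odd
  have hp2 : p ≠ 2 := by
    rintro rfl
    have h1 : 2 ∣ 2 ^ f := dvd_pow_self 2 hf.ne'
    have hm : m ≠ 0 := by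
      rintro rfl
      have : 0 < 2 ^ f := by positivity
      simp at h
    have h2 : 2 ∣ 2 ^ m := dvd_pow_self 2 hm
    omega
  have hodd : p % 2 = 1 := hp.eq_two_or_odd.resolve_left hp2
  have hp3 : 3 ≤ p := by
    have := hp.two_le
    omega
  have hpf : p ≤ p ^ f := Nat.le_self_pow hf.ne' p
  rcases Nat.even_or_odd' f with ⟨j, rfl | rfl⟩
  · -- f even
    exfalso
    have hj : (p ^ j) % 2 = 1 := by
      rw [Nat.pow_mod, hodd]; simp
    have h4 : (p ^ (2 * j)) % 4 = 1 := by
      rw [mul_comm, pow_mul, pow_two]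
      have : p ^ j % 4 = 1 ∨ p ^ j % 4 = 3 := by omega
      rcases this with h1 | h1 <;> simp [Nat.mul_mod, h1]
    have hm : m = 1 := by
      rcases m with _ | _ | m
      · simp at h; omega
      · rfl
      · exfalso
        have : 2 ^ (m + 1 + 1) % 4 = 0 := by
          rw [pow_succ, pow_succ, mul_assoc]; simp
        omega
    subst hm
    omega
  · -- f odd
    by_contra hne
    have hj : 1 ≤ j := by omega
    have hdvd : p + 1 ∣ p ^ (2 * j + 1) + 1 := by
      have := Odd.nat_add_dvd_pow_add_pow p 1 (n := 2 * j + 1) ⟨j, rfl⟩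
      simpa using this
    rw [h] at hdvd
    obtain ⟨s, hsm, hs⟩ := (Nat.dvd_prime_pow Nat.prime_two).mp hdvd
    have hs2 : 2 ≤ s := by
      by_contra hlt
      have : s = 0 ∨ s = 1 := by omega
      rcases this with rfl | rfl <;> simp at hs <;> omega
    -- p^2 ≡ 1 mod 2^(s+1)
    have hsq : p ^ 2 + 2 ^ (s + 1) = 2 ^ (2 * s) + 1 := by
      have : (p + 1) ^ 2 = 2 ^ (2 * s) := by rw [hs, ← pow_mul, mul_comm]
      have h2 : 2 ^ (s + 1) = 2 * (p + 1) := by rw [hs, pow_succ]; ring
      nlinarith
    have hd : 2 ^ (s + 1) ∣ 2 ^ (2 * s) := pow_dvd_pow 2 (by omega)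
    have hmod : p ^ 2 ≡ 1 [MOD 2 ^ (s + 1)] := by
      have h1 : p ^ 2 + 2 ^ (s + 1) ≡ p ^ 2 [MOD 2 ^ (s + 1)] := by
        simp [Nat.ModEq]
      have h2 : 2 ^ (2 * s) + 1 ≡ 1 [MOD 2 ^ (s + 1)] := by
        have := (Nat.modEq_zero_iff_dvd.mpr hd).add_right 1
        simpa using this
      exact h1.symm.trans (hsq ▸ h2)
    have hmod2 : p ^ (2 * j + 1) ≡ p [MOD 2 ^ (s + 1)] := by
      have h1 : p ^ (2 * j + 1) = (p ^ 2) ^ j * p := by rw [pow_succ, pow_mul]
      rw [h1]
      have := (hmod.pow j).mul_right p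
      simpa using this
    have hmod3 : p ^ (2 * j + 1) + 1 ≡ 2 ^ s [MOD 2 ^ (s + 1)] := by
      rw [← hs]
      exact hmod2.add_right 1
    rw [h] at hmod3
    -- m > s
    have hlt : s < m := by
      rcases Nat.lt_or_ge s m with h1 | h1
      · exact h1
      · exfalso
        have hsm' : s = m := le_antisymm hsm h1
        subst hsm'
        have h3 : p ^ (2 * j + 1) = p := by omega
        have h4 : p ^ 1 < p ^ (2 * j + 1) := Nat.pow_lt_pow_right (by omega) (by omega)
        rw [pow_one] at h4
        omega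
    have hd2 : 2 ^ (s + 1) ∣ 2 ^ m := pow_dvd_pow 2 (by omega)
    have h0 : 2 ^ s ≡ 0 [MOD 2 ^ (s + 1)] := hmod3.symm.trans (Nat.modEq_zero_iff_dvd.mpr hd2)
    have h5 := Nat.le_of_dvd (by positivity) (Nat.modEq_zero_iff_dvd.mp h0)
    have h6 : 2 ^ s < 2 ^ (s + 1) := Nat.pow_lt_pow_right (by norm_num) (by omega)
    omega



section Counting
variable {F : Type*} [Field F] {V : Type*} [AddCommGroup V] [Module F V] [Finite V]

theorem card_modEq_card_ker (h : Module.End F V) (r : ℕ) [Fact r.Prime] (hr : h ^ r = 1) :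
    Nat.card V ≡ Nat.card (LinearMap.ker (h - 1)) [MOD r] := by
  classical
  haveI : Fintype V := Fintype.ofFinite V
  let f : Function.End V := fun x => h x
  have hpow : ∀ k : ℕ, ∀ x, (f ^ k) x = (h ^ k) x := by
    intro k
    induction k with
    | zero => intro x; rfl
    | succ k ih =>
      intro x
      rw [pow_succ, pow_succ]
      change (f ^ k) (f x) = (h ^ k) (h x)
      rw [ih]
  have hf : f ^ r ^ 1 = 1 := by
    rw [pow_one]
    funext x
    rw [hpow, hr]
    rfl
  have key := Equiv.Perm.card_fixedPoints_modEq (p := r) (n := 1) (f := f) hf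
  rw [← Nat.card_eq_fintype_card, ← Nat.card_eq_fintype_card] at key
  refine key.trans ?_
  have : Nat.card (Function.fixedPoints f) = Nat.card (LinearMap.ker (h - 1)) := by
    apply Nat.card_congr
    refine Equiv.subtypeEquivRight ?_
    intro x
    rw [LinearMap.mem_ker, LinearMap.sub_apply, sub_eq_zero]
    rfl
  rw [this]

end Counting



/-- `r` is a primitive prime divisor of `q^n - 1`. -/
structure PPD (q n r : ℕ) : Prop where
  prime : r.Prime
  dvd : r ∣ q ^ n - 1
  min : ∀ k, 0 < k → k < n → ¬ r ∣ q ^ k - 1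

namespace PPD
variable {q n r : ℕ}

theorem not_dvd (h : PPD q n r) (hq : 1 ≤ q) (hn : 0 < n) : ¬ r ∣ q := by
  intro hd
  have h1 : r ∣ q ^ n := dvd_pow hd hn.ne'
  have h2 : 1 ≤ q ^ n := Nat.one_le_pow _ _ hq
  have h3 : r ∣ 1 := by
    have := (Nat.dvd_sub_iff_right h2 h1).mp h.dvd
    exact this
  exact h.prime.one_lt.ne' (Nat.dvd_one.mp h3)

theorem arith (h : PPD q n r) (hq : 1 ≤ q) (hn : 0 < n) {d m : ℕ} (hdm : d ≤ m) (hmn : m ≤ n)
    (hmod : q ^ m ≡ q ^ d [MOD r]) : d = m ∨ (m = n ∧ d = 0) := by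
  by_contra hcon
  push Not at hcon
  have h1 : 0 < m - d := by omega
  have h2 : m - d < n := by
    by_contra hge
    have : m = n ∧ d = 0 := by omega
    exact hcon.2 this.1 this.2
  apply h.min (m - d) h1 h2
  have hle : q ^ d ≤ q ^ m := Nat.pow_le_pow_right hq hdm
  have hdvd : r ∣ q ^ m - q ^ d := (Nat.modEq_iff_dvd' hle).mp hmod.symm
  have hfac : q ^ m - q ^ d = q ^ d * (q ^ (m - d) - 1) := by
    rw [Nat.mul_sub, mul_one, ← pow_add]
    congr 2
    omega
  rw [hfac] at hdvd
  have hcop : Nat.Coprime r (q ^ d) :=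
    Nat.Coprime.pow_right _ ((Nat.Prime.coprime_iff_not_dvd h.prime).mpr (h.not_dvd hq hn))
  exact hcop.dvd_of_dvd_mul_left hdvd

end PPD


theorem eq_one_or_ker_bot {F : Type*} [Field F] [Fintype F] {V : Type*} [AddCommGroup V]
    [Module F V] [Finite V] {n r : ℕ} (hp : PPD (Fintype.card F) n r) (hn : 0 < n)
    (hV : Module.finrank F V ≤ n) (h : Module.End F V) (hr : h ^ r = 1) :
    h = 1 ∨ (Module.finrank F V = n ∧ LinearMap.ker (h - 1) = ⊥) := by
  haveI : Fact r.Prime := ⟨hp.prime⟩
  haveI : Module.Finite F V := Module.Finite.of_finite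
  have key := card_modEq_card_ker h r hr
  rw [Module.natCard_eq_pow_finrank (K := F) (V := V),
    Module.natCard_eq_pow_finrank (K := F) (V := LinearMap.ker (h - 1)),
    Nat.card_eq_fintype_card] at key
  have hq : 1 ≤ Fintype.card F := Fintype.card_pos
  have hle : Module.finrank F (LinearMap.ker (h - 1)) ≤ Module.finrank F V :=
    Submodule.finrank_le _
  rcases hp.arith hq hn hle hV key with h1 | ⟨h1, h2⟩
  · left
    have : LinearMap.ker (h - 1) = ⊤ := Submodule.eq_top_of_finrank_eq h1
    rw [LinearMap.ker_eq_top] at this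
    exact sub_eq_zero.mp this
  · right
    exact ⟨h1, Submodule.finrank_eq_zero.mp h2⟩


theorem ker_eq_bot_of_commute {F : Type*} [Field F] [Fintype F] {K : Type*} [AddCommGroup K]
    [Module F K] [Finite K] {n r : ℕ} (hp : PPD (Fintype.card F) n r) (hn : 0 < n)
    (hK : Module.finrank F K = n) (g : Module.End F K) (hgr : g ^ r = 1) (hg1 : g ≠ 1)
    (c : Module.End F K) (hc : Commute c g) (hc0 : c ≠ 0) : LinearMap.ker c = ⊥ := by
  haveI : Module.Finite F K := Module.Finite.of_finite
  have hV0 : LinearMap.ker (g - 1) = ⊥ := by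
    rcases eq_one_or_ker_bot hp hn hK.le g hgr with h1 | ⟨-, h1⟩
    · exact absurd h1 hg1
    · exact h1
  have hW : ∀ x ∈ LinearMap.ker c, g x ∈ LinearMap.ker c := by
    intro x hx
    rw [LinearMap.mem_ker] at hx ⊢
    have : c (g x) = g (c x) := by
      have := congrArg (fun f : Module.End F K => f x) hc.eq
      simpa using this
    rw [this, hx, map_zero]
  have hr' : (g.restrict hW) ^ r = 1 := by
    rw [Module.End.pow_restrict]
    ext x
    simp [hgr]
  have hfin : Module.finrank F (LinearMap.ker c) ≤ n := hK ▸ Submodule.finrank_le _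
  rcases eq_one_or_ker_bot hp hn hfin (g.restrict hW) hr' with h1 | ⟨h1, -⟩
  · -- g acts trivially on ker c, so ker c ≤ ker (g - 1) = ⊥
    rw [eq_bot_iff, ← hV0]
    intro x hx
    rw [LinearMap.mem_ker, LinearMap.sub_apply, sub_eq_zero]
    have := congrArg (fun f : Module.End F (LinearMap.ker c) => (f ⟨x, hx⟩ : K)) h1
    simpa using this
  · exfalso
    apply hc0
    have : LinearMap.ker c = ⊤ := Submodule.eq_top_of_finrank_eq (h1.trans hK.symm)
    exact LinearMap.ker_eq_top.mp this



open Polynomial in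
theorem nonempty_algEquiv_of_card_eq {F K A : Type*} [Field F] [Field K] [Fintype K] [Algebra F K]
    [Field A] [Fintype A] [Algebra F A] (hcard : Fintype.card A = Fintype.card K) :
    Nonempty (K ≃ₐ[F] A) := by
  haveI h1 : IsSplittingField F K (X ^ Fintype.card K - X) := FiniteField.isSplittingField_sub K F
  haveI h2 : IsSplittingField F A (X ^ Fintype.card K - X) := by
    rw [← hcard]
    exact FiniteField.isSplittingField_sub A F
  exact ⟨(IsSplittingField.algEquiv K (X ^ Fintype.card K - X : F[X])).trans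
    (IsSplittingField.algEquiv A (X ^ Fintype.card K - X : F[X])).symm⟩

theorem exists_embedding {F K E : Type*} [Field F] [Field K] [Fintype K] [Algebra F K] [Ring E]
    [Algebra F E] (A : Subalgebra F E) [Finite A] (hnt : (1 : E) ≠ 0)
    (hcomm : ∀ a ∈ A, ∀ b ∈ A, a * b = b * a)
    (hdom : ∀ a ∈ A, ∀ b ∈ A, a * b = 0 → a = 0 ∨ b = 0)
    (hcard : Nat.card A = Fintype.card K) :
    ∃ ψ : K →ₐ[F] E, Function.Injective ψ ∧ ∀ x, x ∈ A ↔ ∃ k, ψ k = x := by
  classical
  letI : Fintype A := Fintype.ofFinite A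
  letI cr : CommRing A :=
    { (inferInstance : Ring A) with mul_comm := fun a b => Subtype.ext (hcomm a.1 a.2 b.1 b.2) }
  haveI : Nontrivial A := ⟨⟨1, 0, fun h => hnt (congrArg Subtype.val h)⟩⟩
  haveI : NoZeroDivisors A := ⟨fun {a b} h => by
    rcases hdom a.1 a.2 b.1 b.2 (congrArg Subtype.val h) with h1 | h1
    · exact Or.inl (Subtype.ext h1)
    · exact Or.inr (Subtype.ext h1)⟩
  haveI : IsDomain A := NoZeroDivisors.to_isDomain A
  letI fld : Field A := Fintype.fieldOfDomain A
  have hcard' : Fintype.card A = Fintype.card K := by rw [← hcard, Nat.card_eq_fintype_card]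
  obtain ⟨ψ⟩ := @nonempty_algEquiv_of_card_eq F K A _ _ _ _ fld _ (Subalgebra.algebra A) hcard'
  refine ⟨{ toFun := fun k => (ψ k : E), map_one' := ?_, map_mul' := ?_, map_zero' := ?_,
            map_add' := ?_, commutes' := ?_ }, ?_, ?_⟩
  · exact congrArg Subtype.val (map_one ψ)
  · intro x y
    exact congrArg Subtype.val (map_mul ψ x y)
  · exact congrArg Subtype.val (map_zero ψ)
  · intro x y
    exact congrArg Subtype.val (map_add ψ x y)
  · intro c
    exact congrArg Subtype.val (ψ.commutes c)
  · intro x y hxy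
    exact ψ.injective (Subtype.ext hxy)
  · intro x
    constructor
    · intro hx
      exact ⟨ψ.symm ⟨x, hx⟩, congrArg Subtype.val (ψ.apply_symm_apply ⟨x, hx⟩)⟩
    · rintro ⟨k, rfl⟩
      exact (ψ k).2


theorem exists_ppd {F : Type*} [Field F] [Fintype F] (n : ℕ) (hn : 2 ≤ n)
    (hex1 : ¬ (n = 6 ∧ Fintype.card F = 2))
    (hex2 : ¬ (n = 2 ∧ (Fintype.card F).Prime ∧ ∃ a : ℕ, Fintype.card F + 1 = 2 ^ a)) :
    ∃ r : ℕ, PPD (Fintype.card F) n r := by
  have hq : 1 < Fintype.card F := Fintype.one_lt_card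
  obtain ⟨r, h1, h2, h3⟩ := Cfsg.Agent.Helper41.zsigmondy (Fintype.card F) n hq (by omega)
    (by
      rintro ⟨h1, h2⟩
      exact hex1 ⟨h2, h1⟩)
    (by
      rintro ⟨h1, m, hm⟩
      apply hex2
      refine ⟨h1, ?_, m, hm⟩
      obtain ⟨p, -, f, hp, hpf⟩ := FiniteField.card' F
      rw [hpf] at hm ⊢
      have := prime_pow_add_one_eq_two_pow hp f.pos hm
      rw [this, pow_one]
      exact hp)
  exact ⟨r, h1, h2, h3⟩

theorem singer_conj {F K : Type*} [Field F] [Fintype F] [Field K] [Fintype K] [Algebra F K]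
    (n : ℕ) (hn : 2 ≤ n) (hdim : Module.finrank F K = n) {r : ℕ} (hp : PPD (Fintype.card F) n r)
    (U : Subgroup (Module.End F K)ˣ) (hU : IsMulCommutative U)
    (hcard : Nat.card U = Fintype.card K - 1) :
    ∃ g : (Module.End F K)ˣ, U.map (MulAut.conj g).toMonoidHom =
      (Units.map ((Algebra.lmul F K : K →ₐ[F] Module.End F K) : K →* Module.End F K)).range := by
  classical
  haveI : Fact r.Prime := ⟨hp.prime⟩
  haveI : Finite (Module.End F K) :=
    Finite.of_injective (fun f : Module.End F K => (f : K → K)) DFunLike.coe_injective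
  have hKcard : Fintype.card K = Fintype.card F ^ n := by
    rw [← hdim]; exact Module.card_eq_pow_finrank
  have hdvd : r ∣ Nat.card U := by rw [hcard, hKcard]; exact hp.dvd
  obtain ⟨g, hg⟩ := exists_prime_orderOf_dvd_card' r hdvd
  set g0 : Module.End F K := ((g : (Module.End F K)ˣ) : Module.End F K) with hg0
  have hgr : g0 ^ r = 1 := by
    have h1 : g ^ r = 1 := hg ▸ pow_orderOf_eq_one g
    have h2 := congrArg (fun u : U => ((u : (Module.End F K)ˣ) : Module.End F K)) h1
    simpa using h2
  have hg1 : g0 ≠ 1 := by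
    intro h
    have : g = 1 := Subtype.ext (Units.ext h)
    rw [this, orderOf_one] at hg
    exact hp.prime.one_lt.ne hg
  -- the subalgebra generated by U
  set SU : Set (Module.End F K) :=
    (fun u : (Module.End F K)ˣ => (u : Module.End F K)) '' (U : Set (Module.End F K)ˣ) with hSU
  have hSUcomm : ∀ a ∈ SU, ∀ b ∈ SU, a * b = b * a := by
    rintro _ ⟨u, hu, rfl⟩ _ ⟨v, hv, rfl⟩
    have := setLike_mul_comm (s := U) hu hv
    exact congrArg Units.val this
  set A : Subalgebra F (Module.End F K) := Algebra.adjoin F SU with hA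
  haveI hAc : IsMulCommutative A := Algebra.isMulCommutative_adjoin F hSUcomm
  have hg0A : g0 ∈ A := Algebra.subset_adjoin ⟨g.1, g.2, rfl⟩
  have hn0 : 0 < n := by omega
  have hker : ∀ a ∈ A, a ≠ 0 → LinearMap.ker a = ⊥ := by
    intro a ha ha0
    exact ker_eq_bot_of_commute hp hn0 hdim g0 hgr hg1 a (setLike_mul_comm ha hg0A) ha0
  have hinj : ∀ a ∈ A, a ≠ 0 → Function.Injective a := fun a ha ha0 =>
    LinearMap.ker_eq_bot.mp (hker a ha ha0)
  have hdom : ∀ a ∈ A, ∀ b ∈ A, a * b = 0 → a = 0 ∨ b = 0 := by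
    intro a ha b hb hab
    by_cases ha0 : a = 0
    · exact Or.inl ha0
    · right
      ext x
      have h1 : a (b x) = 0 := by
        have := congrArg (fun f : Module.End F K => f x) hab
        simpa using this
      have h2 : a (b x) = a 0 := by rw [h1, map_zero]
      exact hinj a ha ha0 h2
  have hnt : (1 : Module.End F K) ≠ 0 := by
    intro h
    have := congrArg (fun f : Module.End F K => f 1) h
    simp at this
  haveI : Nontrivial (Module.End F K) := ⟨⟨1, 0, hnt⟩⟩
  haveI : Finite A := Subtype.finite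
  have hcardA : Nat.card A = Fintype.card K := by
    apply le_antisymm
    · rw [← Nat.card_eq_fintype_card]
      refine Nat.card_le_card_of_injective (fun a : A => (a : Module.End F K) 1) ?_
      intro a b hab
      by_contra hne
      have hsub : (a - b : A).1 ≠ 0 := by
        intro h
        apply hne
        have : a - b = 0 := Subtype.ext h
        exact sub_eq_zero.mp this
      have h1 : (a - b : A).1 1 = (a - b : A).1 0 := by
        have : (a : Module.End F K) 1 = (b : Module.End F K) 1 := hab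
        simp [this]
      exact one_ne_zero (hinj _ (a - b).2 hsub h1)
    · have hK1 : 1 ≤ Fintype.card K := Fintype.card_pos
      have h1 : Nat.card (Option U) = Fintype.card K := by
        rw [Finite.card_option, hcard]; omega
      rw [← h1]
      refine Nat.card_le_card_of_injective
        (fun o : Option U => (Option.elim o (0 : A)
          (fun u => (⟨((u : (Module.End F K)ˣ) : Module.End F K),
            Algebra.subset_adjoin ⟨u.1, u.2, rfl⟩⟩ : A)))) ?_
      intro o1 o2 h
      rcases o1 with _ | u <;> rcases o2 with _ | v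
      · rfl
      · exfalso
        have := congrArg Subtype.val h
        simp only [Option.elim] at this
        exact Units.ne_zero _ this.symm
      · exfalso
        have := congrArg Subtype.val h
        simp only [Option.elim] at this
        exact Units.ne_zero _ this
      · have := congrArg Subtype.val h
        simp only [Option.elim] at this
        exact congrArg some (Subtype.ext (Units.ext this))
  obtain ⟨ψ, hψinj, hψA⟩ := exists_embedding (K := K) A hnt
    (fun a ha b hb => setLike_mul_comm ha hb) hdom hcardA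
  -- the linear map k ↦ ψ k 1
  let T : K →ₗ[F] K :=
    { toFun := fun k => ψ k 1
      map_add' := fun x y => by rw [map_add]; rfl
      map_smul' := fun c x => by rw [map_smul]; rfl }
  have hTapp : ∀ k, T k = ψ k 1 := fun k => rfl
  have hkey : ∀ k x, T (k * x) = ψ k (T x) := by
    intro k x
    rw [hTapp, hTapp, map_mul]
    rfl
  have hTinj : Function.Injective T := by
    rw [← LinearMap.ker_eq_bot, LinearMap.ker_eq_bot']
    intro k hk
    by_contra hk0
    have hψk : ψ k ≠ 0 := by
      intro h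
      apply hk0
      apply hψinj
      rw [h, map_zero]
    have hmem : ψ k ∈ A := (hψA _).mpr ⟨k, rfl⟩
    have : ψ k 1 = ψ k 0 := by rw [map_zero]; exact hk
    exact one_ne_zero (hinj _ hmem hψk this)
  have hTsurj : Function.Surjective T := LinearMap.injective_iff_surjective.mp hTinj
  let Te : K ≃ₗ[F] K := LinearEquiv.ofBijective T ⟨hTinj, hTsurj⟩
  let Tu : (Module.End F K)ˣ :=
    ⟨T, Te.symm.toLinearMap, by
      ext x
      exact Te.apply_symm_apply x, by
      ext x
      exact Te.symm_apply_apply x⟩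
  refine ⟨Tu⁻¹, ?_⟩
  have hlinj : Function.Injective
      (Units.map ((Algebra.lmul F K : K →ₐ[F] Module.End F K) : K →* Module.End F K)) := by
    apply Units.map_injective
    exact (Algebra.lmul F K : K →ₐ[F] Module.End F K).toRingHom.injective
  have hle : U.map (MulAut.conj Tu⁻¹).toMonoidHom ≤
      (Units.map ((Algebra.lmul F K : K →ₐ[F] Module.End F K) : K →* Module.End F K)).range := by
    rintro _ ⟨u, hu, rfl⟩
    have huA : (u : Module.End F K) ∈ A := Algebra.subset_adjoin ⟨u, hu, rfl⟩
    obtain ⟨k, hk⟩ := (hψA _).mp huA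
    have hk0 : k ≠ 0 := by
      rintro rfl
      rw [map_zero] at hk
      exact Units.ne_zero u hk.symm
    refine ⟨Units.mk0 k hk0, ?_⟩
    simp only [MulEquiv.coe_toMonoidHom, MulAut.conj_apply, inv_inv]
    have h : Tu * (Units.map ((Algebra.lmul F K : K →ₐ[F] Module.End F K) :
        K →* Module.End F K)) (Units.mk0 k hk0) = u * Tu := by
      apply Units.ext
      ext x
      simp only [Units.val_mul, Units.coe_map, Module.End.mul_apply]
      change T (k * x) = (u : Module.End F K) (T x)
      rw [hkey, hk]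
    calc (Units.map ((Algebra.lmul F K : K →ₐ[F] Module.End F K) :
        K →* Module.End F K)) (Units.mk0 k hk0)
        = Tu⁻¹ * (Tu * (Units.map ((Algebra.lmul F K : K →ₐ[F] Module.End F K) :
            K →* Module.End F K)) (Units.mk0 k hk0)) := by group
      _ = Tu⁻¹ * u * Tu := by rw [h]; group
  haveI : Finite (Units.map ((Algebra.lmul F K : K →ₐ[F] Module.End F K) :
      K →* Module.End F K)).range := Subtype.finite
  refine Subgroup.eq_of_le_of_card_ge hle ?_
  have h1 : Nat.card (U.map (MulAut.conj Tu⁻¹).toMonoidHom) = Nat.card U :=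
    (Nat.card_congr ((MulAut.conj Tu⁻¹).subgroupMap U).toEquiv).symm
  have h2 : Nat.card (Units.map ((Algebra.lmul F K : K →ₐ[F] Module.End F K) :
      K →* Module.End F K)).range = Nat.card Kˣ :=
    (Nat.card_congr (MonoidHom.ofInjective hlinj).toEquiv).symm
  rw [h1, h2, hcard, Nat.card_units, Nat.card_eq_fintype_card]


end Cfsg.Agent.Helper98.Singer
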