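import Mathlib
import Cfsg.Agent.Lib.Helper62.SUO0

/-!
# SUO piece U4 (helper62's server for S2282): low rows of a unitriangular element
-/

set_option autoImplicit false
set_option linter.unusedSectionVars false
set_option linter.unusedVariables false
set_option quotPrecheck false

namespace Cfsg.Agent.Helper98.SUO

open Matrix Cfsg Cfsg.Agent.Helper13 Cfsg.Agent.Helper87.PsuA Cfsg.Agent.Helper62.SUO

section U
variable {F : Type*} [Field F] [Fintype F] {q n : ℕ} (hF : Fintype.card F = q ^ 2)
  {b : Fin n → Fin n → F}

local notation "V" => Fin n → F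
local notation "G" => ↥(Cfsg.SU n F q)
local notation "H" => Cfsg.hermForm n F q

include hF

/-- (U4) `u b0 = b0`, `u b1 = b1 + s1 b0`, `u b2 = b2 + s2 b1 + t2 b0` (`mem_Usub_iff`, `expand`) -/
theorem usub_low (hb : HB q b) {u : G} (hu : u ∈ Usub hb) (i0 i1 i2 : Fin n)
    (h0 : i0.val = 0) (h1 : i1.val = 1) (h2 : i2.val = 2) :
    actv u (b i0) = b i0 ∧
    actv u (b i1) = b i1 + co q b (actv u (b i1)) i0 • b i0 ∧
    actv u (b i2) = b i2 + co q b (actv u (b i2)) i1 • b i1 + co q b (actv u (b i2)) i0 • b i0 := by
  rw [mem_Usub_iff] at hu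
  have e01 : i0 ≠ i1 := by
    intro h; rw [h] at h0; omega
  have e02 : i0 ≠ i2 := by
    intro h; rw [h] at h0; omega
  have e12 : i1 ≠ i2 := by
    intro h; rw [h] at h1; omega
  refine ⟨?_, ?_, ?_⟩
  · apply ext_co hb
    intro i
    rw [hu i i0 (by rw [Fin.le_def]; omega), co_b hb]
  · apply ext_co hb
    intro i
    rw [co_add, co_smul, co_b hb, co_b hb]
    by_cases hi : i = i0
    · subst hi
      rw [if_neg e01, if_pos rfl]
      ring
    · rw [hu i i1 (by
        rw [Fin.le_def]
        have : i.val ≠ i0.val := fun h => hi (Fin.ext h)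
        omega), if_neg hi]
      ring
  · apply ext_co hb
    intro i
    rw [co_add, co_add, co_smul, co_smul, co_b hb, co_b hb, co_b hb]
    by_cases hi : i = i0
    · subst hi
      rw [if_neg e02, if_neg e01, if_pos rfl]
      ring
    · by_cases hi' : i = i1
      · subst hi'
        rw [if_neg e12, if_pos rfl, if_neg hi]
        ring
      · rw [hu i i2 (by
          rw [Fin.le_def]
          have : i.val ≠ i0.val := fun h => hi (Fin.ext h)
          have : i.val ≠ i1.val := fun h => hi' (Fin.ext h)
          omega), if_neg hi, if_neg hi']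
        ring

end U

end Cfsg.Agent.Helper98.SUO
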