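import Mathlib
import Cfsg.Agent.Lib.Helper98.SPE0
import Cfsg.Agent.Lib.Helper16.SPEG5
import Cfsg.Agent.Lib.Helper16.SPEG7
import Cfsg.Agent.Lib.Helper19.SPEK1c
import Cfsg.Agent.Lib.Helper19.SPEQ10
import Cfsg.Agent.Lib.Helper19.SPEQ11
import Cfsg.Agent.Lib.Helper22.SPEQ8
import Cfsg.Agent.Lib.Helper61.SPEK8
import Cfsg.Agent.Lib.Helper66.SPEQ1
import Cfsg.Agent.Lib.Helper66.SPEQ2
import Cfsg.Agent.Lib.Helper66.SPEQ3
import Cfsg.Agent.Lib.Helper66.SPEQ5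
import Cfsg.Agent.Lib.Helper77.SPEK0
import Cfsg.Agent.Lib.Helper77.SPER1
import Cfsg.Agent.Lib.Helper94.SPEK4a
import Cfsg.Agent.Lib.Helper94.SPEK4b
import Cfsg.Agent.Lib.Helper94.SPEK4c
import Cfsg.Agent.Lib.Helper94.SPEK4d

/-! The pieces of the SPE server (S2333) used by the assembly, as delivered by the team; restated with the
signatures of `tools/spe_sigs_helper98.lean.txt`, where the paper proofs are. -/

set_option autoImplicit false

namespace Cfsg.Agent.Helper98.SPEP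

open Matrix Cfsg.Agent.Helper93.U2 Cfsg.Agent.Helper98.SPE

/-! ## FORM : algebra of `qv`, `bv`, `tauS`, `congQ` (any field) -/
section FORM

variable {F : Type*} [Field F] {n : ℕ}

theorem qv_smul (S : Matrix (Fin n) (Fin n) F) (c : F) (x : Fin n → F) :
    qv S (c • x) = c ^ 2 * qv S x :=
  Cfsg.Agent.Helper66.SPE.qv_smul S c x

theorem bv_add_left (S : Matrix (Fin n) (Fin n) F) (x x' y : Fin n → F) :
    bv S (x + x') y = bv S x y + bv S x' y :=
  Cfsg.Agent.Helper66.SPE.bv_add_left S x x' y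

theorem bv_smul_left (S : Matrix (Fin n) (Fin n) F) (c : F) (x y : Fin n → F) :
    bv S (c • x) y = c * bv S x y :=
  Cfsg.Agent.Helper66.SPE.bv_smul_left S c x y

theorem bv_self (S : Matrix (Fin n) (Fin n) F) (x : Fin n → F) :
    bv S x x = 2 * qv S x :=
  Cfsg.Agent.Helper66.SPE.bv_self S x

theorem bv_single (S : Matrix (Fin n) (Fin n) F) (k l : Fin n) (h : k < l) :
    bv S (Pi.single k 1) (Pi.single l 1) = S k l :=
  Cfsg.Agent.Helper66.SPE.bv_single S k l h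

theorem tauS_cong (g a b : Matrix (Fin n) (Fin n) F) (hb : bᵀ = b) :
    tauS a (g * b * gᵀ) = tauS (congQ g a) b :=
  Cfsg.Agent.Helper22.SPE.tauS_cong g a b hb

theorem congS_inv_congS (g : GL (Fin n) F) (a : ↥(symSub F n)) :
    congS ((g⁻¹ : GL (Fin n) F) : Matrix (Fin n) (Fin n) F)
      (congS (g : Matrix (Fin n) (Fin n) F) a) = a :=
  Cfsg.Agent.Helper19.SPE.congS_inv_congS g a

theorem tauS_shortS (a : Matrix (Fin n) (Fin n) F) (i j : Fin n) (h : i < j) :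
    tauS a (shortS F n i j) = a i j :=
  Cfsg.Agent.Helper19.SPE.tauS_shortS a i j h

end FORM

/-! ## PAIR : the pairing on symmetric matrices -/
section PAIR

variable {F : Type*} [Field F] [Fintype F]

theorem exists_pairing (ψ : AddChar F ℂ) (hψ : ψ 1 ≠ 1) (n : ℕ) :
    ∃ pr : Pairing ↥(symSub F n), ∀ a b : ↥(symSub F n), pr.β a b = ψ (tauS a.1 b.1) :=
  Cfsg.Agent.Helper77.SPE.exists_pairing ψ hψ n

theorem two_eq_zero_of_even_card (h : Even (Fintype.card F)) : (2 : F) = 0 :=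
  Cfsg.Agent.Helper77.SPE.two_eq_zero_of_even_card h

end PAIR

/-! ## GRP : matrices in `Sp_{2n}(F)` (Mathlib `Matrix.symplecticGroup (Fin n) F`,
`A * J * Aᵀ = J`, `J = fromBlocks 0 (-1) 1 0`) -/
section GRP

variable {F : Type*} [Field F] {n : ℕ}

theorem aEl_add (a b : ↥(symSub F n)) :
    aEl (a + b) = (aEl a * aEl b : ↥(Matrix.symplecticGroup (Fin n) F)) :=
  Cfsg.Agent.Helper16.SPE.aEl_add a b

theorem lEl_conj (g : GL (Fin n) F) (a : ↥(symSub F n)) :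
    (lEl g * aEl a * (lEl g)⁻¹ : ↥(Matrix.symplecticGroup (Fin n) F)) =
      aEl (congA (g : Matrix (Fin n) (Fin n) F) a) :=
  Cfsg.Agent.Helper16.SPE.lEl_conj g a

theorem aEl_not_mem_center (a : ↥(symSub F n)) (ha : a ≠ 0) :
    aEl a ∉ Subgroup.center ↥(Matrix.symplecticGroup (Fin n) F) :=
  Cfsg.Agent.Helper16.SPE.aEl_not_mem_center a ha

theorem normal_le_center_or_eq_top [Fintype F] (hn : 2 ≤ n) (h : n = 2 → 3 ≤ Fintype.card F)
    (N : Subgroup ↥(Matrix.symplecticGroup (Fin n) F)) (hN : N.Normal) :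
    N ≤ Subgroup.center ↥(Matrix.symplecticGroup (Fin n) F) ∨ N = ⊤ :=
  Cfsg.Agent.Helper16.SPE.normal_le_center_or_eq_top hn h N hN

end GRP

/-! ## REP : one extra abstract lemma on top of the U2 REP layer -/
section REP

variable {G : Type*} [Group G] {𝓐 : Type*} [AddCommGroup 𝓐] [Fintype 𝓐]
  {V : Type*} [AddCommGroup V] [Module ℂ V]
  (pr : Pairing 𝓐) (el : 𝓐 → G) (ρ : Representation ℂ G V)

theorem exists_wsp_of_ne_one (hel : ∀ a b, el (a + b) = el a * el b) (u : 𝓐)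
    (h : ρ (el u) ≠ 1) : ∃ a : 𝓐, wsp pr el ρ a ≠ ⊥ ∧ pr.β a u ≠ 1 :=
  Cfsg.Agent.Helper77.SPE.exists_wsp_of_ne_one pr el ρ hel u h

end REP

/-! ## CNT : counting quadratic forms in characteristic 2 (`V = Fin n → F`, `q = |F|`) -/
section CNT

variable {F : Type*} [Field F] [Fintype F] {q : ℕ} (hq : Fintype.card F = q) {n : ℕ}

theorem qv_decomp (S : Matrix (Fin n) (Fin n) F) (x₁ y₁ w : Fin n → F) (s t : F)
    (hw1 : bv S w x₁ = 0) (hw2 : bv S w y₁ = 0) :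
    qv S (s • x₁ + t • y₁ + w) =
      qv S x₁ * s ^ 2 + bv S x₁ y₁ * s * t + qv S y₁ * t ^ 2 + qv S w :=
  Cfsg.Agent.Helper19.SPE.qv_decomp S x₁ y₁ w s t hw1 hw2

include hq in
theorem binary_card_le_of_aniso (h2 : (2 : F) = 0) (a b c : F)
    (han : ∀ s t : F, a * s ^ 2 + b * s * t + c * t ^ 2 = 0 → s = 0 ∧ t = 0) (e : F) :
    {st : F × F | a * st.1 ^ 2 + b * st.1 * st.2 + c * st.2 ^ 2 = e}.ncard ≤ q + 1 :=
  Cfsg.Agent.Helper94.SPE.binary_card_le_of_aniso hq h2 a b c han e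

include hq in
theorem binary_card_le_of_iso (b c : F) (hb : b ≠ 0) (e : F) :
    {st : F × F | (0 : F) * st.1 ^ 2 + b * st.1 * st.2 + c * st.2 ^ 2 = e}.ncard ≤ 2 * q - 1 :=
  Cfsg.Agent.Helper94.SPE.binary_card_le_of_iso hq b c hb e

theorem roots_card_le_two (a b d : F) (hb : b ≠ 0) :
    {s : F | a * s ^ 2 + b * s = d}.ncard ≤ 2 :=
  Cfsg.Agent.Helper94.SPE.roots_card_le_two a b d hb

theorem roots_card_le_one (b d : F) (hb : b ≠ 0) :
    {s : F | (0 : F) * s ^ 2 + b * s = d}.ncard ≤ 1 :=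
  Cfsg.Agent.Helper94.SPE.roots_card_le_one b d hb

include hq in
theorem orbit_bound_of (h2 : (2 : F) = 0) (hn : 2 ≤ n) (O : Set (Matrix (Fin n) (Fin n) F))
    (hcl : ∀ g : GL (Fin n) F, ∀ S ∈ O, congQ (g : Matrix (Fin n) (Fin n) F) S ∈ O)
    (S₀ : Matrix (Fin n) (Fin n) F) (hS₀ : S₀ ∈ O) (x y : Fin n → F) (a b c : F)
    (hx : qv S₀ x = a) (hy : qv S₀ y = c) (hxy : bv S₀ x y = b) (hb : b ≠ 0) (N R : ℕ)
    (hN : ∀ e : F, {st : F × F | a * st.1 ^ 2 + b * st.1 * st.2 + c * st.2 ^ 2 = e}.ncard ≤ N)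
    (hR : ∀ d : F, {s : F | a * s ^ 2 + b * s = d}.ncard ≤ R) :
    (q ^ n - 1) * (q ^ n - q) ≤ R * N * O.ncard :=
  Cfsg.Agent.Helper61.SPE.orbit_bound_of hq h2 hn O hcl S₀ hS₀ x y a b c hx hy hxy hb N R hN hR

end CNT

end Cfsg.Agent.Helper98.SPEP
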