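import Mathlib
import Cfsg.Agent.Lib.Helper62.SUO0
import Cfsg.Agent.Lib.Helper98.SUOU4

/-!
# SUO piece U5 (helper62's server for S2282): the third conjugate, `g u g⁻¹ u⁻¹` is an Eichler
element with centre `b 0` and prescribed `b 1`-component
-/

set_option autoImplicit false
set_option linter.unusedSectionVars false
set_option linter.unusedVariables false
set_option quotPrecheck false

namespace Cfsg.Agent.Helper98.SUO

open Matrix Cfsg Cfsg.Agent.Helper13 Cfsg.Agent.Helper87.PsuA Cfsg.Agent.Helper62.SUO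

section U
variable {F : Type*} [Field F] [Fintype F] {q n : ℕ} (hF : Fintype.card F = q ^ 2)
  {b : Fin n → Fin n → F}

local notation "V" => Fin n → F
local notation "G" => ↥(Cfsg.SU n F q)
local notation "H" => Cfsg.hermForm n F q

include hF

/-- the parameter condition of the product in `eich_mul` -/
theorem h98_eich_mul_param {w w' : V} {a a' : F}
    (ha : a + a ^ q + H w w = 0) (ha' : a' + a' ^ q + H w' w' = 0) :
    (a + a' - H w' w) + (a + a' - H w' w) ^ q + H (w + w') (w + w') = 0 := by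
  rw [frob_sub hF, frob_add hF, hermForm_conj hF, hermForm_add_left, hermForm_add_right hF,
    hermForm_add_right hF]
  linear_combination ha + ha'

/-- (U5) `g = eich (b i0) (c2 • b i2) α2` with `c2 = - c / (s1 * s2)`:
`g u g⁻¹ u⁻¹ = eich e0 w α2 * eich e0 (-(u w)) (α2^q) = eich e0 (w - u w) _` (`eich_conj`, `eich_inv`,
`eich_mul`), `w - u w = - c2 • (s2 • b1 + t2 • b0)` (U4); needs `4 ≤ n` (`b i2 ⊥ b i0`) -/
theorem exists_g (hb : HB q b) (hn : 4 ≤ n) {u : G} (hu : u ∈ Usub hb) (hs : SupNZ q b u)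
    (i0 i1 : Fin n) (h0 : i0.val = 0) (h1 : i1.val = 1) (c : F) :
    ∃ (g : G) (μ α : F),
      α + α ^ q + H (c • ((co q b (actv u (b i1)) i0)⁻¹ • b i1) + μ • b i0)
        (c • ((co q b (actv u (b i1)) i0)⁻¹ • b i1) + μ • b i0) = 0 ∧
      g * u * g⁻¹ * u⁻¹ =
        eich hF (b i0) (c • ((co q b (actv u (b i1)) i0)⁻¹ • b i1) + μ • b i0) α := by
  -- the index `2`
  set i2 : Fin n := ⟨2, by omega⟩ with hi2
  have h2 : i2.val = 2 := rfl
  obtain ⟨ub0, ub1, ub2⟩ := usub_low hF hb hu i0 i1 i2 h0 h1 h2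
  set s1 : F := co q b (actv u (b i1)) i0 with hs1
  set s2 : F := co q b (actv u (b i2)) i1 with hs2
  set t2 : F := co q b (actv u (b i2)) i0 with ht2
  have s2ne : s2 ≠ 0 := hs i1 i2 (by rw [h1, h2])
  -- `b i0` is isotropic and orthogonal to `b i2`
  have hrev0 : i0 ≠ Fin.rev i0 := by
    intro h
    have := congrArg Fin.val h
    rw [Fin.val_rev, h0] at this
    omega
  have h00 : H (b i0) (b i0) = 0 := by rw [hb i0 i0, if_neg hrev0]
  have h02 : H (b i0) (b i2) = 0 := by
    rw [hb i0 i2, if_neg]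
    intro h
    have := congrArg Fin.val h
    rw [Fin.val_rev, h0, h2] at this
    omega
  set c2 : F := -(c * s1⁻¹ * s2⁻¹) with hc2
  set w : V := c2 • b i2 with hw
  have h0w : H (b i0) w = 0 := by rw [hw, hermForm_smul_right, h02, mul_zero]
  obtain ⟨α2, hα2⟩ := Cfsg.Agent.Helper87.PsuB0.exists_eich_param hF w
  -- the inverse of `g`
  have hginv : (eich hF (b i0) w α2)⁻¹ = eich hF (b i0) (-w) (α2 ^ q) :=
    eich_inv hF h00 h0w hα2
  have h0w' : H (b i0) (-w) = 0 := by rw [H_neg_right hF, h0w, neg_zero]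
  have hα2' : α2 ^ q + (α2 ^ q) ^ q + H (-w) (-w) = 0 := by
    rw [frob_frob hF, H_neg_left hF, H_neg_right hF]
    linear_combination hα2
  -- `u g⁻¹ u⁻¹`
  have hconj : u * eich hF (b i0) (-w) (α2 ^ q) * u⁻¹ =
      eich hF (b i0) (actv u (-w)) (α2 ^ q) := by
    rw [eich_conj hF h00 h0w' hα2' u, ub0]
  have h0uw : H (b i0) (actv u (-w)) = 0 := by
    have := H_actv u (b i0) (-w)
    rw [ub0] at this
    rw [this, h0w']
  have hα2'' : α2 ^ q + (α2 ^ q) ^ q + H (actv u (-w)) (actv u (-w)) = 0 := by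
    rw [H_actv]; exact hα2'
  -- the vector
  have hvec : w + actv u (-w) = c • (s1⁻¹ • b i1) + (-(c2 * t2)) • b i0 := by
    rw [actv_neg, hw, actv_smul, ub2]
    have e : -(c2 * s2) = c * s1⁻¹ := by
      rw [hc2]
      field_simp
    have e' : c • (s1⁻¹ • b i1) = (-(c2 * s2)) • b i1 := by rw [e, smul_smul]
    rw [e']
    module
  refine ⟨eich hF (b i0) w α2, -(c2 * t2), α2 + α2 ^ q - H (actv u (-w)) w, ?_, ?_⟩
  · rw [← hvec]
    exact h98_eich_mul_param hF hα2 hα2''
  · rw [← hvec, ← eich_mul hF h00 h0w hα2 h0uw hα2'', ← hconj, ← hginv]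
    group

end U

end Cfsg.Agent.Helper98.SUO
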