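import Cfsg.Agent.Lib.Helper93.USfA

set_option autoImplicit false
set_option linter.unusedSectionVars false
set_option linter.unusedVariables false
set_option linter.unusedSimpArgs false

/-!
# (P1) for S5658: a subfield containing the fixed part of `F₀` and one more fixed element
contains every fixed element (helper98, for helper93).
-/

namespace Cfsg.Agent.Helper93.SubfL.USf

open Cfsg.Agent.Helper93.SubfL.SpSf (subfield_top_of)

section P1

variable {F : Type*} [Field F] {σ : F ≃+* F}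

/-- the subfield `k_σ + μ₀ k_σ` where `k_σ` is the `σ`-fixed part of `k`, for `μ₀` with
`μ₀ + σ μ₀`, `μ₀ σ μ₀` in `k`. -/
def khatP1 (σ : F ≃+* F) (hinv : ∀ a : F, σ (σ a) = a) (k : Subfield F) (μ₀ : F)
    (hτ : μ₀ + σ μ₀ ∈ k) (hν : μ₀ * σ μ₀ ∈ k) : Subfield F where
  carrier := {x | ∃ a b : F, a ∈ k ∧ b ∈ k ∧ σ a = a ∧ σ b = b ∧ x = a + μ₀ * b}
  mul_mem' := by
    rintro x y ⟨a, b, ha, hb, hsa, hsb, rfl⟩ ⟨c, d, hc, hd, hsc, hsd, rfl⟩
    have hστ : σ (μ₀ + σ μ₀) = μ₀ + σ μ₀ := by rw [map_add, hinv, add_comm]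
    have hσν : σ (μ₀ * σ μ₀) = μ₀ * σ μ₀ := by rw [map_mul, hinv, mul_comm]
    refine ⟨a * c - (μ₀ * σ μ₀) * (b * d), a * d + b * c + (μ₀ + σ μ₀) * (b * d),
      k.sub_mem (k.mul_mem ha hc) (k.mul_mem hν (k.mul_mem hb hd)),
      k.add_mem (k.add_mem (k.mul_mem ha hd) (k.mul_mem hb hc)) (k.mul_mem hτ (k.mul_mem hb hd)),
      ?_, ?_, by ring⟩
    · simp only [map_sub, map_add, map_mul, hinv, hsa, hsb, hsc, hsd]; ring
    · simp only [map_sub, map_add, map_mul, hinv, hsa, hsb, hsc, hsd]; ring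
  one_mem' := ⟨1, 0, k.one_mem, k.zero_mem, map_one σ, map_zero σ, by ring⟩
  add_mem' := by
    rintro x y ⟨a, b, ha, hb, hsa, hsb, rfl⟩ ⟨c, d, hc, hd, hsc, hsd, rfl⟩
    refine ⟨a + c, b + d, k.add_mem ha hc, k.add_mem hb hd, ?_, ?_, by ring⟩
    · rw [map_add, hsa, hsc]
    · rw [map_add, hsb, hsd]
  zero_mem' := ⟨0, 0, k.zero_mem, k.zero_mem, map_zero σ, map_zero σ, by ring⟩
  neg_mem' := by
    rintro x ⟨a, b, ha, hb, hsa, hsb, rfl⟩
    refine ⟨-a, -b, k.neg_mem ha, k.neg_mem hb, ?_, ?_, by ring⟩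
    · rw [map_neg, hsa]
    · rw [map_neg, hsb]
  inv_mem' := by
    rintro x ⟨a, b, ha, hb, hsa, hsb, rfl⟩
    have hστ : σ (μ₀ + σ μ₀) = μ₀ + σ μ₀ := by rw [map_add, hinv, add_comm]
    have hσν : σ (μ₀ * σ μ₀) = μ₀ * σ μ₀ := by rw [map_mul, hinv, mul_comm]
    by_cases hx : a + μ₀ * b = 0
    · rw [hx, inv_zero]
      exact ⟨0, 0, k.zero_mem, k.zero_mem, map_zero σ, map_zero σ, by ring⟩
    · -- D = x * σ x
      have hσx : σ (a + μ₀ * b) = a + σ μ₀ * b := by rw [map_add, map_mul, hsa, hsb]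
      have hσx0 : a + σ μ₀ * b ≠ 0 := by
        rw [← hσx]
        exact (map_ne_zero σ).2 hx
      set D : F := a * a + (μ₀ + σ μ₀) * (a * b) + (μ₀ * σ μ₀) * (b * b) with hD
      have hDx : D = (a + μ₀ * b) * (a + σ μ₀ * b) := by rw [hD]; ring
      have hD0 : D ≠ 0 := by rw [hDx]; exact mul_ne_zero hx hσx0
      have hDk : D ∈ k :=
        k.add_mem (k.add_mem (k.mul_mem ha ha) (k.mul_mem hτ (k.mul_mem ha hb)))
          (k.mul_mem hν (k.mul_mem hb hb))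
      have hσD : σ D = D := by
        rw [hD]; simp only [map_sub, map_add, map_mul, hinv, hsa, hsb]; ring
      refine ⟨(a + (μ₀ + σ μ₀) * b) * D⁻¹, -(b * D⁻¹),
        k.mul_mem (k.add_mem ha (k.mul_mem hτ hb)) (k.inv_mem hDk),
        k.neg_mem (k.mul_mem hb (k.inv_mem hDk)), ?_, ?_, ?_⟩
      · rw [map_mul, map_inv₀, hσD]; simp only [map_add, map_mul, hinv, hsa, hsb]; ring
      · rw [map_neg, map_mul, map_inv₀, hσD, hsb]
      · rw [inv_eq_iff_eq_inv, ← one_div, eq_div_iff]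
        · field_simp
          rw [hDx]; ring
        · intro h0
          have : ((a + (μ₀ + σ μ₀) * b) * D⁻¹ + μ₀ * -(b * D⁻¹)) * D = 0 := by rw [h0, zero_mul]
          have h2 : ((a + (μ₀ + σ μ₀) * b) * D⁻¹ + μ₀ * -(b * D⁻¹)) * D = a + σ μ₀ * b := by
            field_simp
            ring
          rw [h2] at this
          exact hσx0 this

end P1

theorem fix_le_of {F : Type*} [Field F] [Fintype F] {σ : F ≃+* F} {F₀ : Subfield F}
    (hst : SigSt σ F₀) {r : ℕ} (hr : r.Prime) (hcard : Fintype.card F = Nat.card F₀ ^ r)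
    (k : Subfield F) (hk : ∀ x ∈ F₀, σ x = x → x ∈ k) {ζ : F} (hζk : ζ ∈ k) (hζσ : σ ζ = ζ)
    (hζ : ζ ∉ F₀) : ∀ z : F, σ z = z → z ∈ k := by
  obtain ⟨μ₀, hμ, hne⟩ := hst.mov
  have hστ : σ (μ₀ + σ μ₀) = μ₀ + σ μ₀ := by rw [map_add, hst.inv, add_comm]
  have hσν : σ (μ₀ * σ μ₀) = μ₀ * σ μ₀ := by rw [map_mul, hst.inv, mul_comm]
  have hτ : μ₀ + σ μ₀ ∈ k := hk _ (F₀.add_mem hμ (hst.stab _ hμ)) hστ
  have hν : μ₀ * σ μ₀ ∈ k := hk _ (F₀.mul_mem hμ (hst.stab _ hμ)) hσν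
  let K := khatP1 σ hst.inv k μ₀ hτ hν
  have hle : ∀ c ∈ F₀, c ∈ K := by
    intro c hc
    obtain ⟨a, b, hsa, hsb, hx, hF⟩ := hst.decomp hne c
    obtain ⟨haF, hbF⟩ := hF hμ hc
    exact ⟨a, b, hk a haF hsa, hk b hbF hsb, hsa, hsb, hx⟩
  have hζK : ζ ∈ K := ⟨ζ, 0, hζk, k.zero_mem, hζσ, map_zero σ, by ring⟩
  have htop := subfield_top_of hr hcard K hle hζK hζ
  intro z hz
  obtain ⟨a, b, ha, hb, hsa, hsb, hzab⟩ := htop z
  have h1 : σ z = a + σ μ₀ * b := by rw [hzab, map_add, map_mul, hsa, hsb]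
  have h2 : (μ₀ - σ μ₀) * b = 0 := by
    have : a + μ₀ * b = a + σ μ₀ * b := by rw [← hzab, ← h1, hz]
    linear_combination this
  have hd : μ₀ - σ μ₀ ≠ 0 := sub_ne_zero.2 (Ne.symm hne)
  have hb0 : b = 0 := by
    rcases mul_eq_zero.mp h2 with h | h
    · exact absurd h hd
    · exact h
  rw [hzab, hb0, mul_zero, add_zero]
  exact ha

end Cfsg.Agent.Helper93.SubfL.USf
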