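import Mathlib
import Cfsg.Agent.Lib.Helper98.KleinNorm

set_option autoImplicit false
set_option linter.style.haveILetI false

/-!
# Recognising `A₅`

A group of order `60` with a subgroup `T` of order `12` containing a self-centralizing Klein four
subgroup `V ⊴ T` that is not normal in the whole group is isomorphic to `A₅`.
-/

namespace Cfsg.Agent.Helper98.A5Recog

open Subgroup

variable {H : Type*} [Group H]

/-- an element of `T` whose square lies in `V` lies in `V` (as `T / V` has order three) -/
theorem mem_of_sq_mem [Finite H] (T V : Subgroup H) (hT : Nat.card T = 12)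
    (hV : IsKleinFour V) (hVT : V ≤ T) (hTN : T ≤ normalizer (V : Set H))
    (x : H) (hx : x ∈ T) (hx2 : x ^ 2 ∈ V) : x ∈ V := by
  haveI : (V.subgroupOf T).Normal := (Subgroup.normal_subgroupOf_iff_le_normalizer hVT).mpr hTN
  have hcardV : Nat.card (V.subgroupOf T) = 4 := by
    rw [Nat.card_congr (Subgroup.subgroupOfEquivOfLe hVT).toEquiv]
    exact hV.card_four
  have hq : Nat.card (T ⧸ V.subgroupOf T) = 3 := by
    have := Subgroup.card_eq_card_quotient_mul_card_subgroup (V.subgroupOf T)
    rw [hT, hcardV] at this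
    omega
  have h3 : ((⟨x, hx⟩ : T) : T ⧸ V.subgroupOf T) ^ 3 = 1 := by
    rw [← hq]
    exact pow_card_eq_one'
  have h3' : (⟨x, hx⟩ : T) ^ 3 ∈ V.subgroupOf T := by
    rw [← QuotientGroup.eq_one_iff, QuotientGroup.mk_pow]
    exact h3
  rw [mem_subgroupOf] at h3'
  have h4 : x ^ 3 ∈ V := by simpa using h3'
  have : x = x ^ 3 * (x ^ 2)⁻¹ := by group
  rw [this]
  exact V.mul_mem h4 (V.inv_mem hx2)

theorem normalCore_eq_bot [Finite H] (T V : Subgroup H) (hT : Nat.card T = 12)
    (hV : IsKleinFour V) (hVT : V ≤ T) (hTN : T ≤ normalizer (V : Set H))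
    (hC : centralizer (V : Set H) = V) (hN : ¬ V.Normal) : T.normalCore = ⊥ := by
  classical
  set K := T.normalCore with hK
  have hKT : K ≤ T := T.normalCore_le
  haveI hKn : K.Normal := T.normalCore_normal
  by_contra hne
  -- `K ⊓ V ≠ ⊥`
  have hKV : K ⊓ V ≠ ⊥ := by
    intro hbot
    apply hne
    rw [eq_bot_iff]
    intro k hk
    have hkV : k ∈ V := by
      have h0 : k ∈ centralizer (V : Set H) := by
        rw [mem_centralizer_iff]
        intro v hv
        -- commutator in `K ⊓ V`
        have h1 : k * v * k⁻¹ * v⁻¹ ∈ K ⊓ V := by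
          constructor
          · have : v * k⁻¹ * v⁻¹ ∈ K := hKn.conj_mem _ (K.inv_mem hk) v
            have h2 : k * v * k⁻¹ * v⁻¹ = k * (v * k⁻¹ * v⁻¹) := by group
            rw [h2]
            exact K.mul_mem hk this
          · have hkN := hTN (hKT hk)
            rw [mem_normalizer_iff] at hkN
            exact V.mul_mem ((hkN v).mp hv) (V.inv_mem hv)
        rw [hbot, mem_bot] at h1
        have h3 : k * v = (k * v * k⁻¹ * v⁻¹) * (v * k) := by group
        rw [h1, one_mul] at h3
        exact h3.symm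
      rwa [hC] at h0
    have : k ∈ K ⊓ V := ⟨hk, hkV⟩
    rwa [hbot] at this
  -- pick `v ≠ 1` in `K ⊓ V`
  obtain ⟨⟨v, hvK, hvV⟩, hv1⟩ := (Subgroup.ne_bot_iff_exists_ne_one).mp hKV
  have hv1' : v ≠ 1 := fun h => hv1 (Subtype.ext h)
  -- pick `w ∈ T`, `w ∉ V`
  obtain ⟨w, hwT, hwV⟩ : ∃ w ∈ T, w ∉ V := by
    by_contra hcon
    push Not at hcon
    have hTV : T ≤ V := hcon
    have := Subgroup.card_le_of_le hTV
    rw [hT, hV.card_four] at this
    omega
  -- `w` moves `v`
  have hwN := hTN hwT
  have hmove : w * v * w⁻¹ ≠ v := by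
    intro hfix
    rcases KleinNorm.dichotomy V hV hC ⟨w, hwN⟩ with h | ⟨h, hf⟩
    · exact hwV (mem_of_sq_mem T V hT hV hVT hTN w hwT h)
    · apply hv1'
      apply hf v hvV
      simp only
      calc w * v = (w * v * w⁻¹) * w := by group
        _ = v * w := by rw [hfix]
  have hv'V : w * v * w⁻¹ ∈ V := by
    rw [mem_normalizer_iff] at hwN
    exact (hwN v).mp hvV
  have hv'K : w * v * w⁻¹ ∈ K := hKn.conj_mem v hvK w
  have hv'1 : w * v * w⁻¹ ≠ 1 := by
    intro h
    apply hv1'
    have : v = w⁻¹ * (w * v * w⁻¹) * w := by group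
    rw [this, h]; group
  -- `V ≤ K`
  have hVK : V ≤ K := by
    intro u hu
    haveI : Finite V := Nat.finite_of_card_ne_zero (by rw [hV.card_four]; norm_num)
    haveI := Fintype.ofFinite V
    have huniv := hV.eq_finset_univ (x := (⟨v, hvV⟩ : V)) (y := ⟨w * v * w⁻¹, hv'V⟩)
      (fun h => hv1' (congrArg Subtype.val h)) (fun h => hv'1 (congrArg Subtype.val h))
      (fun h => hmove (congrArg Subtype.val h).symm)
    have hmem : (⟨u, hu⟩ : V) ∈ (Finset.univ : Finset V) := Finset.mem_univ _
    rw [← huniv] at hmem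
    simp only [Finset.mem_insert, Finset.mem_singleton] at hmem
    rcases hmem with h | h | h | h
    · have := congrArg Subtype.val h
      simp only [Subgroup.coe_mul] at this
      rw [this]; exact K.mul_mem hvK hv'K
    · have := congrArg Subtype.val h
      simp only at this
      rw [this]; exact hvK
    · have := congrArg Subtype.val h
      simp only at this
      rw [this]; exact hv'K
    · have := congrArg Subtype.val h
      simp only [Subgroup.coe_one] at this
      rw [this]; exact K.one_mem
  apply hN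
  refine ⟨fun x hx h => ?_⟩
  apply mem_of_sq_mem T V hT hV hVT hTN _ (hKT (hKn.conj_mem x (hVK hx) h))
  have h1 : (h * x * h⁻¹) ^ 2 = h * x ^ 2 * h⁻¹ := by
    rw [pow_two, pow_two]; group
  rw [h1, KleinNorm.sq_eq_one_of_mem hV hx]
  simp

/-- the recognition theorem -/
theorem nonempty_mulEquiv [Finite H] (h60 : Nat.card H = 60) (T V : Subgroup H)
    (hT : Nat.card T = 12) (hV : IsKleinFour V) (hVT : V ≤ T)
    (hTN : T ≤ normalizer (V : Set H)) (hC : centralizer (V : Set H) = V) (hN : ¬ V.Normal) :
    Nonempty (H ≃* alternatingGroup (Fin 5)) := by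
  classical
  haveI := Fintype.ofFinite (H ⧸ T)
  have hcore := normalCore_eq_bot T V hT hV hVT hTN hC hN
  have hq : Fintype.card (H ⧸ T) = 5 := by
    have := Subgroup.card_eq_card_quotient_mul_card_subgroup T
    rw [h60, hT, Nat.card_eq_fintype_card] at this
    omega
  set f := MulAction.toPermHom H (H ⧸ T) with hf
  have hinj : Function.Injective f := by
    rw [← MonoidHom.ker_eq_bot_iff, ← Subgroup.normalCore_eq_ker, hcore]
  have hrange : Nat.card f.range = 60 := by
    rw [← Nat.card_congr (MonoidHom.ofInjective hinj).toEquiv, h60]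
  have hindex : f.range.index = 2 := by
    have := Subgroup.card_mul_index f.range
    rw [hrange, Nat.card_perm, Nat.card_eq_fintype_card, hq] at this
    have h5 : Nat.factorial 5 = 120 := by decide
    omega
  have hrange_eq := Equiv.Perm.eq_alternatingGroup_of_index_eq_two hindex
  have e1 : H ≃* f.range := MonoidHom.ofInjective hinj
  have e2 : f.range ≃* alternatingGroup (H ⧸ T) := MulEquiv.subgroupCongr hrange_eq
  have e3 : alternatingGroup (H ⧸ T) ≃* alternatingGroup (Fin 5) :=
    Equiv.altCongrHom (Fintype.equivFinOfCardEq hq)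
  exact ⟨(e1.trans e2).trans e3⟩

/-- subgroup version of the recognition theorem -/
theorem nonempty_mulEquiv_subgroup {G : Type*} [Group G] [Finite G] (H T V : Subgroup G)
    (h60 : Nat.card H = 60) (hT : Nat.card T = 12) (hV : IsKleinFour V) (hVT : V ≤ T)
    (hTH : T ≤ H) (hTN : T ≤ normalizer (V : Set G)) (hC : centralizer (V : Set G) = V)
    (hN : ¬ H ≤ normalizer (V : Set G)) : Nonempty (H ≃* alternatingGroup (Fin 5)) := by
  have hVH : V ≤ H := hVT.trans hTH
  apply nonempty_mulEquiv h60 (T.subgroupOf H) (V.subgroupOf H)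
  · rw [Nat.card_congr (Subgroup.subgroupOfEquivOfLe hTH).toEquiv]
    exact hT
  · have e := Subgroup.subgroupOfEquivOfLe hVH
    exact ⟨by rw [Nat.card_congr e.toEquiv]; exact hV.card_four,
      by rw [Monoid.exponent_eq_of_mulEquiv e]; exact hV.exponent_two⟩
  · intro x hx
    rw [mem_subgroupOf] at hx ⊢
    exact hVT hx
  · intro x hx
    rw [mem_subgroupOf] at hx
    have hxN := hTN hx
    rw [mem_normalizer_iff] at hxN ⊢
    intro h
    rw [mem_subgroupOf, mem_subgroupOf]
    simpa using hxN h
  · ext x
    rw [mem_centralizer_iff, mem_subgroupOf]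
    constructor
    · intro hx
      have h0 : (x : G) ∈ centralizer (V : Set G) := by
        rw [mem_centralizer_iff]
        intro v hv
        have := hx ⟨v, hVH hv⟩ (by rw [SetLike.mem_coe, mem_subgroupOf]; exact hv)
        exact congrArg Subtype.val this
      rwa [hC] at h0
    · intro hx h hh
      rw [SetLike.mem_coe, mem_subgroupOf] at hh
      have h0 : (x : G) ∈ centralizer (V : Set G) := by rw [hC]; exact hx
      rw [mem_centralizer_iff] at h0
      exact Subtype.ext (h0 h hh)
  · intro hnormal
    apply hN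
    have key : ∀ h ∈ H, ∀ v ∈ V, h * v * h⁻¹ ∈ V := by
      intro h hh v hv
      have := hnormal.conj_mem ⟨v, hVH hv⟩ (by rw [mem_subgroupOf]; exact hv) ⟨h, hh⟩
      rw [mem_subgroupOf] at this
      simpa using this
    intro h hh
    rw [mem_normalizer_iff]
    intro v
    constructor
    · exact key h hh v
    · intro hv
      have := key h⁻¹ (H.inv_mem hh) _ hv
      have e : h⁻¹ * (h * v * h⁻¹) * h⁻¹⁻¹ = v := by group
      rwa [e] at this

end Cfsg.Agent.Helper98.A5Recog
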