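import Cfsg.Agent.Lib.Helper98.BrownDefs
import Cfsg.Agent.Lib.Helper12.BrownE3
import Cfsg.Agent.Lib.Helper42.BrownU3a
import Cfsg.Agent.Lib.Helper51.BrownU2
import Cfsg.Agent.Lib.Helper52.SL25Normal
import Cfsg.Agent.Lib.Helper57.BrownE4a
import Cfsg.Agent.Lib.Helper91.BrownU1
import Cfsg.Agent.Lib.Helper99.BrownE2
import Cfsg.Agent.Lib.Helper24.BrownE4b
import Cfsg.Agent.Lib.Helper21.FStar
import Cfsg.Agent.Lib.Helper56.ZK4

set_option autoImplicit false
set_option linter.unusedSectionVars false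
set_option linter.unusedVariables false
set_option linter.style.haveILetI false
set_option maxHeartbeats 1600000

/-!
# Brown's theorem on Frobenius complements (S4291): assembly

Every Frobenius complement `G` has a unique normal subgroup `N` all of whose Sylow subgroups are
cyclic and with `G / N` one of `1, V₄, A₄, S₄, A₅, S₅`.  The case analysis of the solvable case is
the one of `Cfsg.Agent.Helper56.FC.exists_hom_perm4`.
-/

namespace Cfsg.Agent.Helper98.Brown

open Cfsg.Agent.Helper56 Cfsg.Agent.Helper56.FC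

universe u

section sr

variable {q : ℕ} [Fact q.Prime] {V : Type*} [AddCommGroup V] [Module (ZMod q) V] [Finite V]
  [Nontrivial V] {G : Type*} [Group G] [Finite G] (ρ : G →* (V ≃ₗ[ZMod q] V))
  (hsr : ∀ v : V, v ≠ 0 → ∀ g : G, ρ g v = v → g = 1)

include hsr in
theorem fpfLike_of_sr : FpfLike G where
  odd := by
    intro p _ hp2 A hA
    rcases sr_pgroup ρ hsr p A hA with h | ⟨n, ⟨e⟩⟩
    · exact h
    · exact (not_quat_of_odd hp2 hA e).elim
  two := fun A hA => sr_two ρ hsr A hA
  comm := by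
    intro A hA hc
    rcases sr_two ρ hsr A hA with h | ⟨k, hk, ⟨e⟩⟩
    · exact h
    · exact Cfsg.Agent.S3215.isCyclic_of_comm_quaternion
        (fun a b => Subtype.ext (hc a a.2 b b.2)) k e

include hsr in
/-- existence in the solvable case -/
theorem exists_good_of_solvable (hsol : Group.IsSolvable G) : ∃ N : Subgroup G, Good N := by
  classical
  have hF : FpfLike G := fpfLike_of_sr ρ hsr
  haveI : Fact (Nat.Prime 2) := ⟨Nat.prime_two⟩
  by_cases hab : ∀ S : Sylow 2 G, ∀ x ∈ (S : Subgroup G), ∀ y ∈ (S : Subgroup G), x * y = y * x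
  · refine ⟨⊤, inferInstance, ?_, Or.inl rfl⟩
    intro p _ P
    set A : Subgroup G := (P : Subgroup (⊤ : Subgroup G)).map (⊤ : Subgroup G).subtype with hA
    have hAp : IsPGroup p A := P.2.map _
    have eA : (P : Subgroup (⊤ : Subgroup G)) ≃* A :=
      Subgroup.equivMapOfInjective _ _ (Subgroup.subtype_injective _)
    have hAc : IsCyclic A := by
      by_cases hp2 : p = 2
      · subst hp2
        obtain ⟨Q, hQ⟩ := hAp.exists_le_sylow
        exact hF.comm A hAp (fun a ha b hb => hab Q a (hQ ha) b (hQ hb))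
      · exact hF.odd p hp2 A hAp
    haveI := hAc
    exact isCyclic_of_surjective eA.symm.toMonoidHom eA.symm.surjective
  have hab' : ∃ S : Sylow 2 G, ∃ x ∈ (S : Subgroup G), ∃ y ∈ (S : Subgroup G), x * y ≠ y * x := by
    by_contra h
    apply hab
    intro S x hx y hy
    by_contra h'
    exact h ⟨S, x, hx, y, hy, h'⟩
  obtain ⟨S, x₀, hx₀, y₀, hy₀, hxy₀⟩ := hab'
  obtain ⟨k, hk, ⟨eS⟩⟩ : ∃ k : ℕ, 1 ≤ k ∧ Nonempty ((S : Subgroup G) ≃* QuaternionGroup (2 ^ k)) := by
    rcases sr_two ρ hsr (S : Subgroup G) S.2 with h | h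
    · exfalso
      apply hxy₀
      have := (IsCyclic.isMulCommutative (α := (S : Subgroup G))).is_comm.comm
        ⟨x₀, hx₀⟩ ⟨y₀, hy₀⟩
      exact congrArg Subtype.val this
    · exact h
  set K : Subgroup G := Cfsg.pPrimeCore 2 G with hKdef
  haveI hKn : K.Normal := by
    rw [hKdef]
    infer_instance
  have hKodd : (Nat.card K).Coprime 2 := Cfsg.Agent.Helper55.pPrimeCore_coprime 2
  have hK2 : ∀ P₂ : Subgroup G, IsPGroup 2 P₂ → ∀ x ∈ P₂, x ∈ K → x = 1 := by
    intro P₂ hP₂ x hx hxK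
    obtain ⟨j, hj⟩ := hP₂ ⟨x, hx⟩
    have hj' : x ^ 2 ^ j = 1 := by
      have := congrArg Subtype.val hj
      simpa using this
    have h1 : orderOf x ∣ 2 ^ j := orderOf_dvd_of_pow_eq_one hj'
    have h2 : orderOf x ∣ Nat.card K := by
      have := orderOf_dvd_natCard (⟨x, hxK⟩ : K)
      rwa [Subgroup.orderOf_mk] at this
    have h3 : (Nat.card K).Coprime (2 ^ j) := Nat.Coprime.pow_right j hKodd
    have h4 : orderOf x = 1 := Nat.eq_one_of_dvd_coprimes h3 h2 h1
    exact orderOf_eq_one_iff.mp h4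
  let π : G →* G ⧸ K := QuotientGroup.mk' K
  have hπsurj : Function.Surjective π := QuotientGroup.mk'_surjective K
  have hπker : ∀ g : G, π g = 1 → g ∈ K := fun g hg => (QuotientGroup.eq_one_iff g).mp hg
  have hcomm_of : ∀ P₂ : Subgroup G, IsPGroup 2 P₂ → ∀ x ∈ P₂, ∀ y ∈ P₂,
      π x * π y = π y * π x → x * y = y * x := by
    intro P₂ hP₂ x hx y hy h
    have h1 : π ((y * x)⁻¹ * (x * y)) = 1 := by
      rw [map_mul, map_inv, map_mul, map_mul, h]
      group
    have h2 := hK2 P₂ hP₂ _ (P₂.mul_mem (P₂.inv_mem (P₂.mul_mem hy hx)) (P₂.mul_mem hx hy))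
      (hπker _ h1)
    have := inv_mul_eq_one.mp h2
    exact this.symm
  have hO : Cfsg.pPrimeCore 2 (G ⧸ K) = ⊥ := Cfsg.Agent.Helper55.pPrimeCore_quotient_eq_bot 2
  have hsolq : Group.IsSolvable (G ⧸ K) := inferInstance
  set Tb : Subgroup (G ⧸ K) := Cfsg.pCore 2 (G ⧸ K) with hTb
  haveI hTbn : Tb.Normal := by
    rw [hTb]
    infer_instance
  have hC : Subgroup.centralizer (Tb : Set (G ⧸ K)) ≤ Tb :=
    Cfsg.Agent.S3215.centralizer_pCore_le hsolq hO
  have hT2 : IsPGroup 2 Tb := Cfsg.Agent.Helper55.isPGroup_pCore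
  have hTbS : Tb ≤ (S : Subgroup G).map π := by
    have := Cfsg.Agent.Helper55.pCore_le_sylow (S.mapSurjective hπsurj)
    rwa [Sylow.coe_mapSurjective] at this
  set T₂ : Subgroup G := (S : Subgroup G) ⊓ Tb.comap π with hT₂
  have hT₂2 : IsPGroup 2 T₂ := S.2.to_le inf_le_left
  let φ : T₂ →* Tb :=
    { toFun := fun t => ⟨π t, (Subgroup.mem_inf.mp t.2).2⟩
      map_one' := Subtype.ext (map_one π)
      map_mul' := fun a b => Subtype.ext (map_mul π (a : G) (b : G)) }
  have hφinj : Function.Injective φ := by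
    rw [injective_iff_map_eq_one]
    intro t ht
    have h1 : π (t : G) = 1 := congrArg Subtype.val ht
    exact Subtype.ext (hK2 T₂ hT₂2 t t.2 (hπker _ h1))
  have hφsurj : Function.Surjective φ := by
    rintro ⟨t, ht⟩
    obtain ⟨s, hs, hst⟩ := hTbS ht
    refine ⟨⟨s, Subgroup.mem_inf.mpr ⟨hs, ?_⟩⟩, Subtype.ext hst⟩
    show π s ∈ Tb
    rw [hst]
    exact ht
  let eT : T₂ ≃* Tb := MulEquiv.ofBijective φ ⟨hφinj, hφsurj⟩
  have hcases : IsPGroup 2 (MulAut Tb) ∨ Nonempty (Tb ≃* QuaternionGroup 2) := by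
    rcases sr_two ρ hsr T₂ hT₂2 with h | ⟨j, hj, ⟨e⟩⟩
    · left
      haveI := h
      have hc : IsCyclic Tb := isCyclic_of_surjective eT.toMonoidHom eT.surjective
      exact Cfsg.Agent.Helper53.isPGroup_mulAut_of_isCyclic hT2 hc
    · rcases Nat.lt_or_ge j 2 with hj2 | hj2
      · right
        have hj1 : j = 1 := by omega
        subst hj1
        rw [pow_one] at e
        exact ⟨eT.symm.trans e⟩
      · left
        exact Cfsg.Agent.Helper53.isPGroup_mulAut_of_quaternion j hj2 (eT.symm.trans e)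
  rcases hcases with hA | ⟨⟨e₂⟩⟩
  · -- the quotient is a 2-group
    have hG2 : IsPGroup 2 (G ⧸ K) := by
      intro g
      have hne : orderOf g ≠ 0 := (orderOf_pos g).ne'
      obtain ⟨a, m', hm'odd, hom⟩ := Nat.exists_eq_two_pow_mul_odd hne
      refine ⟨a, ?_⟩
      have hordh : orderOf (g ^ 2 ^ a) = m' := by
        rw [orderOf_pow_of_dvd (by positivity) ⟨m', hom⟩, hom,
          Nat.mul_div_cancel_left _ (by positivity)]
      have hcent : g ^ 2 ^ a ∈ Subgroup.centralizer (Tb : Set (G ⧸ K)) := by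
        rw [Subgroup.mem_centralizer_iff]
        intro t ht
        have h1 := Cfsg.Agent.Helper53.conj_eq_of_isPGroup_mulAut Tb (g ^ 2 ^ a)
          (by rw [Subgroup.normalizer_eq_top]; trivial) (hordh ▸ hm'odd) hA t ht
        calc t * g ^ 2 ^ a = (g ^ 2 ^ a * t * (g ^ 2 ^ a)⁻¹) * g ^ 2 ^ a := by rw [h1]
          _ = g ^ 2 ^ a * t := by group
      have hhT := hC hcent
      obtain ⟨b, hb⟩ := hT2 ⟨g ^ 2 ^ a, hhT⟩
      have hb' : (g ^ 2 ^ a) ^ 2 ^ b = 1 := by
        have := congrArg Subtype.val hb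
        simpa using this
      have h2 : orderOf (g ^ 2 ^ a) ∣ 2 ^ b := orderOf_dvd_of_pow_eq_one hb'
      rw [hordh] at h2
      have hcop : Nat.Coprime m' (2 ^ b) :=
        Nat.Coprime.pow_right b (Nat.coprime_two_right.mpr hm'odd)
      have hm1 : m' = 1 := Nat.Coprime.eq_one_of_dvd hcop h2
      rw [← orderOf_eq_one_iff, hordh, hm1]
    let πS : (S : Subgroup G) →* G ⧸ K := π.comp (S : Subgroup G).subtype
    have hπSinj : Function.Injective πS := by
      rw [injective_iff_map_eq_one]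
      intro s hs
      exact Subtype.ext (hK2 S S.2 s s.2 (hπker _ hs))
    have hcardle : Nat.card (G ⧸ K) ≤ Nat.card (S : Subgroup G) := by
      obtain ⟨b, hb⟩ := IsPGroup.iff_card.mp hG2
      have h1 : 2 ^ b ∣ Nat.card G := by
        rw [Subgroup.card_eq_card_quotient_mul_card_subgroup K, hb]
        exact dvd_mul_right _ _
      have h2 := S.pow_dvd_card_of_pow_dvd_card h1
      rw [hb]
      exact Nat.le_of_dvd Nat.card_pos h2
    have hπSbij : Function.Bijective πS := hπSinj.bijective_of_nat_card_le hcardle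
    let eQ : G ⧸ K ≃* QuaternionGroup (2 ^ k) := (MulEquiv.ofBijective πS hπSbij).symm.trans eS
    exact Cfsg.Agent.Helper99.Brown.good_of_quaternion_quotient hF K hKodd k hk eQ
  · -- `O₂` of the quotient is quaternion of order 8
    exact Cfsg.Agent.Helper12.Brown.good_of_quaternion_core hF K hKodd Tb e₂ hC
      (fun R hRn hR2 => Cfsg.Agent.Helper55.le_pCore hRn hR2)

end sr

section main

variable {G : Type u} [Group G] [Finite G]

/-- existence in the non-solvable case -/
theorem exists_good_of_not_solvable (F : ZC.FD G) (hns : ¬ Group.IsSolvable G) :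
    ∃ N : Subgroup G, Good N := by
  have hF : FpfLike G := fpfLike_of_sr F.ρ F.hsr
  obtain ⟨D, hDn, hDp, hDs⟩ := Cfsg.Agent.Helper21.exists_perfect_core G
  haveI := hDn
  have hDne : D ≠ ⊥ := fun h => hns (hDs h)
  have hperf : commutator D = ⊤ := by
    have h1 := Subgroup.map_subtype_commutator D
    rw [hDp] at h1
    apply Subgroup.map_injective D.subtype_injective
    rw [h1, ← MonoidHom.range_eq_map, Subgroup.range_subtype]
  have hnt : Nontrivial D := (Subgroup.nontrivial_iff_ne_bot D).mpr hDne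
  obtain ⟨e⟩ := ZG.Z (F.comap D.subtype D.subtype_injective) hperf hnt
  refine ⟨Subgroup.centralizer (D : Set G), inferInstance, ?_, ?_⟩
  · exact Cfsg.Agent.Helper57.Brown.zgroup_centralizer_sl25 hF D e
  · exact Cfsg.Agent.Helper24.Brown.quotOK_centralizer_sl25 D e
      (Cfsg.Agent.Helper52.SL25Normal.index_sup_centralizer_le_two D e)

/-- existence -/
theorem exists_good (F : ZC.FD G) : ∃ N : Subgroup G, Good N := by
  by_cases hsol : Group.IsSolvable G
  · exact exists_good_of_solvable F.ρ F.hsr hsol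
  · exact exists_good_of_not_solvable F hsol

/-- uniqueness -/
theorem good_unique' (F : ZC.FD G) {N₁ N₂ : Subgroup G} (h₁ : Good N₁) (h₂ : Good N₂) :
    N₁ = N₂ := by
  have hF : FpfLike G := fpfLike_of_sr F.ρ F.hsr
  exact Cfsg.Agent.Helper42.Brown.good_unique_of_hyps
    Cfsg.Agent.Helper91.Brown.normal_eq_bot_A4 Cfsg.Agent.Helper91.Brown.normal_eq_bot_S4
    Cfsg.Agent.Helper91.Brown.normal_eq_bot_A5 Cfsg.Agent.Helper91.Brown.normal_eq_bot_S5
    (fun R f hf hexp hcard =>
      Cfsg.Agent.Helper51.Brown.no_elementary_quotient hF f hf hexp hcard) h₁ h₂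

/-- **Brown's theorem** for groups with the fixed-point-free data `FD`. -/
theorem brown_of_FD (F : ZC.FD G) : ∃! N : Subgroup G, Good N := by
  obtain ⟨N, hN⟩ := exists_good F
  exact ⟨N, hN, fun N' hN' => good_unique' F hN' hN⟩

/-- **Brown's theorem**: a Frobenius complement has a unique normal subgroup with cyclic Sylow
subgroups and quotient `1, V₄, A₄, S₄, A₅` or `S₅`. -/
theorem brown_main
    (hFC : ∃ (L : Type) (_ : Group L) (_ : Finite L) (H : Subgroup L),
      Cfsg.IsFrobeniusComplement H ∧ Nonempty (G ≃* H)) :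
    ∃! N : Subgroup G, Good N := by
  obtain ⟨L, _, _, H, hH, ⟨e⟩⟩ := hFC
  obtain ⟨F⟩ := ZG.exists_FD_of_iso H hH e
  exact brown_of_FD F

end main

end Cfsg.Agent.Helper98.Brown
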