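import Mathlib

set_option autoImplicit false
set_option linter.unusedSectionVars false
set_option linter.unusedVariables false
set_option linter.style.haveILetI false

/-!
# Groups in which commuting is transitive outside a central subgroup

The abstract class equation used for Dickson's classification of the subgroups of `SL₂`.
-/

namespace Cfsg.Agent.Helper98.CT

universe u

variable {G : Type u} [Group G]

/-- The hypotheses: `Z` central, centralizers of elements outside `Z` are abelian. -/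
structure Data (Z : Subgroup G) : Prop where
  central : ∀ z ∈ Z, ∀ k : G, z * k = k * z
  comm : ∀ x, x ∉ Z → ∀ y w, y * x = x * y → w * x = x * w → y * w = w * y

/-- The centralizer of an element. -/
def cen (x : G) : Subgroup G := Subgroup.centralizer ({x} : Set G)

theorem mem_cen {x y : G} : y ∈ cen x ↔ y * x = x * y := by
  unfold cen
  rw [Subgroup.mem_centralizer_iff]
  constructor
  · intro h
    exact (h x rfl).symm
  · intro h z hz
    rw [Set.mem_singleton_iff] at hz
    subst hz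
    exact h.symm

theorem self_mem_cen (x : G) : x ∈ cen x := mem_cen.mpr rfl

theorem cen_conj (x k : G) : cen (k * x * k⁻¹) = (cen x).map (MulAut.conj k).toMonoidHom := by
  ext w
  rw [Subgroup.mem_map, mem_cen]
  constructor
  · intro h
    refine ⟨k⁻¹ * w * k, ?_, ?_⟩
    · rw [mem_cen]
      calc k⁻¹ * w * k * x = k⁻¹ * (w * (k * x * k⁻¹)) * k := by group
        _ = k⁻¹ * ((k * x * k⁻¹) * w) * k := by rw [h]
        _ = x * (k⁻¹ * w * k) := by group
    · simp only [MulEquiv.coe_toMonoidHom, MulAut.conj_apply]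
      group
  · rintro ⟨v, hv, rfl⟩
    rw [mem_cen] at hv
    simp only [MulEquiv.coe_toMonoidHom, MulAut.conj_apply]
    calc k * v * k⁻¹ * (k * x * k⁻¹) = k * (v * x) * k⁻¹ := by group
      _ = k * (x * v) * k⁻¹ := by rw [hv]
      _ = k * x * k⁻¹ * (k * v * k⁻¹) := by group

theorem conj_mem_cen_conj {x a k : G} (ha : a ∈ cen x) : k * a * k⁻¹ ∈ cen (k * x * k⁻¹) := by
  rw [cen_conj, Subgroup.mem_map]
  exact ⟨a, ha, by simp⟩

theorem mem_cen_conj_iff {x a k : G} : a ∈ cen (k * x * k⁻¹) ↔ k⁻¹ * a * k ∈ cen x := by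
  constructor
  · intro h
    have := conj_mem_cen_conj (k := k⁻¹) h
    have e1 : k⁻¹ * (k * x * k⁻¹) * k⁻¹⁻¹ = x := by group
    rw [e1, inv_inv] at this
    exact this
  · intro h
    have := conj_mem_cen_conj (k := k) h
    have e2 : k * (k⁻¹ * a * k) * k⁻¹ = a := by group
    rwa [e2] at this

/-- The normalizer of `cen x`. -/
def nor (x : G) : Subgroup G := Subgroup.normalizer ((cen x : Subgroup G) : Set G)

theorem cen_le_nor (x : G) : cen x ≤ nor x := Subgroup.le_normalizer

/-- `k` normalizes `cen x` as soon as `cen (k x k⁻¹) = cen x`. -/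
theorem mem_nor_of_cen_conj_eq {x k : G} (h : cen (k * x * k⁻¹) = cen x) : k ∈ nor x := by
  unfold nor
  rw [Subgroup.mem_normalizer_iff]
  intro w
  constructor
  · intro hw
    rw [← h]
    exact conj_mem_cen_conj hw
  · intro hw
    rw [← h, mem_cen_conj_iff] at hw
    have e : k⁻¹ * (k * w * k⁻¹) * k = w := by group
    rwa [e] at hw

theorem cen_conj_eq_of_mem_nor {x k : G} (h : k ∈ nor x) : cen (k * x * k⁻¹) = cen x := by
  unfold nor at h
  rw [Subgroup.mem_normalizer_iff] at h
  ext w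
  rw [mem_cen_conj_iff]
  constructor
  · intro hw
    have := (h (k⁻¹ * w * k)).mp hw
    have e : k * (k⁻¹ * w * k) * k⁻¹ = w := by group
    rwa [e] at this
  · intro hw
    apply (h (k⁻¹ * w * k)).mpr
    have e : k * (k⁻¹ * w * k) * k⁻¹ = w := by group
    rwa [e]

theorem conj_mem_cen_of_mem_nor {x k a : G} (h : k ∈ nor x) (ha : a ∈ cen x) :
    k * a * k⁻¹ ∈ cen x := by
  unfold nor at h
  rw [Subgroup.mem_normalizer_iff] at h
  exact (h a).mp ha

section data

variable {Z : Subgroup G} (D : Data Z)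
include D

theorem Z_le_cen (x : G) : Z ≤ cen x := fun z hz => mem_cen.mpr (D.central z hz x)

theorem conj_mem_Z {z : G} (hz : z ∈ Z) (k : G) : k * z * k⁻¹ = z := by
  have := D.central z hz k
  calc k * z * k⁻¹ = (z * k) * k⁻¹ := by rw [this]
    _ = z := by group

theorem conj_not_mem {x : G} (hx : x ∉ Z) (k : G) : k * x * k⁻¹ ∉ Z := by
  intro h
  apply hx
  have h1 := conj_mem_Z D h k⁻¹
  have e : k⁻¹ * (k * x * k⁻¹) * k⁻¹⁻¹ = x := by group
  rw [e] at h1
  rw [h1]
  exact h

/-- (F1) the centralizer is the same for all non-central elements of a centralizer. -/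
theorem cen_eq_of_mem {x y : G} (hx : x ∉ Z) (hy : y ∈ cen x) (hyZ : y ∉ Z) : cen y = cen x := by
  rw [mem_cen] at hy
  apply le_antisymm
  · intro w hw
    rw [mem_cen] at hw ⊢
    exact D.comm y hyZ w x hw hy.symm
  · intro w hw
    rw [mem_cen] at hw ⊢
    exact D.comm x hx w y hw hy

theorem mem_nor_iff {x : G} (hx : x ∉ Z) (k : G) :
    k ∈ nor x ↔ k * x * k⁻¹ ∈ cen x := by
  constructor
  · intro h
    exact conj_mem_cen_of_mem_nor h (self_mem_cen x)
  · intro h
    exact mem_nor_of_cen_conj_eq (cen_eq_of_mem D hx h (conj_not_mem D hx k))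

theorem nor_eq_of_mem {x y : G} (hx : x ∉ Z) (hy : y ∈ cen x) (hyZ : y ∉ Z) : nor y = nor x := by
  unfold nor
  rw [cen_eq_of_mem D hx hy hyZ]

/-- Distinct centralizers meet in `Z`. -/
theorem mem_Z_of_mem_cen_of_mem_cen {x y w : G} (hx : x ∉ Z) (hy : y ∉ Z) (hne : cen x ≠ cen y)
    (hwx : w ∈ cen x) (hwy : w ∈ cen y) : w ∈ Z := by
  by_contra hw
  apply hne
  rw [← cen_eq_of_mem D hx hwx hw, cen_eq_of_mem D hy hwy hw]

/-- The class of `x`: elements conjugate into `cen x`. -/
def cls (Z : Subgroup G) (x : G) : Set G := {y | y ∉ Z ∧ ∃ k : G, cen (k * y * k⁻¹) = cen x}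

omit D in
theorem mem_cls {x y : G} : y ∈ cls Z x ↔ y ∉ Z ∧ ∃ k : G, cen (k * y * k⁻¹) = cen x := Iff.rfl

theorem mem_cls_iff {x y : G} (hx : x ∉ Z) :
    y ∈ cls Z x ↔ y ∉ Z ∧ ∃ k : G, k * y * k⁻¹ ∈ cen x := by
  rw [mem_cls]
  constructor
  · rintro ⟨hy, k, hk⟩
    refine ⟨hy, k, ?_⟩
    rw [← hk]
    exact self_mem_cen _
  · rintro ⟨hy, k, hk⟩
    exact ⟨hy, k, cen_eq_of_mem D hx hk (conj_not_mem D hy k)⟩

end data

section count

variable {Z : Subgroup G} (D : Data Z)

/-- all fibres have the same cardinality -/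
theorem card_eq_mul_of_fiber {α β : Type*} [Finite α] [Finite β] (f : α → β) (c : ℕ)
    (h : ∀ b, Nat.card {a // f a = b} = c) : Nat.card α = Nat.card β * c := by
  classical
  haveI := Fintype.ofFinite α
  haveI := Fintype.ofFinite β
  rw [Nat.card_congr (Equiv.sigmaFiberEquiv f).symm, Nat.card_sigma]
  simp only [h]
  rw [Finset.sum_const, Finset.card_univ, smul_eq_mul, Nat.card_eq_fintype_card]

include D in
/-- The counting lemma: `|cls x| * |N(C(x))| = |G| * |C(x) \ Z|`. -/
theorem card_cls_mul [Finite G] {x : G} (hx : x ∉ Z) :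
    Nat.card (cls Z x) * Nat.card (nor x) =
      Nat.card G * Nat.card {a : G // a ∈ cen x ∧ a ∉ Z} := by
  classical
  -- the map (k, a) ↦ k a k⁻¹
  have hmem : ∀ p : G × {a : G // a ∈ cen x ∧ a ∉ Z}, p.1 * p.2.1 * p.1⁻¹ ∈ cls Z x := by
    rintro ⟨k, a, ha, haZ⟩
    refine ⟨conj_not_mem D haZ k, k⁻¹, ?_⟩
    have e : k⁻¹ * (k * a * k⁻¹) * k⁻¹⁻¹ = a := by group
    rw [e]
    exact cen_eq_of_mem D hx ha haZ
  let f : G × {a : G // a ∈ cen x ∧ a ∉ Z} → cls Z x := fun p => ⟨_, hmem p⟩
  have key : ∀ b : cls Z x, Nat.card {p // f p = b} = Nat.card (nor x) := by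
    rintro ⟨y, hy, k₁, hk₁⟩
    -- a base point of the fibre
    have ha0 : k₁ * y * k₁⁻¹ ∈ cen x := by rw [← hk₁]; exact self_mem_cen _
    have ha0Z : k₁ * y * k₁⁻¹ ∉ Z := conj_not_mem D hy k₁
    set a0 : G := k₁ * y * k₁⁻¹ with ha0def
    have hy0 : y = k₁⁻¹ * a0 * k₁ := by rw [ha0def]; group
    -- bijection from nor x
    have hg : ∀ n : nor x, (n : G) * a0 * (n : G)⁻¹ ∈ cen x ∧ (n : G) * a0 * (n : G)⁻¹ ∉ Z :=
      fun n => ⟨conj_mem_cen_of_mem_nor n.2 ha0, conj_not_mem D ha0Z _⟩
    have hfib : ∀ n : nor x,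
        f (k₁⁻¹ * (n : G)⁻¹, ⟨(n : G) * a0 * (n : G)⁻¹, hg n⟩) = ⟨y, hy, k₁, hk₁⟩ := by
      intro n
      apply Subtype.ext
      change k₁⁻¹ * (n : G)⁻¹ * ((n : G) * a0 * (n : G)⁻¹) * (k₁⁻¹ * (n : G)⁻¹)⁻¹ = y
      rw [hy0]
      group
    let g : nor x → {p // f p = ⟨y, hy, k₁, hk₁⟩} := fun n => ⟨_, hfib n⟩
    have hginj : Function.Injective g := by
      intro n m hnm
      have h1 := congrArg (fun p => p.1.1) hnm
      simp only [g] at h1
      have h2 : (n : G)⁻¹ = (m : G)⁻¹ := mul_left_cancel h1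
      exact Subtype.ext (inv_injective h2)
    have hgsurj : Function.Surjective g := by
      rintro ⟨⟨k, a, ha, haZ⟩, hp⟩
      have hp' : k * a * k⁻¹ = y := congrArg Subtype.val hp
      -- n = (k₁ k)
      have hn : k₁ * k ∈ nor x := by
        have h1 : nor a = nor x := nor_eq_of_mem D hx ha haZ
        rw [← h1]
        apply mem_nor_of_cen_conj_eq
        have e : k₁ * k * a * (k₁ * k)⁻¹ = a0 := by
          rw [ha0def, ← hp']
          group
        rw [e, cen_eq_of_mem D hx ha0 ha0Z, cen_eq_of_mem D hx ha haZ]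
      refine ⟨⟨(k₁ * k)⁻¹, inv_mem hn⟩, ?_⟩
      apply Subtype.ext
      simp only [g]
      apply Prod.ext
      · simp only
        group
      · apply Subtype.ext
        simp only
        rw [ha0def, ← hp']
        group
    exact (Nat.card_congr (Equiv.ofBijective g ⟨hginj, hgsurj⟩)).symm
  have := card_eq_mul_of_fiber f (Nat.card (nor x)) key
  rw [Nat.card_prod] at this
  exact this.symm

include D in
theorem card_diff [Finite G] (x : G) :
    Nat.card {a : G // a ∈ cen x ∧ a ∉ Z} + Nat.card Z = Nat.card (cen x) := by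
  classical
  have h1 : Nat.card {a : G // a ∈ cen x ∧ a ∉ Z} =
      Nat.card {a : cen x // (a : G) ∉ Z} := by
    apply Nat.card_congr
    exact
      { toFun := fun a => ⟨⟨a.1, a.2.1⟩, a.2.2⟩
        invFun := fun a => ⟨a.1.1, a.1.2, a.2⟩
        left_inv := fun a => rfl
        right_inv := fun a => rfl }
  have h2 : Nat.card Z = Nat.card {a : cen x // (a : G) ∈ Z} := by
    apply Nat.card_congr
    exact
      { toFun := fun a => ⟨⟨a.1, Z_le_cen D x a.2⟩, a.2⟩
        invFun := fun a => ⟨a.1.1, a.2⟩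
        left_inv := fun a => rfl
        right_inv := fun a => rfl }
  rw [h1, h2]
  haveI := Fintype.ofFinite (cen x)
  rw [Nat.card_eq_fintype_card, Nat.card_eq_fintype_card, Nat.card_eq_fintype_card,
    add_comm]
  rw [Fintype.card_subtype_compl]
  have := Fintype.card_subtype_le (fun a : cen x => (a : G) ∈ Z)
  omega

end count

section classEq

variable {Z : Subgroup G} (D : Data Z)

/-- the relation on elements outside `Z` -/
def rel (Z : Subgroup G) (x y : {x : G // x ∉ Z}) : Prop :=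
  ∃ k : G, cen (k * x.1 * k⁻¹) = cen y.1

theorem rel_refl (x : {x : G // x ∉ Z}) : rel Z x x := ⟨1, by simp⟩

theorem rel_symm {x y : {x : G // x ∉ Z}} (h : rel Z x y) : rel Z y x := by
  obtain ⟨k, hk⟩ := h
  refine ⟨k⁻¹, ?_⟩
  rw [cen_conj, ← hk, ← cen_conj]
  congr 1
  group

theorem rel_trans {x y z : {x : G // x ∉ Z}} (h1 : rel Z x y) (h2 : rel Z y z) : rel Z x z := by
  obtain ⟨k, hk⟩ := h1
  obtain ⟨l, hl⟩ := h2
  refine ⟨l * k, ?_⟩
  have e : l * k * x.1 * (l * k)⁻¹ = l * (k * x.1 * k⁻¹) * l⁻¹ := by group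
  rw [e, cen_conj, hk, ← cen_conj, hl]

/-- the setoid of classes -/
def setoid (Z : Subgroup G) : Setoid {x : G // x ∉ Z} :=
  ⟨rel Z, ⟨rel_refl, rel_symm, rel_trans⟩⟩

theorem card_compl [Finite G] (Z : Subgroup G) :
    Nat.card G = Nat.card Z + Nat.card {x : G // x ∉ Z} := by
  classical
  haveI := Fintype.ofFinite G
  rw [Nat.card_eq_fintype_card, Nat.card_eq_fintype_card, Nat.card_eq_fintype_card]
  have h1 := Fintype.card_subtype_compl (fun a : G => a ∈ Z)
  have h2 := Fintype.card_subtype_le (fun a : G => a ∈ Z)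
  have h3 : Fintype.card {x : G // x ∈ Z} = Fintype.card Z := Fintype.card_congr (Equiv.refl _)
  omega

/-- The class equation. -/
theorem class_equation [Finite G] (Z : Subgroup G) :
    ∃ (ι : Type u) (_ : Fintype ι) (rep : ι → G), (∀ i, rep i ∉ Z) ∧
      (∀ x, x ∉ Z → ∃ i, x ∈ cls Z (rep i)) ∧
      (∀ i j, rep i ∈ cls Z (rep j) → i = j) ∧
      Nat.card G = Nat.card Z + ∑ i, Nat.card (cls Z (rep i)) := by
  classical
  let s := setoid Z
  haveI : Finite (Quotient s) := Quotient.finite s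
  haveI : Fintype (Quotient s) := Fintype.ofFinite _
  refine ⟨Quotient s, inferInstance, fun i => (Quotient.out i).1, fun i => (Quotient.out i).2,
    ?_, ?_, ?_⟩
  · intro x hx
    refine ⟨Quotient.mk s ⟨x, hx⟩, hx, ?_⟩
    have h1 : Quotient.out (Quotient.mk s ⟨x, hx⟩) ≈ ⟨x, hx⟩ := Quotient.mk_out _
    exact rel_symm h1
  · intro i j h
    have h1 : rel Z (Quotient.out i) (Quotient.out j) := h.2
    have h2 : Quotient.mk s (Quotient.out i) = Quotient.mk s (Quotient.out j) := Quotient.sound h1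
    rwa [Quotient.out_eq, Quotient.out_eq] at h2
  · rw [card_compl Z]
    congr 1
    rw [Nat.card_congr (Equiv.sigmaFiberEquiv (Quotient.mk s)).symm, Nat.card_sigma]
    apply Finset.sum_congr rfl
    intro i _
    apply Nat.card_congr
    have hiff : ∀ x : {x : G // x ∉ Z}, Quotient.mk s x = i ↔ rel Z x (Quotient.out i) := by
      intro x
      constructor
      · intro h
        have h1 : Quotient.mk s x = Quotient.mk s (Quotient.out i) := by rw [Quotient.out_eq, h]
        exact Quotient.exact h1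
      · intro h
        have h2 : Quotient.mk s x = Quotient.mk s (Quotient.out i) := Quotient.sound h
        rwa [Quotient.out_eq] at h2
    exact
      { toFun := fun x => ⟨x.1.1, x.1.2, (hiff x.1).mp x.2⟩
        invFun := fun y => ⟨⟨y.1, y.2.1⟩, (hiff _).mpr y.2.2⟩
        left_inv := fun x => rfl
        right_inv := fun y => rfl }

include D in
/-- The size of a class. -/
theorem card_cls [Finite G] {x : G} (hx : x ∉ Z) :
    Nat.card (cls Z x) = (nor x).index * (Nat.card (cen x) - Nat.card Z) := by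
  have h1 := card_cls_mul D hx
  have h2 := card_diff D x
  have h3 : (nor x).index * Nat.card (nor x) = Nat.card G := Subgroup.index_mul_card _
  have hpos : 0 < Nat.card (nor x) := Nat.card_pos
  have h4 : Nat.card {a : G // a ∈ cen x ∧ a ∉ Z} = Nat.card (cen x) - Nat.card Z := by omega
  rw [← h4]
  rw [← h3] at h1
  have h5 : Nat.card (cls Z x) * Nat.card (nor x) =
      (nor x).index * Nat.card {a : G // a ∈ cen x ∧ a ∉ Z} * Nat.card (nor x) := by
    rw [h1]; ring
  exact Nat.eq_of_mul_eq_mul_right hpos h5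

end classEq

end Cfsg.Agent.Helper98.CT
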