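import Mathlib

set_option autoImplicit false
set_option linter.unusedSectionVars false
set_option linter.unusedVariables false
set_option linter.style.haveILetI false

/-!
# The arithmetic of the class equation (order prime to the characteristic)
-/

namespace Cfsg.Agent.Helper98.CTNum

theorem prod_facts {N a : ℕ} (ha : 2 ≤ a) :
    (2 * N ≤ N * a ∧ (N = 0 → N * a = 0)) ∧ N * (a - 1) = N * a - N := by
  refine ⟨⟨?_, ?_⟩, ?_⟩
  · have := Nat.mul_le_mul_left N ha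
    omega
  · intro h0
    rw [h0, zero_mul]
  · exact Nat.mul_sub_one N a

theorem three_n1 (h P1 P2 P3 N1 N2 N3 n2 n3 : ℕ) (hn2 : n2 = 1 ∨ n2 = 2) (hn3 : n3 = 1 ∨ n3 = 2)
    (h1 : P1 = h) (h2 : n2 * P2 = h) (h3 : n3 * P3 = h) (b1 : 2 * N1 ≤ P1) (b2 : 2 * N2 ≤ P2)
    (b3 : 2 * N3 ≤ P3) (heq : h = 1 + ((P1 - N1) + (P2 - N2) + (P3 - N3))) : False := by
  rcases hn2 with rfl | rfl <;> rcases hn3 with rfl | rfl <;> omega

theorem one_class (h a n N : ℕ) (ha : 2 ≤ a) (hn : n = 1 ∨ n = 2) (h1 : N * n * a = h)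
    (heq : h = 1 + N * (a - 1)) : N = 1 := by
  obtain ⟨⟨hP, hZ⟩, hT⟩ := prod_facts (N := N) ha
  rw [hT] at heq
  have e1 : N * n * a = n * (N * a) := by ring
  rw [e1] at h1
  generalize N * a = P at *
  rcases hn with rfl | rfl <;> omega

theorem two_class (h a1 a2 n1 n2 N1 N2 : ℕ) (ha1 : 2 ≤ a1) (ha2 : 2 ≤ a2)
    (hn1 : n1 = 1 ∨ n1 = 2) (hn2 : n2 = 1 ∨ n2 = 2) (h1 : N1 * n1 * a1 = h)
    (h2 : N2 * n2 * a2 = h) (heq : h = 1 + (N1 * (a1 - 1) + N2 * (a2 - 1))) :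
    N1 = 1 ∨ N2 = 1 ∨ (h = 12 ∧ (a1 = 2 ∨ a1 = 3) ∧ (a2 = 2 ∨ a2 = 3)) := by
  obtain ⟨⟨hP1, hZ1⟩, hT1⟩ := prod_facts (N := N1) ha1
  obtain ⟨⟨hP2, hZ2⟩, hT2⟩ := prod_facts (N := N2) ha2
  rw [hT1, hT2] at heq
  have e1 : N1 * n1 * a1 = n1 * (N1 * a1) := by ring
  have e2 : N2 * n2 * a2 = n2 * (N2 * a2) := by ring
  rw [e1] at h1
  rw [e2] at h2
  -- case split on the a's
  have c1 : (a1 = 2 ∧ N1 * a1 = 2 * N1) ∨ (a1 = 3 ∧ N1 * a1 = 3 * N1) ∨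
      (4 ≤ a1 ∧ 4 * N1 ≤ N1 * a1) := by
    rcases (by omega : a1 = 2 ∨ a1 = 3 ∨ 4 ≤ a1) with r | r | r
    · left; subst r; exact ⟨rfl, by ring⟩
    · right; left; subst r; exact ⟨rfl, by ring⟩
    · right; right
      exact ⟨r, by have := Nat.mul_le_mul_left N1 r; omega⟩
  have c2 : (a2 = 2 ∧ N2 * a2 = 2 * N2) ∨ (a2 = 3 ∧ N2 * a2 = 3 * N2) ∨
      (4 ≤ a2 ∧ 4 * N2 ≤ N2 * a2) := by
    rcases (by omega : a2 = 2 ∨ a2 = 3 ∨ 4 ≤ a2) with r | r | r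
    · left; subst r; exact ⟨rfl, by ring⟩
    · right; left; subst r; exact ⟨rfl, by ring⟩
    · right; right
      exact ⟨r, by have := Nat.mul_le_mul_left N2 r; omega⟩
  generalize N1 * a1 = P1 at *
  generalize N2 * a2 = P2 at *
  rcases hn1 with rfl | rfl <;> rcases hn2 with rfl | rfl
  · omega
  · rcases c1 with ⟨r1, s1⟩ | ⟨r1, s1⟩ | ⟨r1, s1⟩
    · right; left; omega
    · rcases c2 with ⟨r2, s2⟩ | ⟨r2, s2⟩ | ⟨r2, s2⟩
      · right; right; omega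
      · omega
      · omega
    · omega
  · rcases c2 with ⟨r2, s2⟩ | ⟨r2, s2⟩ | ⟨r2, s2⟩
    · left; omega
    · rcases c1 with ⟨r1, s1⟩ | ⟨r1, s1⟩ | ⟨r1, s1⟩
      · right; right; omega
      · omega
      · omega
    · omega
  · omega

/-- three classes, all with `n = 2`, sorted -/
theorem three_sorted (h a1 a2 a3 N1 N2 N3 : ℕ) (ha1 : 2 ≤ a1) (h12 : a1 ≤ a2) (h23 : a2 ≤ a3)
    (h1 : N1 * 2 * a1 = h) (h2 : N2 * 2 * a2 = h) (h3 : N3 * 2 * a3 = h)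
    (heq : h = 1 + (N1 * (a1 - 1) + N2 * (a2 - 1) + N3 * (a3 - 1))) :
    N3 = 1 ∨ (h = 12 ∧ a1 = 2 ∧ a2 = 3 ∧ a3 = 3) ∨ (h = 24 ∧ a1 = 2 ∧ a2 = 3 ∧ a3 = 4) ∨
      (h = 60 ∧ a1 = 2 ∧ a2 = 3 ∧ a3 = 5) := by
  have ha2 : 2 ≤ a2 := le_trans ha1 h12
  have ha3 : 2 ≤ a3 := le_trans ha2 h23
  obtain ⟨⟨hP1, hZ1⟩, hT1⟩ := prod_facts (N := N1) ha1
  obtain ⟨⟨hP2, hZ2⟩, hT2⟩ := prod_facts (N := N2) ha2
  obtain ⟨⟨hP3, hZ3⟩, hT3⟩ := prod_facts (N := N3) ha3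
  rw [hT1, hT2, hT3] at heq
  have e1 : N1 * 2 * a1 = 2 * (N1 * a1) := by ring
  have e2 : N2 * 2 * a2 = 2 * (N2 * a2) := by ring
  have e3 : N3 * 2 * a3 = 2 * (N3 * a3) := by ring
  rw [e1] at h1
  rw [e2] at h2
  rw [e3] at h3
  -- a1 = 2
  have ha1' : a1 = 2 := by
    by_contra hne
    have r1 : 3 ≤ a1 := by omega
    have r2 : 3 ≤ a2 := by omega
    have r3 : 3 ≤ a3 := by omega
    have s1 := Nat.mul_le_mul_left N1 r1
    have s2 := Nat.mul_le_mul_left N2 r2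
    have s3 := Nat.mul_le_mul_left N3 r3
    omega
  subst ha1'
  rcases (by omega : a2 = 2 ∨ a2 = 3 ∨ 4 ≤ a2) with r | r | r
  · subst r
    left
    omega
  · subst r
    right
    have hb : a3 < 6 := by
      by_contra hge
      have r3 : 6 ≤ a3 := by omega
      have s3 := Nat.mul_le_mul_left N3 r3
      omega
    interval_cases a3 <;> omega
  · exfalso
    have r3 : 4 ≤ a3 := by omega
    have s2 := Nat.mul_le_mul_left N2 r
    have s3 := Nat.mul_le_mul_left N3 r3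
    omega

/-- the conclusion for three classes -/
def Concl3 (h a1 a2 a3 n1 n2 n3 N1 N2 N3 : ℕ) : Prop :=
  (N1 = 1 ∨ N2 = 1 ∨ N3 = 1) ∨
    (h = 12 ∧ (a1 = 2 ∨ a1 = 3) ∧ (a2 = 2 ∨ a2 = 3) ∧ (a3 = 2 ∨ a3 = 3)) ∨
    (h = 24 ∧ n1 = 2 ∧ n2 = 2 ∧ n3 = 2 ∧ (a1 = 2 ∨ a1 = 3 ∨ a1 = 4) ∧
      (a2 = 2 ∨ a2 = 3 ∨ a2 = 4) ∧ (a3 = 2 ∨ a3 = 3 ∨ a3 = 4)) ∨
    (h = 60 ∧ n1 = 2 ∧ n2 = 2 ∧ n3 = 2 ∧ (a1 = 2 ∨ a1 = 3 ∨ a1 = 5) ∧
      (a2 = 2 ∨ a2 = 3 ∨ a2 = 5) ∧ (a3 = 2 ∨ a3 = 3 ∨ a3 = 5) ∧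
      (a1 = 3 ∨ a2 = 3 ∨ a3 = 3) ∧ (a1 = 5 ∨ a2 = 5 ∨ a3 = 5))

theorem concl_of_sorted {h a1 a2 a3 N1 N2 N3 : ℕ}
    (H : N3 = 1 ∨ (h = 12 ∧ a1 = 2 ∧ a2 = 3 ∧ a3 = 3) ∨ (h = 24 ∧ a1 = 2 ∧ a2 = 3 ∧ a3 = 4) ∨
      (h = 60 ∧ a1 = 2 ∧ a2 = 3 ∧ a3 = 5)) : Concl3 h a1 a2 a3 2 2 2 N1 N2 N3 := by
  unfold Concl3
  rcases H with r | ⟨r0, r1, r2, r3⟩ | ⟨r0, r1, r2, r3⟩ | ⟨r0, r1, r2, r3⟩
  · exact Or.inl (Or.inr (Or.inr r))
  · subst r0 r1 r2 r3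
    exact Or.inr (Or.inl ⟨rfl, Or.inl rfl, Or.inr rfl, Or.inr rfl⟩)
  · subst r0 r1 r2 r3
    exact Or.inr (Or.inr (Or.inl ⟨rfl, rfl, rfl, rfl, Or.inl rfl, Or.inr (Or.inl rfl),
      Or.inr (Or.inr rfl)⟩))
  · subst r0 r1 r2 r3
    exact Or.inr (Or.inr (Or.inr ⟨rfl, rfl, rfl, rfl, Or.inl rfl, Or.inr (Or.inl rfl),
      Or.inr (Or.inr rfl), Or.inr (Or.inl rfl), Or.inr (Or.inr rfl)⟩))

theorem concl_swap12 {h a1 a2 a3 n1 n2 n3 N1 N2 N3 : ℕ}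
    (H : Concl3 h a1 a2 a3 n1 n2 n3 N1 N2 N3) : Concl3 h a2 a1 a3 n2 n1 n3 N2 N1 N3 := by
  unfold Concl3 at H ⊢
  rcases H with r | ⟨r0, r1, r2, r3⟩ | ⟨r0, m1, m2, m3, r1, r2, r3⟩ |
    ⟨r0, m1, m2, m3, r1, r2, r3, r4, r5⟩
  · exact Or.inl (by tauto)
  · exact Or.inr (Or.inl ⟨r0, r2, r1, r3⟩)
  · exact Or.inr (Or.inr (Or.inl ⟨r0, m2, m1, m3, r2, r1, r3⟩))
  · exact Or.inr (Or.inr (Or.inr ⟨r0, m2, m1, m3, r2, r1, r3, by tauto, by tauto⟩))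

theorem concl_swap23 {h a1 a2 a3 n1 n2 n3 N1 N2 N3 : ℕ}
    (H : Concl3 h a1 a2 a3 n1 n2 n3 N1 N2 N3) : Concl3 h a1 a3 a2 n1 n3 n2 N1 N3 N2 := by
  unfold Concl3 at H ⊢
  rcases H with r | ⟨r0, r1, r2, r3⟩ | ⟨r0, m1, m2, m3, r1, r2, r3⟩ |
    ⟨r0, m1, m2, m3, r1, r2, r3, r4, r5⟩
  · exact Or.inl (by tauto)
  · exact Or.inr (Or.inl ⟨r0, r1, r3, r2⟩)
  · exact Or.inr (Or.inr (Or.inl ⟨r0, m1, m3, m2, r1, r3, r2⟩))
  · exact Or.inr (Or.inr (Or.inr ⟨r0, m1, m3, m2, r1, r3, r2, by tauto, by tauto⟩))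

theorem concl_swap13 {h a1 a2 a3 n1 n2 n3 N1 N2 N3 : ℕ}
    (H : Concl3 h a1 a2 a3 n1 n2 n3 N1 N2 N3) : Concl3 h a3 a2 a1 n3 n2 n1 N3 N2 N1 := by
  unfold Concl3 at H ⊢
  rcases H with r | ⟨r0, r1, r2, r3⟩ | ⟨r0, m1, m2, m3, r1, r2, r3⟩ |
    ⟨r0, m1, m2, m3, r1, r2, r3, r4, r5⟩
  · exact Or.inl (by tauto)
  · exact Or.inr (Or.inl ⟨r0, r3, r2, r1⟩)
  · exact Or.inr (Or.inr (Or.inl ⟨r0, m3, m2, m1, r3, r2, r1⟩))
  · exact Or.inr (Or.inr (Or.inr ⟨r0, m3, m2, m1, r3, r2, r1, by tauto, by tauto⟩))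

theorem three_class (h a1 a2 a3 n1 n2 n3 N1 N2 N3 : ℕ) (ha1 : 2 ≤ a1) (ha2 : 2 ≤ a2)
    (ha3 : 2 ≤ a3) (hn1 : n1 = 1 ∨ n1 = 2) (hn2 : n2 = 1 ∨ n2 = 2) (hn3 : n3 = 1 ∨ n3 = 2)
    (h1 : N1 * n1 * a1 = h) (h2 : N2 * n2 * a2 = h) (h3 : N3 * n3 * a3 = h)
    (heq : h = 1 + (N1 * (a1 - 1) + N2 * (a2 - 1) + N3 * (a3 - 1))) :
    Concl3 h a1 a2 a3 n1 n2 n3 N1 N2 N3 := by
  -- all n are 2
  have hall : n1 = 2 ∧ n2 = 2 ∧ n3 = 2 := by
    obtain ⟨⟨hP1, -⟩, hT1⟩ := prod_facts (N := N1) ha1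
    obtain ⟨⟨hP2, -⟩, hT2⟩ := prod_facts (N := N2) ha2
    obtain ⟨⟨hP3, -⟩, hT3⟩ := prod_facts (N := N3) ha3
    rw [hT1, hT2, hT3] at heq
    have e1 : N1 * n1 * a1 = n1 * (N1 * a1) := by ring
    have e2 : N2 * n2 * a2 = n2 * (N2 * a2) := by ring
    have e3 : N3 * n3 * a3 = n3 * (N3 * a3) := by ring
    rw [e1] at h1
    rw [e2] at h2
    rw [e3] at h3
    refine ⟨?_, ?_, ?_⟩
    · rcases hn1 with r | r
      · exfalso
        subst r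
        exact three_n1 h _ _ _ N1 N2 N3 n2 n3 hn2 hn3 (by omega) h2 h3 hP1 hP2 hP3 heq
      · exact r
    · rcases hn2 with r | r
      · exfalso
        subst r
        exact three_n1 h _ _ _ N2 N1 N3 n1 n3 hn1 hn3 (by omega) h1 h3 hP2 hP1 hP3 (by omega)
      · exact r
    · rcases hn3 with r | r
      · exfalso
        subst r
        exact three_n1 h _ _ _ N3 N1 N2 n1 n2 hn1 hn2 (by omega) h1 h2 hP3 hP1 hP2 (by omega)
      · exact r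
  obtain ⟨rfl, rfl, rfl⟩ := hall
  rcases le_total a1 a2 with h12 | h12 <;> rcases le_total a2 a3 with h23 | h23 <;>
    rcases le_total a1 a3 with h13 | h13
  · exact concl_of_sorted (three_sorted h a1 a2 a3 N1 N2 N3 ha1 h12 h23 h1 h2 h3 heq)
  · exact concl_of_sorted (three_sorted h a1 a2 a3 N1 N2 N3 ha1 h12 h23 h1 h2 h3 heq)
  · exact concl_swap23 (concl_of_sorted
      (three_sorted h a1 a3 a2 N1 N3 N2 ha1 h13 h23 h1 h3 h2 (by omega)))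
  · exact concl_swap23 (concl_swap12 (concl_of_sorted
      (three_sorted h a3 a1 a2 N3 N1 N2 ha3 h13 h12 h3 h1 h2 (by omega))))
  · exact concl_swap12 (concl_of_sorted
      (three_sorted h a2 a1 a3 N2 N1 N3 ha2 h12 h13 h2 h1 h3 (by omega)))
  · exact concl_swap12 (concl_swap23 (concl_of_sorted
      (three_sorted h a2 a3 a1 N2 N3 N1 ha2 h23 h13 h2 h3 h1 (by omega))))
  · exact concl_swap13 (concl_of_sorted
      (three_sorted h a3 a2 a1 N3 N2 N1 ha3 h23 h12 h3 h2 h1 (by omega)))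
  · exact concl_swap13 (concl_of_sorted
      (three_sorted h a3 a2 a1 N3 N2 N1 ha3 h23 h12 h3 h2 h1 (by omega)))

/-- each term is at least a quarter of `h` -/
theorem term_ge {h a n N : ℕ} (ha : 2 ≤ a) (hn : n = 1 ∨ n = 2) (h1 : N * n * a = h) :
    h ≤ 4 * (N * (a - 1)) := by
  obtain ⟨⟨hP, hZ⟩, hT⟩ := prod_facts (N := N) ha
  rw [hT]
  have e1 : N * n * a = n * (N * a) := by ring
  rw [e1] at h1
  generalize N * a = P at *
  rcases hn with rfl | rfl <;> omega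

/-- The arithmetic of the class equation when all `n i ≤ 2`. -/
theorem core {ι : Type*} [Fintype ι] (h : ℕ) (a n N : ι → ℕ) (ha : ∀ i, 2 ≤ a i)
    (hn : ∀ i, n i = 1 ∨ n i = 2) (hN : ∀ i, N i * n i * a i = h)
    (heq : h = 1 + ∑ i, N i * (a i - 1)) :
    h = 1 ∨ (∃ i, N i = 1) ∨ (h = 12 ∧ ∀ i, a i = 2 ∨ a i = 3) ∨
      (h = 24 ∧ ∀ i, n i = 2 ∧ (a i = 2 ∨ a i = 3 ∨ a i = 4)) ∨
      (h = 60 ∧ (∀ i, n i = 2 ∧ (a i = 2 ∨ a i = 3 ∨ a i = 5)) ∧ (∃ i, a i = 3) ∧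
        (∃ i, a i = 5)) := by
  classical
  have hcard : Fintype.card ι ≤ 3 := by
    by_contra hc
    have h4 : 4 ≤ Fintype.card ι := by omega
    have hsum : Fintype.card ι * h ≤ 4 * ∑ i, N i * (a i - 1) := by
      rw [Finset.mul_sum]
      calc Fintype.card ι * h = ∑ _i : ι, h := by
            rw [Finset.sum_const, Finset.card_univ, smul_eq_mul]
        _ ≤ ∑ i, 4 * (N i * (a i - 1)) :=
            Finset.sum_le_sum (fun i _ => term_ge (ha i) (hn i) (hN i))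
    have : 4 * h ≤ Fintype.card ι * h := Nat.mul_le_mul_right h h4
    omega
  have hcases : Fintype.card ι = 0 ∨ Fintype.card ι = 1 ∨ Fintype.card ι = 2 ∨
      Fintype.card ι = 3 := by omega
  rcases hcases with hc | hc | hc | hc
  · left
    rw [← Finset.card_univ, Finset.card_eq_zero] at hc
    rw [hc, Finset.sum_empty] at heq
    exact heq
  · right; left
    rw [← Finset.card_univ, Finset.card_eq_one] at hc
    obtain ⟨x, hx⟩ := hc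
    rw [hx, Finset.sum_singleton] at heq
    exact ⟨x, one_class h (a x) (n x) (N x) (ha x) (hn x) (hN x) heq⟩
  · rw [← Finset.card_univ, Finset.card_eq_two] at hc
    obtain ⟨x, y, hxy, hu⟩ := hc
    rw [hu, Finset.sum_pair hxy] at heq
    have hall : ∀ i, i = x ∨ i = y := by
      intro i
      have : i ∈ (Finset.univ : Finset ι) := Finset.mem_univ i
      rw [hu] at this
      simpa using this
    rcases two_class h (a x) (a y) (n x) (n y) (N x) (N y) (ha x) (ha y) (hn x) (hn y) (hN x)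
      (hN y) heq with r | r | ⟨r1, r2, r3⟩
    · right; left; exact ⟨x, r⟩
    · right; left; exact ⟨y, r⟩
    · right; right; left
      refine ⟨r1, fun i => ?_⟩
      rcases hall i with rfl | rfl
      · exact r2
      · exact r3
  · rw [← Finset.card_univ, Finset.card_eq_three] at hc
    obtain ⟨x, y, z, hxy, hxz, hyz, hu⟩ := hc
    have hsum : ∑ i, N i * (a i - 1) =
        N x * (a x - 1) + N y * (a y - 1) + N z * (a z - 1) := by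
      rw [hu, Finset.sum_insert (by simp [hxy, hxz]), Finset.sum_pair hyz]
      ring
    rw [hsum] at heq
    have hall : ∀ i, i = x ∨ i = y ∨ i = z := by
      intro i
      have : i ∈ (Finset.univ : Finset ι) := Finset.mem_univ i
      rw [hu] at this
      simpa using this
    have := three_class h (a x) (a y) (a z) (n x) (n y) (n z) (N x) (N y) (N z) (ha x) (ha y)
      (ha z) (hn x) (hn y) (hn z) (hN x) (hN y) (hN z) heq
    unfold Concl3 at this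
    rcases this with (r | r | r) | ⟨r0, r1, r2, r3⟩ | ⟨r0, m1, m2, m3, r1, r2, r3⟩ |
      ⟨r0, m1, m2, m3, r1, r2, r3, r4, r5⟩
    · right; left; exact ⟨x, r⟩
    · right; left; exact ⟨y, r⟩
    · right; left; exact ⟨z, r⟩
    · right; right; left
      refine ⟨r0, fun i => ?_⟩
      rcases hall i with rfl | rfl | rfl
      · exact r1
      · exact r2
      · exact r3
    · right; right; right; left
      refine ⟨r0, fun i => ?_⟩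
      rcases hall i with rfl | rfl | rfl
      · exact ⟨m1, r1⟩
      · exact ⟨m2, r2⟩
      · exact ⟨m3, r3⟩
    · right; right; right; right
      refine ⟨r0, fun i => ?_, ?_, ?_⟩
      · rcases hall i with rfl | rfl | rfl
        · exact ⟨m1, r1⟩
        · exact ⟨m2, r2⟩
        · exact ⟨m3, r3⟩
      · rcases r4 with r | r | r
        · exact ⟨x, r⟩
        · exact ⟨y, r⟩
        · exact ⟨z, r⟩
      · rcases r5 with r | r | r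
        · exact ⟨x, r⟩
        · exact ⟨y, r⟩
        · exact ⟨z, r⟩

end Cfsg.Agent.Helper98.CTNum
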