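import Cfsg.Agent.Lib.Helper98.CTGroup
import Cfsg.Agent.Lib.Helper98.CTNum
import Cfsg.Agent.S0206
import Cfsg.Agent.S0228
import Cfsg.Agent.S1012
import Cfsg.Agent.S3378

set_option autoImplicit false
set_option linter.unusedSectionVars false
set_option linter.unusedVariables false
set_option linter.style.haveILetI false

/-!
# The structure of `G / Z` when every class is "semisimple"
-/

namespace Cfsg.Agent.Helper98.CT

open scoped commutatorElement

universe u v

variable {G : Type u} [Group G] {Z : Subgroup G}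

/-- the inversion property at `x` -/
def Inv (x : G) : Prop :=
  ∀ y : G, y * x * y⁻¹ ∈ cen x → y * x * y⁻¹ = x ∨ y * x * y⁻¹ = x⁻¹

theorem card_eq_relIndex_mul {H K : Subgroup G} (h : H ≤ K) :
    Nat.card K = H.relIndex K * Nat.card H := by
  have h1 := (H.subgroupOf K).card_mul_index
  have h2 : Nat.card (H.subgroupOf K) = Nat.card H :=
    Nat.card_congr (Subgroup.subgroupOfEquivOfLe h).toEquiv
  rw [h2] at h1
  rw [← h1, Subgroup.relIndex, mul_comm]

theorem conj_eq_inv_of_not_mem_cen (D : Data Z) {x y : G} (hx : x ∉ Z) (hI : Inv x)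
    (hy : y ∈ nor x) (hyc : y ∉ cen x) : y * x * y⁻¹ = x⁻¹ := by
  rcases hI y ((mem_nor_iff D hx y).mp hy) with h | h
  · exfalso
    apply hyc
    rw [mem_cen]
    calc y * x = (y * x * y⁻¹) * y := by group
      _ = x * y := by rw [h]
  · exact h

theorem card_nor (D : Data Z) [Finite G] {x : G} (hx : x ∉ Z) (hI : Inv x) :
    Nat.card (nor x) = Nat.card (cen x) ∨ Nat.card (nor x) = 2 * Nat.card (cen x) := by
  by_cases h : nor x ≤ cen x
  · left
    rw [le_antisymm h (cen_le_nor x)]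
  · right
    obtain ⟨y0, hy0, hy0c⟩ := SetLike.not_le_iff_exists.mp h
    have h2 : (cen x).relIndex (nor x) = 2 := by
      rw [Subgroup.relIndex, Subgroup.index_eq_two_iff]
      refine ⟨⟨y0, hy0⟩, fun b => ?_⟩
      rw [Subgroup.mem_subgroupOf, Subgroup.mem_subgroupOf]
      by_cases hb : (b : G) ∈ cen x
      · right
        refine ⟨hb, fun hby => hy0c ?_⟩
        have : y0 = (b : G)⁻¹ * ((b : G) * y0) := by group
        rw [this]
        exact mul_mem (inv_mem hb) hby
      · left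
        refine ⟨?_, hb⟩
        have e1 := conj_eq_inv_of_not_mem_cen D hx hI b.2 hb
        have e2 := conj_eq_inv_of_not_mem_cen D hx hI hy0 hy0c
        change (b : G) * y0 ∈ cen x
        rw [mem_cen]
        have : (b : G) * y0 * x * ((b : G) * y0)⁻¹ = x := by
          calc (b : G) * y0 * x * ((b : G) * y0)⁻¹
              = (b : G) * (y0 * x * y0⁻¹) * (b : G)⁻¹ := by group
            _ = (b : G) * x⁻¹ * (b : G)⁻¹ := by rw [e2]
            _ = ((b : G) * x * (b : G)⁻¹)⁻¹ := by group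
            _ = x := by rw [e1, inv_inv]
        calc (b : G) * y0 * x = ((b : G) * y0 * x * ((b : G) * y0)⁻¹) * ((b : G) * y0) := by
              group
          _ = x * ((b : G) * y0) := by rw [this]
    rw [card_eq_relIndex_mul (cen_le_nor x), h2]

theorem sq_mem_Z (D : Data Z) {x y : G} (hx : x ∉ Z) (hI : Inv x) (hy : y ∈ nor x)
    (hyc : y ∉ cen x) : y * y ∈ Z := by
  by_contra hyy
  have e := conj_eq_inv_of_not_mem_cen D hx hI hy hyc
  have h1 : y * y ∈ cen x := by
    rw [mem_cen]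
    have : y * y * x * (y * y)⁻¹ = x := by
      calc y * y * x * (y * y)⁻¹ = y * (y * x * y⁻¹) * y⁻¹ := by group
        _ = y * x⁻¹ * y⁻¹ := by rw [e]
        _ = (y * x * y⁻¹)⁻¹ := by group
        _ = x := by rw [e, inv_inv]
    calc y * y * x = (y * y * x * (y * y)⁻¹) * (y * y) := by group
      _ = x * (y * y) := by rw [this]
  have h2 := cen_eq_of_mem D hx h1 hyy
  apply hyc
  rw [← h2, mem_cen]
  group

theorem inverts_all (D : Data Z) {x y c : G} (hx : x ∉ Z) (hc : c ∈ cen x) (hcZ : c ∉ Z)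
    (hI : Inv c) (hy : y ∈ nor x) (hyc : y ∉ cen x) : y * c * y⁻¹ = c⁻¹ := by
  have h1 := cen_eq_of_mem D hx hc hcZ
  have h2 := nor_eq_of_mem D hx hc hcZ
  exact conj_eq_inv_of_not_mem_cen D hcZ hI (h2 ▸ hy) (h1 ▸ hyc)

theorem map_pow_eq_one {Hb : Type v} [Group Hb] [Finite G] (D : Data Z) (φ : G →* Hb)
    (hker : φ.ker = Z) {x : G} {a : ℕ} (ha : Nat.card (cen x) = a * Nat.card Z) {c : G}
    (hc : c ∈ cen x) : φ c ^ a = 1 := by
  let ψ : cen x →* Hb := φ.comp (cen x).subtype
  have hk : Nat.card ψ.ker = Nat.card Z := by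
    apply Nat.card_congr
    exact
      { toFun := fun w => ⟨w.1.1, by
          rw [← hker, MonoidHom.mem_ker]
          exact w.2⟩
        invFun := fun z => ⟨⟨z.1, Z_le_cen D x z.2⟩, by
          rw [MonoidHom.mem_ker]
          change φ z.1 = 1
          rw [← MonoidHom.mem_ker, hker]
          exact z.2⟩
        left_inv := fun w => rfl
        right_inv := fun z => rfl }
  have h1 := ψ.ker.card_mul_index
  rw [Subgroup.index_ker, hk, ha] at h1
  have hz : 0 < Nat.card Z := Nat.card_pos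
  have h2 : Nat.card ψ.range = a := by
    apply Nat.eq_of_mul_eq_mul_left hz
    rw [h1]
    ring
  have h3 : (⟨ψ ⟨c, hc⟩, ⟨_, rfl⟩⟩ : ψ.range) ^ a = 1 := by
    rw [← h2]
    exact pow_card_eq_one'
  have h4 : (ψ ⟨c, hc⟩) ^ a = 1 := by
    have := congrArg Subtype.val h3
    simpa using this
  exact h4


theorem n_eq_of_inv [Finite G] (D : Data Z) {x : G} (hx : x ∉ Z) (hI : Inv x) {n : ℕ}
    (hn : Nat.card (nor x) = n * Nat.card (cen x)) : n = 1 ∨ n = 2 := by
  have hc : 0 < Nat.card (cen x) := Nat.card_pos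
  rcases card_nor D hx hI with h | h
  · left
    rw [h] at hn
    have : 1 * Nat.card (cen x) = n * Nat.card (cen x) := by rw [one_mul]; exact hn
    exact (Nat.eq_of_mul_eq_mul_right hc this).symm
  · right
    rw [h] at hn
    exact (Nat.eq_of_mul_eq_mul_right hc hn).symm

/-- the data extracted from the class equation -/
theorem class_data0 [Finite G] {Hb : Type v} [Group Hb] (D : Data Z) (φ : G →* Hb)
    (hφ : Function.Surjective φ) (hker : φ.ker = Z) :
    ∃ (ι : Type u) (_ : Fintype ι) (rep : ι → G) (a n N : ι → ℕ), (∀ i, rep i ∉ Z) ∧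
      (∀ x, x ∉ Z → ∃ i, x ∈ cls Z (rep i)) ∧
      (∀ i j, rep i ∈ cls Z (rep j) → i = j) ∧
      (∀ i, Nat.card (cen (rep i)) = a i * Nat.card Z) ∧
      (∀ i, Nat.card (nor (rep i)) = n i * Nat.card (cen (rep i))) ∧
      (∀ i, N i = (nor (rep i)).index) ∧
      (∀ i, Nat.card (cls Z (rep i)) = N i * (a i - 1) * Nat.card Z) ∧
      (∀ i, 2 ≤ a i) ∧
      (∀ i, N i * n i * a i = Nat.card Hb) ∧
      Nat.card G = Nat.card Z * Nat.card Hb ∧
      Nat.card Hb = 1 + ∑ i, N i * (a i - 1) := by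
  classical
  obtain ⟨ι, hι, rep, hrepZ, hcover, hdist, hce⟩ := class_equation Z
  have hz : 0 < Nat.card Z := Nat.card_pos
  have hGH : Nat.card G = Nat.card Z * Nat.card Hb := by
    have h1 := φ.ker.card_mul_index
    rw [Subgroup.index_ker, hker] at h1
    rw [← h1]
    congr 1
    have : φ.range = ⊤ := MonoidHom.range_eq_top.mpr hφ
    rw [this]
    exact Nat.card_congr Subgroup.topEquiv.toEquiv
  have hdvd : ∀ i, Nat.card Z ∣ Nat.card (cen (rep i)) := fun i =>
    Subgroup.card_dvd_of_le (Z_le_cen D (rep i))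
  have hcpos : ∀ i, 0 < Nat.card (cen (rep i)) := fun i => Nat.card_pos
  have ha : ∀ i, Nat.card (cen (rep i)) = (Nat.card (cen (rep i)) / Nat.card Z) * Nat.card Z :=
    fun i => (Nat.div_mul_cancel (hdvd i)).symm
  have ha2 : ∀ i, 2 ≤ Nat.card (cen (rep i)) / Nat.card Z := by
    intro i
    by_contra hlt
    have hai := ha i
    have hci := hcpos i
    obtain ⟨A, hA⟩ : ∃ A, A = Nat.card (cen (rep i)) / Nat.card Z := ⟨_, rfl⟩
    rw [← hA] at hlt hai
    have h01 : A = 0 ∨ A = 1 := by omega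
    rcases h01 with h0 | h1
    · rw [h0, zero_mul] at hai
      omega
    · have h2 := hai
      rw [h1, one_mul] at h2
      have : Z = cen (rep i) :=
        Subgroup.eq_of_le_of_card_ge (Z_le_cen D (rep i)) (le_of_eq h2)
      apply hrepZ i
      rw [this]
      exact self_mem_cen _
  have hn : ∀ i, Nat.card (nor (rep i)) =
      (cen (rep i)).relIndex (nor (rep i)) * Nat.card (cen (rep i)) :=
    fun i => card_eq_relIndex_mul (cen_le_nor (rep i))
  have hcls : ∀ i, Nat.card (cls Z (rep i)) =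
      (nor (rep i)).index * (Nat.card (cen (rep i)) / Nat.card Z - 1) * Nat.card Z := by
    intro i
    rw [card_cls D (hrepZ i)]
    have h1 := ha i
    have h2 := ha2 i
    generalize Nat.card (cen (rep i)) / Nat.card Z = A at *
    rw [h1, mul_assoc]
    congr 1
    rw [Nat.sub_mul, one_mul]
  have hNn : ∀ i, (nor (rep i)).index * (cen (rep i)).relIndex (nor (rep i)) *
      (Nat.card (cen (rep i)) / Nat.card Z) = Nat.card Hb := by
    intro i
    have h1 := (nor (rep i)).card_mul_index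
    rw [hn i, hGH] at h1
    have h2 := ha i
    generalize Nat.card (cen (rep i)) / Nat.card Z = A at *
    rw [h2] at h1
    apply Nat.eq_of_mul_eq_mul_left hz
    rw [← h1]
    ring
  refine ⟨ι, hι, rep, fun i => Nat.card (cen (rep i)) / Nat.card Z,
    fun i => (cen (rep i)).relIndex (nor (rep i)), fun i => (nor (rep i)).index, hrepZ, hcover,
    hdist, ha, hn, fun i => rfl, hcls, ha2, hNn, hGH, ?_⟩
  rw [hGH] at hce
  have hsum : ∑ i, Nat.card (cls Z (rep i)) =
      Nat.card Z * ∑ i, (nor (rep i)).index * (Nat.card (cen (rep i)) / Nat.card Z - 1) := by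
    rw [Finset.mul_sum]
    apply Finset.sum_congr rfl
    intro i _
    rw [hcls i]
    ring
  rw [hsum] at hce
  apply Nat.eq_of_mul_eq_mul_left hz
  rw [hce]
  ring


/-- the data extracted from the class equation, all classes semisimple -/
theorem class_data [Finite G] {Hb : Type v} [Group Hb] (D : Data Z) (φ : G →* Hb)
    (hφ : Function.Surjective φ) (hker : φ.ker = Z) (hI : ∀ x, x ∉ Z → Inv x) :
    ∃ (ι : Type u) (_ : Fintype ι) (rep : ι → G) (a n N : ι → ℕ), (∀ i, rep i ∉ Z) ∧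
      (∀ x, x ∉ Z → ∃ i, x ∈ cls Z (rep i)) ∧
      (∀ i j, rep i ∈ cls Z (rep j) → i = j) ∧
      (∀ i, Nat.card (cen (rep i)) = a i * Nat.card Z) ∧
      (∀ i, Nat.card (nor (rep i)) = n i * Nat.card (cen (rep i))) ∧
      (∀ i, N i = (nor (rep i)).index) ∧
      (∀ i, Nat.card (cls Z (rep i)) = N i * (a i - 1) * Nat.card Z) ∧
      (∀ i, 2 ≤ a i) ∧ (∀ i, n i = 1 ∨ n i = 2) ∧
      (∀ i, N i * n i * a i = Nat.card Hb) ∧
      Nat.card G = Nat.card Z * Nat.card Hb ∧
      Nat.card Hb = 1 + ∑ i, N i * (a i - 1) := by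
  obtain ⟨ι, hι, rep, a, n, N, hrepZ, hcover, hdist, ha, hn, hNdef, hcls, ha2, hNn, hGH, heq⟩ :=
    class_data0 D φ hφ hker
  refine ⟨ι, hι, rep, a, n, N, hrepZ, hcover, hdist, ha, hn, hNdef, hcls, ha2, ?_, hNn, hGH,
    heq⟩
  intro i
  exact n_eq_of_inv D (hrepZ i) (hI _ (hrepZ i)) (hn i)

theorem elt_pow [Finite G] {Hb : Type v} [Group Hb] (D : Data Z) (φ : G →* Hb)
    (hφ : Function.Surjective φ) (hker : φ.ker = Z) {ι : Type u} (rep : ι → G) (a : ι → ℕ)
    (hcover : ∀ x, x ∉ Z → ∃ i, x ∈ cls Z (rep i))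
    (ha : ∀ i, Nat.card (cen (rep i)) = a i * Nat.card Z) (b : Hb) :
    b = 1 ∨ ∃ i, b ^ a i = 1 := by
  obtain ⟨g, rfl⟩ := hφ b
  by_cases hg : g ∈ Z
  · left
    rw [← hker] at hg
    exact hg
  · right
    obtain ⟨i, -, k, hk⟩ := hcover g hg
    refine ⟨i, ?_⟩
    have h1 : k * g * k⁻¹ ∈ cen (rep i) := by
      rw [← hk]
      exact self_mem_cen _
    have h2 := map_pow_eq_one D φ hker (ha i) h1
    rw [map_mul, map_mul, map_inv, conj_pow] at h2
    have : φ g ^ a i = (φ k)⁻¹ * (φ k * φ g ^ a i * (φ k)⁻¹) * φ k := by group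
    rw [this, h2]
    group

theorem cyclic_case {Hb : Type v} [Group Hb] (φ : G →* Hb) (hφ : Function.Surjective φ)
    {x : G} (hC : IsCyclic (cen x)) (htop : cen x = ⊤) : IsCyclic Hb := by
  haveI := hC
  have hs : Function.Surjective (φ.comp (cen x).subtype) := by
    intro b
    obtain ⟨g, rfl⟩ := hφ b
    exact ⟨⟨g, by rw [htop]; trivial⟩, rfl⟩
  exact isCyclic_of_surjective _ hs

theorem dihedral_case [Finite G] {Hb : Type v} [Group Hb] (D : Data Z) (φ : G →* Hb)
    (hφ : Function.Surjective φ) (hker : φ.ker = Z) {x : G} (hx : x ∉ Z) (hI : Inv x)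
    (hC : IsCyclic (cen x)) (hnor : nor x = ⊤) (hidx : (cen x).index = 2) :
    ∃ n, 0 < n ∧ Nonempty (Hb ≃* DihedralGroup n) := by
  haveI : Finite Hb := Finite.of_surjective φ hφ
  obtain ⟨⟨c0, hc0⟩, hgen⟩ := hC.exists_generator
  obtain ⟨y0, hy0⟩ : ∃ y0, y0 ∉ cen x := by
    by_contra hall
    push Not at hall
    have : cen x = ⊤ := eq_top_iff.mpr (fun g _ => hall g)
    rw [this, Subgroup.index_top] at hidx
    omega
  have hout : ∀ y, y ∉ cen x → orderOf (φ y) = 2 := by
    intro y hy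
    have hyn : y ∈ nor x := by rw [hnor]; trivial
    have h1 := sq_mem_Z D hx hI hyn hy
    have h2 : φ y ^ 2 = 1 := by
      rw [sq, ← map_mul]
      rw [← hker] at h1
      exact h1
    have h3 : φ y ≠ 1 := by
      intro h
      apply hy
      have : y ∈ Z := by rw [← hker]; exact h
      exact Z_le_cen D x this
    exact orderOf_eq_prime h2 h3
  have hy0c : y0 * c0 ∉ cen x := fun h => hy0 (by
    have := mul_mem h (inv_mem hc0)
    simpa using this)
  have hzp : ∀ w, w ∈ cen x → ∃ k : ℤ, w = c0 ^ k := by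
    intro w hw
    have hwm := hgen ⟨w, hw⟩
    rw [Subgroup.mem_zpowers_iff] at hwm
    obtain ⟨k, hk⟩ := hwm
    refine ⟨k, ?_⟩
    have := congrArg Subtype.val hk
    simpa using this.symm
  have hne : φ y0 ≠ φ (y0 * c0) := by
    intro h
    rw [map_mul] at h
    have h1 : φ c0 = 1 := by
      have h' : φ y0 * 1 = φ y0 * φ c0 := by rw [mul_one]; exact h
      exact (mul_left_cancel h').symm
    have hc0Z : c0 ∈ Z := by rw [← hker]; exact h1
    apply hx
    obtain ⟨k, hk⟩ := hzp x (self_mem_cen x)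
    rw [hk]
    exact zpow_mem hc0Z k
  obtain ⟨e⟩ := Cfsg.Agent.S0206.result (φ y0) (φ (y0 * c0)) (hout y0 hy0) (hout _ hy0c) hne
  have htop : Subgroup.closure ({φ y0, φ (y0 * c0)} : Set Hb) = ⊤ := by
    rw [eq_top_iff]
    intro b _
    obtain ⟨g, rfl⟩ := hφ b
    have hy0m : φ y0 ∈ Subgroup.closure ({φ y0, φ (y0 * c0)} : Set Hb) :=
      Subgroup.subset_closure (by simp)
    have hc0m : φ c0 ∈ Subgroup.closure ({φ y0, φ (y0 * c0)} : Set Hb) := by
      have h2 : φ (y0 * c0) ∈ Subgroup.closure ({φ y0, φ (y0 * c0)} : Set Hb) :=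
        Subgroup.subset_closure (by simp)
      have : φ c0 = (φ y0)⁻¹ * φ (y0 * c0) := by rw [map_mul]; group
      rw [this]
      exact mul_mem (inv_mem hy0m) h2
    have hCm : ∀ w, w ∈ cen x → φ w ∈ Subgroup.closure ({φ y0, φ (y0 * c0)} : Set Hb) := by
      intro w hw
      obtain ⟨k, hk⟩ := hzp w hw
      rw [hk, map_zpow]
      exact zpow_mem hc0m k
    by_cases hg : g ∈ cen x
    · exact hCm g hg
    · have h1 : y0⁻¹ * g ∈ cen x := by
        rw [Subgroup.mul_mem_iff_of_index_two hidx]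
        constructor
        · intro h
          exact absurd (by simpa using inv_mem h) hy0
        · intro h
          exact absurd h hg
      have : φ g = φ y0 * φ (y0⁻¹ * g) := by
        rw [← map_mul]
        congr 1
        group
      rw [this]
      exact mul_mem hy0m (hCm _ h1)
  refine ⟨orderOf (φ y0 * φ (y0 * c0)), orderOf_pos _, ⟨?_⟩⟩
  exact (Subgroup.topEquiv.symm.trans (MulEquiv.subgroupCongr htop.symm)).trans e

theorem a4_case {Hb : Type v} [Group Hb] [Finite Hb] (h12 : Nat.card Hb = 12)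
    (hord : ∀ b : Hb, b ^ 2 = 1 ∨ b ^ 3 = 1) : Nonempty (Hb ≃* alternatingGroup (Fin 4)) := by
  apply Cfsg.Agent.S0228.result h12
  intro t ht htc
  haveI : Fact (Nat.Prime 3) := ⟨by norm_num⟩
  obtain ⟨s, hs⟩ := exists_prime_orderOf_dvd_card' (G := Hb) 3 (by rw [h12]; norm_num)
  have hcomm : Commute t s := (Subgroup.mem_center_iff.mp htc s).symm
  have h6 : orderOf (t * s) = 6 := by
    rw [hcomm.orderOf_mul_eq_mul_orderOf_of_coprime (by rw [ht, hs]; norm_num), ht, hs]
  rcases hord (t * s) with h | h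
  · have := orderOf_dvd_of_pow_eq_one h
    rw [h6] at this
    norm_num at this
  · have := orderOf_dvd_of_pow_eq_one h
    rw [h6] at this
    norm_num at this

theorem s4_case {Hb : Type v} [Group Hb] [Finite Hb] (h24 : Nat.card Hb = 24)
    (hord : ∀ b : Hb, b ^ 2 = 1 ∨ b ^ 3 = 1 ∨ b ^ 4 = 1) :
    Nonempty (Hb ≃* Equiv.Perm (Fin 4)) := by
  apply Cfsg.Agent.S1012.result h24
  intro g hg
  rcases hord g with h | h | h
  · have := orderOf_dvd_of_pow_eq_one h
    rw [hg] at this
    norm_num at this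
  · have := orderOf_dvd_of_pow_eq_one h
    rw [hg] at this
    norm_num at this
  · have := orderOf_dvd_of_pow_eq_one h
    rw [hg] at this
    norm_num at this

theorem mem_cls_of_mem_of_mem {x y g : G} (hx : x ∉ Z) (hy : y ∉ Z) (h1 : g ∈ cls Z x)
    (h2 : g ∈ cls Z y) : x ∈ cls Z y := by
  have r1 : rel Z ⟨g, h1.1⟩ ⟨x, hx⟩ := h1.2
  have r2 : rel Z ⟨g, h1.1⟩ ⟨y, hy⟩ := h2.2
  exact ⟨hx, rel_trans (rel_symm r1) r2⟩

/-- elements of an inverted class of odd order lie in the commutator subgroup of the image -/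
theorem cls_le_comm [Finite G] {Hb : Type v} [Group Hb] (D : Data Z) (φ : G →* Hb)
    (hker : φ.ker = Z) {x : G} (hx : x ∉ Z) {m : ℕ}
    (hc : Nat.card (cen x) = (2 * m + 1) * Nat.card Z)
    (hinvert : ∀ c, c ∈ cen x → c ∉ Z → ∃ y : G, y * c * y⁻¹ = c⁻¹) {g : G} (hg : g ∈ cls Z x) :
    φ g ∈ commutator Hb := by
  obtain ⟨hgZ, k, hk⟩ := hg
  have hg' : k * g * k⁻¹ ∈ cen x := by
    rw [← hk]
    exact self_mem_cen _
  have hg'Z : k * g * k⁻¹ ∉ Z := conj_not_mem D hgZ k
  obtain ⟨y, hinv⟩ := hinvert _ hg' hg'Z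
  set t : Hb := φ (k * g * k⁻¹) with ht
  have h1 : ⁅φ y, t⁆ ∈ commutator Hb := by
    rw [commutator_def]
    exact Subgroup.commutator_mem_commutator (Subgroup.mem_top _) (Subgroup.mem_top _)
  have h2 : ⁅φ y, t⁆ = t⁻¹ * t⁻¹ := by
    rw [commutatorElement_def, ht, ← map_inv, ← map_mul, ← map_mul, hinv, map_inv, ← map_inv,
      ← map_mul]
  rw [h2] at h1
  have h3 : t * t ∈ commutator Hb := by
    have := inv_mem h1
    simpa [mul_inv_rev] using this
  have h4 : t ^ (2 * m + 1) = 1 := map_pow_eq_one D φ hker hc hg'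
  have h5 : t = (t * t) ^ (m + 1) := by
    rw [← sq, ← pow_mul]
    have : 2 * (m + 1) = (2 * m + 1) + 1 := by ring
    rw [this, pow_succ, h4, one_mul]
  have h6 : t ∈ commutator Hb := by
    rw [h5]
    exact pow_mem h3 _
  have h7 : φ g = (φ k)⁻¹ * t * ((φ k)⁻¹)⁻¹ := by
    rw [ht, map_mul, map_mul, map_inv]
    group
  rw [h7]
  exact (inferInstance : (commutator Hb).Normal).conj_mem t h6 _

/-- in a semisimple class with `|N : C| = 2` everything is inverted -/
theorem invert_of_card [Finite G] (D : Data Z) {x : G} (hx : x ∉ Z)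
    (hI : ∀ c, c ∈ cen x → c ∉ Z → Inv c)
    (hn : Nat.card (nor x) = 2 * Nat.card (cen x)) :
    ∀ c, c ∈ cen x → c ∉ Z → ∃ y : G, y * c * y⁻¹ = c⁻¹ := by
  intro c hc hcZ
  obtain ⟨y, hy, hyc⟩ : ∃ y, y ∈ nor x ∧ y ∉ cen x := by
    by_contra hall
    push Not at hall
    have : nor x = cen x := le_antisymm hall (cen_le_nor x)
    rw [this] at hn
    have : 0 < Nat.card (cen x) := Nat.card_pos
    omega
  exact ⟨y, inverts_all D hx hc hcZ (hI _ hc hcZ) hy hyc⟩

theorem a5_case [Finite G] {Hb : Type v} [Group Hb] (D : Data Z) (φ : G →* Hb)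
    (hφ : Function.Surjective φ) (hker : φ.ker = Z)
    (h60 : Nat.card Hb = 60) (hGH : Nat.card G = Nat.card Z * Nat.card Hb) {x3 x5 : G}
    (hx3 : x3 ∉ Z) (hx5 : x5 ∉ Z) (hc3 : Nat.card (cen x3) = 3 * Nat.card Z)
    (hc5 : Nat.card (cen x5) = 5 * Nat.card Z)
    (hn3 : ∀ c, c ∈ cen x3 → c ∉ Z → ∃ y : G, y * c * y⁻¹ = c⁻¹)
    (hn5 : ∀ c, c ∈ cen x5 → c ∉ Z → ∃ y : G, y * c * y⁻¹ = c⁻¹)
    (hcl3 : Nat.card (cls Z x3) = 20 * Nat.card Z)
    (hcl5 : Nat.card (cls Z x5) = 24 * Nat.card Z)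
    (hdisj : Disjoint (cls Z x3) (cls Z x5)) : Nonempty (Hb ≃* alternatingGroup (Fin 5)) := by
  haveI : Finite Hb := Finite.of_surjective φ hφ
  set W : Subgroup G := (commutator Hb).comap φ with hW
  have hz : 0 < Nat.card Z := Nat.card_pos
  have hZW : (Z : Set G) ⊆ (W : Set G) := by
    intro g hg
    rw [SetLike.mem_coe, hW, Subgroup.mem_comap]
    have : φ g = 1 := by
      rw [← MonoidHom.mem_ker, hker]
      exact hg
    rw [this]
    exact one_mem _
  have h3W : cls Z x3 ⊆ (W : Set G) := by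
    intro g hg
    rw [SetLike.mem_coe, hW, Subgroup.mem_comap]
    exact cls_le_comm D φ hker hx3 (m := 1) (by rw [hc3]) hn3 hg
  have h5W : cls Z x5 ⊆ (W : Set G) := by
    intro g hg
    rw [SetLike.mem_coe, hW, Subgroup.mem_comap]
    exact cls_le_comm D φ hker hx5 (m := 2) (by rw [hc5]) hn5 hg
  have hd1 : Disjoint (Z : Set G) (cls Z x3 ∪ cls Z x5) := by
    rw [Set.disjoint_left]
    intro g hg hg2
    rcases hg2 with h | h
    · exact h.1 hg
    · exact h.1 hg
  have hcard : 45 * Nat.card Z ≤ Nat.card W := by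
    have hsub : (Z : Set G) ∪ (cls Z x3 ∪ cls Z x5) ⊆ (W : Set G) :=
      Set.union_subset hZW (Set.union_subset h3W h5W)
    have h1 := Set.ncard_le_ncard hsub (Set.toFinite _)
    rw [Set.ncard_union_eq hd1 (Set.toFinite _) (Set.toFinite _),
      Set.ncard_union_eq hdisj (Set.toFinite _) (Set.toFinite _)] at h1
    have e1 : (Z : Set G).ncard = Nat.card Z := (Nat.card_coe_set_eq (Z : Set G)).symm
    have e2 : (cls Z x3).ncard = 20 * Nat.card Z := by
      rw [← Nat.card_coe_set_eq]; exact hcl3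
    have e3 : (cls Z x5).ncard = 24 * Nat.card Z := by
      rw [← Nat.card_coe_set_eq]; exact hcl5
    have e4 : (W : Set G).ncard = Nat.card W := (Nat.card_coe_set_eq (W : Set G)).symm
    rw [e1, e2, e3, e4] at h1
    omega
  have hidx : W.index = 1 := by
    have h1 := W.card_mul_index
    rw [hGH, h60] at h1
    have hne : W.index ≠ 0 := Subgroup.index_ne_zero_of_finite
    by_contra h
    have h2 : 2 ≤ W.index := by omega
    have h3 := Nat.mul_le_mul_left (Nat.card W) h2
    omega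
  have hcomm : commutator Hb = ⊤ := by
    rw [← Subgroup.index_eq_one, ← Subgroup.index_comap_of_surjective _ hφ]
    exact hidx
  apply Cfsg.Agent.S3378.iso_A5 h60
  intro hsolv
  haveI : Nontrivial Hb := by
    rw [← Finite.one_lt_card_iff_nontrivial, h60]
    norm_num
  have := Group.IsSolvable.commutator_lt_top_of_nontrivial Hb
  rw [hcomm] at this
  exact lt_irrefl _ this

/-- **Structure theorem**: if all classes are semisimple, `G / Z` is cyclic, dihedral, `A₄`, `S₄`
or `A₅`. -/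
theorem pprime_main [Finite G] {Hb : Type v} [Group Hb] (D : Data Z) (φ : G →* Hb)
    (hφ : Function.Surjective φ) (hker : φ.ker = Z) (hI : ∀ x, x ∉ Z → Inv x)
    (hC : ∀ x, x ∉ Z → IsCyclic (cen x)) :
    IsCyclic Hb ∨ (∃ n, 0 < n ∧ Nonempty (Hb ≃* DihedralGroup n)) ∨
      Nonempty (Hb ≃* alternatingGroup (Fin 4)) ∨ Nonempty (Hb ≃* Equiv.Perm (Fin 4)) ∨
      Nonempty (Hb ≃* alternatingGroup (Fin 5)) := by
  classical
  haveI : Finite Hb := Finite.of_surjective φ hφ
  obtain ⟨ι, hι, rep, a, n, N, hrepZ, hcover, hdist, ha, hn, hNdef, hcls, ha2, hn12, hNn, hGH,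
    heq⟩ := class_data D φ hφ hker hI
  have hpow := elt_pow D φ hφ hker rep a hcover ha
  rcases CTNum.core (Nat.card Hb) a n N ha2 hn12 hNn heq with h1 | ⟨i, hi⟩ | ⟨h12, hall⟩ |
    ⟨h24, hall⟩ | ⟨h60, hall, ⟨i3, hi3⟩, ⟨i5, hi5⟩⟩
  · left
    haveI : Subsingleton Hb := (Nat.card_eq_one_iff_unique.mp h1).1
    exact isCyclic_of_subsingleton
  · have hnor : nor (rep i) = ⊤ := by
      rw [← Subgroup.index_eq_one, ← hNdef i]
      exact hi
    rcases hn12 i with h1 | h2
    · left
      have hcn := hn i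
      rw [h1, one_mul] at hcn
      have hcen : cen (rep i) = nor (rep i) :=
        Subgroup.eq_of_le_of_card_ge (cen_le_nor _) (le_of_eq hcn)
      exact cyclic_case φ hφ (hC _ (hrepZ i)) (hcen.trans hnor)
    · right; left
      have hcn := hn i
      rw [h2] at hcn
      have hidx : (cen (rep i)).index = 2 := by
        have h3 := (cen (rep i)).card_mul_index
        have h4 : Nat.card (nor (rep i)) = Nat.card G := by
          rw [hnor]
          exact Subgroup.card_top
        rw [← h4, hcn] at h3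
        have hpos : 0 < Nat.card (cen (rep i)) := Nat.card_pos
        have : Nat.card (cen (rep i)) * (cen (rep i)).index = Nat.card (cen (rep i)) * 2 := by
          rw [h3]; ring
        exact Nat.eq_of_mul_eq_mul_left hpos this
      exact dihedral_case D φ hφ hker (hrepZ i) (hI _ (hrepZ i)) (hC _ (hrepZ i)) hnor hidx
  · right; right; left
    apply a4_case h12
    intro b
    rcases hpow b with h | ⟨i, hi⟩
    · left; rw [h, one_pow]
    · rcases hall i with h2 | h3
      · left; rw [← h2]; exact hi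
      · right; rw [← h3]; exact hi
  · right; right; right; left
    apply s4_case h24
    intro b
    rcases hpow b with h | ⟨i, hi⟩
    · left; rw [h, one_pow]
    · rcases (hall i).2 with h2 | h3 | h4
      · left; rw [← h2]; exact hi
      · right; left; rw [← h3]; exact hi
      · right; right; rw [← h4]; exact hi
  · right; right; right; right
    have hN3 : N i3 = 10 := by
      have := hNn i3
      rw [(hall i3).1, hi3, h60] at this
      omega
    have hN5 : N i5 = 6 := by
      have := hNn i5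
      rw [(hall i5).1, hi5, h60] at this
      omega
    have hne : i3 ≠ i5 := by
      intro h
      rw [h, hi5] at hi3
      omega
    refine a5_case D φ hφ hker h60 hGH (hrepZ i3) (hrepZ i5) ?_ ?_ ?_ ?_ ?_ ?_ ?_
    · rw [ha i3, hi3]
    · rw [ha i5, hi5]
    · exact invert_of_card D (hrepZ i3) (fun c _ hcZ => hI c hcZ) (by rw [hn i3, (hall i3).1])
    · exact invert_of_card D (hrepZ i5) (fun c _ hcZ => hI c hcZ) (by rw [hn i5, (hall i5).1])
    · rw [hcls i3, hN3, hi3]
    · rw [hcls i5, hN5, hi5]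
    · rw [Set.disjoint_left]
      intro g hg3 hg5
      exact hne (hdist i3 i5 (mem_cls_of_mem_of_mem (hrepZ i3) (hrepZ i5) hg3 hg5))

end Cfsg.Agent.Helper98.CT
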