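import Mathlib

set_option autoImplicit false
set_option linter.style.haveILetI false

/-!
# A small coset-enumeration principle

If `A ≤ G`, `reps` is a set of right coset representatives with `1 ∈ A * reps`, and `A * reps` is
closed under right multiplication by the generators `X`, then `closure X ⊆ A * reps`.
-/

namespace Cfsg.Agent.Helper98.CosetEnum

open scoped Pointwise

variable {G : Type*} [Group G]

theorem closure_subset_mul [Finite G] (A : Subgroup G) (reps : Set G) (X : Set G)
    (h1 : (1 : G) ∈ (A : Set G) * reps)
    (hX : ∀ g ∈ reps, ∀ x ∈ X, g * x ∈ (A : Set G) * reps) :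
    (Subgroup.closure X : Set G) ⊆ (A : Set G) * reps := by
  have key : ∀ y ∈ Subgroup.closure X, ∀ d ∈ (A : Set G) * reps, d * y ∈ (A : Set G) * reps := by
    intro y hy
    induction hy using Subgroup.closure_induction with
    | mem x hx =>
      rintro d ⟨a, ha, g, hg, rfl⟩
      obtain ⟨a', ha', g', hg', h⟩ := hX g hg x hx
      refine ⟨a * a', A.mul_mem ha ha', g', hg', ?_⟩
      simp only at h ⊢
      rw [mul_assoc, h, mul_assoc]
    | one =>
      intro d hd
      rwa [mul_one]
    | mul y z _ _ ihy ihz =>
      intro d hd
      rw [← mul_assoc]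
      exact ihz _ (ihy d hd)
    | inv y _ ih =>
      have hpow : ∀ n : ℕ, ∀ d ∈ (A : Set G) * reps, d * y ^ n ∈ (A : Set G) * reps := by
        intro n
        induction n with
        | zero => intro d hd; rwa [pow_zero, mul_one]
        | succ n ihn =>
          intro d hd
          rw [pow_succ, ← mul_assoc]
          exact ih _ (ihn d hd)
      have hinv : y⁻¹ = y ^ (orderOf y - 1) := by
        apply inv_eq_of_mul_eq_one_right
        rw [← pow_succ', Nat.sub_add_cancel (orderOf_pos y), pow_orderOf_eq_one]
      intro d hd
      rw [hinv]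
      exact hpow _ d hd
  intro y hy
  have := key y hy 1 h1
  rwa [one_mul] at this

theorem card_closure_le [Finite G] (A : Subgroup G) (reps : Finset G) (X : Set G)
    (h1 : (1 : G) ∈ (A : Set G) * (reps : Set G))
    (hX : ∀ g ∈ reps, ∀ x ∈ X, g * x ∈ (A : Set G) * (reps : Set G)) :
    Nat.card (Subgroup.closure X) ≤ Nat.card A * reps.card := by
  have hsub := closure_subset_mul A (reps : Set G) X h1 (fun g hg => hX g (by simpa using hg))
  have h2 : Nat.card (Subgroup.closure X) ≤ Nat.card ((A : Set G) * (reps : Set G) : Set G) := by
    apply Nat.card_mono (Set.toFinite _) hsub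
  have h3 := Set.natCard_mul_le (s := (A : Set G)) (t := (reps : Set G))
  have h4 : Nat.card (reps : Set G) = reps.card := by
    rw [Nat.card_eq_fintype_card]
    simp
  rw [h4] at h3
  exact h2.trans h3

end Cfsg.Agent.Helper98.CosetEnum
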