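import Mathlib
import Cfsg.Agent.Lib.Helper41.SL2Quat

set_option autoImplicit false
set_option linter.style.haveILetI false

/-!
# Icosians: norm-one quaternions over a field and their image in `PSL₂(F)`
-/

namespace Cfsg.Agent.Helper98.Icos

open Quaternion Matrix

variable {F : Type*} [Field F]

/-- the reduced norm -/
def nrm (a : ℍ[F]) : F := a.re ^ 2 + a.imI ^ 2 + a.imJ ^ 2 + a.imK ^ 2

theorem nrm_mul (a b : ℍ[F]) : nrm (a * b) = nrm a * nrm b := by
  simp only [nrm, Quaternion.re_mul, Quaternion.imI_mul, Quaternion.imJ_mul, Quaternion.imK_mul]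
  ring

theorem nrm_one : nrm (1 : ℍ[F]) = 1 := by simp [nrm]

/-- norm-one quaternions -/
def N1 (F : Type*) [Field F] : Submonoid ℍ[F] where
  carrier := {a | nrm a = 1}
  mul_mem' := by
    intro a b ha hb
    simp only [Set.mem_ofPred_eq] at ha hb ⊢
    rw [nrm_mul, ha, hb, mul_one]
  one_mem' := nrm_one

theorem mem_N1 (a : ℍ[F]) : a ∈ N1 F ↔ nrm a = 1 := Iff.rfl

/-! ### the matrix model -/

/-- the quaternion basis of `M₂(F)` attached to `x² + y² = -1` -/
def basis (x y : F) (h : x ^ 2 + y ^ 2 = -1) :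
    QuaternionAlgebra.Basis (Matrix (Fin 2) (Fin 2) F) (-1 : F) 0 (-1) where
  i := !![0, -1; 1, 0]
  j := !![x, y; y, -x]
  k := !![-y, x; x, y]
  i_mul_i := by
    ext a b
    fin_cases a <;> fin_cases b <;> simp
  j_mul_j := by
    ext a b
    fin_cases a <;> fin_cases b <;> simp <;> grind
  i_mul_j := by
    ext a b
    fin_cases a <;> fin_cases b <;> simp
  j_mul_i := by
    ext a b
    fin_cases a <;> fin_cases b <;> simp

/-- the algebra map `ℍ[F] → M₂(F)` -/
def theta (x y : F) (h : x ^ 2 + y ^ 2 = -1) : ℍ[F] →ₐ[F] Matrix (Fin 2) (Fin 2) F :=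
  (basis x y h).liftHom

theorem theta_apply (x y : F) (h : x ^ 2 + y ^ 2 = -1) (a : ℍ[F]) :
    theta x y h a = !![a.re + a.imJ * x - a.imK * y, -a.imI + a.imJ * y + a.imK * x;
      a.imI + a.imJ * y + a.imK * x, a.re - a.imJ * x + a.imK * y] := by
  change (basis x y h).lift a = _
  simp only [QuaternionAlgebra.Basis.lift, basis]
  ext i j
  fin_cases i <;> fin_cases j <;> simp [Algebra.algebraMap_eq_smul_one] <;> ring

theorem det_theta (x y : F) (h : x ^ 2 + y ^ 2 = -1) (a : ℍ[F]) :
    (theta x y h a).det = nrm a := by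
  rw [theta_apply, Matrix.det_fin_two_of, nrm]
  linear_combination (-(a.imJ ^ 2) - a.imK ^ 2) * h

/-- norm-one quaternions to `SL₂(F)` -/
def toSL (x y : F) (h : x ^ 2 + y ^ 2 = -1) : N1 F →* SpecialLinearGroup (Fin 2) F where
  toFun a := ⟨theta x y h a.1, by rw [det_theta]; exact a.2⟩
  map_one' := by
    apply Subtype.ext
    simp
  map_mul' a b := by
    apply Subtype.ext
    change theta x y h ((a * b : N1 F) : ℍ[F]) = theta x y h a * theta x y h b
    rw [Submonoid.coe_mul, map_mul]

/-- norm-one quaternions to `PSL₂(F)` -/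
def psi (x y : F) (h : x ^ 2 + y ^ 2 = -1) :
    N1 F →* ProjectiveSpecialLinearGroup (Fin 2) F :=
  (QuotientGroup.mk' _).comp (toSL x y h)

theorem psi_eq (x y : F) (h : x ^ 2 + y ^ 2 = -1) (a b : N1 F)
    (hab : (a : ℍ[F]) = b ∨ (a : ℍ[F]) = -b) : psi x y h a = psi x y h b := by
  rcases hab with hab | hab
  · have : a = b := Subtype.ext hab
    rw [this]
  · simp only [psi, MonoidHom.coe_comp, QuotientGroup.coe_mk', Function.comp_apply]
    rw [Cfsg.Agent.Helper41.psl2_mk_eq_mk_iff]
    right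
    apply Subtype.ext
    rw [Matrix.SpecialLinearGroup.coe_neg]
    change theta x y h b = -theta x y h a
    rw [hab, map_neg, neg_neg]

theorem theta_injective (h2 : (2 : F) ≠ 0) (x y : F) (h : x ^ 2 + y ^ 2 = -1) :
    Function.Injective (theta x y h) := by
  intro a b hab
  rw [theta_apply, theta_apply] at hab
  have e00 := congrFun (congrFun hab 0) 0
  have e01 := congrFun (congrFun hab 0) 1
  have e10 := congrFun (congrFun hab 1) 0
  have e11 := congrFun (congrFun hab 1) 1
  simp only [Matrix.of_apply, Matrix.cons_val_zero, Matrix.cons_val_one, Matrix.cons_val',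
    Matrix.cons_val_fin_one] at e00 e01 e10 e11
  ext
  · exact mul_left_cancel₀ h2 (by linear_combination e00 + e11)
  · exact mul_left_cancel₀ h2 (by linear_combination e10 - e01)
  · exact mul_left_cancel₀ h2 (by
      linear_combination (-x) * e00 + x * e11 - y * e01 - y * e10 + (2 * a.imJ - 2 * b.imJ) * h)
  · exact mul_left_cancel₀ h2 (by
      linear_combination y * e00 - y * e11 - x * e01 - x * e10 + (2 * a.imK - 2 * b.imK) * h)

theorem psi_eq_one_iff (h2 : (2 : F) ≠ 0) (x y : F) (h : x ^ 2 + y ^ 2 = -1) (a : N1 F) :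
    psi x y h a = 1 ↔ ((a : ℍ[F]) = 1 ∨ (a : ℍ[F]) = -1) := by
  simp only [psi, MonoidHom.coe_comp, QuotientGroup.coe_mk', Function.comp_apply]
  rw [Cfsg.Agent.Helper41.psl2_mk_eq_one_iff]
  change (theta x y h a = 1 ∨ theta x y h a = -1) ↔ _
  have hinj := theta_injective h2 x y h
  constructor
  · rintro (h1 | h1)
    · left
      apply hinj
      rw [h1, map_one]
    · right
      apply hinj
      rw [h1, map_neg, map_one]
  · rintro (h1 | h1)
    · left; rw [h1, map_one]
    · right; rw [h1, map_neg, map_one]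

end Cfsg.Agent.Helper98.Icos
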