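import Mathlib
import Cfsg.Agent.Lib.Helper98.CosetEnum

set_option autoImplicit false
set_option linter.style.haveILetI false

/-!
# Two distinct commuting involutions generate a Klein four group
-/

namespace Cfsg.Agent.Helper98.KleinPair

open scoped Pointwise

variable {G : Type*} [Group G]

theorem closure_pair_subset [Finite G] (a b : G) (haa : a * a = 1) (hbb : b * b = 1)
    (hcomm : a * b = b * a) :
    ∀ g ∈ Subgroup.closure ({a, b} : Set G), g = 1 ∨ g = a ∨ g = b ∨ g = a * b := by
  classical
  have h := CosetEnum.closure_subset_mul (⊥ : Subgroup G) ({1, a, b, a * b} : Set G)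
    ({a, b} : Set G) ⟨1, Subgroup.one_mem _, 1, by simp, by simp⟩ (by
      have key : ∀ y : G, (y = 1 ∨ y = a ∨ y = b ∨ y = a * b) →
          y ∈ ((⊥ : Subgroup G) : Set G) * ({1, a, b, a * b} : Set G) := by
        intro y hy
        exact ⟨1, Subgroup.one_mem _, y, by simpa using hy, by simp⟩
      intro g hg x hx
      simp only [Set.mem_insert_iff, Set.mem_singleton_iff] at hg hx
      apply key
      rcases hg with rfl | rfl | rfl | rfl <;> rcases hx with rfl | rfl
      · simp
      · simp
      · left; exact haa
      · right; right; right; rfl
      · right; right; right; exact hcomm.symm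
      · left; exact hbb
      · right; right; left
        rw [hcomm, mul_assoc, haa, mul_one]
      · right; left
        rw [mul_assoc, hbb, mul_one])
  intro g hg
  obtain ⟨t, ht, r, hr, rfl⟩ := h hg
  rw [SetLike.mem_coe, Subgroup.mem_bot] at ht
  subst ht
  simpa using hr

theorem isKleinFour_closure_pair [Finite G] (a b : G) (ha : a ≠ 1) (hb : b ≠ 1) (hab : a ≠ b)
    (haa : a * a = 1) (hbb : b * b = 1) (hcomm : a * b = b * a) :
    IsKleinFour (Subgroup.closure ({a, b} : Set G)) := by
  classical
  set V := Subgroup.closure ({a, b} : Set G) with hV
  have haV : a ∈ V := Subgroup.subset_closure (by simp)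
  have hbV : b ∈ V := Subgroup.subset_closure (by simp)
  have hsub := closure_pair_subset a b haa hbb hcomm
  have hsq : ∀ g ∈ V, g * g = 1 := by
    intro g hg
    rcases hsub g hg with rfl | rfl | rfl | rfl
    · simp
    · exact haa
    · exact hbb
    · calc a * b * (a * b) = a * (b * a) * b := by group
        _ = a * (a * b) * b := by rw [hcomm]
        _ = (a * a) * (b * b) := by group
        _ = 1 := by rw [haa, hbb, mul_one]
  have hab1 : a * b ≠ 1 := by
    intro h
    apply hab
    have : a = b⁻¹ := eq_inv_of_mul_eq_one_left h
    rw [this]
    exact inv_eq_of_mul_eq_one_left hbb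
  have hcard : Nat.card V = 4 := by
    apply le_antisymm
    · -- at most four elements
      have hVsub : (V : Set G) ⊆ (({1, a, b, a * b} : Finset G) : Set G) := by
        intro g hg
        have := hsub g hg
        simpa using this
      have h1 : Nat.card V ≤ Nat.card ((({1, a, b, a * b} : Finset G) : Set G)) :=
        Nat.card_mono (Set.toFinite _) hVsub
      have h2 : Nat.card ((({1, a, b, a * b} : Finset G) : Set G)) =
          ({1, a, b, a * b} : Finset G).card := by
        rw [Nat.card_eq_fintype_card]; simp
      rw [h2] at h1
      exact h1.trans (Finset.card_le_four)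
    · -- at least four elements
      have hS : (({1, a, b, a * b} : Finset G) : Set G) ⊆ (V : Set G) := by
        intro g hg
        simp only [Finset.coe_insert, Finset.coe_singleton, Set.mem_insert_iff,
          Set.mem_singleton_iff] at hg
        rcases hg with rfl | rfl | rfl | rfl
        · exact V.one_mem
        · exact haV
        · exact hbV
        · exact V.mul_mem haV hbV
      have h1 : Nat.card ((({1, a, b, a * b} : Finset G) : Set G)) ≤ Nat.card V :=
        Nat.card_mono (Set.toFinite _) hS
      have h2 : Nat.card ((({1, a, b, a * b} : Finset G) : Set G)) =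
          ({1, a, b, a * b} : Finset G).card := by
        rw [Nat.card_eq_fintype_card]; simp
      have h3 : ({1, a, b, a * b} : Finset G).card = 4 := by
        rw [Finset.card_insert_of_notMem, Finset.card_insert_of_notMem,
          Finset.card_insert_of_notMem, Finset.card_singleton]
        · simp only [Finset.mem_singleton]
          intro h
          apply ha
          have : b = a * b := h
          calc a = a * b * b⁻¹ := by group
            _ = b * b⁻¹ := by rw [← this]
            _ = 1 := by group
        · simp only [Finset.mem_insert, Finset.mem_singleton, not_or]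
          refine ⟨hab, ?_⟩
          intro h
          apply hb
          calc b = a⁻¹ * (a * b) := by group
            _ = a⁻¹ * a := by rw [← h]
            _ = 1 := by group
        · simp only [Finset.mem_insert, Finset.mem_singleton, not_or]
          exact ⟨fun h => ha h.symm, fun h => hb h.symm, fun h => hab1 h.symm⟩
      rw [h2, h3] at h1
      exact h1
  refine ⟨hcard, ?_⟩
  haveI : Nontrivial V := ⟨⟨⟨a, haV⟩, 1, fun h => ha (congrArg Subtype.val h)⟩⟩
  rw [Monoid.exponent_eq_prime_iff Nat.prime_two]
  intro g hg
  apply orderOf_eq_prime
  · rw [pow_two]
    exact Subtype.ext (hsq g g.2)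
  · exact hg

end Cfsg.Agent.Helper98.KleinPair
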