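import Mathlib
import Cfsg.Agent.Lib.Helper98.Icos
import Cfsg.Agent.Lib.Helper98.CosetEnum
import Cfsg.Agent.Lib.Helper98.KleinPair
import Cfsg.Agent.Lib.Helper98.A5Recog
import Cfsg.Agent.Lib.Helper98.KleinNorm
import Cfsg.Agent.Lib.Helper98.PSL2Klein

set_option autoImplicit false
set_option linter.style.haveILetI false
set_option linter.unusedSimpArgs false
set_option linter.unusedVariables false
set_option linter.style.longLine false

/-!
# The icosahedral subgroup of `PSL₂(F)` when `F` contains a root of `X² - X - 1`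
-/

namespace Cfsg.Agent.Helper98.Icos

open Quaternion Matrix
open scoped Pointwise

variable {F : Type*} [Field F]

def qi : ℍ[F] := ⟨0, 1, 0, 0⟩
def qj : ℍ[F] := ⟨0, 0, 1, 0⟩
def qk : ℍ[F] := ⟨0, 0, 0, 1⟩
def qw : ℍ[F] := ⟨-1 / 2, 1 / 2, 1 / 2, 1 / 2⟩
def qs (φ : F) : ℍ[F] := ⟨0, 1 / 2, (φ - 1) / 2, -φ / 2⟩

@[simp] theorem qi_re : (qi : ℍ[F]).re = 0 := rfl
@[simp] theorem qi_imI : (qi : ℍ[F]).imI = 1 := rfl
@[simp] theorem qi_imJ : (qi : ℍ[F]).imJ = 0 := rfl
@[simp] theorem qi_imK : (qi : ℍ[F]).imK = 0 := rfl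
@[simp] theorem qj_re : (qj : ℍ[F]).re = 0 := rfl
@[simp] theorem qj_imI : (qj : ℍ[F]).imI = 0 := rfl
@[simp] theorem qj_imJ : (qj : ℍ[F]).imJ = 1 := rfl
@[simp] theorem qj_imK : (qj : ℍ[F]).imK = 0 := rfl
@[simp] theorem qk_re : (qk : ℍ[F]).re = 0 := rfl
@[simp] theorem qk_imI : (qk : ℍ[F]).imI = 0 := rfl
@[simp] theorem qk_imJ : (qk : ℍ[F]).imJ = 0 := rfl
@[simp] theorem qk_imK : (qk : ℍ[F]).imK = 1 := rfl
@[simp] theorem qw_re : (qw : ℍ[F]).re = -1 / 2 := rfl
@[simp] theorem qw_imI : (qw : ℍ[F]).imI = 1 / 2 := rfl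
@[simp] theorem qw_imJ : (qw : ℍ[F]).imJ = 1 / 2 := rfl
@[simp] theorem qw_imK : (qw : ℍ[F]).imK = 1 / 2 := rfl
@[simp] theorem qs_re (φ : F) : (qs φ).re = 0 := rfl
@[simp] theorem qs_imI (φ : F) : (qs φ).imI = 1 / 2 := rfl
@[simp] theorem qs_imJ (φ : F) : (qs φ).imJ = (φ - 1) / 2 := rfl
@[simp] theorem qs_imK (φ : F) : (qs φ).imK = -φ / 2 := rfl

theorem nrm_qi : nrm (qi : ℍ[F]) = 1 := by simp [nrm]
theorem nrm_qj : nrm (qj : ℍ[F]) = 1 := by simp [nrm]
theorem nrm_qk : nrm (qk : ℍ[F]) = 1 := by simp [nrm]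
theorem nrm_qw (h2 : (2 : F) ≠ 0) : nrm (qw : ℍ[F]) = 1 := by
  simp [nrm]
  grind
theorem nrm_qs (h2 : (2 : F) ≠ 0) (φ : F) (hφ : φ ^ 2 = φ + 1) : nrm (qs φ) = 1 := by
  simp [nrm]
  grind

def I1 : N1 F := ⟨qi, nrm_qi⟩
def J1 : N1 F := ⟨qj, nrm_qj⟩
def K1 : N1 F := ⟨qk, nrm_qk⟩
def W1 (h2 : (2 : F) ≠ 0) : N1 F := ⟨qw, nrm_qw h2⟩
def S1 (h2 : (2 : F) ≠ 0) (φ : F) (hφ : φ ^ 2 = φ + 1) : N1 F := ⟨qs φ, nrm_qs h2 φ hφ⟩

theorem coe_I1 : ((I1 : N1 F) : ℍ[F]) = qi := rfl
theorem coe_J1 : ((J1 : N1 F) : ℍ[F]) = qj := rfl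
theorem coe_K1 : ((K1 : N1 F) : ℍ[F]) = qk := rfl
theorem coe_W1 (h2 : (2 : F) ≠ 0) : ((W1 h2 : N1 F) : ℍ[F]) = qw := rfl
theorem coe_S1 (h2 : (2 : F) ≠ 0) (φ : F) (hφ : φ ^ 2 = φ + 1) :
    ((S1 h2 φ hφ : N1 F) : ℍ[F]) = qs φ := rfl

section rels

variable (h2 : (2 : F) ≠ 0) (x y : F) (h : x ^ 2 + y ^ 2 = -1) (φ : F) (hφ : φ ^ 2 = φ + 1)

local notation "v₁" => psi x y h I1
local notation "v₂" => psi x y h J1
local notation "v₃" => psi x y h K1
local notation "ω" => psi x y h (W1 h2)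
local notation "σ" => psi x y h (S1 h2 φ hφ)

include h2 hφ h

theorem r_v1sq : v₁ * v₁ = 1 := by
  have key : psi x y h (I1 * I1) = psi x y h ((1 : N1 F)) := by
    apply psi_eq
    right
    simp only [Submonoid.coe_mul, SubmonoidClass.coe_pow, Submonoid.coe_one, coe_I1, coe_J1, coe_K1, coe_W1, coe_S1]
    all_goals (ext <;> simp [pow_succ, Quaternion.re_mul, Quaternion.imI_mul, Quaternion.imJ_mul, Quaternion.imK_mul] <;> grind)
  simpa only [map_mul, map_pow, map_one] using key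

theorem r_v2sq : v₂ * v₂ = 1 := by
  have key : psi x y h (J1 * J1) = psi x y h ((1 : N1 F)) := by
    apply psi_eq
    right
    simp only [Submonoid.coe_mul, SubmonoidClass.coe_pow, Submonoid.coe_one, coe_I1, coe_J1, coe_K1, coe_W1, coe_S1]
    all_goals (ext <;> simp [pow_succ, Quaternion.re_mul, Quaternion.imI_mul, Quaternion.imJ_mul, Quaternion.imK_mul] <;> grind)
  simpa only [map_mul, map_pow, map_one] using key

theorem r_v12 : v₁ * v₂ = v₃ := by
  have key : psi x y h (I1 * J1) = psi x y h (K1) := by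
    apply psi_eq
    left
    simp only [Submonoid.coe_mul, SubmonoidClass.coe_pow, Submonoid.coe_one, coe_I1, coe_J1, coe_K1, coe_W1, coe_S1]
    all_goals (ext <;> simp [pow_succ, Quaternion.re_mul, Quaternion.imI_mul, Quaternion.imJ_mul, Quaternion.imK_mul] <;> grind)
  simpa only [map_mul, map_pow, map_one] using key

theorem r_comm : v₁ * v₂ = v₂ * v₁ := by
  have key : psi x y h (I1 * J1) = psi x y h (J1 * I1) := by
    apply psi_eq
    right
    simp only [Submonoid.coe_mul, SubmonoidClass.coe_pow, Submonoid.coe_one, coe_I1, coe_J1, coe_K1, coe_W1, coe_S1]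
    all_goals (ext <;> simp [pow_succ, Quaternion.re_mul, Quaternion.imI_mul, Quaternion.imJ_mul, Quaternion.imK_mul] <;> grind)
  simpa only [map_mul, map_pow, map_one] using key

theorem r_om3 : ω * ω * ω = 1 := by
  have key : psi x y h (W1 h2 * W1 h2 * W1 h2) = psi x y h ((1 : N1 F)) := by
    apply psi_eq
    left
    simp only [Submonoid.coe_mul, SubmonoidClass.coe_pow, Submonoid.coe_one, coe_I1, coe_J1, coe_K1, coe_W1, coe_S1]
    all_goals (ext <;> simp [pow_succ, Quaternion.re_mul, Quaternion.imI_mul, Quaternion.imJ_mul, Quaternion.imK_mul] <;> grind)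
  simpa only [map_mul, map_pow, map_one] using key

theorem r_omv3 : ω * v₃ = v₂ * ω := by
  have key : psi x y h (W1 h2 * K1) = psi x y h (J1 * W1 h2) := by
    apply psi_eq
    left
    simp only [Submonoid.coe_mul, SubmonoidClass.coe_pow, Submonoid.coe_one, coe_I1, coe_J1, coe_K1, coe_W1, coe_S1]
    all_goals (ext <;> simp [pow_succ, Quaternion.re_mul, Quaternion.imI_mul, Quaternion.imJ_mul, Quaternion.imK_mul] <;> grind)
  simpa only [map_mul, map_pow, map_one] using key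

theorem r_sv2_5 : (σ * v₂) ^ 5 = 1 := by
  have key : psi x y h ((S1 h2 φ hφ * J1) ^ 5) = psi x y h ((1 : N1 F)) := by
    apply psi_eq
    right
    simp only [Submonoid.coe_mul, SubmonoidClass.coe_pow, Submonoid.coe_one, coe_I1, coe_J1, coe_K1, coe_W1, coe_S1]
    all_goals (ext <;> simp [pow_succ, Quaternion.re_mul, Quaternion.imI_mul, Quaternion.imJ_mul, Quaternion.imK_mul] <;> grind)
  simpa only [map_mul, map_pow, map_one] using key

theorem t1_1_v1 : 1 * v₁ = v₁ * 1 := by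
  have key : psi x y h ((1 : N1 F) * I1) = psi x y h (I1 * (1 : N1 F)) := by
    apply psi_eq
    left
    simp only [Submonoid.coe_mul, SubmonoidClass.coe_pow, Submonoid.coe_one, coe_I1, coe_J1, coe_K1, coe_W1, coe_S1]
    all_goals (ext <;> simp [pow_succ, Quaternion.re_mul, Quaternion.imI_mul, Quaternion.imJ_mul, Quaternion.imK_mul] <;> grind)
  simpa only [map_mul, map_pow, map_one] using key

theorem t1_1_v2 : 1 * v₂ = v₂ * 1 := by
  have key : psi x y h ((1 : N1 F) * J1) = psi x y h (J1 * (1 : N1 F)) := by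
    apply psi_eq
    left
    simp only [Submonoid.coe_mul, SubmonoidClass.coe_pow, Submonoid.coe_one, coe_I1, coe_J1, coe_K1, coe_W1, coe_S1]
    all_goals (ext <;> simp [pow_succ, Quaternion.re_mul, Quaternion.imI_mul, Quaternion.imJ_mul, Quaternion.imK_mul] <;> grind)
  simpa only [map_mul, map_pow, map_one] using key

theorem t1_1_om : 1 * ω = 1 * ω := by
  have key : psi x y h ((1 : N1 F) * W1 h2) = psi x y h ((1 : N1 F) * W1 h2) := by
    apply psi_eq
    left
    simp only [Submonoid.coe_mul, SubmonoidClass.coe_pow, Submonoid.coe_one, coe_I1, coe_J1, coe_K1, coe_W1, coe_S1]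
    all_goals (ext <;> simp [pow_succ, Quaternion.re_mul, Quaternion.imI_mul, Quaternion.imJ_mul, Quaternion.imK_mul] <;> grind)
  simpa only [map_mul, map_pow, map_one] using key

theorem t1_om_v1 : ω * v₁ = v₃ * ω := by
  have key : psi x y h (W1 h2 * I1) = psi x y h (K1 * W1 h2) := by
    apply psi_eq
    left
    simp only [Submonoid.coe_mul, SubmonoidClass.coe_pow, Submonoid.coe_one, coe_I1, coe_J1, coe_K1, coe_W1, coe_S1]
    all_goals (ext <;> simp [pow_succ, Quaternion.re_mul, Quaternion.imI_mul, Quaternion.imJ_mul, Quaternion.imK_mul] <;> grind)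
  simpa only [map_mul, map_pow, map_one] using key

theorem t1_om_v2 : ω * v₂ = v₁ * ω := by
  have key : psi x y h (W1 h2 * J1) = psi x y h (I1 * W1 h2) := by
    apply psi_eq
    left
    simp only [Submonoid.coe_mul, SubmonoidClass.coe_pow, Submonoid.coe_one, coe_I1, coe_J1, coe_K1, coe_W1, coe_S1]
    all_goals (ext <;> simp [pow_succ, Quaternion.re_mul, Quaternion.imI_mul, Quaternion.imJ_mul, Quaternion.imK_mul] <;> grind)
  simpa only [map_mul, map_pow, map_one] using key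

theorem t1_om_om : ω * ω = 1 * (ω * ω) := by
  have key : psi x y h (W1 h2 * W1 h2) = psi x y h ((1 : N1 F) * (W1 h2 * W1 h2)) := by
    apply psi_eq
    left
    simp only [Submonoid.coe_mul, SubmonoidClass.coe_pow, Submonoid.coe_one, coe_I1, coe_J1, coe_K1, coe_W1, coe_S1]
    all_goals (ext <;> simp [pow_succ, Quaternion.re_mul, Quaternion.imI_mul, Quaternion.imJ_mul, Quaternion.imK_mul] <;> grind)
  simpa only [map_mul, map_pow, map_one] using key

theorem t1_omom_v1 : ω * ω * v₁ = v₂ * (ω * ω) := by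
  have key : psi x y h (W1 h2 * W1 h2 * I1) = psi x y h (J1 * (W1 h2 * W1 h2)) := by
    apply psi_eq
    left
    simp only [Submonoid.coe_mul, SubmonoidClass.coe_pow, Submonoid.coe_one, coe_I1, coe_J1, coe_K1, coe_W1, coe_S1]
    all_goals (ext <;> simp [pow_succ, Quaternion.re_mul, Quaternion.imI_mul, Quaternion.imJ_mul, Quaternion.imK_mul] <;> grind)
  simpa only [map_mul, map_pow, map_one] using key

theorem t1_omom_v2 : ω * ω * v₂ = v₃ * (ω * ω) := by
  have key : psi x y h (W1 h2 * W1 h2 * J1) = psi x y h (K1 * (W1 h2 * W1 h2)) := by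
    apply psi_eq
    left
    simp only [Submonoid.coe_mul, SubmonoidClass.coe_pow, Submonoid.coe_one, coe_I1, coe_J1, coe_K1, coe_W1, coe_S1]
    all_goals (ext <;> simp [pow_succ, Quaternion.re_mul, Quaternion.imI_mul, Quaternion.imJ_mul, Quaternion.imK_mul] <;> grind)
  simpa only [map_mul, map_pow, map_one] using key

theorem t1_omom_om : ω * ω * ω = 1 * 1 := by
  have key : psi x y h (W1 h2 * W1 h2 * W1 h2) = psi x y h ((1 : N1 F) * (1 : N1 F)) := by
    apply psi_eq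
    left
    simp only [Submonoid.coe_mul, SubmonoidClass.coe_pow, Submonoid.coe_one, coe_I1, coe_J1, coe_K1, coe_W1, coe_S1]
    all_goals (ext <;> simp [pow_succ, Quaternion.re_mul, Quaternion.imI_mul, Quaternion.imJ_mul, Quaternion.imK_mul] <;> grind)
  simpa only [map_mul, map_pow, map_one] using key

theorem t2_1_v1 : 1 * v₁ = v₁ * ω ^ 0 * 1 := by
  have key : psi x y h ((1 : N1 F) * I1) = psi x y h (I1 * W1 h2 ^ 0 * (1 : N1 F)) := by
    apply psi_eq
    left
    simp only [Submonoid.coe_mul, SubmonoidClass.coe_pow, Submonoid.coe_one, coe_I1, coe_J1, coe_K1, coe_W1, coe_S1]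
    all_goals (ext <;> simp [pow_succ, Quaternion.re_mul, Quaternion.imI_mul, Quaternion.imJ_mul, Quaternion.imK_mul] <;> grind)
  simpa only [map_mul, map_pow, map_one] using key

theorem t2_1_v2 : 1 * v₂ = v₂ * ω ^ 0 * 1 := by
  have key : psi x y h ((1 : N1 F) * J1) = psi x y h (J1 * W1 h2 ^ 0 * (1 : N1 F)) := by
    apply psi_eq
    left
    simp only [Submonoid.coe_mul, SubmonoidClass.coe_pow, Submonoid.coe_one, coe_I1, coe_J1, coe_K1, coe_W1, coe_S1]
    all_goals (ext <;> simp [pow_succ, Quaternion.re_mul, Quaternion.imI_mul, Quaternion.imJ_mul, Quaternion.imK_mul] <;> grind)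
  simpa only [map_mul, map_pow, map_one] using key

theorem t2_1_om : 1 * ω = 1 * ω ^ 1 * 1 := by
  have key : psi x y h ((1 : N1 F) * W1 h2) = psi x y h ((1 : N1 F) * W1 h2 ^ 1 * (1 : N1 F)) := by
    apply psi_eq
    left
    simp only [Submonoid.coe_mul, SubmonoidClass.coe_pow, Submonoid.coe_one, coe_I1, coe_J1, coe_K1, coe_W1, coe_S1]
    all_goals (ext <;> simp [pow_succ, Quaternion.re_mul, Quaternion.imI_mul, Quaternion.imJ_mul, Quaternion.imK_mul] <;> grind)
  simpa only [map_mul, map_pow, map_one] using key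

theorem t2_1_s : 1 * σ = 1 * ω ^ 0 * σ := by
  have key : psi x y h ((1 : N1 F) * S1 h2 φ hφ) = psi x y h ((1 : N1 F) * W1 h2 ^ 0 * S1 h2 φ hφ) := by
    apply psi_eq
    left
    simp only [Submonoid.coe_mul, SubmonoidClass.coe_pow, Submonoid.coe_one, coe_I1, coe_J1, coe_K1, coe_W1, coe_S1]
    all_goals (ext <;> simp [pow_succ, Quaternion.re_mul, Quaternion.imI_mul, Quaternion.imJ_mul, Quaternion.imK_mul] <;> grind)
  simpa only [map_mul, map_pow, map_one] using key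

theorem t2_s_v1 : σ * v₁ = 1 * ω ^ 0 * (σ * v₁) := by
  have key : psi x y h (S1 h2 φ hφ * I1) = psi x y h ((1 : N1 F) * W1 h2 ^ 0 * (S1 h2 φ hφ * I1)) := by
    apply psi_eq
    left
    simp only [Submonoid.coe_mul, SubmonoidClass.coe_pow, Submonoid.coe_one, coe_I1, coe_J1, coe_K1, coe_W1, coe_S1]
    all_goals (ext <;> simp [pow_succ, Quaternion.re_mul, Quaternion.imI_mul, Quaternion.imJ_mul, Quaternion.imK_mul] <;> grind)
  simpa only [map_mul, map_pow, map_one] using key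

theorem t2_s_v2 : σ * v₂ = 1 * ω ^ 0 * (σ * v₂) := by
  have key : psi x y h (S1 h2 φ hφ * J1) = psi x y h ((1 : N1 F) * W1 h2 ^ 0 * (S1 h2 φ hφ * J1)) := by
    apply psi_eq
    left
    simp only [Submonoid.coe_mul, SubmonoidClass.coe_pow, Submonoid.coe_one, coe_I1, coe_J1, coe_K1, coe_W1, coe_S1]
    all_goals (ext <;> simp [pow_succ, Quaternion.re_mul, Quaternion.imI_mul, Quaternion.imJ_mul, Quaternion.imK_mul] <;> grind)
  simpa only [map_mul, map_pow, map_one] using key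

theorem t2_s_om : σ * ω = 1 * ω ^ 2 * σ := by
  have key : psi x y h (S1 h2 φ hφ * W1 h2) = psi x y h ((1 : N1 F) * W1 h2 ^ 2 * S1 h2 φ hφ) := by
    apply psi_eq
    left
    simp only [Submonoid.coe_mul, SubmonoidClass.coe_pow, Submonoid.coe_one, coe_I1, coe_J1, coe_K1, coe_W1, coe_S1]
    all_goals (ext <;> simp [pow_succ, Quaternion.re_mul, Quaternion.imI_mul, Quaternion.imJ_mul, Quaternion.imK_mul] <;> grind)
  simpa only [map_mul, map_pow, map_one] using key

theorem t2_s_s : σ * σ = 1 * ω ^ 0 * 1 := by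
  have key : psi x y h (S1 h2 φ hφ * S1 h2 φ hφ) = psi x y h ((1 : N1 F) * W1 h2 ^ 0 * (1 : N1 F)) := by
    apply psi_eq
    right
    simp only [Submonoid.coe_mul, SubmonoidClass.coe_pow, Submonoid.coe_one, coe_I1, coe_J1, coe_K1, coe_W1, coe_S1]
    all_goals (ext <;> simp [pow_succ, Quaternion.re_mul, Quaternion.imI_mul, Quaternion.imJ_mul, Quaternion.imK_mul] <;> grind)
  simpa only [map_mul, map_pow, map_one] using key

theorem t2_sv1_v1 : σ * v₁ * v₁ = 1 * ω ^ 0 * σ := by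
  have key : psi x y h (S1 h2 φ hφ * I1 * I1) = psi x y h ((1 : N1 F) * W1 h2 ^ 0 * S1 h2 φ hφ) := by
    apply psi_eq
    right
    simp only [Submonoid.coe_mul, SubmonoidClass.coe_pow, Submonoid.coe_one, coe_I1, coe_J1, coe_K1, coe_W1, coe_S1]
    all_goals (ext <;> simp [pow_succ, Quaternion.re_mul, Quaternion.imI_mul, Quaternion.imJ_mul, Quaternion.imK_mul] <;> grind)
  simpa only [map_mul, map_pow, map_one] using key

theorem t2_sv1_v2 : σ * v₁ * v₂ = 1 * ω ^ 0 * (σ * v₃) := by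
  have key : psi x y h (S1 h2 φ hφ * I1 * J1) = psi x y h ((1 : N1 F) * W1 h2 ^ 0 * (S1 h2 φ hφ * K1)) := by
    apply psi_eq
    left
    simp only [Submonoid.coe_mul, SubmonoidClass.coe_pow, Submonoid.coe_one, coe_I1, coe_J1, coe_K1, coe_W1, coe_S1]
    all_goals (ext <;> simp [pow_succ, Quaternion.re_mul, Quaternion.imI_mul, Quaternion.imJ_mul, Quaternion.imK_mul] <;> grind)
  simpa only [map_mul, map_pow, map_one] using key

theorem t2_sv1_om : σ * v₁ * ω = 1 * ω ^ 2 * (σ * v₂) := by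
  have key : psi x y h (S1 h2 φ hφ * I1 * W1 h2) = psi x y h ((1 : N1 F) * W1 h2 ^ 2 * (S1 h2 φ hφ * J1)) := by
    apply psi_eq
    left
    simp only [Submonoid.coe_mul, SubmonoidClass.coe_pow, Submonoid.coe_one, coe_I1, coe_J1, coe_K1, coe_W1, coe_S1]
    all_goals (ext <;> simp [pow_succ, Quaternion.re_mul, Quaternion.imI_mul, Quaternion.imJ_mul, Quaternion.imK_mul] <;> grind)
  simpa only [map_mul, map_pow, map_one] using key

theorem t2_sv1_s : σ * v₁ * σ = v₁ * ω ^ 0 * (σ * v₁) := by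
  have key : psi x y h (S1 h2 φ hφ * I1 * S1 h2 φ hφ) = psi x y h (I1 * W1 h2 ^ 0 * (S1 h2 φ hφ * I1)) := by
    apply psi_eq
    right
    simp only [Submonoid.coe_mul, SubmonoidClass.coe_pow, Submonoid.coe_one, coe_I1, coe_J1, coe_K1, coe_W1, coe_S1]
    all_goals (ext <;> simp [pow_succ, Quaternion.re_mul, Quaternion.imI_mul, Quaternion.imJ_mul, Quaternion.imK_mul] <;> grind)
  simpa only [map_mul, map_pow, map_one] using key

theorem t2_sv2_v1 : σ * v₂ * v₁ = 1 * ω ^ 0 * (σ * v₃) := by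
  have key : psi x y h (S1 h2 φ hφ * J1 * I1) = psi x y h ((1 : N1 F) * W1 h2 ^ 0 * (S1 h2 φ hφ * K1)) := by
    apply psi_eq
    right
    simp only [Submonoid.coe_mul, SubmonoidClass.coe_pow, Submonoid.coe_one, coe_I1, coe_J1, coe_K1, coe_W1, coe_S1]
    all_goals (ext <;> simp [pow_succ, Quaternion.re_mul, Quaternion.imI_mul, Quaternion.imJ_mul, Quaternion.imK_mul] <;> grind)
  simpa only [map_mul, map_pow, map_one] using key

theorem t2_sv2_v2 : σ * v₂ * v₂ = 1 * ω ^ 0 * σ := by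
  have key : psi x y h (S1 h2 φ hφ * J1 * J1) = psi x y h ((1 : N1 F) * W1 h2 ^ 0 * S1 h2 φ hφ) := by
    apply psi_eq
    right
    simp only [Submonoid.coe_mul, SubmonoidClass.coe_pow, Submonoid.coe_one, coe_I1, coe_J1, coe_K1, coe_W1, coe_S1]
    all_goals (ext <;> simp [pow_succ, Quaternion.re_mul, Quaternion.imI_mul, Quaternion.imJ_mul, Quaternion.imK_mul] <;> grind)
  simpa only [map_mul, map_pow, map_one] using key

theorem t2_sv2_om : σ * v₂ * ω = 1 * ω ^ 2 * (σ * v₃) := by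
  have key : psi x y h (S1 h2 φ hφ * J1 * W1 h2) = psi x y h ((1 : N1 F) * W1 h2 ^ 2 * (S1 h2 φ hφ * K1)) := by
    apply psi_eq
    left
    simp only [Submonoid.coe_mul, SubmonoidClass.coe_pow, Submonoid.coe_one, coe_I1, coe_J1, coe_K1, coe_W1, coe_S1]
    all_goals (ext <;> simp [pow_succ, Quaternion.re_mul, Quaternion.imI_mul, Quaternion.imJ_mul, Quaternion.imK_mul] <;> grind)
  simpa only [map_mul, map_pow, map_one] using key

theorem t2_sv2_s : σ * v₂ * σ = v₃ * ω ^ 2 * (σ * v₃) := by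
  have key : psi x y h (S1 h2 φ hφ * J1 * S1 h2 φ hφ) = psi x y h (K1 * W1 h2 ^ 2 * (S1 h2 φ hφ * K1)) := by
    apply psi_eq
    right
    simp only [Submonoid.coe_mul, SubmonoidClass.coe_pow, Submonoid.coe_one, coe_I1, coe_J1, coe_K1, coe_W1, coe_S1]
    all_goals (ext <;> simp [pow_succ, Quaternion.re_mul, Quaternion.imI_mul, Quaternion.imJ_mul, Quaternion.imK_mul] <;> grind)
  simpa only [map_mul, map_pow, map_one] using key

theorem t2_sv3_v1 : σ * v₃ * v₁ = 1 * ω ^ 0 * (σ * v₂) := by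
  have key : psi x y h (S1 h2 φ hφ * K1 * I1) = psi x y h ((1 : N1 F) * W1 h2 ^ 0 * (S1 h2 φ hφ * J1)) := by
    apply psi_eq
    left
    simp only [Submonoid.coe_mul, SubmonoidClass.coe_pow, Submonoid.coe_one, coe_I1, coe_J1, coe_K1, coe_W1, coe_S1]
    all_goals (ext <;> simp [pow_succ, Quaternion.re_mul, Quaternion.imI_mul, Quaternion.imJ_mul, Quaternion.imK_mul] <;> grind)
  simpa only [map_mul, map_pow, map_one] using key

theorem t2_sv3_v2 : σ * v₃ * v₂ = 1 * ω ^ 0 * (σ * v₁) := by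
  have key : psi x y h (S1 h2 φ hφ * K1 * J1) = psi x y h ((1 : N1 F) * W1 h2 ^ 0 * (S1 h2 φ hφ * I1)) := by
    apply psi_eq
    right
    simp only [Submonoid.coe_mul, SubmonoidClass.coe_pow, Submonoid.coe_one, coe_I1, coe_J1, coe_K1, coe_W1, coe_S1]
    all_goals (ext <;> simp [pow_succ, Quaternion.re_mul, Quaternion.imI_mul, Quaternion.imJ_mul, Quaternion.imK_mul] <;> grind)
  simpa only [map_mul, map_pow, map_one] using key

theorem t2_sv3_om : σ * v₃ * ω = 1 * ω ^ 2 * (σ * v₁) := by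
  have key : psi x y h (S1 h2 φ hφ * K1 * W1 h2) = psi x y h ((1 : N1 F) * W1 h2 ^ 2 * (S1 h2 φ hφ * I1)) := by
    apply psi_eq
    left
    simp only [Submonoid.coe_mul, SubmonoidClass.coe_pow, Submonoid.coe_one, coe_I1, coe_J1, coe_K1, coe_W1, coe_S1]
    all_goals (ext <;> simp [pow_succ, Quaternion.re_mul, Quaternion.imI_mul, Quaternion.imJ_mul, Quaternion.imK_mul] <;> grind)
  simpa only [map_mul, map_pow, map_one] using key

theorem t2_sv3_s : σ * v₃ * σ = v₂ * ω ^ 1 * (σ * v₂) := by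
  have key : psi x y h (S1 h2 φ hφ * K1 * S1 h2 φ hφ) = psi x y h (J1 * W1 h2 ^ 1 * (S1 h2 φ hφ * J1)) := by
    apply psi_eq
    right
    simp only [Submonoid.coe_mul, SubmonoidClass.coe_pow, Submonoid.coe_one, coe_I1, coe_J1, coe_K1, coe_W1, coe_S1]
    all_goals (ext <;> simp [pow_succ, Quaternion.re_mul, Quaternion.imI_mul, Quaternion.imJ_mul, Quaternion.imK_mul] <;> grind)
  simpa only [map_mul, map_pow, map_one] using key

theorem v1_ne_one : v₁ ≠ 1 := by
  intro h1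
  rw [psi_eq_one_iff h2] at h1
  rcases h1 with h1 | h1
  · have := congrArg QuaternionAlgebra.imI h1
    simp [coe_I1] at this
  · have := congrArg QuaternionAlgebra.imI h1
    simp [coe_I1] at this

theorem v2_ne_one : v₂ ≠ 1 := by
  intro h1
  rw [psi_eq_one_iff h2] at h1
  rcases h1 with h1 | h1
  · have := congrArg QuaternionAlgebra.imJ h1
    simp [coe_J1] at this
  · have := congrArg QuaternionAlgebra.imJ h1
    simp [coe_J1] at this

theorem v3_ne_one : v₃ ≠ 1 := by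
  intro h1
  rw [psi_eq_one_iff h2] at h1
  rcases h1 with h1 | h1
  · have := congrArg QuaternionAlgebra.imK h1
    simp [coe_K1] at this
  · have := congrArg QuaternionAlgebra.imK h1
    simp [coe_K1] at this

theorem om_ne_one : ω ≠ 1 := by
  intro h1
  rw [psi_eq_one_iff h2] at h1
  rcases h1 with h1 | h1
  · have := congrArg QuaternionAlgebra.imI h1
    simp [coe_W1] at this
    exact h2 this
  · have := congrArg QuaternionAlgebra.imI h1
    simp [coe_W1] at this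
    exact h2 this

theorem sv2_ne_one : σ * v₂ ≠ 1 := by
  intro h1
  rw [← map_mul, psi_eq_one_iff h2] at h1
  rcases h1 with h1 | h1
  · have := congrArg QuaternionAlgebra.imK h1
    simp [coe_S1, coe_J1, Quaternion.imK_mul] at this
    exact h2 this
  · have := congrArg QuaternionAlgebra.imK h1
    simp [coe_S1, coe_J1, Quaternion.imK_mul] at this
    exact h2 this

theorem v1_ne_v2 : v₁ ≠ v₂ := by
  intro h1
  apply v3_ne_one h2 x y h φ hφ
  rw [← r_v12 h2 x y h φ hφ, h1, r_v2sq h2 x y h φ hφ]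

/-- the main construction -/
theorem main [Fintype F] :
    ∃ H : Subgroup (ProjectiveSpecialLinearGroup (Fin 2) F),
      Nonempty (H ≃* alternatingGroup (Fin 5)) := by
  classical
  set V := Subgroup.closure ({v₁, v₂} : Set (ProjectiveSpecialLinearGroup (Fin 2) F)) with hVdef
  set T := Subgroup.closure ({v₁, v₂, ω} : Set (ProjectiveSpecialLinearGroup (Fin 2) F))
    with hTdef
  set H := Subgroup.closure ({v₁, v₂, ω, σ} : Set (ProjectiveSpecialLinearGroup (Fin 2) F))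
    with hHdef
  have hV : IsKleinFour V :=
    KleinPair.isKleinFour_closure_pair v₁ v₂ (v1_ne_one h2 x y h φ hφ) (v2_ne_one h2 x y h φ hφ)
      (v1_ne_v2 h2 x y h φ hφ) (r_v1sq h2 x y h φ hφ) (r_v2sq h2 x y h φ hφ)
      (r_comm h2 x y h φ hφ)
  have hv1V : v₁ ∈ V := Subgroup.subset_closure (by simp)
  have hv2V : v₂ ∈ V := Subgroup.subset_closure (by simp)
  have hv3V : v₃ ∈ V := by
    rw [← r_v12 h2 x y h φ hφ]
    exact V.mul_mem hv1V hv2V
  have hVT : V ≤ T := Subgroup.closure_mono (by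
    intro z hz
    simp only [Set.mem_insert_iff, Set.mem_singleton_iff] at hz ⊢
    tauto)
  have hTH : T ≤ H := Subgroup.closure_mono (by
    intro z hz
    simp only [Set.mem_insert_iff, Set.mem_singleton_iff] at hz ⊢
    tauto)
  have hv1T : v₁ ∈ T := hVT hv1V
  have hv2T : v₂ ∈ T := hVT hv2V
  have hv3T : v₃ ∈ T := hVT hv3V
  have hωT : ω ∈ T := Subgroup.subset_closure (by simp)
  have hωH : ω ∈ H := hTH hωT
  have hσH : σ ∈ H := Subgroup.subset_closure (by simp)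
  have hv2H : v₂ ∈ H := hTH hv2T
  -- `|T| ≤ 12`
  have hT12 : Nat.card T ≤ 12 := by
    have hc := CosetEnum.card_closure_le V
      ({1, ω, ω * ω} : Finset (ProjectiveSpecialLinearGroup (Fin 2) F))
      ({v₁, v₂, ω} : Set (ProjectiveSpecialLinearGroup (Fin 2) F))
      (Set.mem_mul.mpr ⟨1, V.one_mem, 1, by simp, by simp⟩) (by
      intro g hg z hz
      simp only [Finset.mem_insert, Finset.mem_singleton] at hg
      simp only [Set.mem_insert_iff, Set.mem_singleton_iff] at hz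
      rcases hg with rfl | rfl | rfl <;> rcases hz with rfl | rfl | rfl
      · exact Set.mem_mul.mpr ⟨v₁, hv1V, 1, by simp, (t1_1_v1 h2 x y h φ hφ).symm⟩
      · exact Set.mem_mul.mpr ⟨v₂, hv2V, 1, by simp, (t1_1_v2 h2 x y h φ hφ).symm⟩
      · exact Set.mem_mul.mpr ⟨1, V.one_mem, ω, by simp, (t1_1_om h2 x y h φ hφ).symm⟩
      · exact Set.mem_mul.mpr ⟨v₃, hv3V, ω, by simp, (t1_om_v1 h2 x y h φ hφ).symm⟩
      · exact Set.mem_mul.mpr ⟨v₁, hv1V, ω, by simp, (t1_om_v2 h2 x y h φ hφ).symm⟩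
      · exact Set.mem_mul.mpr ⟨1, V.one_mem, ω * ω, by simp, (t1_om_om h2 x y h φ hφ).symm⟩
      · exact Set.mem_mul.mpr ⟨v₂, hv2V, ω * ω, by simp, (t1_omom_v1 h2 x y h φ hφ).symm⟩
      · exact Set.mem_mul.mpr ⟨v₃, hv3V, ω * ω, by simp, (t1_omom_v2 h2 x y h φ hφ).symm⟩
      · exact Set.mem_mul.mpr ⟨1, V.one_mem, 1, by simp, (t1_omom_om h2 x y h φ hφ).symm⟩
      )
    calc Nat.card T ≤ Nat.card V * _ := hc
      _ ≤ 4 * 3 := by
        rw [hV.card_four]
        exact Nat.mul_le_mul_left _ Finset.card_le_three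
  -- `|H| ≤ 60`
  have hH60 : Nat.card H ≤ 60 := by
    have hc := CosetEnum.card_closure_le T
      ({1, σ, σ * v₁, σ * v₂, σ * v₃} : Finset (ProjectiveSpecialLinearGroup (Fin 2) F))
      ({v₁, v₂, ω, σ} : Set (ProjectiveSpecialLinearGroup (Fin 2) F))
      (Set.mem_mul.mpr ⟨1, T.one_mem, 1, by simp, by simp⟩) (by
      intro g hg z hz
      simp only [Finset.mem_insert, Finset.mem_singleton] at hg
      simp only [Set.mem_insert_iff, Set.mem_singleton_iff] at hz
      rcases hg with rfl | rfl | rfl | rfl | rfl <;> rcases hz with rfl | rfl | rfl | rfl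
      · exact Set.mem_mul.mpr ⟨v₁ * ω ^ 0, T.mul_mem hv1T (T.pow_mem hωT 0), 1, by simp, (t2_1_v1 h2 x y h φ hφ).symm⟩
      · exact Set.mem_mul.mpr ⟨v₂ * ω ^ 0, T.mul_mem hv2T (T.pow_mem hωT 0), 1, by simp, (t2_1_v2 h2 x y h φ hφ).symm⟩
      · exact Set.mem_mul.mpr ⟨1 * ω ^ 1, T.mul_mem T.one_mem (T.pow_mem hωT 1), 1, by simp, (t2_1_om h2 x y h φ hφ).symm⟩
      · exact Set.mem_mul.mpr ⟨1 * ω ^ 0, T.mul_mem T.one_mem (T.pow_mem hωT 0), σ, by simp, (t2_1_s h2 x y h φ hφ).symm⟩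
      · exact Set.mem_mul.mpr ⟨1 * ω ^ 0, T.mul_mem T.one_mem (T.pow_mem hωT 0), σ * v₁, by simp, (t2_s_v1 h2 x y h φ hφ).symm⟩
      · exact Set.mem_mul.mpr ⟨1 * ω ^ 0, T.mul_mem T.one_mem (T.pow_mem hωT 0), σ * v₂, by simp, (t2_s_v2 h2 x y h φ hφ).symm⟩
      · exact Set.mem_mul.mpr ⟨1 * ω ^ 2, T.mul_mem T.one_mem (T.pow_mem hωT 2), σ, by simp, (t2_s_om h2 x y h φ hφ).symm⟩
      · exact Set.mem_mul.mpr ⟨1 * ω ^ 0, T.mul_mem T.one_mem (T.pow_mem hωT 0), 1, by simp, (t2_s_s h2 x y h φ hφ).symm⟩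
      · exact Set.mem_mul.mpr ⟨1 * ω ^ 0, T.mul_mem T.one_mem (T.pow_mem hωT 0), σ, by simp, (t2_sv1_v1 h2 x y h φ hφ).symm⟩
      · exact Set.mem_mul.mpr ⟨1 * ω ^ 0, T.mul_mem T.one_mem (T.pow_mem hωT 0), σ * v₃, by simp, (t2_sv1_v2 h2 x y h φ hφ).symm⟩
      · exact Set.mem_mul.mpr ⟨1 * ω ^ 2, T.mul_mem T.one_mem (T.pow_mem hωT 2), σ * v₂, by simp, (t2_sv1_om h2 x y h φ hφ).symm⟩
      · exact Set.mem_mul.mpr ⟨v₁ * ω ^ 0, T.mul_mem hv1T (T.pow_mem hωT 0), σ * v₁, by simp, (t2_sv1_s h2 x y h φ hφ).symm⟩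
      · exact Set.mem_mul.mpr ⟨1 * ω ^ 0, T.mul_mem T.one_mem (T.pow_mem hωT 0), σ * v₃, by simp, (t2_sv2_v1 h2 x y h φ hφ).symm⟩
      · exact Set.mem_mul.mpr ⟨1 * ω ^ 0, T.mul_mem T.one_mem (T.pow_mem hωT 0), σ, by simp, (t2_sv2_v2 h2 x y h φ hφ).symm⟩
      · exact Set.mem_mul.mpr ⟨1 * ω ^ 2, T.mul_mem T.one_mem (T.pow_mem hωT 2), σ * v₃, by simp, (t2_sv2_om h2 x y h φ hφ).symm⟩
      · exact Set.mem_mul.mpr ⟨v₃ * ω ^ 2, T.mul_mem hv3T (T.pow_mem hωT 2), σ * v₃, by simp, (t2_sv2_s h2 x y h φ hφ).symm⟩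
      · exact Set.mem_mul.mpr ⟨1 * ω ^ 0, T.mul_mem T.one_mem (T.pow_mem hωT 0), σ * v₂, by simp, (t2_sv3_v1 h2 x y h φ hφ).symm⟩
      · exact Set.mem_mul.mpr ⟨1 * ω ^ 0, T.mul_mem T.one_mem (T.pow_mem hωT 0), σ * v₁, by simp, (t2_sv3_v2 h2 x y h φ hφ).symm⟩
      · exact Set.mem_mul.mpr ⟨1 * ω ^ 2, T.mul_mem T.one_mem (T.pow_mem hωT 2), σ * v₁, by simp, (t2_sv3_om h2 x y h φ hφ).symm⟩
      · exact Set.mem_mul.mpr ⟨v₂ * ω ^ 1, T.mul_mem hv2T (T.pow_mem hωT 1), σ * v₂, by simp, (t2_sv3_s h2 x y h φ hφ).symm⟩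
      )
    calc Nat.card H ≤ Nat.card T * _ := hc
      _ ≤ 12 * 5 := Nat.mul_le_mul hT12 Finset.card_le_five
  -- divisibility
  have hVH : V ≤ H := hVT.trans hTH
  have h4 : 4 ∣ Nat.card H := by
    rw [← hV.card_four]
    exact Subgroup.card_dvd_of_le hVH
  have hordω : orderOf ω = 3 := by
    haveI : Fact (Nat.Prime 3) := ⟨by norm_num⟩
    apply orderOf_eq_prime
    · rw [pow_succ, pow_two]
      exact r_om3 h2 x y h φ hφ
    · exact om_ne_one h2 x y h φ hφ
  have hord5 : orderOf (σ * v₂) = 5 := by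
    haveI : Fact (Nat.Prime 5) := ⟨by norm_num⟩
    apply orderOf_eq_prime
    · exact r_sv2_5 h2 x y h φ hφ
    · exact sv2_ne_one h2 x y h φ hφ
  have h3 : 3 ∣ Nat.card H := by
    rw [← hordω]
    exact Subgroup.orderOf_dvd_natCard H hωH
  have h5 : 5 ∣ Nat.card H := by
    rw [← hord5]
    exact Subgroup.orderOf_dvd_natCard H (H.mul_mem hσH hv2H)
  have hHpos : 0 < Nat.card H := Nat.card_pos
  have hH : Nat.card H = 60 := by omega
  -- the normalizer of `V`
  have hC := PSL2Klein.centralizer_eq h2 V hV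
  have hNdvd := KleinNorm.card_normalizer_dvd V hV hC
  have hVelts := KleinPair.closure_pair_subset v₁ v₂ (r_v1sq h2 x y h φ hφ)
    (r_v2sq h2 x y h φ hφ) (r_comm h2 x y h φ hφ)
  have hconj : ∀ v ∈ V, ω * v * ω⁻¹ ∈ V := by
    intro v hv
    rcases hVelts v hv with rfl | rfl | rfl | rfl
    · simp
    · have := t1_om_v1 h2 x y h φ hφ
      rw [this]
      simpa using hv3V
    · have := t1_om_v2 h2 x y h φ hφ
      rw [this]
      simpa using hv1V
    · rw [r_v12 h2 x y h φ hφ, r_omv3 h2 x y h φ hφ]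
      simpa using hv2V
  have hconj' : ∀ v ∈ V, ω⁻¹ * v * ω ∈ V := by
    intro v hv
    have hinv : ω⁻¹ = ω * ω := by
      apply inv_eq_of_mul_eq_one_right
      rw [← mul_assoc]
      exact r_om3 h2 x y h φ hφ
    rw [hinv]
    have h1 := hconj _ (hconj v hv)
    have h2' : ω * (ω * v * ω⁻¹) * ω⁻¹ = ω * ω * v * (ω * ω)⁻¹ := by group
    rw [h2'] at h1
    have h3' : (ω * ω)⁻¹ = ω := by
      apply inv_eq_of_mul_eq_one_right
      exact r_om3 h2 x y h φ hφ
    rwa [h3'] at h1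
  have hωN : ω ∈ Subgroup.normalizer (V : Set (ProjectiveSpecialLinearGroup (Fin 2) F)) := by
    rw [Subgroup.mem_normalizer_iff]
    intro v
    constructor
    · exact hconj v
    · intro hv
      have := hconj' _ hv
      have e : ω⁻¹ * (ω * v * ω⁻¹) * ω = v := by group
      rwa [e] at this
  set T' := H ⊓ Subgroup.normalizer (V : Set (ProjectiveSpecialLinearGroup (Fin 2) F)) with hT'def
  have hVT' : V ≤ T' := le_inf hVH Subgroup.le_normalizer
  have hT' : Nat.card T' = 12 := by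
    have d1 : Nat.card T' ∣ 60 := hH ▸ Subgroup.card_dvd_of_le inf_le_left
    have d2 : Nat.card T' ∣ 24 := (Subgroup.card_dvd_of_le inf_le_right).trans hNdvd
    have d3 : Nat.card T' ∣ 12 := Nat.dvd_gcd d1 d2
    have d4 : 4 ∣ Nat.card T' := by
      rw [← hV.card_four]
      exact Subgroup.card_dvd_of_le hVT'
    have d5 : 3 ∣ Nat.card T' := by
      rw [← hordω]
      exact Subgroup.orderOf_dvd_natCard T' ⟨hωH, hωN⟩
    have hle : Nat.card T' ≤ 12 := Nat.le_of_dvd (by norm_num) d3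
    have hpos : 0 < Nat.card T' := Nat.card_pos
    omega
  refine ⟨H, A5Recog.nonempty_mulEquiv_subgroup H T' V hH hT' hV hVT' inf_le_left inf_le_right hC ?_⟩
  intro hle
  have := Subgroup.card_le_of_le hle
  have h24 : Nat.card (Subgroup.normalizer (V : Set (ProjectiveSpecialLinearGroup (Fin 2) F))) ≤ 24 :=
    Nat.le_of_dvd (by norm_num) hNdvd
  omega

end rels

/-- `PSL₂(F)` contains `A₅` when `F` is finite of odd characteristic and contains a root of
`X² - X - 1` -/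
theorem exists_A5 [Fintype F] (h2 : (2 : F) ≠ 0) (φ : F) (hφ : φ ^ 2 = φ + 1) :
    ∃ H : Subgroup (ProjectiveSpecialLinearGroup (Fin 2) F),
      Nonempty (H ≃* alternatingGroup (Fin 5)) := by
  obtain ⟨x, y, h⟩ := Cfsg.Agent.Helper41.exists_sq_add_sq_eq_neg_one h2
  exact main h2 x y h φ hφ

end Cfsg.Agent.Helper98.Icos
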