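import Mathlib
import Cfsg.Agent.Lib.Helper83.Ord7920Defs

/-!
# Order 7920 (S2490), piece (DZ): the isolated case via Glauberman's `Z*`-theorem (helper98, for
helper83)
-/

set_option autoImplicit false
set_option linter.unusedVariables false
set_option linter.unusedSectionVars false
set_option linter.style.haveILetI false
set_option linter.unnecessarySimpa false

open Cfsg.Agent.Helper83.Ord7920

namespace Cfsg.Agent.Helper98.Ord7920

universe u

section aux

variable {G : Type*} [Group G]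

lemma card_mul_relIndex_of_le [Finite G] {H K : Subgroup G} (h : H ≤ K) :
    Nat.card H * H.relIndex K = Nat.card K := by
  have h1 := Subgroup.card_mul_index (H.subgroupOf K)
  rw [← h1, Subgroup.relIndex]
  congr 1
  exact (Nat.card_congr (Subgroup.subgroupOfEquivOfLe h).toEquiv).symm

/-- second isomorphism theorem, counting form -/
lemma card_sup_mul_card_inf [Finite G] (H O : Subgroup G) [O.Normal] :
    Nat.card (H ⊔ O : Subgroup G) * Nat.card (O ⊓ H : Subgroup G) = Nat.card O * Nat.card H := by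
  have h1 := card_mul_relIndex_of_le (le_sup_right : O ≤ H ⊔ O)
  have h2 := card_mul_relIndex_of_le (inf_le_right : O ⊓ H ≤ H)
  rw [Subgroup.relIndex_sup_right] at h1
  rw [Subgroup.inf_relIndex_right] at h2
  rw [← h1, ← h2]; ring

/-- the dihedral trick: two involutions whose product has odd order are conjugate by a power of
the product -/
lemma exists_conj_of_odd_order {z t u : G} (hz : z * z = 1) (ht : t * t = 1) (hu : u = z * t)
    (hodd : Odd (orderOf u)) : ∃ k : ℕ, (u ^ k)⁻¹ * z * (u ^ k) = t := by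
  have hzinv : z⁻¹ = z := inv_eq_of_mul_eq_one_right hz
  have htinv : t⁻¹ = t := inv_eq_of_mul_eq_one_right ht
  have hconj : z * u * z⁻¹ = u⁻¹ := by
    rw [hu, mul_inv_rev, hzinv, htinv]
    calc z * (z * t) * z = (z * z) * t * z := by group
      _ = t * z := by rw [hz, one_mul]
  obtain ⟨k, hk⟩ := hodd
  refine ⟨k + 1, ?_⟩
  set v := u ^ (k + 1) with hv
  have hvv : v * v = u := by
    rw [hv, ← pow_add]
    have e : k + 1 + (k + 1) = orderOf u + 1 := by omega
    rw [e, pow_succ, pow_orderOf_eq_one, one_mul]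
  have hvconj : z * v * z⁻¹ = v⁻¹ := by
    rw [hv, ← conj_pow, hconj, inv_pow]
  have h1 : z⁻¹ * v⁻¹ * z = v := by
    have h2 : z⁻¹ * v⁻¹ * z = z * v⁻¹ * z⁻¹ := by rw [hzinv]
    have h3 : z * v⁻¹ * z⁻¹ = (z * v * z⁻¹)⁻¹ := by group
    rw [h2, h3, hvconj, inv_inv]
  calc v⁻¹ * z * v = z * (z⁻¹ * v⁻¹ * z) * v := by group
    _ = z * v * v := by rw [h1]
    _ = z * (v * v) := by group
    _ = z * u := by rw [hvv]
    _ = (z * z) * t := by rw [hu]; group
    _ = t := by rw [hz, one_mul]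

end aux

/-- (DZ) the isolated case, via Glauberman's Z*-theorem (passed as a hypothesis). -/
theorem not_bad_of_isolated {G : Type u} [Group G] [Finite G] {a : ℕ} (ha : 1 ≤ a)
    (hord : Nat.card G = 2 ^ a * 495)
    (P : Subgroup G) (hP : Nat.card P = 11) (hidx : (Subgroup.normalizer (P : Set G)).index = 45)
    (z : G) (hz : orderOf z = 2) (hzP : z ∈ Subgroup.normalizer (P : Set G))
    (hzN : ∀ n ∈ Subgroup.normalizer (P : Set G), n * z = z * n)
    (hfix : Nat.card (MulAction.fixedBy (G ⧸ (Subgroup.normalizer (P : Set G))) z) = 1)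
    (zstar : ∀ (S : Sylow 2 G) (u : G), orderOf u = 2 → u ∈ S →
        (∀ g : G, g * u * g⁻¹ ∈ S → g * u * g⁻¹ = u) →
        ∃ O : Subgroup G, O.Normal ∧ Odd (Nat.card O) ∧ ∀ g : G, u * g * u⁻¹ * g⁻¹ ∈ O)
    (h495 : ∀ (H : Type u) [Group H] [Finite H], Nat.card H = 495 → ¬ Bad H) : False := by
  classical
  set N := Subgroup.normalizer (P : Set G) with hN
  have hz2 : z * z = 1 := by rw [← pow_two, ← hz, pow_orderOf_eq_one]
  have hzinv : z⁻¹ = z := inv_eq_of_mul_eq_one_right hz2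
  have hcardN : Nat.card N = 2 ^ a * 11 := by
    have h1 := Subgroup.card_mul_index N
    rw [hidx, hord] at h1
    have h2 : Nat.card N * 45 = (2 ^ a * 11) * 45 := by rw [h1]; ring
    exact Nat.eq_of_mul_eq_mul_right (by norm_num) h2
  -- the only coset fixed by `z` is `N`
  have hkey : ∀ h : G, z • (h : G ⧸ N) = (h : G ⧸ N) → h ∈ N := by
    intro h hh
    have h1 : ((1 : G) : G ⧸ N) ∈ MulAction.fixedBy (G ⧸ N) z := by
      rw [MulAction.mem_fixedBy, MulAction.Quotient.smul_coe, smul_eq_mul, mul_one,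
        QuotientGroup.eq]
      simpa using N.inv_mem hzP
    have h2 : (h : G ⧸ N) ∈ MulAction.fixedBy (G ⧸ N) z := hh
    obtain ⟨hs, -⟩ := Nat.card_eq_one_iff_unique.mp hfix
    have h3 : (⟨(h : G ⧸ N), h2⟩ : MulAction.fixedBy (G ⧸ N) z) = ⟨((1 : G) : G ⧸ N), h1⟩ :=
      Subsingleton.elim _ _
    have h4 : (h : G ⧸ N) = ((1 : G) : G ⧸ N) := congrArg Subtype.val h3
    rw [QuotientGroup.eq] at h4
    simpa using N.inv_mem h4
  have hCz : ∀ c : G, c * z = z * c → c ∈ N := by
    intro c hc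
    apply hkey
    rw [MulAction.Quotient.smul_coe, smul_eq_mul, QuotientGroup.eq]
    have e : (z * c)⁻¹ * c = z⁻¹ := by rw [← hc]; group
    rw [e]; exact N.inv_mem hzP
  -- a Sylow 2-subgroup of `G` inside `N` containing `z`
  haveI : Fact (Nat.Prime 2) := ⟨Nat.prime_two⟩
  have hzp : IsPGroup 2 (Subgroup.zpowers (⟨z, hzP⟩ : N)) := by
    apply IsPGroup.of_card (n := 1)
    rw [Nat.card_zpowers, pow_one, Subgroup.orderOf_mk, hz]
  obtain ⟨Q, hQ⟩ := hzp.exists_le_sylow
  set R : Subgroup G := (Q : Subgroup N).map N.subtype with hR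
  have hR2 : IsPGroup 2 R := Q.isPGroup'.map _
  have hRidx : ¬ 2 ∣ R.index := by
    rw [hR, Subgroup.index_map_subtype, hidx]
    intro h
    rcases (Nat.Prime.dvd_mul Nat.prime_two).mp h with h | h
    · exact Q.not_dvd_index h
    · omega
  have hzR : z ∈ R := ⟨⟨z, hzP⟩, hQ (Subgroup.mem_zpowers _), rfl⟩
  have hRN : R ≤ N := Subgroup.map_subtype_le _
  have hiso : ∀ g : G, g * z * g⁻¹ ∈ hR2.toSylow hRidx → g * z * g⁻¹ = z := by
    intro g hg
    rw [IsPGroup.mem_toSylow] at hg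
    have hgN : g * z * g⁻¹ ∈ N := hRN hg
    have h1 : g⁻¹ ∈ N := by
      apply hkey
      rw [MulAction.Quotient.smul_coe, smul_eq_mul, QuotientGroup.eq]
      have e : (z * g⁻¹)⁻¹ * g⁻¹ = (g * z * g⁻¹)⁻¹ := by group
      rw [e]; exact N.inv_mem hgN
    have h2 : g ∈ N := by simpa using N.inv_mem h1
    have h3 := hzN g h2
    rw [h3]; group
  obtain ⟨O, hOn, hOodd, hO⟩ := zstar (hR2.toSylow hRidx) z hz
    (by rw [IsPGroup.mem_toSylow]; exact hzR) hiso
  haveI := hOn
  -- `G = O N`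
  have hON : ∀ g : G, ∃ o ∈ O, ∃ n ∈ N, g = o * n := by
    intro g
    have ht : (g * z * g⁻¹) * (g * z * g⁻¹) = 1 := by
      calc (g * z * g⁻¹) * (g * z * g⁻¹) = g * (z * z) * g⁻¹ := by group
        _ = 1 := by rw [hz2]; group
    have huO : z * (g * z * g⁻¹) ∈ O := by
      have h1 := hO g
      rw [hzinv] at h1
      have e : z * (g * z * g⁻¹) = z * g * z * g⁻¹ := by group
      rw [e]; exact h1
    have hodd : Odd (orderOf (z * (g * z * g⁻¹))) :=
      Odd.of_dvd_nat hOodd (O.orderOf_dvd_natCard huO)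
    obtain ⟨k, hk⟩ := exists_conj_of_odd_order hz2 ht rfl hodd
    set v := (z * (g * z * g⁻¹)) ^ k with hv
    have hvO : v ∈ O := O.pow_mem huO k
    have hc : (g⁻¹ * v⁻¹) * z = z * (g⁻¹ * v⁻¹) := by
      have h1 : v⁻¹ * z = (g * z * g⁻¹) * v⁻¹ := by
        rw [← hk]; group
      calc (g⁻¹ * v⁻¹) * z = g⁻¹ * (v⁻¹ * z) := by group
        _ = g⁻¹ * ((g * z * g⁻¹) * v⁻¹) := by rw [h1]
        _ = z * (g⁻¹ * v⁻¹) := by group
    refine ⟨v⁻¹, O.inv_mem hvO, (g⁻¹ * v⁻¹)⁻¹, N.inv_mem (hCz _ hc), ?_⟩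
    group
  have hsup : N ⊔ O = ⊤ := by
    rw [eq_top_iff]
    intro g _
    obtain ⟨o, ho, n, hn, rfl⟩ := hON g
    exact mul_mem (Subgroup.mem_sup_right ho) (Subgroup.mem_sup_left hn)
  set M := P ⊔ O with hM
  have hPM : P ≤ M := le_sup_left
  have hOM : O ≤ M := le_sup_right
  have hPN : P ≤ N := Subgroup.le_normalizer
  have h1 := card_sup_mul_card_inf P O
  have h2 := card_sup_mul_card_inf N O
  rw [hsup, Subgroup.card_top] at h2
  have hModd : Odd (Nat.card M) := by
    have h3 : Nat.card M ∣ Nat.card O * Nat.card P := Dvd.intro _ h1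
    rw [hP] at h3
    exact Odd.of_dvd_nat (hOodd.mul (by decide)) h3
  have hD : N ⊓ M = P := by
    symm
    apply Subgroup.eq_of_le_of_card_ge (le_inf hPN hPM)
    have hd1 : Nat.card (N ⊓ M : Subgroup G) ∣ 2 ^ a * 11 :=
      hcardN ▸ Subgroup.card_dvd_of_le inf_le_left
    have hd2 : Odd (Nat.card (N ⊓ M : Subgroup G)) :=
      Odd.of_dvd_nat hModd (Subgroup.card_dvd_of_le inf_le_right)
    have hd3 : Nat.card (N ⊓ M : Subgroup G) ∣ 11 :=
      Nat.Coprime.dvd_of_dvd_mul_left (Nat.Coprime.pow_right a hd2.coprime_two_right) hd1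
    rw [hP]; exact Nat.le_of_dvd (by norm_num) hd3
  have hI : O ⊓ N = O ⊓ P := by
    apply le_antisymm
    · apply le_inf inf_le_left
      have h3 : O ⊓ N ≤ N ⊓ M := le_inf inf_le_right (inf_le_left.trans hOM)
      rw [hD] at h3; exact h3
    · exact inf_le_inf_left O hPN
  rw [hI] at h2
  have hI0 : 0 < Nat.card (O ⊓ P : Subgroup G) := Nat.card_pos
  have hcardM : Nat.card M = 495 := by
    rw [hP] at h1
    rw [hord, hcardN] at h2
    have h3 : (2 ^ a * 11) * (45 * Nat.card (O ⊓ P : Subgroup G)) = (2 ^ a * 11) * Nat.card O := by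
      calc (2 ^ a * 11) * (45 * Nat.card (O ⊓ P : Subgroup G))
          = 2 ^ a * 495 * Nat.card (O ⊓ P : Subgroup G) := by ring
        _ = Nat.card O * (2 ^ a * 11) := h2
        _ = (2 ^ a * 11) * Nat.card O := by ring
    have h4 : 45 * Nat.card (O ⊓ P : Subgroup G) = Nat.card O :=
      Nat.eq_of_mul_eq_mul_left (by positivity) h3
    have h5 : Nat.card M * Nat.card (O ⊓ P : Subgroup G) = 495 * Nat.card (O ⊓ P : Subgroup G) := by
      rw [h1, ← h4]; ring
    exact Nat.eq_of_mul_eq_mul_right hI0 h5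
  apply h495 (↥M) hcardM
  refine ⟨P.subgroupOf M, ?_, ?_⟩
  · rw [Nat.card_congr (Subgroup.subgroupOfEquivOfLe hPM).toEquiv, hP]
  · rw [← Subgroup.subgroupOf_normalizer_eq hPM]
    show N.relIndex M = 45
    have h5 := card_mul_relIndex_of_le (inf_le_right : N ⊓ M ≤ M)
    rw [Subgroup.inf_relIndex_right, hD, hP, hcardM] at h5
    omega

end Cfsg.Agent.Helper98.Ord7920
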