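import Mathlib
import Cfsg.Agent.Lib.Helper98.RT0

/-!
# RT project (S2278): pieces (J3), (J4), the parameter identities.
-/

set_option autoImplicit false

namespace Cfsg.Agent.Helper98.RT

variable {F : Type*} [Field F]

/-- (J3) -/
theorem param_T (ζ c : F) : 3 - c = rhoP ζ c + ζ * (3 - wP ζ c) := by
  unfold rhoP wP; ring

/-- (J4) -/
theorem param_E (ζ c : F) (_hζ : ζ ≠ 0) (hφ : 1 + ζ + ζ ^ 2 ≠ 0) :
    ((3 - c) * c - ζ ^ 2 * nP ζ c - 3) * ζ = (3 - wP ζ c) * wP ζ c - nP ζ c - 3 := by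
  unfold nP wP; field_simp; ring

end Cfsg.Agent.Helper98.RT
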