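import Mathlib
import Cfsg.Agent.Lib.Helper98.RT0
import Cfsg.Agent.Lib.Helper25.RTJ1
import Cfsg.Agent.Lib.Helper34.RTG1
import Cfsg.Agent.Lib.Helper44.RTJ5
import Cfsg.Agent.Lib.Helper44.RTV
import Cfsg.Agent.Lib.Helper69.RTK9
import Cfsg.Agent.Lib.Helper78.RTK11
import Cfsg.Agent.Lib.Helper78.RTK4
import Cfsg.Agent.Lib.Helper78.RTK6
import Cfsg.Agent.Lib.Helper8.RTS2
import Cfsg.Agent.Lib.Helper94.RTK10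
import Cfsg.Agent.Lib.Helper94.RTK7
import Cfsg.Agent.Lib.Helper94.RTK8
import Cfsg.Agent.Lib.Helper96.RTK3

/-! The pieces of the RT server (S2278) used by the assembly, as delivered by the team; restated with the
signatures of `tools/rt_sigs_helper98.lean.txt`, where the paper proofs are. -/

set_option autoImplicit false

namespace Cfsg.Agent.Helper98.RTP

open Matrix Cfsg.Agent.Helper93.RU Cfsg.Agent.Helper98.RT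

variable {F : Type*} [Field F]

theorem yEl_regular (n w : F) :
    IsNilpotent ((yEl n w).1 - 1) ∧ ((yEl n w).1 - 1) ^ (3 - 1) ≠ 0 :=
  Cfsg.Agent.Helper44.RT.yEl_regular n w

theorem conj_lower (n w n' w' : F) : ∃ b : G3 F, b * yEl n w * b⁻¹ = yEl n' w' :=
  Cfsg.Agent.Helper25.RT.conj_lower n w n' w'

theorem conj_diag (ζ ρ n w n' w' : F) (hζ : ζ ≠ 0) (hw : w' * ζ ^ 2 = w) (hn : n' = ζ ^ 2 * n)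
    (hT : 3 - w' = ρ + ζ * (3 - w))
    (hE : ((3 - w') * w' - n' - 3) * ζ = (3 - w) * w - n - 3) :
    dEl ζ * yEl n' w' * (dEl ζ)⁻¹ = sEl ζ ρ * yEl n w :=
  Cfsg.Agent.Helper25.RT.conj_diag ζ ρ n w n' w' hζ hw hn hT hE

theorem param_nondeg (ζ : F) (hζ3 : ζ ^ 3 ≠ 1) :
    ∃ c : F, rhoP ζ c ≠ 0 ∧ nP ζ c * wP ζ c + 1 ≠ 0 :=
  Cfsg.Agent.Helper44.RT.param_nondeg ζ hζ3

theorem t_z_mem [Fintype F] (H : Subgroup (G3 F)) (ζ ρ : F) (hζ : ζ ≠ 0) (hs : sEl ζ ρ ∈ H) :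
    tvS (eV 1) ((ρ / ζ) • eV 0) ∈ H ∧ zEl ζ ∈ H :=
  Cfsg.Agent.Helper96.RT.t_z_mem H ζ ρ hζ hs

theorem conj_y_t (n w κ : F) :
    (yEl n w)⁻¹ * tvS (eV 1) (κ • eV 0) * yEl n w = tvS (v3 (-w) 0 (n * w + 1)) (κ • eV 1) :=
  Cfsg.Agent.Helper78.RT.conj_y_t n w κ

theorem x21_mem (H : Subgroup (G3 F)) (ζ κ w a : F) (hζ : ζ ≠ 0) (hz : zEl ζ ∈ H)
    (ht : tvS (v3 (-w) 0 a) (κ • eV 1) ∈ H) :
    tvS (eV 2) ((κ * a * ((ζ ^ 3)⁻¹ - 1)) • eV 1) ∈ H :=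
  Cfsg.Agent.Helper78.RT.x21_mem H ζ κ w a hζ hz ht

theorem x21_scale (H : Subgroup (G3 F)) (ζ μ : F) (hζ : ζ ≠ 0) (hz : zEl ζ ∈ H)
    (h : tvS (eV 2) (μ • eV 1) ∈ H) : tvS (eV 2) ((ζ ^ 3 * μ) • eV 1) ∈ H :=
  Cfsg.Agent.Helper94.RT.x21_scale H ζ μ hζ hz h

theorem x21_all (H : Subgroup (G3 F)) (ζ μ₀ : F) (hgen : Gen3 ζ) (hμ₀ : μ₀ ≠ 0)
    (h0 : tvS (eV 2) (μ₀ • eV 1) ∈ H)
    (hsc : ∀ μ : F, tvS (eV 2) (μ • eV 1) ∈ H → tvS (eV 2) ((ζ ^ 3 * μ) • eV 1) ∈ H) :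
    ∀ μ : F, tvS (eV 2) (μ • eV 1) ∈ H :=
  Cfsg.Agent.Helper94.RT.x21_all H ζ μ₀ hgen hμ₀ h0 hsc

theorem x20_all (H : Subgroup (G3 F)) (ζ ρ : F) (hζ : ζ ≠ 0) (hρ : ρ ≠ 0) (hs : sEl ζ ρ ∈ H)
    (h21 : ∀ μ : F, tvS (eV 2) (μ • eV 1) ∈ H) : ∀ ν : F, tvS (eV 2) (ν • eV 0) ∈ H :=
  Cfsg.Agent.Helper69.RT.x20_all H ζ ρ hζ hρ hs h21

theorem e2_mem_W (H : Subgroup (G3 F)) (h21 : ∀ μ : F, tvS (eV 2) (μ • eV 1) ∈ H)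
    (h20 : ∀ ν : F, tvS (eV 2) (ν • eV 0) ∈ H) : eV 2 ∈ Wset H :=
  Cfsg.Agent.Helper94.RT.e2_mem_W H h21 h20

theorem all_mem_W (H : Subgroup (G3 F)) (n w : F) (hy : yEl n w ∈ H) (h2 : eV 2 ∈ Wset H)
    (k : Fin (0 + 3)) : eV k ∈ Wset H :=
  Cfsg.Agent.Helper78.RT.all_mem_W H n w hy h2 k

theorem exists_zeta [Fintype F] (h2 : Fintype.card F ≠ 2) (h4 : Fintype.card F ≠ 4) :
    ∃ ζ : F, ζ ≠ 0 ∧ ζ ^ 3 ≠ 1 ∧ Gen3 ζ :=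
  Cfsg.Agent.Helper34.RT.exists_zeta h2 h4

theorem small_two [Fintype F] (h : Fintype.card F = 2) :
    ∃ u g : G3 F, IsNilpotent (u.1 - 1) ∧ (u.1 - 1) ^ (3 - 1) ≠ 0 ∧
      Subgroup.closure ({u, g * u * g⁻¹} : Set (G3 F)) = ⊤ :=
  Cfsg.Agent.Helper8.RT.small_two h

end Cfsg.Agent.Helper98.RTP
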