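import Mathlib
import Cfsg.Agent.Lib.Helper98.RT0
import Cfsg.Agent.Lib.Helper72.F4
import Cfsg.Agent.Lib.Helper5.SL

/-!
# RT project (S2278), piece (S4): `q = 4`.  Explicit words over the computable field
`Cfsg.Agent.Helper72.F4`, pushed forward along a ring isomorphism `F4 ≃+* F`
(same scheme as helper8's piece (S2)).  The words were found by a breadth-first search.
-/

set_option autoImplicit false

namespace Cfsg.Agent.Helper98.RT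

open Matrix Cfsg.Agent.Helper93.RU Cfsg.Agent.Helper72

variable {F : Type*} [Field F]

/-- the generator `w` of `F4`, `w² = w + 1` -/
def w4 : F4 := ((0 : ZMod 2), (1 : ZMod 2))

/-- the Jordan block over `F4` -/
def s4U : Matrix (Fin (0 + 3)) (Fin (0 + 3)) F4 := !![1, 1, 0; 0, 1, 1; 0, 0, 1]

/-- its inverse -/
def s4Ui : Matrix (Fin (0 + 3)) (Fin (0 + 3)) F4 := !![1, 1, 1; 0, 1, 1; 0, 0, 1]

/-- the conjugating matrix -/
def s4G : Matrix (Fin (0 + 3)) (Fin (0 + 3)) F4 := !![0, 0, 1; 0, 1, 0; 1, w4, 0]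

/-- the conjugate `g u g⁻¹` -/
def s4V : Matrix (Fin (0 + 3)) (Fin (0 + 3)) F4 := !![1, 0, 0; 1, 1, 0; w4, 1, 1]

/-- its inverse -/
def s4Vi : Matrix (Fin (0 + 3)) (Fin (0 + 3)) F4 := !![1, 0, 0; 1, 1, 0; w4 + 1, 1, 1]

theorem s4U_det : s4U.det = 1 := by
  rw [Matrix.det_fin_three]; decide +kernel

theorem s4Ui_det : s4Ui.det = 1 := by
  rw [Matrix.det_fin_three]; decide +kernel

theorem s4G_det : s4G.det = 1 := by
  rw [Matrix.det_fin_three]; decide +kernel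

theorem s4V_det : s4V.det = 1 := by
  rw [Matrix.det_fin_three]; decide +kernel

theorem s4Vi_det : s4Vi.det = 1 := by
  rw [Matrix.det_fin_three]; decide +kernel

/-- `u₀` -/
def s4u : SLm 0 F4 := ⟨s4U, s4U_det⟩

/-- `u₀⁻¹` -/
def s4ui : SLm 0 F4 := ⟨s4Ui, s4Ui_det⟩

/-- `g₀` -/
def s4g : SLm 0 F4 := ⟨s4G, s4G_det⟩

/-- `v₀` -/
def s4v : SLm 0 F4 := ⟨s4V, s4V_det⟩

/-- `v₀⁻¹` -/
def s4vi : SLm 0 F4 := ⟨s4Vi, s4Vi_det⟩

theorem s4ui_eq : s4ui = s4u⁻¹ := by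
  rw [eq_inv_iff_mul_eq_one]
  apply Subtype.ext
  show s4Ui * s4U = 1
  decide +kernel

theorem s4vi_eq : s4vi = s4v⁻¹ := by
  rw [eq_inv_iff_mul_eq_one]
  apply Subtype.ext
  show s4Vi * s4V = 1
  decide +kernel

theorem s4v_eq : s4g * s4u * s4g⁻¹ = s4v := by
  rw [mul_inv_eq_iff_eq_mul]
  apply Subtype.ext
  show s4G * s4U = s4V * s4G
  decide +kernel

/-- the subgroup generated by `u₀` and `v₀` -/
def s4K : Subgroup (SLm 0 F4) := Subgroup.closure ({s4u, s4v} : Set (SLm 0 F4))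

theorem s4_hu : s4u ∈ s4K := Subgroup.subset_closure (by simp)

theorem s4_hv : s4v ∈ s4K := Subgroup.subset_closure (by simp)

theorem s4_hui : s4ui ∈ s4K := by rw [s4ui_eq]; exact s4K.inv_mem s4_hu

theorem s4_hvi : s4vi ∈ s4K := by rw [s4vi_eq]; exact s4K.inv_mem s4_hv

theorem s4_tv_mem (i j : Fin (0 + 3)) (hij : i ≠ j) (c : F4) (M : SLm 0 F4) (hM : M ∈ s4K)
    (h : Matrix.transvection i j c = M.1) :
    (Matrix.SpecialLinearGroup.transvection hij c : SLm 0 F4) ∈ s4K := by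
  have : (Matrix.SpecialLinearGroup.transvection hij c : SLm 0 F4) = M := Subtype.ext h
  rw [this]; exact hM
theorem s4_w01a : (Matrix.SpecialLinearGroup.transvection (show (0 : Fin (0 + 3)) ≠ 1 by decide)
    (1 : F4) : SLm 0 F4) ∈ s4K := by
  refine s4_tv_mem 0 1 _ _ (s4u * s4v * s4ui * s4vi * s4ui * s4v * s4v * s4ui * s4v * s4ui * s4v * s4ui * s4v * s4v) (s4K.mul_mem (s4K.mul_mem (s4K.mul_mem (s4K.mul_mem (s4K.mul_mem (s4K.mul_mem (s4K.mul_mem (s4K.mul_mem (s4K.mul_mem (s4K.mul_mem (s4K.mul_mem (s4K.mul_mem (s4K.mul_mem s4_hu s4_hv) s4_hui) s4_hvi) s4_hui) s4_hv) s4_hv) s4_hui) s4_hv) s4_hui) s4_hv) s4_hui) s4_hv) s4_hv) ?_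
  show Matrix.transvection (0 : Fin (0 + 3)) 1 (1 : F4) = s4U * s4V * s4Ui * s4Vi * s4Ui * s4V * s4V * s4Ui * s4V * s4Ui * s4V * s4Ui * s4V * s4V
  decide +kernel
theorem s4_w01b : (Matrix.SpecialLinearGroup.transvection (show (0 : Fin (0 + 3)) ≠ 1 by decide)
    w4 : SLm 0 F4) ∈ s4K := by
  refine s4_tv_mem 0 1 _ _ (s4v * s4u * s4v * s4u * s4vi * s4u * s4v * s4v * s4u * s4v * s4u * s4u * s4v) (s4K.mul_mem (s4K.mul_mem (s4K.mul_mem (s4K.mul_mem (s4K.mul_mem (s4K.mul_mem (s4K.mul_mem (s4K.mul_mem (s4K.mul_mem (s4K.mul_mem (s4K.mul_mem (s4K.mul_mem s4_hv s4_hu) s4_hv) s4_hu) s4_hvi) s4_hu) s4_hv) s4_hv) s4_hu) s4_hv) s4_hu) s4_hu) s4_hv) ?_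
  show Matrix.transvection (0 : Fin (0 + 3)) 1 w4 = s4V * s4U * s4V * s4U * s4Vi * s4U * s4V * s4V * s4U * s4V * s4U * s4U * s4V
  decide +kernel
theorem s4_w01c : (Matrix.SpecialLinearGroup.transvection (show (0 : Fin (0 + 3)) ≠ 1 by decide)
    (w4 + 1) : SLm 0 F4) ∈ s4K := by
  refine s4_tv_mem 0 1 _ _ (s4v * s4u * s4u * s4v * s4ui * s4v * s4v * s4ui * s4vi * s4ui * s4v * s4ui * s4v) (s4K.mul_mem (s4K.mul_mem (s4K.mul_mem (s4K.mul_mem (s4K.mul_mem (s4K.mul_mem (s4K.mul_mem (s4K.mul_mem (s4K.mul_mem (s4K.mul_mem (s4K.mul_mem (s4K.mul_mem s4_hv s4_hu) s4_hu) s4_hv) s4_hui) s4_hv) s4_hv) s4_hui) s4_hvi) s4_hui) s4_hv) s4_hui) s4_hv) ?_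
  show Matrix.transvection (0 : Fin (0 + 3)) 1 (w4 + 1) = s4V * s4U * s4U * s4V * s4Ui * s4V * s4V * s4Ui * s4Vi * s4Ui * s4V * s4Ui * s4V
  decide +kernel
theorem s4_w02a : (Matrix.SpecialLinearGroup.transvection (show (0 : Fin (0 + 3)) ≠ 2 by decide)
    (1 : F4) : SLm 0 F4) ∈ s4K := by
  refine s4_tv_mem 0 2 _ _ (s4u * s4u) (s4K.mul_mem s4_hu s4_hu) ?_
  show Matrix.transvection (0 : Fin (0 + 3)) 2 (1 : F4) = s4U * s4U
  decide +kernel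
theorem s4_w02b : (Matrix.SpecialLinearGroup.transvection (show (0 : Fin (0 + 3)) ≠ 2 by decide)
    w4 : SLm 0 F4) ∈ s4K := by
  refine s4_tv_mem 0 2 _ _ (s4u * s4v * s4v * s4u * s4u * s4vi * s4u * s4u * s4v * s4v) (s4K.mul_mem (s4K.mul_mem (s4K.mul_mem (s4K.mul_mem (s4K.mul_mem (s4K.mul_mem (s4K.mul_mem (s4K.mul_mem (s4K.mul_mem s4_hu s4_hv) s4_hv) s4_hu) s4_hu) s4_hvi) s4_hu) s4_hu) s4_hv) s4_hv) ?_
  show Matrix.transvection (0 : Fin (0 + 3)) 2 w4 = s4U * s4V * s4V * s4U * s4U * s4Vi * s4U * s4U * s4V * s4V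
  decide +kernel
theorem s4_w02c : (Matrix.SpecialLinearGroup.transvection (show (0 : Fin (0 + 3)) ≠ 2 by decide)
    (w4 + 1) : SLm 0 F4) ∈ s4K := by
  refine s4_tv_mem 0 2 _ _ (s4u * s4v * s4v * s4u * s4u * s4v * s4u * s4u * s4v * s4v) (s4K.mul_mem (s4K.mul_mem (s4K.mul_mem (s4K.mul_mem (s4K.mul_mem (s4K.mul_mem (s4K.mul_mem (s4K.mul_mem (s4K.mul_mem s4_hu s4_hv) s4_hv) s4_hu) s4_hu) s4_hv) s4_hu) s4_hu) s4_hv) s4_hv) ?_
  show Matrix.transvection (0 : Fin (0 + 3)) 2 (w4 + 1) = s4U * s4V * s4V * s4U * s4U * s4V * s4U * s4U * s4V * s4V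
  decide +kernel
theorem s4_w10a : (Matrix.SpecialLinearGroup.transvection (show (1 : Fin (0 + 3)) ≠ 0 by decide)
    (1 : F4) : SLm 0 F4) ∈ s4K := by
  refine s4_tv_mem 1 0 _ _ (s4u * s4v * s4v * s4ui * s4v * s4v * s4u * s4v * s4v * s4ui) (s4K.mul_mem (s4K.mul_mem (s4K.mul_mem (s4K.mul_mem (s4K.mul_mem (s4K.mul_mem (s4K.mul_mem (s4K.mul_mem (s4K.mul_mem s4_hu s4_hv) s4_hv) s4_hui) s4_hv) s4_hv) s4_hu) s4_hv) s4_hv) s4_hui) ?_
  show Matrix.transvection (1 : Fin (0 + 3)) 0 (1 : F4) = s4U * s4V * s4V * s4Ui * s4V * s4V * s4U * s4V * s4V * s4Ui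
  decide +kernel
theorem s4_w10b : (Matrix.SpecialLinearGroup.transvection (show (1 : Fin (0 + 3)) ≠ 0 by decide)
    w4 : SLm 0 F4) ∈ s4K := by
  refine s4_tv_mem 1 0 _ _ (s4u * s4v * s4u * s4u * s4vi * s4ui * s4v * s4v * s4u * s4v * s4u * s4u * s4vi * s4ui) (s4K.mul_mem (s4K.mul_mem (s4K.mul_mem (s4K.mul_mem (s4K.mul_mem (s4K.mul_mem (s4K.mul_mem (s4K.mul_mem (s4K.mul_mem (s4K.mul_mem (s4K.mul_mem (s4K.mul_mem (s4K.mul_mem s4_hu s4_hv) s4_hu) s4_hu) s4_hvi) s4_hui) s4_hv) s4_hv) s4_hu) s4_hv) s4_hu) s4_hu) s4_hvi) s4_hui) ?_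
  show Matrix.transvection (1 : Fin (0 + 3)) 0 w4 = s4U * s4V * s4U * s4U * s4Vi * s4Ui * s4V * s4V * s4U * s4V * s4U * s4U * s4Vi * s4Ui
  decide +kernel
theorem s4_w10c : (Matrix.SpecialLinearGroup.transvection (show (1 : Fin (0 + 3)) ≠ 0 by decide)
    (w4 + 1) : SLm 0 F4) ∈ s4K := by
  refine s4_tv_mem 1 0 _ _ (s4u * s4vi * s4u * s4u * s4v * s4ui * s4v * s4v * s4u * s4vi * s4u * s4u * s4v * s4ui) (s4K.mul_mem (s4K.mul_mem (s4K.mul_mem (s4K.mul_mem (s4K.mul_mem (s4K.mul_mem (s4K.mul_mem (s4K.mul_mem (s4K.mul_mem (s4K.mul_mem (s4K.mul_mem (s4K.mul_mem (s4K.mul_mem s4_hu s4_hvi) s4_hu) s4_hu) s4_hv) s4_hui) s4_hv) s4_hv) s4_hu) s4_hvi) s4_hu) s4_hu) s4_hv) s4_hui) ?_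
  show Matrix.transvection (1 : Fin (0 + 3)) 0 (w4 + 1) = s4U * s4Vi * s4U * s4U * s4V * s4Ui * s4V * s4V * s4U * s4Vi * s4U * s4U * s4V * s4Ui
  decide +kernel
theorem s4_w12a : (Matrix.SpecialLinearGroup.transvection (show (1 : Fin (0 + 3)) ≠ 2 by decide)
    (1 : F4) : SLm 0 F4) ∈ s4K := by
  refine s4_tv_mem 1 2 _ _ (s4ui * s4v * s4u * s4vi * s4u * s4v * s4v * s4u * s4v * s4u * s4v * s4u * s4v * s4v) (s4K.mul_mem (s4K.mul_mem (s4K.mul_mem (s4K.mul_mem (s4K.mul_mem (s4K.mul_mem (s4K.mul_mem (s4K.mul_mem (s4K.mul_mem (s4K.mul_mem (s4K.mul_mem (s4K.mul_mem (s4K.mul_mem s4_hui s4_hv) s4_hu) s4_hvi) s4_hu) s4_hv) s4_hv) s4_hu) s4_hv) s4_hu) s4_hv) s4_hu) s4_hv) s4_hv) ?_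
  show Matrix.transvection (1 : Fin (0 + 3)) 2 (1 : F4) = s4Ui * s4V * s4U * s4Vi * s4U * s4V * s4V * s4U * s4V * s4U * s4V * s4U * s4V * s4V
  decide +kernel
theorem s4_w12b : (Matrix.SpecialLinearGroup.transvection (show (1 : Fin (0 + 3)) ≠ 2 by decide)
    w4 : SLm 0 F4) ∈ s4K := by
  refine s4_tv_mem 1 2 _ _ (s4v * s4u * s4u * s4v * s4u * s4v * s4v * s4u * s4vi * s4u * s4v * s4u * s4v) (s4K.mul_mem (s4K.mul_mem (s4K.mul_mem (s4K.mul_mem (s4K.mul_mem (s4K.mul_mem (s4K.mul_mem (s4K.mul_mem (s4K.mul_mem (s4K.mul_mem (s4K.mul_mem (s4K.mul_mem s4_hv s4_hu) s4_hu) s4_hv) s4_hu) s4_hv) s4_hv) s4_hu) s4_hvi) s4_hu) s4_hv) s4_hu) s4_hv) ?_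
  show Matrix.transvection (1 : Fin (0 + 3)) 2 w4 = s4V * s4U * s4U * s4V * s4U * s4V * s4V * s4U * s4Vi * s4U * s4V * s4U * s4V
  decide +kernel
theorem s4_w12c : (Matrix.SpecialLinearGroup.transvection (show (1 : Fin (0 + 3)) ≠ 2 by decide)
    (w4 + 1) : SLm 0 F4) ∈ s4K := by
  refine s4_tv_mem 1 2 _ _ (s4v * s4ui * s4v * s4ui * s4vi * s4ui * s4v * s4v * s4ui * s4v * s4u * s4u * s4v) (s4K.mul_mem (s4K.mul_mem (s4K.mul_mem (s4K.mul_mem (s4K.mul_mem (s4K.mul_mem (s4K.mul_mem (s4K.mul_mem (s4K.mul_mem (s4K.mul_mem (s4K.mul_mem (s4K.mul_mem s4_hv s4_hui) s4_hv) s4_hui) s4_hvi) s4_hui) s4_hv) s4_hv) s4_hui) s4_hv) s4_hu) s4_hu) s4_hv) ?_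
  show Matrix.transvection (1 : Fin (0 + 3)) 2 (w4 + 1) = s4V * s4Ui * s4V * s4Ui * s4Vi * s4Ui * s4V * s4V * s4Ui * s4V * s4U * s4U * s4V
  decide +kernel
theorem s4_w20a : (Matrix.SpecialLinearGroup.transvection (show (2 : Fin (0 + 3)) ≠ 0 by decide)
    (1 : F4) : SLm 0 F4) ∈ s4K := by
  refine s4_tv_mem 2 0 _ _ (s4v * s4v) (s4K.mul_mem s4_hv s4_hv) ?_
  show Matrix.transvection (2 : Fin (0 + 3)) 0 (1 : F4) = s4V * s4V
  decide +kernel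
theorem s4_w20b : (Matrix.SpecialLinearGroup.transvection (show (2 : Fin (0 + 3)) ≠ 0 by decide)
    w4 : SLm 0 F4) ∈ s4K := by
  refine s4_tv_mem 2 0 _ _ (s4u * s4u * s4v * s4v * s4u * s4v * s4v * s4u * s4u * s4vi) (s4K.mul_mem (s4K.mul_mem (s4K.mul_mem (s4K.mul_mem (s4K.mul_mem (s4K.mul_mem (s4K.mul_mem (s4K.mul_mem (s4K.mul_mem s4_hu s4_hu) s4_hv) s4_hv) s4_hu) s4_hv) s4_hv) s4_hu) s4_hu) s4_hvi) ?_
  show Matrix.transvection (2 : Fin (0 + 3)) 0 w4 = s4U * s4U * s4V * s4V * s4U * s4V * s4V * s4U * s4U * s4Vi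
  decide +kernel
theorem s4_w20c : (Matrix.SpecialLinearGroup.transvection (show (2 : Fin (0 + 3)) ≠ 0 by decide)
    (w4 + 1) : SLm 0 F4) ∈ s4K := by
  refine s4_tv_mem 2 0 _ _ (s4u * s4u * s4v * s4v * s4u * s4v * s4v * s4u * s4u * s4v) (s4K.mul_mem (s4K.mul_mem (s4K.mul_mem (s4K.mul_mem (s4K.mul_mem (s4K.mul_mem (s4K.mul_mem (s4K.mul_mem (s4K.mul_mem s4_hu s4_hu) s4_hv) s4_hv) s4_hu) s4_hv) s4_hv) s4_hu) s4_hu) s4_hv) ?_
  show Matrix.transvection (2 : Fin (0 + 3)) 0 (w4 + 1) = s4U * s4U * s4V * s4V * s4U * s4V * s4V * s4U * s4U * s4V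
  decide +kernel
theorem s4_w21a : (Matrix.SpecialLinearGroup.transvection (show (2 : Fin (0 + 3)) ≠ 1 by decide)
    (1 : F4) : SLm 0 F4) ∈ s4K := by
  refine s4_tv_mem 2 1 _ _ (s4ui * s4v * s4v * s4u * s4v * s4v * s4ui * s4v * s4v * s4u) (s4K.mul_mem (s4K.mul_mem (s4K.mul_mem (s4K.mul_mem (s4K.mul_mem (s4K.mul_mem (s4K.mul_mem (s4K.mul_mem (s4K.mul_mem s4_hui s4_hv) s4_hv) s4_hu) s4_hv) s4_hv) s4_hui) s4_hv) s4_hv) s4_hu) ?_
  show Matrix.transvection (2 : Fin (0 + 3)) 1 (1 : F4) = s4Ui * s4V * s4V * s4U * s4V * s4V * s4Ui * s4V * s4V * s4U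
  decide +kernel
theorem s4_w21b : (Matrix.SpecialLinearGroup.transvection (show (2 : Fin (0 + 3)) ≠ 1 by decide)
    w4 : SLm 0 F4) ∈ s4K := by
  refine s4_tv_mem 2 1 _ _ (s4u * s4v * s4v * s4u * s4vi * s4u * s4vi * s4u * s4v * s4v * s4u * s4vi * s4u * s4vi) (s4K.mul_mem (s4K.mul_mem (s4K.mul_mem (s4K.mul_mem (s4K.mul_mem (s4K.mul_mem (s4K.mul_mem (s4K.mul_mem (s4K.mul_mem (s4K.mul_mem (s4K.mul_mem (s4K.mul_mem (s4K.mul_mem s4_hu s4_hv) s4_hv) s4_hu) s4_hvi) s4_hu) s4_hvi) s4_hu) s4_hv) s4_hv) s4_hu) s4_hvi) s4_hu) s4_hvi) ?_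
  show Matrix.transvection (2 : Fin (0 + 3)) 1 w4 = s4U * s4V * s4V * s4U * s4Vi * s4U * s4Vi * s4U * s4V * s4V * s4U * s4Vi * s4U * s4Vi
  decide +kernel
theorem s4_w21c : (Matrix.SpecialLinearGroup.transvection (show (2 : Fin (0 + 3)) ≠ 1 by decide)
    (w4 + 1) : SLm 0 F4) ∈ s4K := by
  refine s4_tv_mem 2 1 _ _ (s4u * s4v * s4v * s4u * s4v * s4u * s4v * s4u * s4v * s4v * s4u * s4v * s4u * s4v) (s4K.mul_mem (s4K.mul_mem (s4K.mul_mem (s4K.mul_mem (s4K.mul_mem (s4K.mul_mem (s4K.mul_mem (s4K.mul_mem (s4K.mul_mem (s4K.mul_mem (s4K.mul_mem (s4K.mul_mem (s4K.mul_mem s4_hu s4_hv) s4_hv) s4_hu) s4_hv) s4_hu) s4_hv) s4_hu) s4_hv) s4_hv) s4_hu) s4_hv) s4_hu) s4_hv) ?_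
  show Matrix.transvection (2 : Fin (0 + 3)) 1 (w4 + 1) = s4U * s4V * s4V * s4U * s4V * s4U * s4V * s4U * s4V * s4V * s4U * s4V * s4U * s4V
  decide +kernel
theorem s4_word (i j : Fin (0 + 3)) (hij : i ≠ j) (c : F4) :
    (Matrix.SpecialLinearGroup.transvection hij c : SLm 0 F4) ∈ s4K := by
  have hc : c = 0 ∨ c = 1 ∨ c = w4 ∨ c = w4 + 1 := by revert c; decide +kernel
  rcases hc with rfl | rfl | rfl | rfl
  · rw [Matrix.SpecialLinearGroup.transvection_coeff_zero]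
    exact one_mem _
  · fin_cases i <;> fin_cases j
    · exact absurd rfl hij
    · exact s4_w01a
    · exact s4_w02a
    · exact s4_w10a
    · exact absurd rfl hij
    · exact s4_w12a
    · exact s4_w20a
    · exact s4_w21a
    · exact absurd rfl hij
  · fin_cases i <;> fin_cases j
    · exact absurd rfl hij
    · exact s4_w01b
    · exact s4_w02b
    · exact s4_w10b
    · exact absurd rfl hij
    · exact s4_w12b
    · exact s4_w20b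
    · exact s4_w21b
    · exact absurd rfl hij
  · fin_cases i <;> fin_cases j
    · exact absurd rfl hij
    · exact s4_w01c
    · exact s4_w02c
    · exact s4_w10c
    · exact absurd rfl hij
    · exact s4_w12c
    · exact s4_w20c
    · exact s4_w21c
    · exact absurd rfl hij

theorem s4_closure : s4K = ⊤ := by
  rw [eq_top_iff]
  intro A _
  have : Nontrivial (Fin (0 + 3)) := ⟨⟨0, 1, by decide⟩⟩
  refine Cfsg.Agent.Helper5.transvection_induction (fun B => B ∈ s4K) ?_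
    (fun A B hA hB => mul_mem hA hB) A
  intro i j hij c
  exact s4_word i j hij c

theorem s4_nil : (s4U - 1) ^ 3 = 0 := by
  rw [pow_succ, pow_two]
  decide +kernel

theorem s4_sq_ne : (s4U - 1) ^ (3 - 1) ≠ 0 := by
  show (s4U - 1) ^ 2 ≠ 0
  rw [pow_two]
  decide +kernel

/-- (S4) -/
theorem small_four [Fintype F] (h : Fintype.card F = 4) :
    ∃ u g : G3 F, IsNilpotent (u.1 - 1) ∧ (u.1 - 1) ^ (3 - 1) ≠ 0 ∧
      Subgroup.closure ({u, g * u * g⁻¹} : Set (G3 F)) = ⊤ := by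
  have e : F4 ≃+* F := FiniteField.ringEquivOfCardEq (by rw [F4.card_F4, h])
  let f : SLm 0 F4 →* SLm 0 F := Matrix.SpecialLinearGroup.map (e : F4 →+* F)
  let f' : SLm 0 F →* SLm 0 F4 := Matrix.SpecialLinearGroup.map (e.symm : F →+* F4)
  have hsurj : Function.Surjective f := by
    intro A
    refine ⟨f' A, ?_⟩
    apply Subtype.ext
    ext i j
    simp [f, f', Matrix.SpecialLinearGroup.map_apply_coe]
  have hval : (f s4u).1 - 1 = (e : F4 →+* F).mapMatrix (s4U - 1) := by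
    rw [map_sub, map_one]; rfl
  refine ⟨f s4u, f s4g, ?_, ?_, ?_⟩
  · refine ⟨3, ?_⟩
    rw [hval, ← map_pow, s4_nil, map_zero]
  · rw [hval, ← map_pow]
    intro h0
    have hinj : Function.Injective
        ((e : F4 →+* F).mapMatrix (m := Fin (0 + 3))) := by
      intro A B hAB
      ext i j
      have := congrFun (congrFun hAB i) j
      simpa using this
    exact s4_sq_ne (hinj (by rw [h0, map_zero]))
  · rw [← map_inv, ← map_mul, ← map_mul, s4v_eq]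
    have himg : ({f s4u, f s4v} : Set (G3 F)) = f '' {s4u, s4v} := by rw [Set.image_pair]
    rw [himg, ← MonoidHom.map_closure]
    show Subgroup.map f s4K = ⊤
    rw [s4_closure, ← MonoidHom.range_eq_map, MonoidHom.range_eq_top]
    exact hsurj

end Cfsg.Agent.Helper98.RT
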