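import Mathlib
import Cfsg.Agent.Lib.Helper98.RT0
import Cfsg.Agent.Lib.Helper98.RTJ3
import Cfsg.Agent.Lib.Helper98.RTS4
import Cfsg.Agent.Lib.Helper98.RTPieces
import Cfsg.Agent.Lib.Helper21.RUE1

/-!
# RT project (S2278): assembly.  `SL_3(F)` is generated by two conjugate regular unipotents.
-/

set_option autoImplicit false

namespace Cfsg.Agent.Helper98.RT

open Matrix Cfsg.Agent.Helper93.RU
open Cfsg.Agent.Helper98.RTP

variable {F : Type*} [Field F]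

/-- the core: a subgroup containing `y` and `s` is everything -/
theorem core [Fintype F] (H : Subgroup (G3 F)) (ζ ρ n w : F) (hζ : ζ ≠ 0) (hζ3 : ζ ^ 3 ≠ 1)
    (hρ : ρ ≠ 0) (hnw : n * w + 1 ≠ 0) (hgen : Gen3 ζ) (hy : yEl n w ∈ H) (hs : sEl ζ ρ ∈ H) :
    H = ⊤ := by
  obtain ⟨ht, hz⟩ := t_z_mem H ζ ρ hζ hs
  have ht' : tvS (v3 (-w) 0 (n * w + 1)) ((ρ / ζ) • eV 1) ∈ H := by
    rw [← conj_y_t]
    exact H.mul_mem (H.mul_mem (H.inv_mem hy) ht) hy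
  have h0 := x21_mem H ζ (ρ / ζ) w (n * w + 1) hζ hz ht'
  have hμ0 : ρ / ζ * (n * w + 1) * ((ζ ^ 3)⁻¹ - 1) ≠ 0 := by
    have h3 : ζ ^ 3 ≠ 0 := pow_ne_zero _ hζ
    refine mul_ne_zero (mul_ne_zero (div_ne_zero hρ hζ) hnw) ?_
    intro h
    apply hζ3
    have : (ζ ^ 3)⁻¹ = 1 := by linear_combination h
    rw [inv_eq_one] at this
    exact this
  have h21 := x21_all H ζ _ hgen hμ0 h0 (fun μ hμ => x21_scale H ζ μ hζ hz hμ)
  have h20 := x20_all H ζ ρ hζ hρ hs h21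
  have h2 := e2_mem_W H h21 h20
  exact Cfsg.Agent.Helper21.RU.eq_top_of_W H (fun k => all_mem_W H n w hy h2 k)

/-- the generic case `q ≠ 2, 4` -/
theorem generic [Fintype F] (h2 : Fintype.card F ≠ 2) (h4 : Fintype.card F ≠ 4) :
    ∃ u g : G3 F, IsNilpotent (u.1 - 1) ∧ (u.1 - 1) ^ (3 - 1) ≠ 0 ∧
      Subgroup.closure ({u, g * u * g⁻¹} : Set (G3 F)) = ⊤ := by
  obtain ⟨ζ, hζ, hζ3, hgen⟩ := exists_zeta (F := F) h2 h4
  obtain ⟨c, hρ, hnw⟩ := param_nondeg ζ hζ3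
  have hφ : 1 + ζ + ζ ^ 2 ≠ 0 := by
    intro h
    apply hζ3
    have : (1 - ζ) * (1 + ζ + ζ ^ 2) = 0 := by rw [h, mul_zero]
    linear_combination -this
  obtain ⟨b, hb⟩ := conj_lower (nP ζ c) (wP ζ c) (ζ ^ 2 * nP ζ c) c
  have hd := conj_diag ζ (rhoP ζ c) (nP ζ c) (wP ζ c) (ζ ^ 2 * nP ζ c) c hζ (by rfl) rfl
    (param_T ζ c) (param_E ζ c hζ hφ)
  refine ⟨yEl (nP ζ c) (wP ζ c), dEl ζ * b, (yEl_regular _ _).1, (yEl_regular _ _).2, ?_⟩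
  have hconj : dEl ζ * b * yEl (nP ζ c) (wP ζ c) * (dEl ζ * b)⁻¹ =
      sEl ζ (rhoP ζ c) * yEl (nP ζ c) (wP ζ c) := by
    rw [← hd, ← hb]
    group
  rw [hconj]
  set H := Subgroup.closure ({yEl (nP ζ c) (wP ζ c),
    sEl ζ (rhoP ζ c) * yEl (nP ζ c) (wP ζ c)} : Set (G3 F)) with hH
  have hy : yEl (nP ζ c) (wP ζ c) ∈ H := Subgroup.subset_closure (by simp)
  have hsy : sEl ζ (rhoP ζ c) * yEl (nP ζ c) (wP ζ c) ∈ H := Subgroup.subset_closure (by simp)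
  have hs : sEl ζ (rhoP ζ c) ∈ H := by
    have := H.mul_mem hsy (H.inv_mem hy)
    rwa [mul_inv_cancel_right] at this
  exact core H ζ (rhoP ζ c) (nP ζ c) (wP ζ c) hζ hζ3 hρ hnw hgen hy hs

/-- the main theorem of the RT project -/
theorem main [Fintype F] :
    ∃ u g : G3 F, IsNilpotent (u.1 - 1) ∧ (u.1 - 1) ^ (3 - 1) ≠ 0 ∧
      Subgroup.closure ({u, g * u * g⁻¹} : Set (G3 F)) = ⊤ := by
  by_cases h2 : Fintype.card F = 2
  · exact small_two h2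
  by_cases h4 : Fintype.card F = 4
  · exact small_four h4
  exact generic h2 h4

end Cfsg.Agent.Helper98.RT
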