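import Cfsg.Agent.Lib.Helper56.SL25Mat
import Cfsg.Agent.Lib.Helper98.DicksonPrime
import Cfsg.Agent.Lib.Helper41.DicksonUse4
import Cfsg.Agent.Lib.Helper53.SL2Inv

set_option autoImplicit false
set_option linter.unusedSectionVars false
set_option linter.unusedVariables false
set_option linter.style.haveILetI false

/-!
# Recognition of `SL(2,5)`

* `recog`: a finite group with a unique involution `z` and a surjection onto `A₅` with kernel `⟨z⟩`
  is isomorphic to `SL(2,5)`.
* `perfect_sl2`: a nontrivial perfect subgroup of `SL₂(F)`, `F` a finite field of characteristic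
  `p`, of order prime to `p`, is isomorphic to `SL(2,5)`.
-/

namespace Cfsg.Agent.Helper98.SL25Recog

open Cfsg.Agent.Helper56

/-- a subgroup of `A₅` containing the two standard generators is everything -/
theorem eq_top_of_gens (K : Subgroup (alternatingGroup (Fin 5))) (ha : Cfsg.Agent.S3377.a ∈ K)
    (hb : Cfsg.Agent.S3377.b ∈ K) : K = ⊤ := by
  rw [eq_top_iff]
  intro g _
  obtain ⟨w, rfl⟩ := Cfsg.Agent.S3377.φ_surj g
  have hle : (⊤ : Subgroup Cfsg.Agent.S3377.P) ≤ K.comap Cfsg.Agent.S3377.φ := by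
    rw [← PresentedGroup.closure_range_of, Subgroup.closure_le]
    rintro _ ⟨i, rfl⟩
    fin_cases i
    · show Cfsg.Agent.S3377.φ Cfsg.Agent.S3377.x ∈ K
      rw [Cfsg.Agent.S3377.φ_x]
      exact ha
    · show Cfsg.Agent.S3377.φ Cfsg.Agent.S3377.y ∈ K
      rw [Cfsg.Agent.S3377.φ_y]
      exact hb
  exact hle (Subgroup.mem_top w)

theorem a_pow : Cfsg.Agent.S3377.a ^ 3 = 1 := by
  rw [← Cfsg.Agent.S3377.φ_x, ← map_pow, Cfsg.Agent.S3377.x3, map_one]

theorem b_pow : Cfsg.Agent.S3377.b ^ 5 = 1 := by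
  rw [← Cfsg.Agent.S3377.φ_y, ← map_pow, Cfsg.Agent.S3377.y5, map_one]

theorem ab_pow : (Cfsg.Agent.S3377.a * Cfsg.Agent.S3377.b) ^ 2 = 1 := by
  rw [← Cfsg.Agent.S3377.φ_x, ← Cfsg.Agent.S3377.φ_y, ← map_mul, ← map_pow,
    Cfsg.Agent.S3377.xy2, map_one]

theorem ab_ne : Cfsg.Agent.S3377.a * Cfsg.Agent.S3377.b ≠ 1 := by
  intro h
  have := congrArg Subtype.val h
  revert this
  decide

theorem mem_zpowers_two {H : Type*} [Group H] {z h : H} (hz2 : z ^ 2 = 1)
    (hh : h ∈ Subgroup.zpowers z) : h = 1 ∨ h = z := by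
  obtain ⟨k, rfl⟩ := Subgroup.mem_zpowers_iff.mp hh
  rcases Int.even_or_odd' k with ⟨m, hm | hm⟩
  · left
    rw [hm, zpow_mul, zpow_ofNat, hz2, one_zpow]
  · right
    rw [hm, zpow_add, zpow_mul, zpow_ofNat, hz2, one_zpow, one_mul, zpow_one]

/-- **Recognition of `SL(2,5)`**: a finite group with a unique involution `z` and a surjection
onto `A₅` with kernel `⟨z⟩` is isomorphic to `SL(2,5)`. -/
theorem recog {H : Type*} [Group H] [Finite H] (z : H) (hz : orderOf z = 2)
    (huniq : ∀ t : H, orderOf t = 2 → t = z)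
    (π : H →* alternatingGroup (Fin 5)) (hπ : Function.Surjective π)
    (hker : π.ker = Subgroup.zpowers z) :
    Nonempty (H ≃* Matrix.SpecialLinearGroup (Fin 2) (ZMod 5)) := by
  have hz2 : z ^ 2 = 1 := by rw [← hz]; exact pow_orderOf_eq_one z
  have hz1 : z ≠ 1 := by
    intro h
    rw [h, orderOf_one] at hz
    omega
  have hcent : ∀ g : H, g * z = z * g := by
    intro g
    have h := huniq (g * z * g⁻¹) (by rw [← MulAut.conj_apply, MulEquiv.orderOf_eq, hz])
    calc g * z = g * z * g⁻¹ * g := by group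
      _ = z * g := by rw [h]
  have hπz : π z = 1 := by
    rw [← MonoidHom.mem_ker, hker]
    exact Subgroup.mem_zpowers z
  have hk : ∀ h : H, π h = 1 → h = 1 ∨ h = z := by
    intro h hh
    rw [← MonoidHom.mem_ker, hker] at hh
    exact mem_zpowers_two hz2 hh
  -- the order
  have hcard : Nat.card H = 120 := by
    have h1 : Nat.card H = Nat.card (H ⧸ π.ker) * Nat.card π.ker :=
      Subgroup.card_eq_card_quotient_mul_card_subgroup π.ker
    have h2 : Nat.card (H ⧸ π.ker) = 60 := by
      rw [Nat.card_congr (QuotientGroup.quotientKerEquivOfSurjective π hπ).toEquiv,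
        Cfsg.Agent.S3377.card_A5]
    have h3 : Nat.card π.ker = 2 := by
      rw [hker, Nat.card_zpowers, hz]
    rw [h1, h2, h3]
  -- lifts
  obtain ⟨a₀, ha₀⟩ := hπ Cfsg.Agent.S3377.a
  obtain ⟨b₀, hb₀⟩ := hπ Cfsg.Agent.S3377.b
  obtain ⟨a₁, ha₁, ha₁3⟩ : ∃ a₁ : H, π a₁ = Cfsg.Agent.S3377.a ∧ a₁ ^ 3 = 1 := by
    rcases hk (a₀ ^ 3) (by rw [map_pow, ha₀, a_pow]) with h | h
    · exact ⟨a₀, ha₀, h⟩
    · refine ⟨a₀ * z, by rw [map_mul, ha₀, hπz, mul_one], ?_⟩
      rw [(show Commute a₀ z from hcent a₀).mul_pow, h]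
      calc z * z ^ 3 = (z ^ 2) ^ 2 := by group
        _ = 1 := by rw [hz2, one_pow]
  obtain ⟨b₁, hb₁, hb₁5⟩ : ∃ b₁ : H, π b₁ = Cfsg.Agent.S3377.b ∧ b₁ ^ 5 = 1 := by
    rcases hk (b₀ ^ 5) (by rw [map_pow, hb₀, b_pow]) with h | h
    · exact ⟨b₀, hb₀, h⟩
    · refine ⟨b₀ * z, by rw [map_mul, hb₀, hπz, mul_one], ?_⟩
      rw [(show Commute b₀ z from hcent b₀).mul_pow, h]
      calc z * z ^ 5 = (z ^ 2) ^ 3 := by group
        _ = 1 := by rw [hz2, one_pow]
  have hab : (a₁ * b₁) ^ 2 = z := by
    rcases hk ((a₁ * b₁) ^ 2) (by rw [map_pow, map_mul, ha₁, hb₁, ab_pow]) with h | h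
    · exfalso
      have hne : a₁ * b₁ ≠ 1 := by
        intro h1
        apply ab_ne
        rw [← ha₁, ← hb₁, ← map_mul, h1, map_one]
      have ho : orderOf (a₁ * b₁) = 2 := orderOf_eq_prime h hne
      have := huniq _ ho
      apply ab_ne
      rw [← ha₁, ← hb₁, ← map_mul, this, hπz]
    · exact h
  -- the homomorphism from the presentation
  let ψ : P120 →* H := homOf a₁ b₁ z ha₁3 hb₁5 hz2 (hcent a₁) (hcent b₁) hab
  have hψx : ψ gx = a₁ := homOf_gx _ _ _ _ _ _ _ _ _
  have hψy : ψ gy = b₁ := homOf_gy _ _ _ _ _ _ _ _ _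
  have hψz : ψ gz = z := homOf_gz _ _ _ _ _ _ _ _ _
  have hKtop : ψ.range.map π = ⊤ := by
    apply eq_top_of_gens
    · exact ⟨a₁, ⟨gx, hψx⟩, ha₁⟩
    · exact ⟨b₁, ⟨gy, hψy⟩, hb₁⟩
  have hsurj : Function.Surjective ψ := by
    rw [← MonoidHom.range_eq_top, eq_top_iff]
    intro h _
    have : π h ∈ ψ.range.map π := by rw [hKtop]; exact Subgroup.mem_top _
    obtain ⟨r, hr, hrh⟩ := this
    have hmem : r⁻¹ * h ∈ ψ.range := by
      rcases hk (r⁻¹ * h) (by rw [map_mul, map_inv, hrh, inv_mul_cancel]) with h1 | h1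
      · rw [h1]; exact one_mem _
      · rw [h1]; exact ⟨gz, hψz⟩
    have : h = r * (r⁻¹ * h) := by group
    rw [this]
    exact mul_mem hr hmem
  haveI : Finite P120 := finite_card_P120.1
  have hbij : Function.Bijective ψ :=
    hsurj.bijective_of_nat_card_le (by rw [hcard, card_P120])
  exact ⟨((MulEquiv.ofBijective ψ hbij).symm).trans presEquiv⟩


/-- a solvable perfect group is trivial -/
theorem subsingleton_of_solvable_perfect {G : Type*} [Group G] (hs : Group.IsSolvable G)
    (hperf : commutator G = ⊤) : Subsingleton G := by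
  by_contra h
  rw [not_subsingleton_iff_nontrivial] at h
  haveI := h
  haveI := hs
  exact (Group.IsSolvable.commutator_lt_top_of_nontrivial G).ne hperf

/-- the image of a perfect group is perfect -/
theorem perfect_of_surjective {G G' : Type*} [Group G] [Group G'] (f : G →* G')
    (hf : Function.Surjective f) (hperf : commutator G = ⊤) : commutator G' = ⊤ := by
  have h1 : Subgroup.map f (commutator G) = commutator G' := by
    rw [commutator_def, commutator_def, Subgroup.map_commutator,
      Subgroup.map_top_of_surjective f hf]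
  rw [← h1, hperf, Subgroup.map_top_of_surjective f hf]

theorem negOne_coe {F : Type*} [Field F] :
    ((Cfsg.Agent.Helper53.negOneSL2 F : Matrix.SpecialLinearGroup (Fin 2) F) :
      Matrix (Fin 2) (Fin 2) F) = -1 := by
  ext i j
  fin_cases i <;> fin_cases j <;> simp [Cfsg.Agent.Helper53.negOneSL2]

/-- **Perfect `p'`-subgroups of `SL₂(F)`**: a nontrivial perfect subgroup of `SL₂(F)`, `F` a finite
field of characteristic `p`, of order prime to `p`, is isomorphic to `SL(2,5)`. -/
theorem perfect_sl2 {F : Type*} [Field F] [Finite F] (p : ℕ) [Fact p.Prime] [CharP F p]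
    (K : Subgroup (Matrix.SpecialLinearGroup (Fin 2) F)) (hp : ¬ p ∣ Nat.card K)
    (hperf : commutator K = ⊤) (hne : K ≠ ⊥) :
    Nonempty (K ≃* Matrix.SpecialLinearGroup (Fin 2) (ZMod 5)) := by
  haveI : Finite (Matrix.SpecialLinearGroup (Fin 2) F) :=
    inferInstanceAs (Finite {A : Matrix (Fin 2) (Fin 2) F // A.det = 1})
  let q : Matrix.SpecialLinearGroup (Fin 2) F →* Matrix.ProjectiveSpecialLinearGroup (Fin 2) F :=
    QuotientGroup.mk' (Subgroup.center (Matrix.SpecialLinearGroup (Fin 2) F))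
  let Hb : Subgroup (Matrix.ProjectiveSpecialLinearGroup (Fin 2) F) := K.map q
  let π : K →* Hb := q.subgroupMap K
  have hπs : Function.Surjective π := q.subgroupMap_surjective K
  have hπ1 : ∀ k : K, π k = 1 ↔ (k : Matrix.SpecialLinearGroup (Fin 2) F) ∈
      Subgroup.center (Matrix.SpecialLinearGroup (Fin 2) F) := by
    intro k
    rw [← QuotientGroup.eq_one_iff]
    constructor
    · intro h
      exact congrArg Subtype.val h
    · intro h
      exact Subtype.ext h
  have hdvd : Nat.card Hb ∣ Nat.card K := Subgroup.card_dvd_of_surjective π hπs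
  have hpHb : ¬ p ∣ Nat.card Hb := fun h => hp (h.trans hdvd)
  have hperfb : commutator Hb = ⊤ := perfect_of_surjective π hπs hperf
  -- the solvable cases
  have hsolv : Group.IsSolvable Hb → False := by
    intro hs
    have hss := subsingleton_of_solvable_perfect hs hperfb
    have hcen : ∀ k : K, (k : Matrix.SpecialLinearGroup (Fin 2) F) ∈
        Subgroup.center (Matrix.SpecialLinearGroup (Fin 2) F) :=
      fun k => (hπ1 k).mp (Subsingleton.elim _ _)
    have hK : Group.IsSolvable K := by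
      apply Group.isSolvable_of_comm
      intro a b
      apply Subtype.ext
      rw [Subgroup.coe_mul, Subgroup.coe_mul]
      exact (Subgroup.mem_center_iff.mp (hcen a) b).symm
    have := subsingleton_of_solvable_perfect hK hperf
    apply hne
    rw [Subgroup.eq_bot_iff_forall]
    intro x hx
    have := Subsingleton.elim (⟨x, hx⟩ : K) 1
    exact congrArg Subtype.val this
  rcases Cfsg.Agent.Helper98.Dickson.dickson_pprime p Hb hpHb with hc | ⟨n, hn, ⟨e⟩⟩ | ⟨⟨e⟩⟩ |
    ⟨⟨e⟩⟩ | ⟨⟨e⟩⟩
  · exfalso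
    apply hsolv
    letI := IsCyclic.commGroup (α := Hb)
    exact Group.isSolvable_of_comm (fun a b => mul_comm a b)
  · exact (hsolv (Cfsg.Agent.Helper41.isSolvable_of_mulEquiv e
      (Cfsg.Agent.Helper41.isSolvable_dihedral n))).elim
  · exact (hsolv (Cfsg.Agent.Helper41.isSolvable_of_mulEquiv e
      Cfsg.Agent.Helper41.isSolvable_alt4)).elim
  · exact (hsolv (Cfsg.Agent.Helper41.isSolvable_of_mulEquiv e
      Cfsg.Agent.Helper41.isSolvable_perm4)).elim
  -- the `A₅` case
  have hc60 : Nat.card Hb = 60 := by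
    rw [Nat.card_congr e.toEquiv, Cfsg.Agent.S3377.card_A5]
  have h2K : 2 ∣ Nat.card K := by
    refine Dvd.dvd.trans ?_ hdvd
    rw [hc60]
    norm_num
  have hp2 : p ≠ 2 := by
    rintro rfl
    exact hp h2K
  have h2F : (2 : F) ≠ 0 := by
    intro h
    have h' : ((2 : ℕ) : F) = 0 := by exact_mod_cast h
    rw [CharP.cast_eq_zero_iff F p] at h'
    exact hp2 ((Nat.prime_dvd_prime_iff_eq Fact.out Nat.prime_two).mp h')
  haveI : Fact (Nat.Prime 2) := ⟨Nat.prime_two⟩
  obtain ⟨t, ht⟩ := exists_prime_orderOf_dvd_card' 2 h2K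
  have hinv : ∀ s : K, orderOf s = 2 →
      (s : Matrix.SpecialLinearGroup (Fin 2) F) = Cfsg.Agent.Helper53.negOneSL2 F := by
    intro s hs
    have h1 : s ^ 2 = 1 := by
      have := pow_orderOf_eq_one s
      rwa [hs] at this
    have h2 : (s : Matrix.SpecialLinearGroup (Fin 2) F) * s = 1 := by
      have := congrArg Subtype.val h1
      rw [pow_two] at this
      exact this
    rcases Cfsg.Agent.Helper53.sl2_invol h2F _ h2 with h | h
    · exfalso
      have : s = 1 := Subtype.ext h
      rw [this, orderOf_one] at hs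
      omega
    · exact h
  have htz := hinv t ht
  let π' : K →* alternatingGroup (Fin 5) := e.toMonoidHom.comp π
  have hπ's : Function.Surjective π' := e.surjective.comp hπs
  have hker : π'.ker = Subgroup.zpowers t := by
    ext x
    rw [MonoidHom.mem_ker]
    have hx1 : π' x = 1 ↔ π x = 1 := by
      show e (π x) = 1 ↔ π x = 1
      rw [MulEquiv.map_eq_one_iff]
    rw [hx1, hπ1, Cfsg.Agent.Helper41.sl2_mem_center_iff]
    constructor
    · rintro (h | h)
      · have : x = 1 := Subtype.ext (Subtype.ext h)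
        rw [this]
        exact one_mem _
      · have : x = t := by
          apply Subtype.ext
          rw [htz]
          apply Subtype.ext
          rw [h, negOne_coe]
        rw [this]
        exact Subgroup.mem_zpowers t
    · intro h
      have ht2 : t ^ 2 = 1 := by
        have := pow_orderOf_eq_one t
        rwa [ht] at this
      rcases mem_zpowers_two ht2 h with h | h
      · left
        rw [h]
        rfl
      · right
        rw [h, htz, negOne_coe]
  refine recog t ht ?_ π' hπ's hker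
  intro s hs
  apply Subtype.ext
  rw [hinv s hs, htz]

/-- the same for an abstract group with a faithful representation in `SL₂(F)` -/
theorem perfect_sl2_hom {F : Type*} [Field F] [Finite F] (p : ℕ) [Fact p.Prime] [CharP F p]
    {G : Type*} [Group G] [Finite G] (ρ : G →* Matrix.SpecialLinearGroup (Fin 2) F)
    (hρ : Function.Injective ρ) (hp : ¬ p ∣ Nat.card G)
    (hperf : commutator G = ⊤) (hne : Nontrivial G) :
    Nonempty (G ≃* Matrix.SpecialLinearGroup (Fin 2) (ZMod 5)) := by
  let e : G ≃* ρ.range := MonoidHom.ofInjective hρ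
  have hc : Nat.card ρ.range = Nat.card G := (Nat.card_congr e.toEquiv).symm
  obtain ⟨f⟩ := perfect_sl2 p ρ.range (by rw [hc]; exact hp)
    (perfect_of_surjective e.toMonoidHom e.surjective hperf) (by
      intro h
      obtain ⟨a, b, hab⟩ := hne
      apply hab
      apply hρ
      have ha : ρ a ∈ ρ.range := ⟨a, rfl⟩
      have hb : ρ b ∈ ρ.range := ⟨b, rfl⟩
      rw [h, Subgroup.mem_bot] at ha hb
      rw [ha, hb])
  exact ⟨e.trans f⟩

end Cfsg.Agent.Helper98.SL25Recog
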