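import Mathlib
import Cfsg.Agent.Lib.Helper98.SPE0
import Cfsg.Agent.Lib.Helper98.SPEPieces
import Cfsg.Agent.Lib.Helper78.U2R1
import Cfsg.Agent.Lib.Helper20.U2R3
import Cfsg.Agent.Lib.Helper78.U2K1
import Cfsg.Agent.Lib.Helper79.U2D2

/-!
# SPE project (S2333): assembly

Every irreducible complex representation of degree `≥ 2` of `Sp_{2n}(q)`, `q` even, has degree at
least `(q^n - 1)(q^n - q) / (2 (q + 1))`.
-/

set_option autoImplicit false

namespace Cfsg.Agent.Helper98.SPEMain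

open Matrix Cfsg.Agent.Helper93.U2 Cfsg.Agent.Helper98.SPE Cfsg.Agent.Helper98.SPEP

section Orbit

variable {F : Type*} [Field F] [Fintype F] {q : ℕ} (hq : Fintype.card F = q) {n : ℕ}

include hq in
/-- the orbit bound: case split isotropic / anisotropic -/
theorem orbit_bound (h2 : (2 : F) = 0) (hn : 2 ≤ n) (O : Set (Matrix (Fin n) (Fin n) F))
    (hcl : ∀ g : GL (Fin n) F, ∀ S ∈ O, congQ (g : Matrix (Fin n) (Fin n) F) S ∈ O)
    (S₀ : Matrix (Fin n) (Fin n) F) (hS₀ : S₀ ∈ O) (x y : Fin n → F) (hb : bv S₀ x y ≠ 0) :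
    (q ^ n - 1) * (q ^ n - q) ≤ 2 * (q + 1) * O.ncard := by
  have hq2 : 2 ≤ q := by
    rw [← hq]
    exact Fintype.one_lt_card
  by_cases hcase : ∃ x y : Fin n → F, bv S₀ x y ≠ 0 ∧ qv S₀ x = 0
  · obtain ⟨x', y', hb', hx0⟩ := hcase
    have h1 := orbit_bound_of hq h2 hn O hcl S₀ hS₀ x' y' 0 (bv S₀ x' y') (qv S₀ y') hx0 rfl rfl hb'
      (2 * q - 1) 1 (fun e => binary_card_le_of_iso hq (bv S₀ x' y') (qv S₀ y') hb' e)
      (fun d => roots_card_le_one (bv S₀ x' y') d hb')
    calc (q ^ n - 1) * (q ^ n - q) ≤ 1 * (2 * q - 1) * O.ncard := h1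
      _ ≤ 2 * (q + 1) * O.ncard := by
        apply Nat.mul_le_mul_right
        omega
  · push Not at hcase
    have hself : ∀ z : Fin n → F, bv S₀ z z = 0 := by
      intro z
      rw [bv_self, h2, zero_mul]
    have han : ∀ s t : F, qv S₀ x * s ^ 2 + bv S₀ x y * s * t + qv S₀ y * t ^ 2 = 0 →
        s = 0 ∧ t = 0 := by
      intro s t hst
      have hz : qv S₀ (s • x + t • y + 0) = 0 := by
        rw [qv_decomp S₀ x y 0 s t]
        · rw [hst]
          have : qv S₀ (0 : Fin n → F) = 0 := by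
            have := qv_smul S₀ (0 : F) (0 : Fin n → F)
            rw [zero_smul] at this
            rw [this]
            ring
          rw [this, add_zero]
        · have := bv_smul_left S₀ (0 : F) (0 : Fin n → F) x
          rw [zero_smul, zero_mul] at this
          exact this
        · have := bv_smul_left S₀ (0 : F) (0 : Fin n → F) y
          rw [zero_smul, zero_mul] at this
          exact this
      rw [add_zero] at hz
      have hzy : bv S₀ (s • x + t • y) y = s * bv S₀ x y := by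
        rw [bv_add_left, bv_smul_left, bv_smul_left, hself, mul_zero, add_zero]
      have hzx : bv S₀ (s • x + t • y) x = t * bv S₀ x y := by
        rw [bv_add_left, bv_smul_left, bv_smul_left, hself, mul_zero, zero_add, bv_symm S₀ y x]
      constructor
      · by_contra hs
        exact hcase (s • x + t • y) y (by rw [hzy]; exact mul_ne_zero hs hb) hz
      · by_contra ht
        exact hcase (s • x + t • y) x (by rw [hzx]; exact mul_ne_zero ht hb) hz
    have h1 := orbit_bound_of hq h2 hn O hcl S₀ hS₀ x y (qv S₀ x) (bv S₀ x y) (qv S₀ y) rfl rfl rfl hb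
      (q + 1) 2 (fun e => binary_card_le_of_aniso hq h2 _ _ _ han e)
      (fun d => roots_card_le_two _ _ d hb)
    calc (q ^ n - 1) * (q ^ n - q) ≤ 2 * (q + 1) * O.ncard := h1

end Orbit

section Main

variable {F : Type*} [Field F] [Fintype F]

omit [Fintype F] in
theorem congA_surjective {n : ℕ} (g : GL (Fin n) F) :
    Function.Surjective (congA (F := F) (n := n) (g : Matrix (Fin n) (Fin n) F)) := by
  intro b
  refine ⟨congA ((g⁻¹ : GL (Fin n) F) : Matrix (Fin n) (Fin n) F) b, ?_⟩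
  apply Subtype.ext
  rw [congA_val, congA_val]
  have h1 : (g : Matrix (Fin n) (Fin n) F) * ((g⁻¹ : GL (Fin n) F) : Matrix (Fin n) (Fin n) F) = 1 := by
    rw [← Units.val_mul, mul_inv_cancel, Units.val_one]
  have h2 : (((g⁻¹ : GL (Fin n) F) : Matrix (Fin n) (Fin n) F))ᵀ * (g : Matrix (Fin n) (Fin n) F)ᵀ = 1 := by
    rw [← Matrix.transpose_mul, h1, Matrix.transpose_one]
  calc (g : Matrix (Fin n) (Fin n) F) * (((g⁻¹ : GL (Fin n) F) : Matrix (Fin n) (Fin n) F) * b.1 *
        (((g⁻¹ : GL (Fin n) F) : Matrix (Fin n) (Fin n) F))ᵀ) * (g : Matrix (Fin n) (Fin n) F)ᵀ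
      = ((g : Matrix (Fin n) (Fin n) F) * ((g⁻¹ : GL (Fin n) F) : Matrix (Fin n) (Fin n) F)) * b.1 *
        ((((g⁻¹ : GL (Fin n) F) : Matrix (Fin n) (Fin n) F))ᵀ * (g : Matrix (Fin n) (Fin n) F)ᵀ) := by
        simp only [Matrix.mul_assoc]
    _ = b.1 := by rw [h1, h2, Matrix.one_mul, Matrix.mul_one]

/-- the main theorem (statement of S2333) -/
theorem main (n : ℕ) (hn : 2 ≤ n) (heven : Even (Fintype.card F))
    (hex : (n, Fintype.card F) ≠ (2, 2))
    (k : ℕ) (ρ : Representation ℂ (Matrix.symplecticGroup (Fin n) F) (Fin k → ℂ))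
    (hρ : ρ.IsIrreducible) (hk : 2 ≤ k) :
    (Fintype.card F ^ n - 1) * (Fintype.card F ^ n - Fintype.card F) / (2 * (Fintype.card F + 1))
      ≤ k := by
  have h2 : (2 : F) = 0 := two_eq_zero_of_even_card heven
  have hcard2 : 2 ≤ Fintype.card F := Fintype.one_lt_card
  have hex' : n = 2 → 3 ≤ Fintype.card F := by
    intro hn2
    by_contra hlt
    apply hex
    have : Fintype.card F = 2 := by omega
    rw [hn2, this]
  obtain ⟨ψ, hψ⟩ := Cfsg.Agent.Helper79.U2.exists_addChar F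
  obtain ⟨pr, hpr⟩ := exists_pairing ψ hψ n
  have hel : ∀ a b : ↥(symSub F n), aEl (a + b) = aEl a * aEl b := aEl_add
  -- the short root parameter
  let i0 : Fin n := ⟨0, by omega⟩
  let i1 : Fin n := ⟨1, by omega⟩
  have hi : i0 < i1 := by
    change (0 : ℕ) < 1
    omega
  have hune : i0 ≠ i1 := ne_of_lt hi
  let u : ↥(symSub F n) := ⟨shortS F n i0 i1, by
    change (shortS F n i0 i1)ᵀ = shortS F n i0 i1
    unfold shortS
    rw [Matrix.transpose_add, Matrix.transpose_single, Matrix.transpose_single, add_comm]⟩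
  have hu0 : u ≠ 0 := by
    intro h
    have h1 : (u.1 : Matrix (Fin n) (Fin n) F) i0 i1 = 0 := by
      rw [h]
      rfl
    have h3 : (u.1 : Matrix (Fin n) (Fin n) F) i0 i1 = 1 := by
      change shortS F n i0 i1 i0 i1 = 1
      unfold shortS
      rw [Matrix.add_apply, Matrix.single_apply_same, Matrix.single_apply_of_ne]
      · rw [add_zero]
      · intro hh
        exact hune hh.1.symm
    rw [h3] at h1
    exact one_ne_zero h1
  have hρu : ρ (aEl u) ≠ 1 := by
    intro h
    have hker : aEl u ∈ MonoidHom.ker ρ := MonoidHom.mem_ker.2 h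
    rcases normal_le_center_or_eq_top hn hex' (MonoidHom.ker ρ) (MonoidHom.normal_ker ρ) with
      hc | ht
    · exact aEl_not_mem_center u hu0 (hc hker)
    · obtain ⟨g, hg⟩ := Cfsg.Agent.Helper78.U2.exists_ne_one_of_irreducible ρ hρ hk
      apply hg
      have hgk : g ∈ MonoidHom.ker ρ := by
        rw [ht]
        exact Subgroup.mem_top g
      exact MonoidHom.mem_ker.1 hgk
  obtain ⟨a, ha, hau⟩ := exists_wsp_of_ne_one pr aEl ρ hel u hρu
  have ha01 : a.1 i0 i1 ≠ 0 := by
    intro h0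
    apply hau
    rw [hpr]
    change ψ (tauS a.1 (shortS F n i0 i1)) = 1
    rw [tauS_shortS _ _ _ hi, h0, AddChar.map_zero_eq_one]
  -- the set of weights
  let O : Set (Matrix (Fin n) (Fin n) F) :=
    {S | ∃ a : ↥(symSub F n), a.1 = S ∧ wsp pr aEl ρ a ≠ ⊥}
  have hcl : ∀ g : GL (Fin n) F, ∀ S ∈ O, congQ (g : Matrix (Fin n) (Fin n) F) S ∈ O := by
    rintro g S ⟨a', rfl, ha'⟩
    refine ⟨congS (g : Matrix (Fin n) (Fin n) F) a', rfl, ?_⟩
    apply Cfsg.Agent.Helper20.U2.wsp_conj pr aEl ρ (lEl g⁻¹)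
      (congA ((g⁻¹ : GL (Fin n) F) : Matrix (Fin n) (Fin n) F))
      (congS ((g⁻¹ : GL (Fin n) F) : Matrix (Fin n) (Fin n) F))
      (congA_surjective g⁻¹) (fun b => lEl_conj g⁻¹ b)
    · intro a'' b
      rw [hpr, hpr, congA_val, congS_val, tauS_cong _ _ _ b.2]
    · rw [congS_inv_congS]
      exact ha'
  have hO : O.ncard ≤ k := by
    have h1 := Cfsg.Agent.Helper78.U2.card_wsp_le pr aEl ρ
    rw [Module.finrank_fin_fun] at h1
    have h3 : O = Subtype.val '' {a : ↥(symSub F n) | wsp pr aEl ρ a ≠ ⊥} := by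
      ext S
      constructor
      · rintro ⟨a', rfl, ha'⟩
        exact ⟨a', ha', rfl⟩
      · rintro ⟨a', ha', rfl⟩
        exact ⟨a', rfl, ha'⟩
    rw [h3, Set.ncard_image_of_injective _ Subtype.val_injective]
    rw [← _root_.Nat.card_coe_set_eq]
    exact h1
  have hb : bv a.1 (Pi.single i0 1) (Pi.single i1 1) ≠ 0 := by
    rw [bv_single a.1 i0 i1 hi]
    exact ha01
  have hbound := orbit_bound (q := Fintype.card F) rfl h2 hn O hcl a.1 ⟨a, rfl, ha⟩ _ _ hb
  apply Nat.div_le_of_le_mul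
  calc (Fintype.card F ^ n - 1) * (Fintype.card F ^ n - Fintype.card F)
      ≤ 2 * (Fintype.card F + 1) * O.ncard := hbound
    _ ≤ 2 * (Fintype.card F + 1) * k := Nat.mul_le_mul_left _ hO

end Main

end Cfsg.Agent.Helper98.SPEMain
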