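import Cfsg.Agent.Lib.Helper98.TIHPieces
import Cfsg.Agent.Lib.Helper98.BrownMain
import Cfsg.Agent.Lib.Helper98.SL25Recog
import Cfsg.Agent.Lib.Helper56.ZK4
import Cfsg.Agent.Lib.Helper56.ZL5
import Cfsg.Agent.Lib.Helper39.Families

set_option autoImplicit false
set_option linter.unusedSectionVars false
set_option linter.unusedVariables false
set_option linter.style.haveILetI false
set_option maxHeartbeats 800000

/-!
# S4118: TI subgroups that are Hall subgroups of their normalizer, in π-separable groups (assembly)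
-/

namespace Cfsg.Agent.Helper98.TIHMain

open Cfsg.Agent.Helper98.TIH Cfsg.Agent.Helper98.TIHP

universe u

variable {G : Type u} [Group G] [Finite G]

/-- `SL(2,5)` is not solvable -/
theorem sl25_not_solvable :
    ¬ Group.IsSolvable (Matrix.SpecialLinearGroup (Fin 2) (ZMod 5)) := by
  intro hs
  haveI : Fact (Nat.Prime 5) := ⟨by norm_num⟩
  have hperf : commutator (Matrix.SpecialLinearGroup (Fin 2) (ZMod 5)) = ⊤ :=
    Cfsg.Agent.Helper39.sl2_perfect (F := ZMod 5) (by simp [ZMod.card])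
  have hsub := Cfsg.Agent.Helper98.SL25Recog.subsingleton_of_solvable_perfect hs hperf
  let t : Matrix.SpecialLinearGroup (Fin 2) (ZMod 5) :=
    ⟨!![1, 1; 0, 1], by rw [Matrix.det_fin_two_of]; ring⟩
  have h1 : t = 1 := Subsingleton.elim _ _
  have h2 : (t : Matrix (Fin 2) (Fin 2) (ZMod 5)) 0 1 = (1 : Matrix (Fin 2) (Fin 2) (ZMod 5)) 0 1 := by
    rw [h1]; rfl
  have h3 : (t : Matrix (Fin 2) (Fin 2) (ZMod 5)) 0 1 = 1 := rfl
  rw [h3, Matrix.one_apply_ne (by decide)] at h2
  exact one_ne_zero h2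

/-- (1) `G = O N_G(H)` -/
theorem sup_normalizer_eq_top {H O : Subgroup G} (hH : Hyp H) (hc : IsCore H O)
    (hsep : ∃ (n : ℕ) (M : Fin (n + 1) → Subgroup G), M 0 = ⊥ ∧ M (Fin.last n) = ⊤ ∧ Monotone M ∧
      (∀ i, (M i).Normal) ∧
      ∀ i : Fin n, (∀ q : ℕ, q.Prime → q ∣ (M i.castSucc).relIndex (M i.succ) → q ∣ Nat.card H) ∨
        ((M i.castSucc).relIndex (M i.succ)).Coprime (Nat.card H)) :
    O ⊔ Subgroup.normalizer (H : Set G) = ⊤ := by
  have hH1 : H ≠ ⊥ := by
    rintro rfl
    exact hH.nn inferInstance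
  have hall := hall_of_ti hH
  obtain ⟨K, hKn, hOK, hKO, hπ⟩ := exists_pi_layer hc hH1 hsep
  have hrel : O.relIndex K ≠ 1 := fun h => hKO (Subgroup.relIndex_eq_one.mp h)
  obtain ⟨p, hp, hpd⟩ := Nat.exists_prime_and_dvd hrel
  have hpH := hπ p hp hpd
  have hpK : p ∣ Nat.card K := dvd_trans hpd (Subgroup.relIndex_dvd_card O K)
  have h1 := sup_normalizer_eq_top_of_prime hH hall K hKn p hp hpK hpH
  have h2 := layer_le_sup hall hc K hKn hOK hπ
  have hHN : H ≤ Subgroup.normalizer (H : Set G) := Subgroup.le_normalizer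
  rw [eq_top_iff, ← h1]
  exact sup_le (h2.trans (sup_le_sup_left hHN O)) le_sup_right

/-- (2) `O H` is normal -/
theorem sup_normal {H O : Subgroup G} (hO : O.Normal)
    (htop : O ⊔ Subgroup.normalizer (H : Set G) = ⊤) : (O ⊔ H).Normal := by
  haveI := hO
  have hmap : (H.map (QuotientGroup.mk' O)).Normal := by
    constructor
    intro x hx g
    obtain ⟨h, hh, rfl⟩ := Subgroup.mem_map.mp hx
    obtain ⟨g, rfl⟩ := QuotientGroup.mk'_surjective O g
    have hg : g ∈ O ⊔ Subgroup.normalizer (H : Set G) := by rw [htop]; exact Subgroup.mem_top g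
    rw [← SetLike.mem_coe, Subgroup.normal_mul] at hg
    obtain ⟨o, ho, n, hn, rfl⟩ := Set.mem_mul.mp hg
    have hn' : n * h * n⁻¹ ∈ H := (Subgroup.mem_normalizer_iff.mp hn h).mp hh
    refine Subgroup.mem_map.mpr ⟨n * h * n⁻¹, hn', ?_⟩
    have ho1 : (QuotientGroup.mk' O) o = 1 := (QuotientGroup.eq_one_iff o).mpr ho
    simp only [map_mul, map_inv, ho1, one_mul]

  have h2 := hmap.comap (QuotientGroup.mk' O)
  rw [Subgroup.comap_map_eq, QuotientGroup.ker_mk', sup_comm] at h2
  exact h2

/-- from a fixed-point-free action to the data `FD` -/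
theorem exists_FD_of_action {H : Type u} [Group H] [Finite H] [Nontrivial H] {W : Type u}
    [Group W] [Finite W] [Nontrivial W] (ψ : H →* MulAut W)
    (hfpf : ∀ h : H, h ≠ 1 → ∀ w : W, ψ h w = w → w = 1) :
    Nonempty (Cfsg.Agent.Helper56.ZC.FD H) := by
  have hinj : Function.Injective ψ := by
    rw [injective_iff_map_eq_one]
    intro h hh
    by_contra hne
    obtain ⟨w, hw⟩ := exists_ne (1 : W)
    apply hw
    apply hfpf h hne w
    rw [hh]; rfl
  have hR : ψ.range ≠ ⊥ := by
    intro h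
    obtain ⟨x, hx⟩ := exists_ne (1 : H)
    apply hx
    apply hinj
    have : ψ x ∈ ψ.range := ⟨x, rfl⟩
    rw [h, Subgroup.mem_bot] at this
    rw [this, map_one]
  have hfpfR : ∀ φ ∈ ψ.range, φ ≠ 1 → ∀ k : W, φ k = k → k = 1 := by
    rintro φ ⟨h, rfl⟩ hne k hk
    apply hfpf h _ k hk
    rintro rfl
    exact hne (map_one ψ)
  obtain ⟨F0⟩ := Cfsg.Agent.Helper56.ZG.exists_FD_of_fpf ψ.range hfpfR hR
  refine ⟨F0.comap ψ.rangeRestrict ?_⟩
  intro a b hab
  apply hinj
  have := congrArg Subtype.val hab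
  simpa using this

/-- (3), the hard direction -/
theorem solvable_of_hyps {H O : Subgroup G} (hH : Hyp H) (hc : IsCore H O)
    (htop : O ⊔ Subgroup.normalizer (H : Set G) = ⊤) (hOs : Group.IsSolvable O)
    (hno : ∀ K : Subgroup G, K ≤ H →
      ¬ Nonempty (K ≃* Matrix.SpecialLinearGroup (Fin 2) (ZMod 5))) :
    Group.IsSolvable G := by
  have hH1 : H ≠ ⊥ := by
    rintro rfl
    exact hH.nn inferInstance
  haveI hHnt : Nontrivial H := (Subgroup.nontrivial_iff_ne_bot H).mpr hH1
  haveI := hc.normal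
  -- the fixed-point-free data
  obtain ⟨W, i1, i2, i3, ψ, hfpf⟩ := exists_fpf_action hH hc htop hOs
    (fun α p hp hα Y hY hpY x hx => exists_fixed_of_prime α p hp hα Y hY hpY x hx)
  obtain ⟨F⟩ := exists_FD_of_action ψ hfpf
  have hFpf : Cfsg.Agent.Helper98.Brown.FpfLike H :=
    Cfsg.Agent.Helper98.Brown.fpfLike_of_sr F.ρ F.hsr
  -- H is solvable
  have hHs : Group.IsSolvable H := by
    by_contra hns
    obtain ⟨G₀, -, -, S, M, -, -, -, ⟨e⟩, -, -⟩ :=
      Cfsg.Agent.Helper56.ZG.nonsolvable_structure F hns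
    refine hno (S.map H.subtype) ?_ ⟨?_⟩
    · rintro x ⟨y, -, rfl⟩
      exact y.2
    · exact (S.equivMapOfInjective H.subtype H.subtype_injective).symm.trans e
  -- Aut H is solvable
  have hAC : AlmostCyc H := almostCyc_of_fpfLike hFpf
  haveI hAut : Group.IsSolvable (MulAut H) :=
    mulAut_solvable_aux (fun h N _ => almostCyc_quotient h N)
      (fun h A p hp h1 h2 => elementary_cyclic_or_four h A p hp h1 h2)
      (fun h => mulAut_solvable_of_card_four h)
      (fun hs => exists_char_elementary hs)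
      (fun A hA α β h1 h2 h3 h4 => comm_of_trivial_on_series A hA α β h1 h2 h3 h4) hHs hAC
  -- the centralizer is solvable
  haveI hC : Group.IsSolvable (Subgroup.centralizer (H : Set G)) :=
    centralizer_solvable hH hc htop hOs
  -- the normalizer is solvable
  haveI hN : Group.IsSolvable (Subgroup.normalizer (H : Set G)) := by
    haveI hker : Group.IsSolvable (H.normalizerMonoidHom.ker) := by
      rw [Subgroup.normalizerMonoidHom_ker]
      let j : ((Subgroup.centralizer (H : Set G)).subgroupOf (Subgroup.normalizer (H : Set G))) →*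
          Subgroup.centralizer (H : Set G) :=
        { toFun := fun x => ⟨x.1.1, x.2⟩
          map_one' := rfl
          map_mul' := fun _ _ => rfl }
      refine Group.isSolvable_of_isSolvable_injective (f := j) ?_
      intro a b hab
      have := congrArg (fun z : Subgroup.centralizer (H : Set G) => (z : G)) hab
      exact Subtype.ext (Subtype.ext this)
    exact Group.isSolvable_of_ker_le_range (H.normalizerMonoidHom.ker.subtype) H.normalizerMonoidHom
      (by rw [Subgroup.range_subtype])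
  -- G is solvable
  haveI : Group.IsSolvable (G ⧸ O) := by
    refine Group.isSolvable_of_surjective
      (f := (QuotientGroup.mk' O).comp (Subgroup.normalizer (H : Set G)).subtype) ?_
    intro x
    obtain ⟨g, rfl⟩ := QuotientGroup.mk'_surjective O x
    have hg : g ∈ O ⊔ Subgroup.normalizer (H : Set G) := by rw [htop]; exact Subgroup.mem_top g
    rw [← SetLike.mem_coe, Subgroup.normal_mul] at hg
    obtain ⟨o, ho, n, hn, rfl⟩ := Set.mem_mul.mp hg
    refine ⟨⟨n, hn⟩, ?_⟩
    have ho1 : (QuotientGroup.mk' O) o = 1 := (QuotientGroup.eq_one_iff o).mpr ho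
    simp only [MonoidHom.comp_apply, Subgroup.coe_subtype, map_mul, ho1, one_mul]
  haveI := hOs
  exact Group.isSolvable_of_ker_le_range O.subtype (QuotientGroup.mk' O)
    (by rw [QuotientGroup.ker_mk', Subgroup.range_subtype])

/-- the statement of S4118 -/
theorem tih_main (H : Subgroup G)
    (hTI : Cfsg.IsTISubset (H : Set G)) (hnn : ¬ H.Normal)
    (hHall : (Nat.card H).Coprime (H.subgroupOf (Subgroup.normalizer (H : Set G))).index)
    (hsep : ∃ (n : ℕ) (M : Fin (n + 1) → Subgroup G), M 0 = ⊥ ∧ M (Fin.last n) = ⊤ ∧ Monotone M ∧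
      (∀ i, (M i).Normal) ∧
      ∀ i : Fin n, (∀ q : ℕ, q.Prime → q ∣ (M i.castSucc).relIndex (M i.succ) → q ∣ Nat.card H) ∨
        ((M i.castSucc).relIndex (M i.succ)).Coprime (Nat.card H))
    (O : Subgroup G)
    (hO : O = sSup {K : Subgroup G | K.Normal ∧ (Nat.card K).Coprime (Nat.card H)}) :
    O ⊔ Subgroup.normalizer (H : Set G) = ⊤ ∧ (O ⊔ H).Normal ∧
    (Group.IsSolvable G ↔ Group.IsSolvable O ∧
      ∀ K : Subgroup G, K ≤ H →
        ¬ Nonempty (K ≃* Matrix.SpecialLinearGroup (Fin 2) (ZMod 5))) := by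
  have hH : Hyp H := ⟨hTI, hnn, hHall⟩
  have hc : IsCore H O := isCore_sSup H O hO
  have htop := sup_normalizer_eq_top hH hc hsep
  refine ⟨htop, sup_normal hc.normal htop, ?_, ?_⟩
  · intro hs
    haveI := hs
    refine ⟨inferInstance, ?_⟩
    rintro K hK ⟨e⟩
    exact sl25_not_solvable (Group.isSolvable_of_surjective (f := e.toMonoidHom) e.surjective)
  · rintro ⟨hOs, hno⟩
    exact solvable_of_hyps hH hc htop hOs hno

end Cfsg.Agent.Helper98.TIHMain
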