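import Mathlib
import Cfsg.Prelude.Def_OddOrderLocal
import Cfsg.Agent.Lib.Helper98.TIHDefs
import Cfsg.Agent.Lib.Helper98.BrownDefs
import Cfsg.Agent.Lib.Helper48.TIHP0
import Cfsg.Agent.Lib.Helper99.TIHP1
import Cfsg.Agent.Lib.Helper11.TIHP2
import Cfsg.Agent.Lib.Helper63.TIHP3a
import Cfsg.Agent.Lib.Helper11.TIHP3b
import Cfsg.Agent.Lib.Helper19.TIHP6c
import Cfsg.Agent.Lib.Helper19.TIHP6q
import Cfsg.Agent.Lib.Helper99.TIHP7
import Cfsg.Agent.Lib.Helper79.TIHP8a
import Cfsg.Agent.Lib.Helper78.TIHP8b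
import Cfsg.Agent.Lib.Helper78.TIHP8c
import Cfsg.Agent.Lib.Helper48.TIHP8d
import Cfsg.Agent.Lib.Helper79.TIHP8e
import Cfsg.Agent.Lib.Helper46.TIHP8g
import Cfsg.Agent.Lib.Helper46.TIHP8f

set_option autoImplicit false

/-! The pieces of the TIH server (S4118), as delivered by helper11, helper19, helper46, helper48, helper63,
helper78, helper79, helper99; restated with the signatures of `tools/tih_sigs_helper98.lean.txt`. -/

namespace Cfsg.Agent.Helper98.TIHP

open Cfsg.Agent.Helper98.TIH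

universe u

/-- (P0) the join of all normal subgroups of order prime to `|H|` is the largest one.
Proof: the family is closed under `⊔` (`|K₁ K₂|` divides `|K₁| |K₂|`) and contains `⊥`; take a maximal member. -/
theorem isCore_sSup {G : Type u} [Group G] [Finite G] (H O : Subgroup G)
    (hO : O = sSup {K : Subgroup G | K.Normal ∧ (Nat.card K).Coprime (Nat.card H)}) :
    IsCore H O :=
  Cfsg.Agent.Helper48.TIH.isCore_sSup H O hO

/-- (P1) `H` is a Hall subgroup of `G`.  See the header. -/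
theorem hall_of_ti {G : Type u} [Group G] [Finite G] {H : Subgroup G} (hH : Hyp H) :
    (Nat.card H).Coprime H.index :=
  Cfsg.Agent.Helper99.TIH.hall_of_ti hH

/-- (P2) the π-layer above `O`.  Let `i` be minimal with `M i ≰ O` (exists: `M (last) = ⊤ ≰ O`, as `|O|` is prime to
`|H| > 1`; `i ≠ 0`).  `K := M i ⊔ O`.  `|K:O| = |M i : M i ⊓ O|` divides `|M i : M (i-1)|` (`M (i-1) ≤ M i ⊓ O`).  If this
factor is prime to `|H|`, `|K| = |O| |K:O|` is prime to `|H|`, so `K ≤ O` by `hc.max`, contradiction.  So the factor is a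
π-number, and so is its divisor `|K:O|`. -/
theorem exists_pi_layer {G : Type u} [Group G] [Finite G] {H O : Subgroup G} (hc : IsCore H O)
    (hH1 : H ≠ ⊥)
    (hsep : ∃ (n : ℕ) (M : Fin (n + 1) → Subgroup G), M 0 = ⊥ ∧ M (Fin.last n) = ⊤ ∧ Monotone M ∧
      (∀ i, (M i).Normal) ∧
      ∀ i : Fin n, (∀ q : ℕ, q.Prime → q ∣ (M i.castSucc).relIndex (M i.succ) → q ∣ Nat.card H) ∨
        ((M i.castSucc).relIndex (M i.succ)).Coprime (Nat.card H)) :
    ∃ K : Subgroup G, K.Normal ∧ O ≤ K ∧ ¬ K ≤ O ∧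
      ∀ q : ℕ, q.Prime → q ∣ O.relIndex K → q ∣ Nat.card H :=
  Cfsg.Agent.Helper11.TIH.exists_pi_layer hc hH1 hsep

/-- (P3a) Frattini.  See the header. -/
theorem sup_normalizer_eq_top_of_prime {G : Type u} [Group G] [Finite G] {H : Subgroup G}
    (hH : Hyp H) (hall : (Nat.card H).Coprime H.index) (K : Subgroup G) (hK : K.Normal)
    (p : ℕ) (hp : p.Prime) (hpK : p ∣ Nat.card K) (hpH : p ∣ Nat.card H) :
    K ⊔ Subgroup.normalizer (H : Set G) = ⊤ :=
  Cfsg.Agent.Helper63.TIH.sup_normalizer_eq_top_of_prime hH hall K hK p hp hpK hpH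

/-- (P3b) orders.  `|K : K ⊓ H| = |K ⊔ H : H|` divides `|G:H|`, prime to `|H|`; `|K| = |O| |K:O|`; every prime of `|K:O|`
divides `|H|`, so `|K:O|` divides `|K ⊓ H|`; `O ⊓ (K ⊓ H) = ⊥` (coprime orders); hence `|O ⊔ (K ⊓ H)| ≥ |O| |K:O| = |K|`. -/
theorem layer_le_sup {G : Type u} [Group G] [Finite G] {H O : Subgroup G}
    (hall : (Nat.card H).Coprime H.index) (hc : IsCore H O) (K : Subgroup G) (hK : K.Normal)
    (hOK : O ≤ K) (hπ : ∀ q : ℕ, q.Prime → q ∣ O.relIndex K → q ∣ Nat.card H) :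
    K ≤ O ⊔ H :=
  Cfsg.Agent.Helper11.TIH.layer_le_sup hall hc K hK hOK hπ

/-- (P6c) a `p`-group of automorphisms fixes a point of every invariant coset of a `p'`-subgroup.
`⟨α⟩` (order `1` or `p`) acts on the finite set `{x * y | y ∈ Y}` (`α (x y) = x (x⁻¹ α x) (α y)`), whose cardinality `|Y|`
is prime to `p`: the number of fixed points is `≡ |Y| mod p` (`MulAction.card_modEq_card_fixedPoints`), so non-zero. -/
theorem exists_fixed_of_prime {X : Type u} [Group X] [Finite X] (α : MulAut X) (p : ℕ)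
    (hp : p.Prime) (hα : α ^ p = 1) (Y : Subgroup X) (hY : ∀ y ∈ Y, α y ∈ Y)
    (hpY : ¬ p ∣ Nat.card Y) (x : X) (hx : x⁻¹ * α x ∈ Y) :
    ∃ y ∈ Y, α (x * y) = x * y :=
  Cfsg.Agent.Helper19.TIH.exists_fixed_of_prime α p hp hα Y hY hpY x hx

/-- (P6q) the fixed-point-free action.  See (P6) in the header; take `hfix` = (P6c) as a hypothesis.
`W := ↥X ⧸ (X ⊓ N).subgroupOf X` with `X` the last term of the derived series of `O` (as a subgroup of `G`:
`(derivedSeries ↥O k).map O.subtype`) not contained in `N`; `ψ h` := conjugation by `h` (use `MulAut.conjNormal` for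
`X ⊴ G` and `QuotientGroup.congr`, or build it by hand). -/
theorem exists_fpf_action {G : Type u} [Group G] [Finite G] {H O : Subgroup G} (hH : Hyp H)
    (hc : IsCore H O) (htop : O ⊔ Subgroup.normalizer (H : Set G) = ⊤)
    (hOs : Group.IsSolvable O)
    (hfix : ∀ {X : Type u} [Group X] [Finite X] (α : MulAut X) (p : ℕ), p.Prime → α ^ p = 1 →
      ∀ Y : Subgroup X, (∀ y ∈ Y, α y ∈ Y) → ¬ p ∣ Nat.card Y → ∀ x : X, x⁻¹ * α x ∈ Y →
        ∃ y ∈ Y, α (x * y) = x * y) :
    ∃ (W : Type u) (_ : Group W) (_ : Finite W) (_ : Nontrivial W) (ψ : H →* MulAut W),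
      ∀ h : H, h ≠ 1 → ∀ w : W, ψ h w = w → w = 1 :=
  Cfsg.Agent.Helper19.TIH.exists_fpf_action hH hc htop hOs hfix

/-- (P7) the centralizer of `H` is solvable.  See the header. -/
theorem centralizer_solvable {G : Type u} [Group G] [Finite G] {H O : Subgroup G} (hH : Hyp H)
    (hc : IsCore H O) (htop : O ⊔ Subgroup.normalizer (H : Set G) = ⊤)
    (hOs : Group.IsSolvable O) :
    Group.IsSolvable (Subgroup.centralizer (H : Set G)) :=
  Cfsg.Agent.Helper99.TIH.centralizer_solvable hH hc htop hOs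

/-- (P8a) fixed-point-free groups are `AlmostCyc`: odd Sylow subgroups are cyclic (`C := P`), Sylow 2-subgroups are cyclic
or `≃* QuaternionGroup (2^k)`, which has the cyclic subgroup `zpowers (a 1)` of order `2 * 2^k`, index `2`
(`QuaternionGroup.orderOf_a_one`, `QuaternionGroup.card`). -/
theorem almostCyc_of_fpfLike {H : Type u} [Group H] [Finite H]
    (hF : Cfsg.Agent.Helper98.Brown.FpfLike H) : AlmostCyc H :=
  Cfsg.Agent.Helper79.TIH.almostCyc_of_fpfLike hF

/-- (P8b) `AlmostCyc` passes to quotients: a Sylow subgroup of `G ⧸ N` is the image of a Sylow subgroup `P` of `G`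
(`Sylow.mapSurjective` + conjugacy), and the image of `C ≤ P` is cyclic of index dividing `|P:C|`. -/
theorem almostCyc_quotient {G : Type u} [Group G] [Finite G] (h : AlmostCyc G) (N : Subgroup G)
    [N.Normal] : AlmostCyc (G ⧸ N) :=
  Cfsg.Agent.Helper78.TIH.almostCyc_quotient h N

/-- (P8c) elementary abelian subgroups of `AlmostCyc` groups: `A ≤ P` Sylow (`IsPGroup.exists_le_sylow`), `C ≤ P` cyclic of
index `≤ 2`; `A ⊓ C` is cyclic of exponent `p`, so of order `≤ p`, and `|A : A ⊓ C| ≤ 2`: `|A| ≤ 2p` is a power of `p`,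
so `|A| ∈ {1, p}` (cyclic) or `p = 2`, `|A| = 4`. -/
theorem elementary_cyclic_or_four {G : Type u} [Group G] [Finite G] (h : AlmostCyc G)
    (A : Subgroup G) (p : ℕ) (hp : p.Prime) (hcomm : ∀ a ∈ A, ∀ b ∈ A, a * b = b * a)
    (hexp : ∀ a ∈ A, a ^ p = 1) : IsCyclic A ∨ Nat.card A = 4 :=
  Cfsg.Agent.Helper78.TIH.elementary_cyclic_or_four h A p hp hcomm hexp

/-- (P8d) automorphisms trivial on `A` and on `G/A` commute, `A` abelian: `α g = g a(g)`, `(α β) g = g a(g) b(g)`. -/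
theorem comm_of_trivial_on_series {G : Type u} [Group G] (A : Subgroup G)
    (hcomm : ∀ a ∈ A, ∀ b ∈ A, a * b = b * a) (α β : MulAut G)
    (hα1 : ∀ a ∈ A, α a = a) (hα2 : ∀ g, g⁻¹ * α g ∈ A)
    (hβ1 : ∀ a ∈ A, β a = a) (hβ2 : ∀ g, g⁻¹ * β g ∈ A) : α * β = β * α :=
  Cfsg.Agent.Helper48.TIH.comm_of_trivial_on_series A hcomm α β hα1 hα2 hβ1 hβ2

/-- (P8e) `MulAut A` embeds in the permutations of the `3` non-identity elements, a group of order `6` (or use any
"order < 60 ⟹ solvable" / `Equiv.Perm (Fin 4)` solvable lemma on main). -/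
theorem mulAut_solvable_of_card_four {A : Type u} [Group A] [Finite A] (h : Nat.card A = 4) :
    Group.IsSolvable (MulAut A) :=
  Cfsg.Agent.Helper79.TIH.mulAut_solvable_of_card_four h

/-- (P8g) `D` := the last non-trivial term of the derived series (characteristic, abelian), `p` a prime dividing `|D|`,
`A := {x ∈ D | x ^ p = 1}` (a characteristic subgroup of `G`, `≠ ⊥` by Cauchy). -/
theorem exists_char_elementary {G : Type u} [Group G] [Finite G] [Nontrivial G]
    (hs : Group.IsSolvable G) :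
    ∃ (A : Subgroup G) (p : ℕ), p.Prime ∧ A.Characteristic ∧ A ≠ ⊥ ∧
      (∀ a ∈ A, ∀ b ∈ A, a * b = b * a) ∧ ∀ a ∈ A, a ^ p = 1 :=
  Cfsg.Agent.Helper46.TIH.exists_char_elementary hs

/-- (P8f) THE INDUCTION (take the other P8 pieces as hypotheses).  Strong induction on `Nat.card G`.  `G` trivial: `MulAut G`
is trivial.  Else `A, p` from `hchar`; `r : MulAut G →* MulAut A` (restriction, `A` characteristic) and
`s : MulAut G →* MulAut (G ⧸ A)` (`QuotientGroup.congr`); `MulAut A` is solvable (`helem`: cyclic ⟹ `MulAut A` commutative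
[`IsCyclic.mulAutMulEquiv` or directly] / `hfour`), `MulAut (G ⧸ A)` is solvable by induction (`hquot`, quotient of solvable,
smaller card), `ker (r.prod s)` is commutative by `hker`; conclude with `solvable_of_ker_le_range`. -/
theorem mulAut_solvable_aux
    (hquot : ∀ {G : Type u} [Group G] [Finite G], AlmostCyc G → ∀ (N : Subgroup G) [N.Normal],
      AlmostCyc (G ⧸ N))
    (helem : ∀ {G : Type u} [Group G] [Finite G], AlmostCyc G → ∀ (A : Subgroup G) (p : ℕ),
      p.Prime → (∀ a ∈ A, ∀ b ∈ A, a * b = b * a) → (∀ a ∈ A, a ^ p = 1) →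
      IsCyclic A ∨ Nat.card A = 4)
    (hfour : ∀ {A : Type u} [Group A] [Finite A], Nat.card A = 4 → Group.IsSolvable (MulAut A))
    (hchar : ∀ {G : Type u} [Group G] [Finite G] [Nontrivial G], Group.IsSolvable G →
      ∃ (A : Subgroup G) (p : ℕ), p.Prime ∧ A.Characteristic ∧ A ≠ ⊥ ∧
        (∀ a ∈ A, ∀ b ∈ A, a * b = b * a) ∧ ∀ a ∈ A, a ^ p = 1)
    (hker : ∀ {G : Type u} [Group G] (A : Subgroup G), (∀ a ∈ A, ∀ b ∈ A, a * b = b * a) →
      ∀ α β : MulAut G, (∀ a ∈ A, α a = a) → (∀ g, g⁻¹ * α g ∈ A) → (∀ a ∈ A, β a = a) →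
        (∀ g, g⁻¹ * β g ∈ A) → α * β = β * α)
    {G : Type u} [Group G] [Finite G] (hs : Group.IsSolvable G) (h : AlmostCyc G) :
    Group.IsSolvable (MulAut G) :=
  Cfsg.Agent.Helper46.TIH.mulAut_solvable_aux hquot helem hfour hchar hker hs h

end Cfsg.Agent.Helper98.TIHP
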