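import Cfsg.Agent.Lib.Helper93.USfC
import Cfsg.Agent.Lib.Helper98.USfP1

set_option autoImplicit false
set_option linter.unusedSectionVars false
set_option linter.unusedVariables false
set_option linter.unusedSimpArgs false
set_option linter.style.haveILetI false

/-!
# (P2) for S5658: an irrational parameter at one rational isotropic centre makes every rational
isotropic vector a full centre (helper98, for helper93).
-/

namespace Cfsg.Agent.Helper93.SubfL.USf

open Matrix Cfsg.Geo Cfsg.Agent.Helper93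
open Cfsg.Agent.Helper93.SubfL.SpSf (RatForm isomGroup mem_isomGroup sq_lemma subfield_top_of)
open Cfsg.Agent.Helper93.SubfL.SpSf (Lift2 lift2_closure)
open Cfsg.Agent.Helper98.Ident Cfsg.Agent.Helper98.Dickson

variable {ι : Type} [Fintype ι] [DecidableEq ι] {F : Type*} [Field F]
variable {σ : F ≃+* F} {F₀ : Subfield F} {f : (ι → F) → (ι → F) → F} {M : Subgroup (GL ι F)}
variable {hf : IsUnitaryForm σ f}

/-- product of two transvections with the same isotropic centre -/
lemma p2_uref_mul_iso (hf : IsUnitaryForm σ f) {a : ι → F} (ha : f a a = 0) (c c' : F) :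
    uref hf a c * uref hf a c' = uref hf a (c + c') := by
  apply gl_ext
  intro x
  rw [gl_mul_apply, uref_apply_iso hf a c' ha, uref_apply_iso hf a c ha,
    uref_apply_iso hf a (c + c') ha, hf.add_left, hf.smul_left, ha, mul_zero, add_zero, add_assoc,
    ← add_smul]
  congr 2
  ring

/-- two elements agreeing on a hyperbolic pair and on its perp are equal (unitary version) -/
lemma p2_gl_ext_plane_u (hf : IsUnitaryForm σ f) {a b : ι → F} (haa : f a a = 0) (hbb : f b b = 0)
    (hab : f a b = 1) (hba : f b a = 1) {d d' : GL ι F}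
    (h1 : (d : Matrix ι ι F) *ᵥ a = (d' : Matrix ι ι F) *ᵥ a)
    (h2 : (d : Matrix ι ι F) *ᵥ b = (d' : Matrix ι ι F) *ᵥ b)
    (h3 : ∀ x, f x a = 0 → f x b = 0 →
      (d : Matrix ι ι F) *ᵥ x = (d' : Matrix ι ι F) *ᵥ x) : d = d' := by
  apply gl_ext
  intro x
  have hx1 : f (x - f x b • a - f x a • b) a = 0 := by
    rw [uf_sub_left hf, uf_sub_left hf, hf.smul_left, hf.smul_left, haa, hba, mul_zero, mul_one,
      sub_zero, sub_self]
  have hx2 : f (x - f x b • a - f x a • b) b = 0 := by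
    rw [uf_sub_left hf, uf_sub_left hf, hf.smul_left, hf.smul_left, hab, hbb, mul_zero, mul_one,
      sub_zero, sub_self]
  have hx : x = f x b • a + f x a • b + (x - f x b • a - f x a • b) := by abel
  rw [hx, Matrix.mulVec_add, Matrix.mulVec_add, Matrix.mulVec_smul, Matrix.mulVec_smul,
    Matrix.mulVec_add, Matrix.mulVec_add, Matrix.mulVec_smul, Matrix.mulVec_smul, h1, h2,
    h3 _ hx1 hx2]

/-- a transvection of `M` with a rational isotropic centre has a trace-zero parameter -/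
lemma p2_trace_zero_of_mem [Finite F] (C : UCtx hf F₀ M) {w : ι → F} (hw : Rat F₀ w) (hw0 : w ≠ 0)
    (hww : f w w = 0) {c : F} (hc : uref hf w c ∈ M) : c + σ c = 0 := by
  obtain ⟨p, hp, hpp, hwp, hpw⟩ := hyp_partner1 hf C.rat C.sig hw hw0 hww
  have h1 := C.isom' hc p p
  rw [uref_apply_iso hf w c hww, hpw, mul_one] at h1
  simp only [hf.add_left, uf_add_right hf, hf.smul_left, uf_smul_right hf, hww, hwp, hpw,
    hpp] at h1
  linear_combination h1

/-- transfer of transvections between non-orthogonal rational isotropic centres -/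
lemma p2_uref_transfer (C : UCtx hf F₀ M) {w w' : ι → F} (hw : Rat F₀ w) (hw' : Rat F₀ w')
    (hww : f w w = 0) (hw'w' : f w' w' = 0) (hb : f w w' ≠ 0) :
    ∃ κ ∈ F₀, κ ≠ 0 ∧ ∀ c, uref hf w c ∈ M → uref hf w' (c * κ * σ κ) ∈ M := by
  obtain ⟨θ, hθF, hθ0, hθσ⟩ := C.sig.theta
  have hσθ : σ θ = -θ := by linear_combination hθσ
  obtain ⟨β, hβ⟩ : ∃ β : F, β = f w w' := ⟨_, rfl⟩
  have hβ0 : β ≠ 0 := by rw [hβ]; exact hb
  have hβF : β ∈ F₀ := by rw [hβ]; exact C.rat _ _ hw hw'
  have hβ' : f w' w = σ β := by rw [hβ]; exact hf.herm w' w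
  have hσβF : σ β ∈ F₀ := C.sig.stab _ hβF
  have hσβ0 : σ β ≠ 0 := by
    intro h0
    apply hβ0
    have := congrArg σ h0
    rwa [hf.involutive, map_zero] at this
  have hX0 : θ * (β * σ β) ≠ 0 := mul_ne_zero hθ0 (mul_ne_zero hβ0 hσβ0)
  obtain ⟨γ, hγ⟩ : ∃ γ : F, γ = -(θ * (β * σ β))⁻¹ := ⟨_, rfl⟩
  have hγF : γ ∈ F₀ := by
    rw [hγ]
    exact F₀.neg_mem (F₀.inv_mem (F₀.mul_mem hθF (F₀.mul_mem hβF hσβF)))
  have hγ0 : γ ≠ 0 := by
    rw [hγ]
    exact neg_ne_zero.mpr (inv_ne_zero hX0)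
  have hγσ : γ + σ γ = 0 := by
    rw [hγ, map_neg, map_inv₀, map_mul, map_mul, hf.involutive, hσθ]
    have e : -θ * (σ β * β) = -(θ * (β * σ β)) := by ring
    rw [e, inv_neg, neg_neg, neg_add_cancel]
  have key : θ * (γ * β * f w' w) = -1 := by
    rw [hβ', hγ]
    have e8 : θ * (β * σ β) * (θ * (β * σ β))⁻¹ = 1 := mul_inv_cancel₀ hX0
    linear_combination (-1 : F) * e8
  have hm : uref hf w θ * uref hf w' γ ∈ M :=
    M.mul_mem (C.le (uref_rat_mem hf C.rat hw hww hθF hθσ))
      (C.le (uref_rat_mem hf C.rat hw' hw'w' hγF hγσ))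
  have e : ((uref hf w θ * uref hf w' γ : GL ι F) : Matrix ι ι F) *ᵥ w = (γ * β) • w' := by
    simp only [gl_mul_apply, uref_apply_iso hf w' _ hw'w', uref_apply_iso hf w _ hww]
    simp only [hf.add_left, hf.smul_left, hww, ← hβ]
    ext i
    simp only [Pi.add_apply, Pi.smul_apply, smul_eq_mul]
    linear_combination (w i) * key
  refine ⟨γ * β, F₀.mul_mem hγF hβF, mul_ne_zero hγ0 hβ0, ?_⟩
  intro c hc
  have h := M.mul_mem (M.mul_mem hm hc) (M.inv_mem hm)
  rw [conj_uref hf _ (C.isom' hm), e, uref_smul] at h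
  exact h

lemma p2_not_mem_mul_norm (hst : SigSt σ F₀) {c κ : F} (hc : c ∉ F₀) (hκ : κ ∈ F₀) (hκ0 : κ ≠ 0) :
    c * κ * σ κ ∉ F₀ := by
  intro h
  apply hc
  have hσκ0 : σ κ ≠ 0 := by
    intro h0
    apply hκ0
    have := congrArg σ h0
    rwa [hst.inv, map_zero] at this
  have e : c = c * κ * σ κ * (κ * σ κ)⁻¹ := by
    field_simp
  rw [e]
  exact F₀.mul_mem h (F₀.inv_mem (F₀.mul_mem hκ (hst.stab _ hκ)))

/-- an irrational parameter somewhere gives an irrational parameter everywhere -/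
lemma p2_exists_bad_at [Finite F] (C : UCtx hf F₀ M) {w1 : ι → F} {c1 : F} (hw1 : Rat F₀ w1)
    (hw10 : w1 ≠ 0) (hw1w1 : f w1 w1 = 0) (hc1 : c1 ∉ F₀) (hm1 : uref hf w1 c1 ∈ M)
    {a : ι → F} (ha : Rat F₀ a) (ha0 : a ≠ 0) (haa : f a a = 0) :
    ∃ c : F, c ∉ F₀ ∧ uref hf a c ∈ M := by
  obtain ⟨w', hw', hw'w', h1, h2⟩ :=
    exists_common_iso hf C.rat C.sig hw1 hw10 hw1w1 ha ha0 haa
  obtain ⟨κ1, hκ1, hκ10, ht1⟩ := p2_uref_transfer C hw1 hw' hw1w1 hw'w' h1
  obtain ⟨κ2, hκ2, hκ20, ht2⟩ := p2_uref_transfer C hw' ha hw'w' haa (uf_ne_zero_symm hf h2)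
  exact ⟨c1 * κ1 * σ κ1 * κ2 * σ κ2,
    p2_not_mem_mul_norm C.sig (p2_not_mem_mul_norm C.sig hc1 hκ1 hκ10) hκ2 hκ20, ht2 _ (ht1 _ hm1)⟩

/-- an upper unipotent of the induced group gives a unitary transvection of `M` -/
lemma p2_lift_uu_u (hf : IsUnitaryForm σ f) {a b : ι → F} (haa : f a a = 0) (hbb : f b b = 0)
    (hab : f a b = 1) (hba : f b a = 1) {c : F} (H : Lift2 f M a b (uu c)) :
    uref hf a c ∈ M ∨ ((2 : F) ≠ 0 ∧ uref hf a (2 * c) ∈ M) := by
  obtain ⟨d, hd, s, hs, he, hu, hp⟩ := H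
  rw [uu_00, uu_10, one_smul, zero_smul, add_zero] at he
  rw [uu_01, uu_11, one_smul] at hu
  by_cases hs1 : s = 1
  · left
    have : d = uref hf a c := by
      apply p2_gl_ext_plane_u hf haa hbb hab hba
      · rw [he, uref_apply_iso hf a c haa, haa, mul_zero, zero_smul, add_zero]
      · rw [hu, uref_apply_iso hf a c haa, hba, mul_one, add_comm]
      · intro x hx1 hx2
        rw [hp x hx1 hx2, hs1, one_smul, uref_apply_iso hf a c haa, hx1, mul_zero, zero_smul,
          add_zero]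
    rw [← this]; exact hd
  · right
    have h2 : (2 : F) ≠ 0 := by
      intro h2
      apply hs1
      have h0 : (s - 1) * (s - 1) = 0 := by linear_combination hs + (1 - s) * h2
      exact sub_eq_zero.mp (mul_self_eq_zero.mp h0)
    refine ⟨h2, ?_⟩
    have : d * d = uref hf a (2 * c) := by
      apply p2_gl_ext_plane_u hf haa hbb hab hba
      · rw [gl_mul_apply, he, he, uref_apply_iso hf a _ haa, haa, mul_zero, zero_smul, add_zero]
      · rw [gl_mul_apply, hu, Matrix.mulVec_add, Matrix.mulVec_smul, he, hu,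
          uref_apply_iso hf a _ haa, hba, mul_one]
        module
      · intro x hx1 hx2
        rw [gl_mul_apply, hp x hx1 hx2, Matrix.mulVec_smul, hp x hx1 hx2, smul_smul, hs, one_smul,
          uref_apply_iso hf a _ haa, hx1, mul_zero, zero_smul, add_zero]
    rw [← this]; exact M.mul_mem hd hd

/-- an irrational parameter at a rational isotropic centre makes every rational isotropic
vector a full centre -/
theorem uctr_of_bad [Fintype F] (C : UCtx hf F₀ M) (hn : 13 ≤ Fintype.card ι) {r : ℕ}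
    (hr : r.Prime) (hcard : Fintype.card F = Nat.card F₀ ^ r) (hbad : ¬ UNoBad hf F₀ M) :
    ∀ a : ι → F, Rat F₀ a → f a a = 0 → UCtr hf M a := by
  classical
  unfold UNoBad at hbad
  push Not at hbad
  obtain ⟨w1, c1, hw1, hw10, hw1w1, hm1, hc1⟩ := hbad
  intro a ha haa
  by_cases ha0 : a = 0
  · rw [ha0]; exact UCtr.zero hf M
  refine ⟨haa, ?_⟩
  obtain ⟨c0, hc0F, hc0M⟩ := p2_exists_bad_at C hw1 hw10 hw1w1 hc1 hm1 ha ha0 haa
  have hc0σ : c0 + σ c0 = 0 := p2_trace_zero_of_mem C ha ha0 haa hc0M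
  obtain ⟨b, hb, hbb, hab, hba⟩ := hyp_partner1 hf C.rat C.sig ha ha0 haa
  obtain ⟨θ, hθF, hθ0, hθσ⟩ := C.sig.theta
  have hσθ : σ θ = -θ := by linear_combination hθσ
  obtain ⟨p, hp⟩ := CharP.exists F
  haveI := hp
  haveI : Fact p.Prime := ⟨CharP.char_is_prime F p⟩
  have hrata : ∀ c ∈ F₀, c + σ c = 0 → uref hf a c ∈ M := UMC.of_rat C ha haa
  have hratb : ∀ c ∈ F₀, c + σ c = 0 → uref hf b c ∈ M := UMC.of_rat C hb hbb
  obtain ⟨gens, hgens⟩ : ∃ gens : Set (S2 F), gens = {h | (∃ c, uref hf a c ∈ M ∧ h = uu c) ∨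
      (∃ c, uref hf b c ∈ M ∧ h = ll c)} := ⟨_, rfl⟩
  obtain ⟨K, hK⟩ : ∃ K : Subgroup (S2 F), K = Subgroup.closure gens := ⟨_, rfl⟩
  have hlift : ∀ h ∈ K, Lift2 f M a b h := by
    rw [hK]
    apply lift2_closure
    intro h hh
    rw [hgens] at hh
    rcases hh with ⟨c, hc, rfl⟩ | ⟨c, hc, rfl⟩
    · refine ⟨uref hf a c, hc, 1, one_mul 1, ?_, ?_, ?_⟩
      · rw [uref_apply_iso hf a c haa, haa, mul_zero, zero_smul, add_zero, uu_00, uu_10, one_smul,
          zero_smul, add_zero]
      · rw [uref_apply_iso hf a c haa, hba, mul_one, uu_01, uu_11, one_smul, add_comm]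
      · intro x hx1 hx2
        rw [uref_apply_iso hf a c haa, hx1, mul_zero, zero_smul, add_zero, one_smul]
    · refine ⟨uref hf b c, hc, 1, one_mul 1, ?_, ?_, ?_⟩
      · rw [uref_apply_iso hf b c hbb, hab, mul_one, ll_00, ll_10, one_smul]
      · rw [uref_apply_iso hf b c hbb, hbb, mul_zero, zero_smul, add_zero, ll_01, ll_11, one_smul,
          zero_smul, zero_add]
      · intro x hx1 hx2
        rw [uref_apply_iso hf b c hbb, hx2, mul_zero, zero_smul, add_zero, one_smul]
  have huK : ∀ c, uref hf a c ∈ M → uu c ∈ K := by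
    intro c hc
    rw [hK]
    apply Subgroup.subset_closure
    rw [hgens]
    exact Or.inl ⟨c, hc, rfl⟩
  have hlK : ∀ c, uref hf b c ∈ M → ll c ∈ K := by
    intro c hc
    rw [hK]
    apply Subgroup.subset_closure
    rw [hgens]
    exact Or.inr ⟨c, hc, rfl⟩
  have hθi : -θ⁻¹ + σ (-θ⁻¹) = 0 := by
    have := theta_inv (σ := σ) hθσ
    rw [map_neg]
    linear_combination -this
  have huθ : uu θ ∈ K := huK θ (hrata θ hθF hθσ)
  have hlθ : ll θ ∈ K := hlK θ (hratb θ hθF hθσ)
  have hlθi : ll (-θ⁻¹) ∈ K := hlK _ (hratb _ (F₀.neg_mem (F₀.inv_mem hθF)) hθi)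
  have e8 : θ * θ⁻¹ = 1 := mul_inv_cancel₀ hθ0
  have hcen : Subgroup.center (S2 F) ≤ K := by
    intro z hz
    obtain ⟨h10, h01, hd, h00⟩ := center_entries hz
    rcases h00 with h' | h'
    · have : z = 1 := by
        apply ext2
        · rw [h', one_ent00]
        · rw [h01, one_ent01]
        · rw [h10, one_ent10]
        · rw [← hd, h', one_ent11]
      rw [this]
      exact K.one_mem
    · obtain ⟨n0, hn0⟩ : ∃ n0 : S2 F, n0 = uu θ * ll (-θ⁻¹) * uu θ := ⟨_, rfl⟩
      have e00 : n0.1 0 0 = 0 := by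
        rw [hn0]
        simp only [mul_ent, uu_00, uu_01, uu_10, uu_11, ll_00, ll_01, ll_10, ll_11]
        linear_combination (-1 : F) * e8
      have e01 : n0.1 0 1 = θ := by
        rw [hn0]
        simp only [mul_ent, uu_00, uu_01, uu_10, uu_11, ll_00, ll_01, ll_10, ll_11]
        linear_combination (-θ) * e8
      have e10 : n0.1 1 0 = -θ⁻¹ := by
        rw [hn0]
        simp only [mul_ent, uu_00, uu_01, uu_10, uu_11, ll_00, ll_01, ll_10, ll_11]
        ring
      have e11 : n0.1 1 1 = 0 := by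
        rw [hn0]
        simp only [mul_ent, uu_00, uu_01, uu_10, uu_11, ll_00, ll_01, ll_10, ll_11]
        linear_combination (-1 : F) * e8
      have hn0K : n0 ∈ K := by
        rw [hn0]
        exact K.mul_mem (K.mul_mem huθ hlθi) huθ
      have : z = n0 * n0 := by
        apply ext2
        · rw [h', mul_ent, e00, e01, e10]
          linear_combination e8
        · rw [h01, mul_ent, e00, e01, e11]
          ring
        · rw [h10, mul_ent, e00, e10, e11]
          ring
        · rw [← hd, h', mul_ent, e10, e01, e11]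
          linear_combination e8
      rw [this]
      exact K.mul_mem hn0K hn0K
  have hc00 : c0 ≠ 0 := fun h => hc0F (h ▸ F₀.zero_mem)
  have hS : ({0, θ, c0, c0 + θ} : Finset F).card = 4 := by
    have e1 : c0 ∉ ({c0 + θ} : Finset F) := by
      rw [Finset.mem_singleton]
      intro h
      exact hθ0 (by linear_combination -h)
    have e2 : θ ∉ ({c0, c0 + θ} : Finset F) := by
      rw [Finset.mem_insert, Finset.mem_singleton]
      rintro (h | h)
      · exact hc0F (h ▸ hθF)
      · exact hc00 (by linear_combination -h)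
    have e3 : (0 : F) ∉ ({θ, c0, c0 + θ} : Finset F) := by
      rw [Finset.mem_insert, Finset.mem_insert, Finset.mem_singleton]
      rintro (h | h | h)
      · exact hθ0 h.symm
      · exact hc00 h.symm
      · apply hc0F
        have : c0 = -θ := by linear_combination -h
        rw [this]
        exact F₀.neg_mem hθF
    rw [Finset.card_insert_of_notMem e3, Finset.card_insert_of_notMem e2,
      Finset.card_insert_of_notMem e1, Finset.card_singleton]
  have h4 : 4 ≤ Nat.card {x : F // uu x ∈ K} := by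
    have hsub : (↑({0, θ, c0, c0 + θ} : Finset F) : Set F) ⊆ {x : F | uu x ∈ K} := by
      intro x hx
      rw [Finset.mem_coe, Finset.mem_insert, Finset.mem_insert, Finset.mem_insert,
        Finset.mem_singleton] at hx
      rcases hx with h | h | h | h
      · rw [h]
        show uu (0 : F) ∈ K
        rw [uu_zero]; exact K.one_mem
      · rw [h]; exact huθ
      · rw [h]; exact huK c0 hc0M
      · rw [h]
        show uu (c0 + θ) ∈ K
        rw [← uu_mul]
        exact K.mul_mem (huK c0 hc0M) huθ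
    have h := Set.ncard_le_ncard hsub (Set.toFinite _)
    rw [Set.ncard_coe_finset, hS] at h
    rw [← Nat.card_coe_set_eq] at h
    exact h
  obtain ⟨k, s, hs0, hks⟩ := dk p K hcen hθ0 huθ hθ0 hlθ h4
  have hsθ : s * θ ∈ k := (hks θ).1 huθ
  have hsθ0 : s * θ ≠ 0 := mul_ne_zero hs0 hθ0
  have hk_iff : ∀ t, uu (θ * t) ∈ K ↔ t ∈ k := by
    intro t
    rw [hks (θ * t)]
    have e : s * (θ * t) = s * θ * t := by ring
    rw [e]
    constructor
    · intro h
      have := k.mul_mem (k.inv_mem hsθ) h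
      rwa [inv_mul_cancel_left₀ hsθ0] at this
    · intro h
      exact k.mul_mem hsθ h
  have hk0 : ∀ x ∈ F₀, σ x = x → x ∈ k := by
    intro x hx hσx
    apply (hk_iff x).1
    apply huK
    apply hrata _ (F₀.mul_mem hθF hx)
    rw [map_mul, hσx]
    linear_combination x * hθσ
  have hdiv : ∀ c : F, θ * (c / θ) = c := by
    intro c
    field_simp
  have hdivσ : ∀ c : F, c + σ c = 0 → σ (c / θ) = c / θ := by
    intro c hc
    have hσc : σ c = -c := by linear_combination hc
    rw [map_div₀, hσc, hσθ, neg_div_neg_eq]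
  have hζk : c0 / θ ∈ k := by
    apply (hk_iff _).1
    rw [hdiv]
    exact huK c0 hc0M
  have hζ : c0 / θ ∉ F₀ := by
    intro h
    apply hc0F
    rw [← hdiv c0]
    exact F₀.mul_mem hθF h
  have hfix := fix_le_of C.sig hr hcard k hk0 hζk (hdivσ c0 hc0σ) hζ
  have key : ∀ c : F, c + σ c = 0 →
      uref hf a c ∈ M ∨ ((2 : F) ≠ 0 ∧ uref hf a (2 * c) ∈ M) := by
    intro c hc
    apply p2_lift_uu_u hf haa hbb hab hba
    apply hlift
    rw [← hdiv c]
    exact (hk_iff _).2 (hfix _ (hdivσ c hc))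
  intro c hc
  by_cases h2 : (2 : F) = 0
  · rcases key c hc with h | ⟨h2', -⟩
    · exact h
    · exact absurd h2 h2'
  · have hc2 : c / 2 + σ (c / 2) = 0 := by
      rw [map_div₀, map_ofNat, ← add_div, hc, zero_div]
    rcases key (c / 2) hc2 with h | ⟨-, h⟩
    · have h' := M.mul_mem h h
      rw [p2_uref_mul_iso hf haa] at h'
      have e : c / 2 + c / 2 = c := by field_simp; ring
      rwa [e] at h'
    · have e : 2 * (c / 2) = c := by field_simp
      rwa [e] at h

end Cfsg.Agent.Helper93.SubfL.USf
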