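import Mathlib
import Cfsg.Agent.Lib.Helper98.UT0
import Cfsg.Agent.Lib.Helper42.UTD1
import Cfsg.Agent.Lib.Helper66.UTD2
import Cfsg.Agent.Lib.Helper70.UTD3
import Cfsg.Agent.Lib.Helper70.UTD3c
import Cfsg.Agent.Lib.Helper83.UTR1
import Cfsg.Agent.Lib.Helper83.UTG2
import Cfsg.Agent.Lib.Helper42.UTR0
import Cfsg.Agent.Lib.Helper66.UTE1a
import Cfsg.Agent.Lib.Helper42.UTC2
import Cfsg.Agent.Lib.Helper21.UTC3V
import Cfsg.Agent.Lib.Helper10.UTC4V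
import Cfsg.Agent.Lib.Helper47.UTS1
import Cfsg.Agent.Lib.Helper78.UTE1b
import Cfsg.Agent.Lib.Helper47.UTE2
import Cfsg.Agent.Lib.Helper64.UTE3
import Cfsg.Agent.Lib.Helper99.UTG0
import Cfsg.Agent.Lib.Helper99.UTG1

/-! UT project (S2283): the pieces of the UT server used by the assembly, as delivered by the team; restated
with the signatures of `tools/ut_sigs_helper98.lean.txt`, where the paper proofs are. -/

set_option autoImplicit false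
set_option quotPrecheck false
set_option linter.unusedSectionVars false
set_option linter.unusedVariables false

namespace Cfsg.Agent.Helper98.UTP

open Matrix Cfsg Cfsg.Agent.Helper13 Cfsg.Agent.Helper87.PsuA Cfsg.Agent.Helper87.PsuB0
  Cfsg.Agent.Helper98.UT

variable {F : Type*} [Field F] [Fintype F] {q : ℕ}

local notation "G" => ↥(Cfsg.SU 3 F q)
local notation "H" => Cfsg.hermForm 3 F q

variable (hF : Fintype.card F = q ^ 2) {b : Fin 3 → Fin 3 → F}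

/-! ### D: infrastructure -/

/-- (D1) the diagonal element exists: `g = mkSU (Pm b * diagonal ![d0,d1,d2] * Qm q b)`; `det = d0 d1 d2`
(`Pm_mul_Qm`), unitarity through `H_eq_sum` / `expand`. -/
theorem dEl_act (hb : HB q b) (d0 d1 d2 : F) (h02 : d0 * d2 ^ q = 1) (h11 : d1 * d1 ^ q = 1)
    (hdet : d0 * d1 * d2 = 1) :
    actv (dEl hF b d0 d1 d2) (b 0) = d0 • b 0 ∧ actv (dEl hF b d0 d1 d2) (b 1) = d1 • b 1 ∧
      actv (dEl hF b d0 d1 d2) (b 2) = d2 • b 2 :=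
  Cfsg.Agent.Helper42.UT.dEl_act hF hb d0 d1 d2 h02 h11 hdet

/-- (D2a) `cm` is multiplicative (`Pm_mul_Qm`). -/
theorem cm_mul (hb : HB q b) (g h : G) : cm b (g * h) = cm b g * cm b h :=
  Cfsg.Agent.Helper66.UT.cm_mul hb g h

/-- (D2b) -/
theorem cm_one (hb : HB q b) : cm b (1 : G) = 1 :=
  Cfsg.Agent.Helper66.UT.cm_one hb

/-- (D2c) `cm` is injective (`Qm_mul_Pm`, `Pm_mul_Qm`). -/
theorem cm_inj (hb : HB q b) {g h : G} (e : cm b g = cm b h) : g = h :=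
  Cfsg.Agent.Helper66.UT.cm_inj hb e

/-- (D2d) entries of `cm`. -/
theorem cm_apply (hb : HB q b) (g : G) (i j : Fin 3) : cm b g i j = co q b (actv g (b j)) i :=
  Cfsg.Agent.Helper66.UT.cm_apply hb g i j

/-- (D3a) matrix of `x(a,β)` (`eich_act`, `co_b`, `hb`). -/
theorem cm_yEl (hb : HB q b) (a β : F) (hab : β + β ^ q + a * a ^ q = 0) :
    cm b (yEl hF b a β) = !![1, a, β; 0, 1, -(a ^ q); 0, 0, 1] :=
  Cfsg.Agent.Helper70.UT.cm_yEl hF hb a β hab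

/-- (D3b) matrix of `x⁻(a,β)`. -/
theorem cm_lEl (hb : HB q b) (a β : F) (hab : β + β ^ q + a * a ^ q = 0) :
    cm b (lEl hF b a β) = !![1, 0, 0; -(a ^ q), 1, 0; β, a, 1] :=
  Cfsg.Agent.Helper70.UT.cm_lEl hF hb a β hab

/-- (D3c) matrix of the diagonal element (from (D1)). -/
theorem cm_dEl (hb : HB q b) (d0 d1 d2 : F) (h02 : d0 * d2 ^ q = 1) (h11 : d1 * d1 ^ q = 1)
    (hdet : d0 * d1 * d2 = 1) :
    cm b (dEl hF b d0 d1 d2) = !![d0, 0, 0; 0, d1, 0; 0, 0, d2] :=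
  Cfsg.Agent.Helper70.UT.cm_dEl hF hb d0 d1 d2 h02 h11 hdet

/-! ### R: consequences of the relations, regularity -/

include hF in
/-- (R1) from `bc`, its conjugate (`frobQ hF` is a ring hom, `lam ^ q = lam⁻¹`, `c ^ q = -c`):
`β̄ (2λ+1) = -λ³(λ+2) β`, and the nonvanishing facts; `2λ+1 = 0` would give `λ = -1/2`, norm `1/4 = 1`,
so `3 = 0` and `λ = 1`. -/
theorem rel_facts {lam c a β θ : F} (hR : Rel q lam c a β θ) :
    lam ≠ 0 ∧ lam ^ q = lam⁻¹ ∧ lam - 1 ≠ 0 ∧ lam + 1 ≠ 0 ∧ 2 * lam + 1 ≠ 0 ∧ lam + 2 ≠ 0 ∧ β ≠ 0 ∧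
      β ^ q * (2 * lam + 1) = -(lam ^ 3 * (lam + 2)) * β ∧
      a * a ^ q * (2 * lam + 1) = -(β * (1 - lam) * (1 + lam) ^ 3) ∧ a ≠ 0 :=
  Cfsg.Agent.Helper83.UT.rel_facts hF hR

/-- (R0) `x(a,β)` is regular unipotent: `N = y - 1` has `N e = 0`, `N d = a e`, `N f = β e - ā d`, so
`N^3 = 0` on the basis (`expand hb`) and `N^2 f = -a ā e ≠ 0`. -/
theorem yEl_regular (hb : HB q b) (a β : F) (hab : β + β ^ q + a * a ^ q = 0) (ha : a ≠ 0) :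
    IsNilpotent (((yEl hF b a β : Matrix.SpecialLinearGroup (Fin 3) F) : Matrix (Fin 3) (Fin 3) F) - 1) ∧
      (((yEl hF b a β : Matrix.SpecialLinearGroup (Fin 3) F) : Matrix (Fin 3) (Fin 3) F) - 1) ^ (3 - 1)
        ≠ 0 :=
  Cfsg.Agent.Helper42.UT.yEl_regular hF hb a β hab ha

/-! ### C: the conjugating element -/

/-- (C1) conjugation inside the upper unipotent group (`eich_conj`, `eich_add_smul`, or `cm`). -/
theorem conj_upper (hb : HB q b) (a β a2 β2 : F) (hab : β + β ^ q + a * a ^ q = 0)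
    (hab2 : β2 + β2 ^ q + a2 * a2 ^ q = 0) :
    yEl hF b a2 β2 * yEl hF b a β * (yEl hF b a2 β2)⁻¹ =
      yEl hF b a (β + a * a2 ^ q - a2 * a ^ q) :=
  Cfsg.Agent.Helper66.UT.conj_upper hF hb a β a2 β2 hab hab2

/-- (C2) conjugation by a diagonal element (`eich_conj`, `eich_smul`, or `cm`). -/
theorem conj_diag (hb : HB q b) (d0 d1 d2 a β : F) (h02 : d0 * d2 ^ q = 1) (h11 : d1 * d1 ^ q = 1)
    (hdet : d0 * d1 * d2 = 1) (hab : β + β ^ q + a * a ^ q = 0) :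
    dEl hF b d0 d1 d2 * yEl hF b a β * (dEl hF b d0 d1 d2)⁻¹ =
      yEl hF b (d0 * d1 ^ q * a) (d0 * d0 ^ q * β) :=
  Cfsg.Agent.Helper42.UT.conj_diag hF hb d0 d1 d2 a β h02 h11 hdet hab

/-- (C3) THE KEY IDENTITY (a 3x3 matrix identity through `cm`): with `a' = -a(2λ+1)/((λ+1)β)`,
`b' = c/(1-λ)`, `a1 = -λ²a/(1+λ)`, `b1 = λβ`:  `x⁻(a',b') x(a1,b1) = z t x(a,β) x⁻(a',b')`,
`z = diag(λ, λ⁻², λ)`, `t = x⁻(0,c)`. -/
theorem conj_lower {lam c a β θ : F} (hb : HB q b) (hR : Rel q lam c a β θ) :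
    lEl hF b (-(a * (2 * lam + 1)) / ((lam + 1) * β)) (c / (1 - lam)) *
        yEl hF b (-(lam ^ 2 * a) / (1 + lam)) (lam * β) *
        (lEl hF b (-(a * (2 * lam + 1)) / ((lam + 1) * β)) (c / (1 - lam)))⁻¹ =
      dEl hF b lam (lam⁻¹ ^ 2) lam * lEl hF b 0 c * yEl hF b a β :=
  Cfsg.Agent.Helper21.UT.conj_lower hF hb hR

/-- (C4) assembly of (C1)-(C3): `g = x⁻(a',b') * diag(μ, λ⁻¹, -(1+λ)) * x(a2,β2)`, `μ = -λ/(1+λ)`,
`δ = λ(λ+2)β`, `a2 = -θδ/ā`, `β2 = -θ̄ a2 ā2`. -/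
theorem exists_conj {lam c a β θ : F} (hb : HB q b) (hR : Rel q lam c a β θ) :
    ∃ g : G, g * yEl hF b a β * g⁻¹ = dEl hF b lam (lam⁻¹ ^ 2) lam * lEl hF b 0 c * yEl hF b a β :=
  Cfsg.Agent.Helper10.UT.exists_conj hF hb hR

/-! ### S: powers of `s = z t` -/

/-- (S1) `z` and `t` commute, `z^(q+1) = 1`, `t^q = 1` (`(q : F) = 0`), so `(z t)^(q+1) = t`. -/
theorem t_z_mem {lam c : F} (hb : HB q b) (hlam : lam * lam ^ q = 1) (hc : c + c ^ q = 0)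
    (Hs : Subgroup G) (hs : dEl hF b lam (lam⁻¹ ^ 2) lam * lEl hF b 0 c ∈ Hs) :
    lEl hF b 0 c ∈ Hs ∧ dEl hF b lam (lam⁻¹ ^ 2) lam ∈ Hs :=
  Cfsg.Agent.Helper47.UT.t_z_mem hF hb hlam hc Hs hs

/-! ### E: the endgame -/

/-- (E1a) `AH` is an additive subgroup (`eich_mul`, `eich_inv`, `eich_one`). -/
theorem AH_addSubgroup (hb : HB q b) (Hs : Subgroup G) :
    ∃ S : AddSubgroup F, ∀ ω : F, ω ∈ S ↔ ω ∈ AH hF b Hs :=
  Cfsg.Agent.Helper66.UT.AH_addSubgroup hF hb Hs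

/-- (E1b) an element of `Hs` fixing the point `e` multiplies `AH` by `d0 * d̄1`
(`eich_conj`, `eich_smul`, `eich_add_smul`). -/
theorem AH_chi (hb : HB q b) (Hs : Subgroup G) {W : G} (hW : W ∈ Hs) {d0 d1 κ : F}
    (h0 : actv W (b 0) = d0 • b 0) (h1 : actv W (b 1) = d1 • b 1 + κ • b 0) {ω : F}
    (hω : ω ∈ AH hF b Hs) : d0 * d1 ^ q * ω ∈ AH hF b Hs :=
  Cfsg.Agent.Helper78.UT.AH_chi hF hb Hs hW h0 h1 hω

/-- (E2) if `AH = F` then the whole group `Q_e = {x(ω,β)}` lies in `Hs`: the commutators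
`[x(ω,·), x(ω',·)] = x(0, ω ω̄' - ω' ω̄)` fill the centre (`exists_trace`). -/
theorem Q_le (hb : HB q b) (Hs : Subgroup G) (hall : ∀ ω : F, ω ∈ AH hF b Hs) :
    ∀ ω β : F, β + β ^ q + ω * ω ^ q = 0 → yEl hF b ω β ∈ Hs :=
  Cfsg.Agent.Helper47.UT.Q_le hF hb Hs hall

/-- (E3) `Q_e ≤ Hs` and `t ∈ Hs` give `Hs = ⊤` (`Helper13.SUGen.TG_top`): `Q_e` is transitive on the
isotropic points `≠ ⟨e⟩`, `t` moves `e`, so every transvection lies in `Hs`. -/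
theorem top_of_Q (hb : HB q b) (hq : 3 ≤ q) (Hs : Subgroup G)
    (hQ : ∀ ω β : F, β + β ^ q + ω * ω ^ q = 0 → yEl hF b ω β ∈ Hs) {c : F} (hc0 : c ≠ 0)
    (hc : c + c ^ q = 0) (ht : lEl hF b 0 c ∈ Hs) : Hs = ⊤ :=
  Cfsg.Agent.Helper64.UT.top_of_Q hF hb hq Hs hQ hc0 hc ht

/-! ### G, X: the parameters -/

/-- (G0) arithmetic: a subfield of order `r` with `r^d = q²` containing an element of order
`(q+1)/gcd(3,q+1)`. -/
theorem arith (q r d : ℕ) (hq : 3 ≤ q) (h5 : q ≠ 5) (h8 : q ≠ 8) (hr : 2 ≤ r) (hd : r ^ d = q ^ 2)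
    (hdvd : (q + 1) ∣ 3 * (r - 1)) : d = 1 :=
  Cfsg.Agent.Helper99.UT.arith q r d hq h5 h8 hr hd hdvd

include hF in
/-- (G1) a generator `lam` of the norm-one group; `lam^3` generates `F` as a ring unless `q = 2, 5, 8`. -/
theorem exists_lam (hq : 3 ≤ q) (h5 : q ≠ 5) (h8 : q ≠ 8) :
    ∃ lam : F, lam * lam ^ q = 1 ∧ lam ^ 2 ≠ 1 ∧ Gen2 lam 1 :=
  Cfsg.Agent.Helper99.UT.exists_lam hF hq h5 h8

include hF in
/-- (G2) the remaining parameters: `c` from `exists_kappa`, `β = -(λ-1)²(2λ+1)/(cλ³)`,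
`a` from `exists_norm`, `θ` from `exists_trace`. -/
theorem exists_rest (lam : F) (hlam : lam * lam ^ q = 1) (hlam2 : lam ^ 2 ≠ 1) :
    ∃ c a β θ : F, Rel q lam c a β θ :=
  Cfsg.Agent.Helper83.UT.exists_rest hF lam hlam hlam2

end Cfsg.Agent.Helper98.UTP
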