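import Mathlib
import Cfsg.Agent.Lib.Helper98.UT1
import Cfsg.Agent.Lib.Helper12.UTV1
import Cfsg.Agent.Lib.Helper12.UTV2
import Cfsg.Agent.Lib.Helper9.UTX8r
import Cfsg.Agent.Lib.Helper91.UTX5g
import Cfsg.Agent.Lib.Helper91.UTX8g

/-! UT project (S2283): the second-wave pieces of the UT server, as delivered by the team; restated with the
signatures of `tools/ut_sigs2_helper98.lean.txt`. -/

set_option autoImplicit false
set_option quotPrecheck false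
set_option linter.unusedSectionVars false
set_option linter.unusedVariables false

namespace Cfsg.Agent.Helper98.UTP

open Matrix Cfsg Cfsg.Agent.Helper13 Cfsg.Agent.Helper87.PsuA Cfsg.Agent.Helper87.PsuB0
  Cfsg.Agent.Helper98.UT

variable {F : Type*} [Field F] [Fintype F] {q : ℕ}

local notation "G" => ↥(Cfsg.SU 3 F q)

variable (hF : Fintype.card F = q ^ 2) {b : Fin 3 → Fin 3 → F}

/-! ### V: the action on coordinate triples (`eich_act`, `hb`, `module`) -/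

/-- (V1a) -/
theorem yEl_vec (hb : HB q b) (a β : F) (hab : β + β ^ q + a * a ^ q = 0) (x y z : F) :
    actv (yEl hF b a β) (vec b x y z) = vec b (x + a * y + β * z) (y - a ^ q * z) z :=
  Cfsg.Agent.Helper12.UT.yEl_vec hF hb a β hab x y z

/-- (V1b) -/
theorem lEl_vec (hb : HB q b) (a β : F) (hab : β + β ^ q + a * a ^ q = 0) (x y z : F) :
    actv (lEl hF b a β) (vec b x y z) = vec b x (y - a ^ q * x) (z + a * y + β * x) :=
  Cfsg.Agent.Helper12.UT.lEl_vec hF hb a β hab x y z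

/-- (V1c) (from `dEl_act`, piece D1: copy its statement as a local stub while developing, import the
landed D1 file at the end) -/
theorem dEl_vec (hb : HB q b) (d0 d1 d2 : F) (h02 : d0 * d2 ^ q = 1) (h11 : d1 * d1 ^ q = 1)
    (hdet : d0 * d1 * d2 = 1) (x y z : F) :
    actv (dEl hF b d0 d1 d2) (vec b x y z) = vec b (d0 * x) (d1 * y) (d2 * z) :=
  Cfsg.Agent.Helper12.UT.dEl_vec hF hb d0 d1 d2 h02 h11 hdet x y z

/-- (V2a) `eich_inv` -/
theorem yEl_inv (hb : HB q b) (a β : F) (hab : β + β ^ q + a * a ^ q = 0) :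
    (yEl hF b a β)⁻¹ = yEl hF b (-a) (β ^ q) :=
  Cfsg.Agent.Helper12.UT.yEl_inv hF hb a β hab

/-- (V2b) -/
theorem lEl_inv (hb : HB q b) (a β : F) (hab : β + β ^ q + a * a ^ q = 0) :
    (lEl hF b a β)⁻¹ = lEl hF b (-a) (β ^ q) :=
  Cfsg.Agent.Helper12.UT.lEl_inv hF hb a β hab

/-- (V2c) (`ext_b` + `dEl_act`) -/
theorem dEl_inv (hb : HB q b) (d0 d1 d2 : F) (h02 : d0 * d2 ^ q = 1) (h11 : d1 * d1 ^ q = 1)
    (hdet : d0 * d1 * d2 = 1) :
    (dEl hF b d0 d1 d2)⁻¹ = dEl hF b d0⁻¹ d1⁻¹ d2⁻¹ :=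
  Cfsg.Agent.Helper12.UT.dEl_inv hF hb d0 d1 d2 h02 h11 hdet

/-! ### X: the special fields `q = 5`, `q = 8` -/

/-- (X5r) `2` is a square in a field of order 25 (`FiniteField.isSquare_iff`, or `2^12 = 1`). -/
theorem exists_r_five (hF5 : Fintype.card F = 5 ^ 2) :
    ∃ r : F, r ^ 2 = 2 ∧ (5 : F) = 0 :=
  Cfsg.Agent.Helper9.UT.exists_r_five hF5

/-- (X8r) a field of order 64 contains `F_8 = F_2[ρ]` and `F_4 = F_2[ω]`: with `γ` a generator of `Fˣ`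
(order 63), `ω = γ^21` has `ω^3 = 1`, `ω ≠ 1`, so `ω^2 + ω + 1 = 0`; `ρ₀ = γ^9` has order 7 and
`(ρ₀^3+ρ₀+1)(ρ₀^3+ρ₀^2+1) = ρ₀^6+..+1 = 0`; in the second case take `ρ = ρ₀⁻¹`. -/
theorem exists_rho_omega (hF8 : Fintype.card F = 8 ^ 2) :
    ∃ ρ ω : F, ρ ^ 3 = ρ + 1 ∧ ω ^ 2 = ω + 1 ∧ (2 : F) = 0 :=
  Cfsg.Agent.Helper9.UT.exists_rho_omega hF8

/-- (X5g) `T = {s | s S ⊆ S}` is a subfield (finite subring of a field) containing `r`; `r` has
multiplicative order 8 (`r^2 = 2`, `2` has order 4 in `F_5`), `8 ∤ 5 - 1`, so `|T| = 25`, `T = F`,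
`S ⊇ F x₀ = F`. -/
theorem gen2_five (hF5 : Fintype.card F = 5 ^ 2) (r lam : F) (hr : r ^ 2 = 2) : Gen2 lam r :=
  Cfsg.Agent.Helper91.UT.gen2_five hF5 r lam hr

/-- (X8g) the same with `lam^3` of order 3 and `ρ^2` of order 7 (`ρ^7 = ρ (ρ+1)^2 = 1` in
characteristic 2): `|T| = 2^k`, `3 ∣ 2^k - 1`, `7 ∣ 2^k - 1`, `k ≤ 6` give `k = 6`. -/
theorem gen2_eight (hF8 : Fintype.card F = 8 ^ 2) (ρ lam : F) (hρ : ρ ^ 3 = ρ + 1)
    (hl3 : lam ^ 3 ≠ 1) (hl9 : lam ^ 9 = 1) : Gen2 lam (ρ ^ 2) :=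
  Cfsg.Agent.Helper91.UT.gen2_eight hF8 ρ lam hρ hl3 hl9

end Cfsg.Agent.Helper98.UTP
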