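import Mathlib
import Cfsg.Agent.Lib.Helper98.UT1
import Cfsg.Agent.Lib.Helper98.UTPieces2

/-! UT project (S2283): the field of order 25 (q = 5).  GENERATED by tools98/mk_utx.py (helper98):
explicit parameters and one explicit element of `⟨y, t, z⟩` fixing the point `e`; every identity is a
`linear_combination` certificate modulo the defining relations of the field. -/

set_option autoImplicit false
set_option quotPrecheck false
set_option linter.unusedSectionVars false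
set_option linter.unusedVariables false
set_option linter.style.longLine false
set_option maxHeartbeats 1000000

namespace Cfsg.Agent.Helper98.UT

open Matrix Cfsg Cfsg.Agent.Helper13 Cfsg.Agent.Helper87.PsuA Cfsg.Agent.Helper87.PsuB0
  Cfsg.Agent.Helper98.UTP


theorem rel_5 {F : Type*} [Field F] (r : F) (hr : r ^ 2 = 2) (h5 : (5 : F) = 0) : Rel 5 (3 + 2 * r : F) (2 * r : F) (1 : F) (2 + 2 * r : F) (3 : F) where
  lamN := by linear_combination ((9436) + (5472)*r + (2288)*r^2 + (576)*r^3 + (64)*r^4) * hr + ((3920) + (2772)*r) * h5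
  lam2 := by
    intro h
    have h1 : ((3 + 2 * r : F) ^ 2 - 1) * (2 + r : F) = 1 := by linear_combination ((20) + (4)*r) * hr + ((11) + (8)*r) * h5
    rw [h, sub_self, zero_mul] at h1
    exact zero_ne_one h1
  c0 := by
    intro h
    have h1 : (2 * r : F) * (4 * r : F) = 1 := by linear_combination ((8)) * hr + ((3)) * h5
    rw [h, zero_mul] at h1
    exact zero_ne_one h1
  cT := by linear_combination ((64)*r + (32)*r^3) * hr + ((26)*r) * h5
  bc := by linear_combination ((736) + (440)*r + (176)*r^2 + (32)*r^3) * hr + ((300) + (212)*r) * h5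
  ab := by linear_combination ((640) + (384)*r + (160)*r^2 + (32)*r^3) * hr + ((263) + (186)*r) * h5
  th := by linear_combination ((49)) * h5

theorem val_5_T {F : Type*} [Field F] (r : F) (hr : r ^ 2 = 2) (h5 : (5 : F) = 0) : (3 * r : F) + (3 * r : F) ^ 5 + (0 : F) * (0 : F) ^ 5 = 0 := by
  linear_combination ((486)*r + (243)*r^3) * hr + ((195)*r) * h5

theorem val_5_Y {F : Type*} [Field F] (r : F) (hr : r ^ 2 = 2) (h5 : (5 : F) = 0) : (2 + 3 * r : F) + (2 + 3 * r : F) ^ 5 + (4 : F) * (4 : F) ^ 5 = 0 := by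
  linear_combination ((2340) + (1566)*r + (810)*r^2 + (243)*r^3) * hr + ((1762) + (675)*r) * h5

theorem val_5_t {F : Type*} [Field F] (r : F) (hr : r ^ 2 = 2) (h5 : (5 : F) = 0) : (2 * r : F) + (2 * r : F) ^ 5 + (0 : F) * (0 : F) ^ 5 = 0 := by
  linear_combination ((64)*r + (32)*r^3) * hr + ((26)*r) * h5

theorem val_5_y {F : Type*} [Field F] (r : F) (hr : r ^ 2 = 2) (h5 : (5 : F) = 0) : (2 + 2 * r : F) + (2 + 2 * r : F) ^ 5 + (1 : F) * (1 : F) ^ 5 = 0 := by
  linear_combination ((640) + (384)*r + (160)*r^2 + (32)*r^3) * hr + ((263) + (186)*r) * h5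

theorem step_5_0_0 {F : Type*} [Field F] [Fintype F] (hF : Fintype.card F = 5 ^ 2) {b : Fin 3 → Fin 3 → F} (hb : HB 5 b) (r : F) (hr : r ^ 2 = 2) (h5 : (5 : F) = 0) : actv (lEl hF b (0 : F) (2 * r : F)) (vec b (1 : F) (0 : F) (0 : F)) = vec b (1 : F) (0 : F) (2 * r : F) :=
  (lEl_vec hF hb (0 : F) (2 * r : F) (val_5_t r hr h5) (1 : F) (0 : F) (0 : F)).trans (vec_congr b
    (by linear_combination (0 : F) * h5)
    (by linear_combination (0 : F) * h5)
    (by linear_combination (0 : F) * h5))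

theorem step_5_0_1 {F : Type*} [Field F] [Fintype F] (hF : Fintype.card F = 5 ^ 2) {b : Fin 3 → Fin 3 → F} (hb : HB 5 b) (r : F) (hr : r ^ 2 = 2) (h5 : (5 : F) = 0) : actv (yEl hF b (1 : F) (2 + 2 * r : F)) (vec b (1 : F) (0 : F) (2 * r : F)) = vec b (4 + 4 * r : F) (3 * r : F) (2 * r : F) :=
  (yEl_vec hF hb (1 : F) (2 + 2 * r : F) (val_5_y r hr h5) (1 : F) (0 : F) (2 * r : F)).trans (vec_congr b
    (by linear_combination ((4)) * hr + ((1)) * h5)
    (by linear_combination ((-1)*r) * h5)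
    (by linear_combination (0 : F) * h5))

theorem step_5_0_2 {F : Type*} [Field F] [Fintype F] (hF : Fintype.card F = 5 ^ 2) {b : Fin 3 → Fin 3 → F} (hb : HB 5 b) (r : F) (hr : r ^ 2 = 2) (h5 : (5 : F) = 0) : actv (lEl hF b (0 : F) (3 * r : F)) (vec b (4 + 4 * r : F) (3 * r : F) (2 * r : F)) = vec b (4 + 4 * r : F) (3 * r : F) (4 + 4 * r : F) :=
  (lEl_vec hF hb (0 : F) (3 * r : F) (val_5_T r hr h5) (4 + 4 * r : F) (3 * r : F) (2 * r : F)).trans (vec_congr b
    (by linear_combination (0 : F) * h5)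
    (by linear_combination (0 : F) * h5)
    (by linear_combination ((12)) * hr + ((4) + (2)*r) * h5))

theorem step_5_0_3 {F : Type*} [Field F] [Fintype F] (hF : Fintype.card F = 5 ^ 2) {b : Fin 3 → Fin 3 → F} (hb : HB 5 b) (r : F) (hr : r ^ 2 = 2) (h5 : (5 : F) = 0) : actv (lEl hF b (0 : F) (3 * r : F)) (vec b (4 + 4 * r : F) (3 * r : F) (4 + 4 * r : F)) = vec b (4 + 4 * r : F) (3 * r : F) (3 + r : F) :=
  (lEl_vec hF hb (0 : F) (3 * r : F) (val_5_T r hr h5) (4 + 4 * r : F) (3 * r : F) (4 + 4 * r : F)).trans (vec_congr b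
    (by linear_combination (0 : F) * h5)
    (by linear_combination (0 : F) * h5)
    (by linear_combination ((12)) * hr + ((5) + (3)*r) * h5))

theorem step_5_0_4 {F : Type*} [Field F] [Fintype F] (hF : Fintype.card F = 5 ^ 2) {b : Fin 3 → Fin 3 → F} (hb : HB 5 b) (r : F) (hr : r ^ 2 = 2) (h5 : (5 : F) = 0) : actv (yEl hF b (1 : F) (2 + 2 * r : F)) (vec b (4 + 4 * r : F) (3 * r : F) (3 + r : F)) = vec b (4 : F) (2 + 2 * r : F) (3 + r : F) :=
  (yEl_vec hF hb (1 : F) (2 + 2 * r : F) (val_5_y r hr h5) (4 + 4 * r : F) (3 * r : F) (3 + r : F)).trans (vec_congr b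
    (by linear_combination ((2)) * hr + ((2) + (3)*r) * h5)
    (by linear_combination ((-1)) * h5)
    (by linear_combination (0 : F) * h5))

theorem step_5_0_5 {F : Type*} [Field F] [Fintype F] (hF : Fintype.card F = 5 ^ 2) {b : Fin 3 → Fin 3 → F} (hb : HB 5 b) (r : F) (hr : r ^ 2 = 2) (h5 : (5 : F) = 0) : actv (lEl hF b (0 : F) (3 * r : F)) (vec b (4 : F) (2 + 2 * r : F) (3 + r : F)) = vec b (4 : F) (2 + 2 * r : F) (3 + 3 * r : F) :=
  (lEl_vec hF hb (0 : F) (3 * r : F) (val_5_T r hr h5) (4 : F) (2 + 2 * r : F) (3 + r : F)).trans (vec_congr b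
    (by linear_combination (0 : F) * h5)
    (by linear_combination (0 : F) * h5)
    (by linear_combination ((2)*r) * h5))

theorem step_5_0_6 {F : Type*} [Field F] [Fintype F] (hF : Fintype.card F = 5 ^ 2) {b : Fin 3 → Fin 3 → F} (hb : HB 5 b) (r : F) (hr : r ^ 2 = 2) (h5 : (5 : F) = 0) : actv (yEl hF b (4 : F) (2 + 3 * r : F)) (vec b (4 : F) (2 + 2 * r : F) (3 + 3 * r : F)) = vec b (1 + 3 * r : F) (0 : F) (3 + 3 * r : F) :=
  (yEl_vec hF hb (4 : F) (2 + 3 * r : F) (val_5_Y r hr h5) (4 : F) (2 + 2 * r : F) (3 + 3 * r : F)).trans (vec_congr b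
    (by linear_combination ((9)) * hr + ((7) + (4)*r) * h5)
    (by linear_combination ((-614) + (-614)*r) * h5)
    (by linear_combination (0 : F) * h5))

theorem step_5_0_7 {F : Type*} [Field F] [Fintype F] (hF : Fintype.card F = 5 ^ 2) {b : Fin 3 → Fin 3 → F} (hb : HB 5 b) (r : F) (hr : r ^ 2 = 2) (h5 : (5 : F) = 0) : actv (lEl hF b (0 : F) (2 * r : F)) (vec b (1 + 3 * r : F) (0 : F) (3 + 3 * r : F)) = vec b (1 + 3 * r : F) (0 : F) (0 : F) :=
  (lEl_vec hF hb (0 : F) (2 * r : F) (val_5_t r hr h5) (1 + 3 * r : F) (0 : F) (3 + 3 * r : F)).trans (vec_congr b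
    (by linear_combination (0 : F) * h5)
    (by linear_combination (0 : F) * h5)
    (by linear_combination ((6)) * hr + ((3) + (1)*r) * h5))

theorem step_5_1_0 {F : Type*} [Field F] [Fintype F] (hF : Fintype.card F = 5 ^ 2) {b : Fin 3 → Fin 3 → F} (hb : HB 5 b) (r : F) (hr : r ^ 2 = 2) (h5 : (5 : F) = 0) : actv (lEl hF b (0 : F) (2 * r : F)) (vec b (0 : F) (1 : F) (0 : F)) = vec b (0 : F) (1 : F) (0 : F) :=
  (lEl_vec hF hb (0 : F) (2 * r : F) (val_5_t r hr h5) (0 : F) (1 : F) (0 : F)).trans (vec_congr b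
    (by linear_combination (0 : F) * h5)
    (by linear_combination (0 : F) * h5)
    (by linear_combination (0 : F) * h5))

theorem step_5_1_1 {F : Type*} [Field F] [Fintype F] (hF : Fintype.card F = 5 ^ 2) {b : Fin 3 → Fin 3 → F} (hb : HB 5 b) (r : F) (hr : r ^ 2 = 2) (h5 : (5 : F) = 0) : actv (yEl hF b (1 : F) (2 + 2 * r : F)) (vec b (0 : F) (1 : F) (0 : F)) = vec b (1 : F) (1 : F) (0 : F) :=
  (yEl_vec hF hb (1 : F) (2 + 2 * r : F) (val_5_y r hr h5) (0 : F) (1 : F) (0 : F)).trans (vec_congr b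
    (by linear_combination (0 : F) * h5)
    (by linear_combination (0 : F) * h5)
    (by linear_combination (0 : F) * h5))

theorem step_5_1_2 {F : Type*} [Field F] [Fintype F] (hF : Fintype.card F = 5 ^ 2) {b : Fin 3 → Fin 3 → F} (hb : HB 5 b) (r : F) (hr : r ^ 2 = 2) (h5 : (5 : F) = 0) : actv (lEl hF b (0 : F) (3 * r : F)) (vec b (1 : F) (1 : F) (0 : F)) = vec b (1 : F) (1 : F) (3 * r : F) :=
  (lEl_vec hF hb (0 : F) (3 * r : F) (val_5_T r hr h5) (1 : F) (1 : F) (0 : F)).trans (vec_congr b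
    (by linear_combination (0 : F) * h5)
    (by linear_combination (0 : F) * h5)
    (by linear_combination (0 : F) * h5))

theorem step_5_1_3 {F : Type*} [Field F] [Fintype F] (hF : Fintype.card F = 5 ^ 2) {b : Fin 3 → Fin 3 → F} (hb : HB 5 b) (r : F) (hr : r ^ 2 = 2) (h5 : (5 : F) = 0) : actv (lEl hF b (0 : F) (3 * r : F)) (vec b (1 : F) (1 : F) (3 * r : F)) = vec b (1 : F) (1 : F) (r : F) :=
  (lEl_vec hF hb (0 : F) (3 * r : F) (val_5_T r hr h5) (1 : F) (1 : F) (3 * r : F)).trans (vec_congr b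
    (by linear_combination (0 : F) * h5)
    (by linear_combination (0 : F) * h5)
    (by linear_combination ((1)*r) * h5))

theorem step_5_1_4 {F : Type*} [Field F] [Fintype F] (hF : Fintype.card F = 5 ^ 2) {b : Fin 3 → Fin 3 → F} (hb : HB 5 b) (r : F) (hr : r ^ 2 = 2) (h5 : (5 : F) = 0) : actv (yEl hF b (1 : F) (2 + 2 * r : F)) (vec b (1 : F) (1 : F) (r : F)) = vec b (1 + 2 * r : F) (1 + 4 * r : F) (r : F) :=
  (yEl_vec hF hb (1 : F) (2 + 2 * r : F) (val_5_y r hr h5) (1 : F) (1 : F) (r : F)).trans (vec_congr b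
    (by linear_combination ((2)) * hr + ((1)) * h5)
    (by linear_combination ((-1)*r) * h5)
    (by linear_combination (0 : F) * h5))

theorem step_5_1_5 {F : Type*} [Field F] [Fintype F] (hF : Fintype.card F = 5 ^ 2) {b : Fin 3 → Fin 3 → F} (hb : HB 5 b) (r : F) (hr : r ^ 2 = 2) (h5 : (5 : F) = 0) : actv (lEl hF b (0 : F) (3 * r : F)) (vec b (1 + 2 * r : F) (1 + 4 * r : F) (r : F)) = vec b (1 + 2 * r : F) (1 + 4 * r : F) (2 + 4 * r : F) :=
  (lEl_vec hF hb (0 : F) (3 * r : F) (val_5_T r hr h5) (1 + 2 * r : F) (1 + 4 * r : F) (r : F)).trans (vec_congr b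
    (by linear_combination (0 : F) * h5)
    (by linear_combination (0 : F) * h5)
    (by linear_combination ((6)) * hr + ((2)) * h5))

theorem step_5_1_6 {F : Type*} [Field F] [Fintype F] (hF : Fintype.card F = 5 ^ 2) {b : Fin 3 → Fin 3 → F} (hb : HB 5 b) (r : F) (hr : r ^ 2 = 2) (h5 : (5 : F) = 0) : actv (yEl hF b (4 : F) (2 + 3 * r : F)) (vec b (1 + 2 * r : F) (1 + 4 * r : F) (2 + 4 * r : F)) = vec b (3 + 2 * r : F) (3 + 3 * r : F) (2 + 4 * r : F) :=
  (yEl_vec hF hb (4 : F) (2 + 3 * r : F) (val_5_Y r hr h5) (1 + 2 * r : F) (1 + 4 * r : F) (2 + 4 * r : F)).trans (vec_congr b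
    (by linear_combination ((12)) * hr + ((6) + (6)*r) * h5)
    (by linear_combination ((-410) + (-819)*r) * h5)
    (by linear_combination (0 : F) * h5))

theorem step_5_1_7 {F : Type*} [Field F] [Fintype F] (hF : Fintype.card F = 5 ^ 2) {b : Fin 3 → Fin 3 → F} (hb : HB 5 b) (r : F) (hr : r ^ 2 = 2) (h5 : (5 : F) = 0) : actv (lEl hF b (0 : F) (2 * r : F)) (vec b (3 + 2 * r : F) (3 + 3 * r : F) (2 + 4 * r : F)) = vec b (3 + 2 * r : F) (3 + 3 * r : F) (0 : F) :=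
  (lEl_vec hF hb (0 : F) (2 * r : F) (val_5_t r hr h5) (3 + 2 * r : F) (3 + 3 * r : F) (2 + 4 * r : F)).trans (vec_congr b
    (by linear_combination (0 : F) * h5)
    (by linear_combination (0 : F) * h5)
    (by linear_combination ((4)) * hr + ((2) + (2)*r) * h5))

theorem word_5 {F : Type*} [Field F] [Fintype F] (hF : Fintype.card F = 5 ^ 2) {b : Fin 3 → Fin 3 → F} (hb : HB 5 b) (r : F) (hr : r ^ 2 = 2) (h5 : (5 : F) = 0) (Hs : Subgroup ↥(Cfsg.SU 3 F 5))
    (hy : yEl hF b (1 : F) (2 + 2 * r : F) ∈ Hs) (ht : lEl hF b 0 (2 * r : F) ∈ Hs)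
    (hz : dEl hF b (3 + 2 * r : F) ((3 + 2 * r : F)⁻¹ ^ 2) (3 + 2 * r : F) ∈ Hs) :
    ∃ W ∈ Hs, ∃ d0 d1 κ : F, actv W (b 0) = d0 • b 0 ∧ actv W (b 1) = d1 • b 1 + κ • b 0 ∧
      Gen2 (3 + 2 * r : F) (d0 * d1 ^ 5) := by
  have eYb : (2 + 2 * r : F) ^ 5 = (2 + 3 * r : F) := by linear_combination ((640) + (384)*r + (160)*r^2 + (32)*r^3) * hr + ((262) + (185)*r) * h5
  have eYa : -(1 : F) = (4 : F) := by linear_combination ((-1)) * h5
  have eY : (yEl hF b (1 : F) (2 + 2 * r : F))⁻¹ = yEl hF b (4 : F) (2 + 3 * r : F) := by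
    rw [yEl_inv hF hb (1 : F) (2 + 2 * r : F) (val_5_y r hr h5), eYb, eYa]
  have hYm : yEl hF b (4 : F) (2 + 3 * r : F) ∈ Hs := by rw [← eY]; exact Hs.inv_mem hy
  have eTb : (2 * r : F) ^ 5 = (3 * r : F) := by linear_combination ((64)*r + (32)*r^3) * hr + ((25)*r) * h5
  have eT : (lEl hF b (0 : F) (2 * r : F))⁻¹ = lEl hF b (0 : F) (3 * r : F) := by
    rw [lEl_inv hF hb (0 : F) (2 * r : F) (val_5_t r hr h5), eTb, neg_zero]
  have hTm : lEl hF b (0 : F) (3 * r : F) ∈ Hs := by rw [← eT]; exact Hs.inv_mem ht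
  refine ⟨(lEl hF b (0 : F) (2 * r : F)) * (yEl hF b (4 : F) (2 + 3 * r : F)) * (lEl hF b (0 : F) (3 * r : F)) * (yEl hF b (1 : F) (2 + 2 * r : F)) * (lEl hF b (0 : F) (3 * r : F)) * (lEl hF b (0 : F) (3 * r : F)) * (yEl hF b (1 : F) (2 + 2 * r : F)) * (lEl hF b (0 : F) (2 * r : F)), Hs.mul_mem (Hs.mul_mem (Hs.mul_mem (Hs.mul_mem (Hs.mul_mem (Hs.mul_mem (Hs.mul_mem (ht) hYm) hTm) hy) hTm) hTm) hy) ht, (1 + 3 * r : F), (3 + 3 * r : F), (3 + 2 * r : F), ?_, ?_, ?_⟩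
  · rw [← vec_eq_smul0 b, b0_eq_vec b]
    simp only [actv_mul]
    rw [step_5_0_0 hF hb r hr h5, step_5_0_1 hF hb r hr h5, step_5_0_2 hF hb r hr h5, step_5_0_3 hF hb r hr h5, step_5_0_4 hF hb r hr h5, step_5_0_5 hF hb r hr h5, step_5_0_6 hF hb r hr h5, step_5_0_7 hF hb r hr h5]
  · rw [← vec_eq_smul1 b, b1_eq_vec b]
    simp only [actv_mul]
    rw [step_5_1_0 hF hb r hr h5, step_5_1_1 hF hb r hr h5, step_5_1_2 hF hb r hr h5, step_5_1_3 hF hb r hr h5, step_5_1_4 hF hb r hr h5, step_5_1_5 hF hb r hr h5, step_5_1_6 hF hb r hr h5, step_5_1_7 hF hb r hr h5]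
  · have e : (1 + 3 * r : F) * (3 + 3 * r : F) ^ 5 = r := by linear_combination ((26001) + (17496)*r + (9963)*r^2 + (3888)*r^3 + (729)*r^4) * hr + ((10449) + (7387)*r) * h5
    rw [e]
    exact gen2_five hF r (3 + 2 * r : F) hr

theorem params_5 {F : Type*} [Field F] [Fintype F] (hF : Fintype.card F = 5 ^ 2) :
    ∃ lam c a β θ : F, Rel 5 lam c a β θ ∧
      ∀ (b : Fin 3 → Fin 3 → F), HB 5 b → ∀ Hs : Subgroup ↥(Cfsg.SU 3 F 5), yEl hF b a β ∈ Hs →
        lEl hF b 0 c ∈ Hs → dEl hF b lam (lam⁻¹ ^ 2) lam ∈ Hs →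
        ∃ W ∈ Hs, ∃ d0 d1 κ : F, actv W (b 0) = d0 • b 0 ∧ actv W (b 1) = d1 • b 1 + κ • b 0 ∧
          Gen2 lam (d0 * d1 ^ 5) := by
  obtain ⟨r, hr, h5⟩ := exists_r_five hF
  exact ⟨(3 + 2 * r : F), (2 * r : F), (1 : F), (2 + 2 * r : F), (3 : F), rel_5 r hr h5,
    fun b hb Hs hy ht hz => word_5 hF hb r hr h5 Hs hy ht hz⟩

end Cfsg.Agent.Helper98.UT
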