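import Mathlib
import Cfsg.Agent.Lib.Helper98.UT1
import Cfsg.Agent.Lib.Helper98.UTPieces2

/-! UT project (S2283): the field of order 64 (q = 8).  GENERATED by tools98/mk_utx.py (helper98):
explicit parameters and one explicit element of `⟨y, t, z⟩` fixing the point `e`; every identity is a
`linear_combination` certificate modulo the defining relations of the field. -/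

set_option autoImplicit false
set_option quotPrecheck false
set_option linter.unusedSectionVars false
set_option linter.unusedVariables false
set_option linter.style.longLine false
set_option maxHeartbeats 1000000

namespace Cfsg.Agent.Helper98.UT

open Matrix Cfsg Cfsg.Agent.Helper13 Cfsg.Agent.Helper87.PsuA Cfsg.Agent.Helper87.PsuB0
  Cfsg.Agent.Helper98.UTP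


theorem rel_8 {F : Type*} [Field F] (ρ ω : F) (hρ : ρ ^ 3 = ρ + 1) (hω : ω ^ 2 = ω + 1) (h2 : (2 : F) = 0) : Rel 8 (ρ * ω + ρ ^ 2 : F) (1 + ρ : F) (1 : F) (ω + ρ ^ 2 : F) (ω : F) where
  lamN := by linear_combination ((28) + (189)*ω + (576)*ω^2 + (1008)*ω^3 + (1134)*ω^4 + (882)*ω^5 + (420)*ω^6 + (144)*ω^7 + (27)*ω^8 + (2)*ω^9 + (21)*ρ + (144)*ρ*ω + (432)*ρ*ω^2 + (756)*ρ*ω^3 + (882)*ρ*ω^4 + (630)*ρ*ω^5 + (336)*ρ*ω^6 + (108)*ρ*ω^7 + (18)*ρ*ω^8 + (2)*ρ*ω^9 + (16)*ρ^2 + (108)*ρ^2*ω + (324)*ρ^2*ω^2 + (588)*ρ^2*ω^3 + (630)*ρ^2*ω^4 + (504)*ρ^2*ω^5 + (252)*ρ^2*ω^6 + (72)*ρ^2*ω^7 + (18)*ρ^2*ω^8 + (1)*ρ^2*ω^9 + (12)*ρ^3 + (81)*ρ^3*ω + (252)*ρ^3*ω^2 + (420)*ρ^3*ω^3 + (504)*ρ^3*ω^4 + (378)*ρ^3*ω^5 + (168)*ρ^3*ω^6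 + (72)*ρ^3*ω^7 + (9)*ρ^3*ω^8 + (1)*ρ^3*ω^9 + (9)*ρ^4 + (63)*ρ^4*ω + (180)*ρ^4*ω^2 + (336)*ρ^4*ω^3 + (378)*ρ^4*ω^4 + (252)*ρ^4*ω^5 + (168)*ρ^4*ω^6 + (36)*ρ^4*ω^7 + (9)*ρ^4*ω^8 + (1)*ρ^4*ω^9 + (7)*ρ^5 + (45)*ρ^5*ω + (144)*ρ^5*ω^2 + (252)*ρ^5*ω^3 + (252)*ρ^5*ω^4 + (252)*ρ^5*ω^5 + (84)*ρ^5*ω^6 + (36)*ρ^5*ω^7 + (9)*ρ^5*ω^8 + (5)*ρ^6 + (36)*ρ^6*ω + (108)*ρ^6*ω^2 + (168)*ρ^6*ω^3 + (252)*ρ^6*ω^4 + (126)*ρ^6*ω^5 + (84)*ρ^6*ω^6 + (36)*ρ^6*ω^7 + (1)*ρ^6*ω^9 + (4)*ρ^7 + (27)*ρ^7*ω + (72)*ρ^7*ω^2 + (168)*ρ^7*ω^3 + (126)*ρ^7*ω^4 + (126)*ρ^7*ω^5 + (84)*ρ^7*ω^6 + (9)*ρ^7*ω^8 + (3)*ρ^8 + (18)*ρ^8*ω + (72)*ρ^8*ω^2 + (84)*ρ^8*ω^3 + (126)*ρ^8*ω^4 + (126)*ρ^8*ω^5 + (36)*ρ^8*ω^7 + (2)*ρ^9 + (18)*ρ^9*ω + (36)*ρ^9*ω^2 + (84)*ρ^9*ω^3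 + (126)*ρ^9*ω^4 + (84)*ρ^9*ω^6 + (2)*ρ^10 + (9)*ρ^10*ω + (36)*ρ^10*ω^2 + (84)*ρ^10*ω^3 + (126)*ρ^10*ω^5 + (1)*ρ^11 + (9)*ρ^11*ω + (36)*ρ^11*ω^2 + (126)*ρ^11*ω^4 + (1)*ρ^12 + (9)*ρ^12*ω + (84)*ρ^12*ω^3 + (1)*ρ^13 + (36)*ρ^13*ω^2 + (9)*ρ^14*ω + (1)*ρ^15) * hρ + ((10143) + (6128)*ω + (3439)*ω^2 + (1681)*ω^3 + (624)*ω^4 + (175)*ω^5 + (29)*ω^6 + (2)*ω^7 + (17805)*ρ + (10744)*ρ*ω + (6053)*ρ*ω^2 + (2927)*ρ*ω^3 + (1110)*ρ*ω^4 + (305)*ρ*ω^5 + (49)*ρ*ω^6 + (4)*ρ*ω^7 + (13437)*ρ^2 + (8115)*ρ^2*ω + (4566)*ρ^2*ω^2 + (2205)*ρ^2*ω^3 + (849)*ρ^2*ω^4 + (222)*ρ^2*ω^5 + (39)*ρ^2*ω^6 + (3)*ρ^2*ω^7) * hω + ((5085) + (8230)*ω + (8927)*ρ + (14441)*ρ*ω + (6737)*ρ^2 + (10902)*ρ^2*ω) * h2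
  lam2 := by
    intro h
    have h1 : ((ρ * ω + ρ ^ 2 : F) ^ 2 - 1) * (1 + ω + ρ : F) = 1 := by linear_combination ((1) + (2)*ω + (3)*ω^2 + (1)*ρ + (3)*ρ*ω + (1)*ρ^2) * hρ + ((3) + (3)*ρ + (2)*ρ^2 + (1)*ρ^2*ω) * hω + ((1) + (2)*ω + (2)*ρ + (4)*ρ*ω + (2)*ρ^2 + (3)*ρ^2*ω) * h2
    rw [h, sub_self, zero_mul] at h1
    exact zero_ne_one h1
  c0 := by
    intro h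
    have h1 : (1 + ρ : F) * (ρ + ρ ^ 2 : F) = 1 := by linear_combination ((1)) * hρ + ((1)*ρ + (1)*ρ^2) * h2
    rw [h, zero_mul] at h1
    exact zero_ne_one h1
  cT := by linear_combination ((150) + (107)*ρ + (65)*ρ^2 + (29)*ρ^3 + (8)*ρ^4 + (1)*ρ^5) * hρ + ((76) + (133)*ρ + (100)*ρ^2) * h2
  bc := by linear_combination ((6) + (11)*ω + (12)*ω^2 + (7)*ω^3 + (1)*ω^4 + (2)*ρ + (8)*ρ*ω + (15)*ρ*ω^2 + (4)*ρ*ω^3 + (1)*ρ*ω^4 + (2)*ρ^2 + (13)*ρ^2*ω + (6)*ρ^2*ω^2 + (4)*ρ^2*ω^3 + (4)*ρ^3 + (4)*ρ^3*ω + (6)*ρ^3*ω^2 + (1)*ρ^3*ω^3 + (1)*ρ^4 + (4)*ρ^4*ω + (3)*ρ^4*ω^2 + (1)*ρ^5 + (3)*ρ^5*ω + (1)*ρ^6) * hρ + ((21) + (8)*ω + (1)*ω^2 + (42)*ρ + (13)*ρ*ω + (2)*ρ*ω^2 + (28)*ρ^2 + (9)*ρ^2*ω + (1)*ρ^2*ω^2) * hω + ((14) +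 (20)*ω + (25)*ρ + (37)*ρ*ω + (16)*ρ^2 + (29)*ρ^2*ω) * h2
  ab := by linear_combination ((16) + (72)*ω + (140)*ω^2 + (168)*ω^3 + (140)*ω^4 + (56)*ω^5 + (12)*ρ + (56)*ρ*ω + (112)*ρ*ω^2 + (112)*ρ*ω^3 + (70)*ρ*ω^4 + (56)*ρ*ω^5 + (28)*ρ*ω^6 + (9)*ρ^2 + (40)*ρ^2*ω + (84)*ρ^2*ω^2 + (112)*ρ^2*ω^3 + (70)*ρ^2*ω^4 + (7)*ρ^3 + (32)*ρ^3*ω + (56)*ρ^3*ω^2 + (56)*ρ^3*ω^3 + (70)*ρ^3*ω^4 + (56)*ρ^3*ω^5 + (5)*ρ^4 + (24)*ρ^4*ω + (56)*ρ^4*ω^2 + (56)*ρ^4*ω^3 + (4)*ρ^5 + (16)*ρ^5*ω + (28)*ρ^5*ω^2 + (56)*ρ^5*ω^3 + (70)*ρ^5*ω^4 + (3)*ρ^6 + (16)*ρ^6*ω + (28)*ρ^6*ω^2 + (2)*ρ^7 + (8)*ρ^7*ω + (28)*ρ^7*ω^2 + (56)*ρ^7*ω^3 + (2)*ρ^8 + (8)*ρ^8*ω + (1)*ρ^9 + (8)*ρ^9*ω + (28)*ρ^9*ω^2 + (1)*ρ^10 + (1)*ρ^11 + (8)*ρ^11*ω + (1)*ρ^13) *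 hρ + ((769) + (428)*ω + (201)*ω^2 + (59)*ω^3 + (2)*ω^4 + (1)*ω^5 + (1)*ω^6 + (1428)*ρ + (798)*ρ*ω + (378)*ρ*ω^2 + (140)*ρ*ω^3 + (28)*ρ*ω^4 + (1072)*ρ^2 + (600)*ρ^2*ω + (276)*ρ^2*ω^2 + (100)*ρ^2*ω^3 + (36)*ρ^2*ω^4 + (8)*ρ^2*ω^5) * hω + ((393) + (635)*ω + (728)*ρ + (1177)*ρ*ω + (547)*ρ^2 + (884)*ρ^2*ω) * h2
  th := by linear_combination ((13) + (8)*ω + (5)*ω^2 + (3)*ω^3 + (2)*ω^4 + (1)*ω^5 + (1)*ω^6) * hω + ((6) + (11)*ω) * h2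

theorem val_8_Z {F : Type*} [Field F] (ρ ω : F) (hρ : ρ ^ 3 = ρ + 1) (hω : ω ^ 2 = ω + 1) (h2 : (2 : F) = 0) : (ρ + ρ * ω + ρ ^ 2 : F) * (ρ + ρ * ω + ρ ^ 2 : F) ^ 8 = 1 ∧ (ρ + ρ ^ 2 * ω : F) * (ρ + ρ ^ 2 * ω : F) ^ 8 = 1 ∧ (ρ + ρ * ω + ρ ^ 2 : F) * (ρ + ρ ^ 2 * ω : F) * (ρ + ρ * ω + ρ ^ 2 : F) = 1 := by
  refine ⟨?_, ?_, ?_⟩
  · linear_combination ((4410) + (17073)*ω + (29376)*ω^2 + (29484)*ω^3 + (19026)*ω^4 + (8190)*ω^5 + (2352)*ω^6 + (432)*ω^7 + (45)*ω^8 + (2)*ω^9 + (3329)*ρ + (12888)*ρ*ω + (22176)*ρ*ω^2 + (22260)*ρ*ω^3 + (14364)*ρ*ω^4 + (6174)*ρ*ω^5 + (1764)*ρ*ω^6 + (324)*ρ*ω^7 + (36)*ρ*ω^8 + (2)*ρ*ω^9 + (2513)*ρ^2 + (9729)*ρ^2*ω + (16740)*ρ^2*ω^2 + (16800)*ρ^2*ω^3 + (10836)*ρ^2*ω^4 + (4662)*ρ^2*ω^5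 + (1344)*ρ^2*ω^6 + (252)*ρ^2*ω^7 + (27)*ρ^2*ω^8 + (1)*ρ^2*ω^9 + (1897)*ρ^3 + (7344)*ρ^3*ω + (12636)*ρ^3*ω^2 + (12684)*ρ^3*ω^3 + (8190)*ρ^3*ω^4 + (3528)*ρ^3*ω^5 + (1008)*ρ^3*ω^6 + (180)*ρ^3*ω^7 + (18)*ρ^3*ω^8 + (1)*ρ^3*ω^9 + (1432)*ρ^4 + (5544)*ρ^4*ω + (9540)*ρ^4*ω^2 + (9576)*ρ^4*ω^3 + (6174)*ρ^4*ω^4 + (2646)*ρ^4*ω^5 + (756)*ρ^4*ω^6 + (144)*ρ^4*ω^7 + (18)*ρ^4*ω^8 + (1)*ρ^4*ω^9 + (1081)*ρ^5 + (4185)*ρ^5*ω + (7200)*ρ^5*ω^2 + (7224)*ρ^5*ω^3 + (4662)*ρ^5*ω^4 + (2016)*ρ^5*ω^5 + (588)*ρ^5*ω^6 + (108)*ρ^5*ω^7 + (9)*ρ^5*ω^8 + (816)*ρ^6 + (3159)*ρ^6*ω + (5436)*ρ^6*ω^2 + (5460)*ρ^6*ω^3 + (3528)*ρ^6*ω^4 + (1512)*ρ^6*ω^5 + (420)*ρ^6*ω^6 + (72)*ρ^6*ω^7 + (9)*ρ^6*ω^8 + (1)*ρ^6*ω^9 + (616)*ρ^7 + (2385)*ρ^7*ω + (4104)*ρ^7*ω^2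 + (4116)*ρ^7*ω^3 + (2646)*ρ^7*ω^4 + (1134)*ρ^7*ω^5 + (336)*ρ^7*ω^6 + (72)*ρ^7*ω^7 + (9)*ρ^7*ω^8 + (465)*ρ^8 + (1800)*ρ^8*ω + (3096)*ρ^8*ω^2 + (3108)*ρ^8*ω^3 + (2016)*ρ^8*ω^4 + (882)*ρ^8*ω^5 + (252)*ρ^8*ω^6 + (36)*ρ^8*ω^7 + (350)*ρ^9 + (1350)*ρ^9*ω + (2304)*ρ^9*ω^2 + (2268)*ρ^9*ω^3 + (1386)*ρ^9*ω^4 + (504)*ρ^9*ω^5 + (84)*ρ^9*ω^6 + (257)*ρ^10 + (963)*ρ^10*ω + (1548)*ρ^10*ω^2 + (1344)*ρ^10*ω^3 + (630)*ρ^10*ω^4 + (126)*ρ^10*ω^5 + (172)*ρ^11 + (585)*ρ^11*ω + (792)*ρ^11*ω^2 + (504)*ρ^11*ω^3 + (126)*ρ^11*ω^4 + (94)*ρ^12 + (261)*ρ^12*ω + (252)*ρ^12*ω^2 + (84)*ρ^12*ω^3 + (37)*ρ^13 + (72)*ρ^13*ω + (36)*ρ^13*ω^2 + (9)*ρ^14 + (9)*ρ^14*ω + (1)*ρ^15) * hρ + ((137325) + (74492)*ω + (33457)*ω^2 + (11551)*ω^3 + (2880)*ω^4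 + (481)*ω^5 + (47)*ω^6 + (2)*ω^7 + (240933)*ρ + (130690)*ρ*ω + (58691)*ρ*ω^2 + (20255)*ρ*ω^3 + (5046)*ρ*ω^4 + (845)*ρ*ω^5 + (85)*ρ*ω^6 + (4)*ρ*ω^7 + (181914)*ρ^2 + (98679)*ρ^2*ω + (44319)*ρ^2*ω^2 + (15300)*ρ^2*ω^3 + (3819)*ρ^2*ω^4 + (645)*ρ^2*ω^5 + (66)*ρ^2*ω^6 + (3)*ρ^2*ω^7) * hω + ((70867) + (114445)*ω + (124336)*ρ + (200792)*ρ*ω + (93878)*ρ^2 + (151605)*ρ^2*ω) * h2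
  · linear_combination ((2) + (27)*ω + (144)*ω^2 + (420)*ω^3 + (882)*ω^4 + (1134)*ω^5 + (1008)*ω^6 + (576)*ω^7 + (189)*ω^8 + (28)*ω^9 + (2)*ρ + (18)*ρ*ω + (108)*ρ*ω^2 + (336)*ρ*ω^3 + (630)*ρ*ω^4 + (882)*ρ*ω^5 + (756)*ρ*ω^6 + (432)*ρ*ω^7 + (144)*ρ*ω^8 + (21)*ρ*ω^9 + (1)*ρ^2 + (18)*ρ^2*ω + (72)*ρ^2*ω^2 + (252)*ρ^2*ω^3 + (504)*ρ^2*ω^4 + (630)*ρ^2*ω^5 + (588)*ρ^2*ω^6 + (324)*ρ^2*ω^7 + (108)*ρ^2*ω^8 + (16)*ρ^2*ω^9 + (1)*ρ^3 + (9)*ρ^3*ω + (72)*ρ^3*ω^2 + (168)*ρ^3*ω^3 + (378)*ρ^3*ω^4 + (504)*ρ^3*ω^5 + (420)*ρ^3*ω^6 + (252)*ρ^3*ω^7 + (81)*ρ^3*ω^8 + (12)*ρ^3*ω^9 + (1)*ρ^4 + (9)*ρ^4*ω + (36)*ρ^4*ω^2 + (168)*ρ^4*ω^3 + (252)*ρ^4*ω^4 + (378)*ρ^4*ω^5 + (336)*ρ^4*ω^6 + (180)*ρ^4*ω^7 + (63)*ρ^4*ω^8 + (9)*ρ^4*ω^9 +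 (9)*ρ^5*ω + (36)*ρ^5*ω^2 + (84)*ρ^5*ω^3 + (252)*ρ^5*ω^4 + (252)*ρ^5*ω^5 + (252)*ρ^5*ω^6 + (144)*ρ^5*ω^7 + (45)*ρ^5*ω^8 + (7)*ρ^5*ω^9 + (1)*ρ^6 + (36)*ρ^6*ω^2 + (84)*ρ^6*ω^3 + (126)*ρ^6*ω^4 + (252)*ρ^6*ω^5 + (168)*ρ^6*ω^6 + (108)*ρ^6*ω^7 + (36)*ρ^6*ω^8 + (5)*ρ^6*ω^9 + (9)*ρ^7*ω + (84)*ρ^7*ω^3 + (126)*ρ^7*ω^4 + (126)*ρ^7*ω^5 + (168)*ρ^7*ω^6 + (72)*ρ^7*ω^7 + (27)*ρ^7*ω^8 + (4)*ρ^7*ω^9 + (36)*ρ^8*ω^2 + (126)*ρ^8*ω^4 + (126)*ρ^8*ω^5 + (84)*ρ^8*ω^6 + (72)*ρ^8*ω^7 + (18)*ρ^8*ω^8 + (3)*ρ^8*ω^9 + (84)*ρ^9*ω^3 + (126)*ρ^9*ω^5 + (84)*ρ^9*ω^6 + (36)*ρ^9*ω^7 + (18)*ρ^9*ω^8 + (2)*ρ^9*ω^9 + (126)*ρ^10*ω^4 + (84)*ρ^10*ω^6 + (36)*ρ^10*ω^7 + (9)*ρ^10*ω^8 + (2)*ρ^10*ω^9 + (126)*ρ^11*ω^5 + (36)*ρ^11*ω^7 + (9)*ρ^11*ω^8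 + (1)*ρ^11*ω^9 + (84)*ρ^12*ω^6 + (9)*ρ^12*ω^8 + (1)*ρ^12*ω^9 + (36)*ρ^13*ω^7 + (1)*ρ^13*ω^9 + (9)*ρ^14*ω^8 + (1)*ρ^15*ω^9) * hρ + ((18423) + (11350)*ω + (6929)*ω^2 + (4001)*ω^3 + (2046)*ω^4 + (821)*ω^5 + (217)*ω^6 + (28)*ω^7 + (32322)*ρ + (19933)*ρ*ω + (12137)*ρ*ω^2 + (7040)*ρ*ω^3 + (3585)*ρ*ω^4 + (1439)*ρ*ω^5 + (382)*ρ*ω^6 + (49)*ρ*ω^7 + (24393)*ρ^2 + (15055)*ρ^2*ω + (9158)*ρ^2*ω^2 + (5309)*ρ^2*ω^3 + (2715)*ρ^2*ω^4 + (1082)*ρ^2*ω^5 + (289)*ρ^2*ω^6 + (37)*ρ^2*ω^7) * hω + ((9212) + (14900)*ω + (16163)*ρ + (26150)*ρ*ω + (12198)*ρ^2 + (19742)*ρ^2*ω) * h2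
  · linear_combination ((2) + (5)*ω + (3)*ω^2 + (2)*ρ + (4)*ρ*ω + (2)*ρ*ω^2 + (1)*ρ*ω^3 + (1)*ρ^2 + (2)*ρ^2*ω + (2)*ρ^2*ω^2 + (1)*ρ^3*ω) * hρ + ((3) + (6)*ρ + (1)*ρ*ω + (5)*ρ^2 + (1)*ρ^2*ω) * hω + ((2) + (4)*ω + (5)*ρ + (8)*ρ*ω + (4)*ρ^2 + (6)*ρ^2*ω) * h2

theorem val_8_t {F : Type*} [Field F] (ρ ω : F) (hρ : ρ ^ 3 = ρ + 1) (hω : ω ^ 2 = ω + 1) (h2 : (2 : F) = 0) : (1 + ρ : F) + (1 + ρ : F) ^ 8 + (0 : F) * (0 : F) ^ 8 = 0 := by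
  linear_combination ((150) + (107)*ρ + (65)*ρ^2 + (29)*ρ^3 + (8)*ρ^4 + (1)*ρ^5) * hρ + ((76) + (133)*ρ + (100)*ρ^2) * h2

theorem val_8_y {F : Type*} [Field F] (ρ ω : F) (hρ : ρ ^ 3 = ρ + 1) (hω : ω ^ 2 = ω + 1) (h2 : (2 : F) = 0) : (ω + ρ ^ 2 : F) + (ω + ρ ^ 2 : F) ^ 8 + (1 : F) * (1 : F) ^ 8 = 0 := by
  linear_combination ((16) + (72)*ω + (140)*ω^2 + (168)*ω^3 + (140)*ω^4 + (56)*ω^5 + (12)*ρ + (56)*ρ*ω + (112)*ρ*ω^2 + (112)*ρ*ω^3 + (70)*ρ*ω^4 + (56)*ρ*ω^5 + (28)*ρ*ω^6 + (9)*ρ^2 + (40)*ρ^2*ω + (84)*ρ^2*ω^2 + (112)*ρ^2*ω^3 + (70)*ρ^2*ω^4 + (7)*ρ^3 + (32)*ρ^3*ω + (56)*ρ^3*ω^2 + (56)*ρ^3*ω^3 + (70)*ρ^3*ω^4 + (56)*ρ^3*ω^5 + (5)*ρ^4 + (24)*ρ^4*ω + (56)*ρ^4*ω^2 + (56)*ρ^4*ω^3 + (4)*ρ^5 + (16)*ρ^5*ω + (28)*ρ^5*ω^2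 + (56)*ρ^5*ω^3 + (70)*ρ^5*ω^4 + (3)*ρ^6 + (16)*ρ^6*ω + (28)*ρ^6*ω^2 + (2)*ρ^7 + (8)*ρ^7*ω + (28)*ρ^7*ω^2 + (56)*ρ^7*ω^3 + (2)*ρ^8 + (8)*ρ^8*ω + (1)*ρ^9 + (8)*ρ^9*ω + (28)*ρ^9*ω^2 + (1)*ρ^10 + (1)*ρ^11 + (8)*ρ^11*ω + (1)*ρ^13) * hρ + ((769) + (428)*ω + (201)*ω^2 + (59)*ω^3 + (2)*ω^4 + (1)*ω^5 + (1)*ω^6 + (1428)*ρ + (798)*ρ*ω + (378)*ρ*ω^2 + (140)*ρ*ω^3 + (28)*ρ*ω^4 + (1072)*ρ^2 + (600)*ρ^2*ω + (276)*ρ^2*ω^2 + (100)*ρ^2*ω^3 + (36)*ρ^2*ω^4 + (8)*ρ^2*ω^5) * hω + ((393) + (635)*ω + (728)*ρ + (1177)*ρ*ω + (547)*ρ^2 + (884)*ρ^2*ω) * h2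

theorem val_8_z {F : Type*} [Field F] (ρ ω : F) (hρ : ρ ^ 3 = ρ + 1) (hω : ω ^ 2 = ω + 1) (h2 : (2 : F) = 0) : (ρ * ω + ρ ^ 2 : F) * (ρ * ω + ρ ^ 2 : F) ^ 8 = 1 ∧ (ρ + ρ ^ 2 + ρ ^ 2 * ω : F) * (ρ + ρ ^ 2 + ρ ^ 2 * ω : F) ^ 8 = 1 ∧ (ρ * ω + ρ ^ 2 : F) * (ρ + ρ ^ 2 + ρ ^ 2 * ω : F) * (ρ * ω + ρ ^ 2 : F) = 1 := by
  refine ⟨?_, ?_, ?_⟩
  · linear_combination ((28) + (189)*ω + (576)*ω^2 + (1008)*ω^3 + (1134)*ω^4 + (882)*ω^5 + (420)*ω^6 + (144)*ω^7 + (27)*ω^8 + (2)*ω^9 + (21)*ρ + (144)*ρ*ω + (432)*ρ*ω^2 + (756)*ρ*ω^3 + (882)*ρ*ω^4 + (630)*ρ*ω^5 + (336)*ρ*ω^6 + (108)*ρ*ω^7 + (18)*ρ*ω^8 + (2)*ρ*ω^9 + (16)*ρ^2 + (108)*ρ^2*ω + (324)*ρ^2*ω^2 + (588)*ρ^2*ω^3 + (630)*ρ^2*ω^4 + (504)*ρ^2*ω^5 + (252)*ρ^2*ω^6 +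 (72)*ρ^2*ω^7 + (18)*ρ^2*ω^8 + (1)*ρ^2*ω^9 + (12)*ρ^3 + (81)*ρ^3*ω + (252)*ρ^3*ω^2 + (420)*ρ^3*ω^3 + (504)*ρ^3*ω^4 + (378)*ρ^3*ω^5 + (168)*ρ^3*ω^6 + (72)*ρ^3*ω^7 + (9)*ρ^3*ω^8 + (1)*ρ^3*ω^9 + (9)*ρ^4 + (63)*ρ^4*ω + (180)*ρ^4*ω^2 + (336)*ρ^4*ω^3 + (378)*ρ^4*ω^4 + (252)*ρ^4*ω^5 + (168)*ρ^4*ω^6 + (36)*ρ^4*ω^7 + (9)*ρ^4*ω^8 + (1)*ρ^4*ω^9 + (7)*ρ^5 + (45)*ρ^5*ω + (144)*ρ^5*ω^2 + (252)*ρ^5*ω^3 + (252)*ρ^5*ω^4 + (252)*ρ^5*ω^5 + (84)*ρ^5*ω^6 + (36)*ρ^5*ω^7 + (9)*ρ^5*ω^8 + (5)*ρ^6 + (36)*ρ^6*ω + (108)*ρ^6*ω^2 + (168)*ρ^6*ω^3 + (252)*ρ^6*ω^4 + (126)*ρ^6*ω^5 + (84)*ρ^6*ω^6 + (36)*ρ^6*ω^7 + (1)*ρ^6*ω^9 + (4)*ρ^7 + (27)*ρ^7*ω + (72)*ρ^7*ω^2 + (168)*ρ^7*ω^3 + (126)*ρ^7*ω^4 + (126)*ρ^7*ω^5 + (84)*ρ^7*ω^6 + (9)*ρ^7*ω^8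 + (3)*ρ^8 + (18)*ρ^8*ω + (72)*ρ^8*ω^2 + (84)*ρ^8*ω^3 + (126)*ρ^8*ω^4 + (126)*ρ^8*ω^5 + (36)*ρ^8*ω^7 + (2)*ρ^9 + (18)*ρ^9*ω + (36)*ρ^9*ω^2 + (84)*ρ^9*ω^3 + (126)*ρ^9*ω^4 + (84)*ρ^9*ω^6 + (2)*ρ^10 + (9)*ρ^10*ω + (36)*ρ^10*ω^2 + (84)*ρ^10*ω^3 + (126)*ρ^10*ω^5 + (1)*ρ^11 + (9)*ρ^11*ω + (36)*ρ^11*ω^2 + (126)*ρ^11*ω^4 + (1)*ρ^12 + (9)*ρ^12*ω + (84)*ρ^12*ω^3 + (1)*ρ^13 + (36)*ρ^13*ω^2 + (9)*ρ^14*ω + (1)*ρ^15) * hρ + ((10143) + (6128)*ω + (3439)*ω^2 + (1681)*ω^3 + (624)*ω^4 + (175)*ω^5 + (29)*ω^6 + (2)*ω^7 + (17805)*ρ + (10744)*ρ*ω + (6053)*ρ*ω^2 + (2927)*ρ*ω^3 + (1110)*ρ*ω^4 + (305)*ρ*ω^5 + (49)*ρ*ω^6 + (4)*ρ*ω^7 + (13437)*ρ^2 + (8115)*ρ^2*ω + (4566)*ρ^2*ω^2 + (2205)*ρ^2*ω^3 + (849)*ρ^2*ω^4 + (222)*ρ^2*ω^5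 + (39)*ρ^2*ω^6 + (3)*ρ^2*ω^7) * hω + ((5085) + (8230)*ω + (8927)*ρ + (14441)*ρ*ω + (6737)*ρ^2 + (10902)*ρ^2*ω) * h2
  · linear_combination ((4410) + (22617)*ω + (51552)*ω^2 + (68544)*ω^3 + (58590)*ω^4 + (33390)*ω^5 + (12684)*ω^6 + (3096)*ω^7 + (441)*ω^8 + (28)*ω^9 + (3329)*ρ + (17073)*ρ*ω + (38916)*ρ*ω^2 + (51744)*ρ*ω^3 + (44226)*ρ*ω^4 + (25200)*ρ*ω^5 + (9576)*ρ*ω^6 + (2340)*ρ*ω^7 + (333)*ρ*ω^8 + (21)*ρ*ω^9 + (2513)*ρ^2 + (12888)*ρ^2*ω + (29376)*ρ^2*ω^2 + (39060)*ρ^2*ω^3 + (33390)*ρ^2*ω^4 + (19026)*ρ^2*ω^5 + (7224)*ρ^2*ω^6 + (1764)*ρ^2*ω^7 + (252)*ρ^2*ω^8 + (16)*ρ^2*ω^9 + (1897)*ρ^3 + (9729)*ρ^3*ω + (22176)*ρ^3*ω^2 + (29484)*ρ^3*ω^3 + (25200)*ρ^3*ω^4 + (14364)*ρ^3*ω^5 + (5460)*ρ^3*ω^6 + (1332)*ρ^3*ω^7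 + (189)*ρ^3*ω^8 + (12)*ρ^3*ω^9 + (1432)*ρ^4 + (7344)*ρ^4*ω + (16740)*ρ^4*ω^2 + (22260)*ρ^4*ω^3 + (19026)*ρ^4*ω^4 + (10836)*ρ^4*ω^5 + (4116)*ρ^4*ω^6 + (1008)*ρ^4*ω^7 + (144)*ρ^4*ω^8 + (9)*ρ^4*ω^9 + (1081)*ρ^5 + (5544)*ρ^5*ω + (12636)*ρ^5*ω^2 + (16800)*ρ^5*ω^3 + (14364)*ρ^5*ω^4 + (8190)*ρ^5*ω^5 + (3108)*ρ^5*ω^6 + (756)*ρ^5*ω^7 + (108)*ρ^5*ω^8 + (7)*ρ^5*ω^9 + (816)*ρ^6 + (4185)*ρ^6*ω + (9540)*ρ^6*ω^2 + (12684)*ρ^6*ω^3 + (10836)*ρ^6*ω^4 + (6174)*ρ^6*ω^5 + (2352)*ρ^6*ω^6 + (576)*ρ^6*ω^7 + (81)*ρ^6*ω^8 + (5)*ρ^6*ω^9 + (616)*ρ^7 + (3159)*ρ^7*ω + (7200)*ρ^7*ω^2 + (9576)*ρ^7*ω^3 + (8190)*ρ^7*ω^4 + (4662)*ρ^7*ω^5 + (1764)*ρ^7*ω^6 + (432)*ρ^7*ω^7 + (63)*ρ^7*ω^8 + (4)*ρ^7*ω^9 + (465)*ρ^8 + (2385)*ρ^8*ω + (5436)*ρ^8*ω^2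 + (7224)*ρ^8*ω^3 + (6174)*ρ^8*ω^4 + (3528)*ρ^8*ω^5 + (1344)*ρ^8*ω^6 + (324)*ρ^8*ω^7 + (45)*ρ^8*ω^8 + (3)*ρ^8*ω^9 + (350)*ρ^9 + (1800)*ρ^9*ω + (4104)*ρ^9*ω^2 + (5460)*ρ^9*ω^3 + (4662)*ρ^9*ω^4 + (2646)*ρ^9*ω^5 + (1008)*ρ^9*ω^6 + (252)*ρ^9*ω^7 + (36)*ρ^9*ω^8 + (2)*ρ^9*ω^9 + (257)*ρ^10 + (1350)*ρ^10*ω + (3096)*ρ^10*ω^2 + (4116)*ρ^10*ω^3 + (3528)*ρ^10*ω^4 + (2016)*ρ^10*ω^5 + (756)*ρ^10*ω^6 + (180)*ρ^10*ω^7 + (27)*ρ^10*ω^8 + (2)*ρ^10*ω^9 + (172)*ρ^11 + (963)*ρ^11*ω + (2304)*ρ^11*ω^2 + (3108)*ρ^11*ω^3 + (2646)*ρ^11*ω^4 + (1512)*ρ^11*ω^5 + (588)*ρ^11*ω^6 + (144)*ρ^11*ω^7 + (18)*ρ^11*ω^8 + (1)*ρ^11*ω^9 + (94)*ρ^12 + (585)*ρ^12*ω + (1548)*ρ^12*ω^2 + (2268)*ρ^12*ω^3 + (2016)*ρ^12*ω^4 + (1134)*ρ^12*ω^5 + (420)*ρ^12*ω^6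 + (108)*ρ^12*ω^7 + (18)*ρ^12*ω^8 + (1)*ρ^12*ω^9 + (37)*ρ^13 + (261)*ρ^13*ω + (792)*ρ^13*ω^2 + (1344)*ρ^13*ω^3 + (1386)*ρ^13*ω^4 + (882)*ρ^13*ω^5 + (336)*ρ^13*ω^6 + (72)*ρ^13*ω^7 + (9)*ρ^13*ω^8 + (1)*ρ^13*ω^9 + (9)*ρ^14 + (72)*ρ^14*ω + (252)*ρ^14*ω^2 + (504)*ρ^14*ω^3 + (630)*ρ^14*ω^4 + (504)*ρ^14*ω^5 + (252)*ρ^14*ω^6 + (72)*ρ^14*ω^7 + (9)*ρ^14*ω^8 + (1)*ρ^15 + (9)*ρ^15*ω + (36)*ρ^15*ω^2 + (84)*ρ^15*ω^3 + (126)*ρ^15*ω^4 + (126)*ρ^15*ω^5 + (84)*ρ^15*ω^6 + (36)*ρ^15*ω^7 + (9)*ρ^15*ω^8 + (1)*ρ^15*ω^9) * hρ + ((431955) + (251338)*ω + (129065)*ω^2 + (53729)*ω^3 + (16746)*ω^4 + (3593)*ω^5 + (469)*ω^6 + (28)*ω^7 + (758037)*ρ + (441073)*ρ*ω + (226496)*ρ*ω^2 + (94289)*ρ*ω^3 + (29391)*ρ*ω^4 + (6308)*ρ*ω^5 + (823)*ρ*ω^6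 + (49)*ρ*ω^7 + (572220)*ρ^2 + (332953)*ρ^2*ω + (170975)*ρ^2*ω^2 + (71174)*ρ^2*ω^3 + (22185)*ρ^2*ω^4 + (4763)*ρ^2*ω^5 + (622)*ρ^2*ω^6 + (37)*ρ^2*ω^7) * hω + ((218182) + (352955)*ω + (382888)*ρ + (619400)*ρ*ω + (289031)*ρ^2 + (467567)*ρ^2*ω) * h2
  · linear_combination ((2) + (3)*ω + (3)*ω^2 + (1)*ρ + (3)*ρ*ω + (1)*ρ*ω^2 + (1)*ρ*ω^3 + (1)*ρ^2 + (2)*ρ^2*ω + (2)*ρ^2*ω^2 + (1)*ρ^3 + (1)*ρ^3*ω) * hρ + ((3) + (5)*ρ + (1)*ρ*ω + (4)*ρ^2 + (1)*ρ^2*ω) * hω + ((2) + (3)*ω + (4)*ρ + (6)*ρ*ω + (3)*ρ^2 + (5)*ρ^2*ω) * h2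

theorem step_8_0_0 {F : Type*} [Field F] [Fintype F] (hF : Fintype.card F = 8 ^ 2) {b : Fin 3 → Fin 3 → F} (hb : HB 8 b) (ρ ω : F) (hρ : ρ ^ 3 = ρ + 1) (hω : ω ^ 2 = ω + 1) (h2 : (2 : F) = 0) : actv (lEl hF b (0 : F) (1 + ρ : F)) (vec b (1 : F) (0 : F) (0 : F)) = vec b (1 : F) (0 : F) (1 + ρ : F) :=
  (lEl_vec hF hb (0 : F) (1 + ρ : F) (val_8_t ρ ω hρ hω h2) (1 : F) (0 : F) (0 : F)).trans (vec_congr b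
    (by linear_combination (0 : F) * h2)
    (by linear_combination (0 : F) * h2)
    (by linear_combination (0 : F) * h2))

theorem step_8_0_1 {F : Type*} [Field F] [Fintype F] (hF : Fintype.card F = 8 ^ 2) {b : Fin 3 → Fin 3 → F} (hb : HB 8 b) (ρ ω : F) (hρ : ρ ^ 3 = ρ + 1) (hω : ω ^ 2 = ω + 1) (h2 : (2 : F) = 0) : actv (yEl hF b (1 : F) (ω + ρ ^ 2 : F)) (vec b (1 : F) (0 : F) (1 + ρ : F)) = vec b (ω + ρ + ρ * ω + ρ ^ 2 : F) (1 + ρ : F) (1 + ρ : F) :=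
  (yEl_vec hF hb (1 : F) (ω + ρ ^ 2 : F) (val_8_y ρ ω hρ hω h2) (1 : F) (0 : F) (1 + ρ : F)).trans (vec_congr b
    (by linear_combination ((1)) * hρ + ((1)) * h2)
    (by linear_combination ((-1) + (-1)*ρ) * h2)
    (by linear_combination (0 : F) * h2))

theorem step_8_0_2 {F : Type*} [Field F] [Fintype F] (hF : Fintype.card F = 8 ^ 2) {b : Fin 3 → Fin 3 → F} (hb : HB 8 b) (ρ ω : F) (hρ : ρ ^ 3 = ρ + 1) (hω : ω ^ 2 = ω + 1) (h2 : (2 : F) = 0) : actv (dEl hF b (ρ + ρ * ω + ρ ^ 2 : F) (ρ + ρ ^ 2 * ω : F) (ρ + ρ * ω + ρ ^ 2 : F)) (vec b (ω + ρ + ρ * ω + ρ ^ 2 : F) (1 + ρ : F) (1 + ρ : F)) = vec b (ρ ^ 2 : F) (ω + ρ + ρ * ω + ρ ^ 2 + ρ ^ 2 * ω : F) (1 + ρ * ω + ρ ^ 2 * ω : F) :=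
  (dEl_vec hF hb (ρ + ρ * ω + ρ ^ 2 : F) (ρ + ρ ^ 2 * ω : F) (ρ + ρ * ω + ρ ^ 2 : F) (val_8_Z ρ ω hρ hω h2).1 (val_8_Z ρ ω hρ hω h2).2.1 (val_8_Z ρ ω hρ hω h2).2.2 (ω + ρ + ρ * ω + ρ ^ 2 : F) (1 + ρ : F) (1 + ρ : F)).trans (vec_congr b
    (by linear_combination ((2) + (2)*ω + (1)*ρ) * hρ + ((1)*ρ + (1)*ρ^2) * hω + ((1) + (1)*ω + (2)*ρ + (2)*ρ*ω + (1)*ρ^2 + (2)*ρ^2*ω) * h2)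
    (by linear_combination ((1)*ω) * hρ)
    (by linear_combination ((1)) * hρ + ((1)*ρ + (1)*ρ^2) * h2))

theorem step_8_0_3 {F : Type*} [Field F] [Fintype F] (hF : Fintype.card F = 8 ^ 2) {b : Fin 3 → Fin 3 → F} (hb : HB 8 b) (ρ ω : F) (hρ : ρ ^ 3 = ρ + 1) (hω : ω ^ 2 = ω + 1) (h2 : (2 : F) = 0) : actv (yEl hF b (1 : F) (ω + ρ ^ 2 : F)) (vec b (ρ ^ 2 : F) (ω + ρ + ρ * ω + ρ ^ 2 + ρ ^ 2 * ω : F) (1 + ρ * ω + ρ ^ 2 * ω : F)) = vec b (ω + ρ ^ 2 * ω : F) (1 + ω + ρ + ρ ^ 2 : F) (1 + ρ * ω + ρ ^ 2 * ω : F) :=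
  (yEl_vec hF hb (1 : F) (ω + ρ ^ 2 : F) (val_8_y ρ ω hρ hω h2) (ρ ^ 2 : F) (ω + ρ + ρ * ω + ρ ^ 2 + ρ ^ 2 * ω : F) (1 + ρ * ω + ρ ^ 2 * ω : F)).trans (vec_congr b
    (by linear_combination ((1)*ω + (1)*ρ*ω) * hρ + ((1)*ρ + (1)*ρ^2) * hω + ((1)*ω + (1)*ρ + (2)*ρ*ω + (2)*ρ^2 + (1)*ρ^2*ω) * h2)
    (by linear_combination ((-1)) * h2)
    (by linear_combination (0 : F) * h2))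

theorem step_8_0_4 {F : Type*} [Field F] [Fintype F] (hF : Fintype.card F = 8 ^ 2) {b : Fin 3 → Fin 3 → F} (hb : HB 8 b) (ρ ω : F) (hρ : ρ ^ 3 = ρ + 1) (hω : ω ^ 2 = ω + 1) (h2 : (2 : F) = 0) : actv (dEl hF b (ρ + ρ * ω + ρ ^ 2 : F) (ρ + ρ ^ 2 * ω : F) (ρ + ρ * ω + ρ ^ 2 : F)) (vec b (ω + ρ ^ 2 * ω : F) (1 + ω + ρ + ρ ^ 2 : F) (1 + ρ * ω + ρ ^ 2 * ω : F)) = vec b (1 + ρ * ω : F) (1 + ω + ρ * ω + ρ ^ 2 * ω : F) (1 + ω + ρ * ω + ρ ^ 2 * ω : F) :=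
  (dEl_vec hF hb (ρ + ρ * ω + ρ ^ 2 : F) (ρ + ρ ^ 2 * ω : F) (ρ + ρ * ω + ρ ^ 2 : F) (val_8_Z ρ ω hρ hω h2).1 (val_8_Z ρ ω hρ hω h2).2.1 (val_8_Z ρ ω hρ hω h2).2.2 (ω + ρ ^ 2 * ω : F) (1 + ω + ρ + ρ ^ 2 : F) (1 + ρ * ω + ρ ^ 2 * ω : F)).trans (vec_congr b
    (by linear_combination ((1)*ω + (1)*ω^2 + (1)*ρ*ω) * hρ + ((1) + (2)*ρ) * hω + ((1)*ω + (1)*ρ + (2)*ρ*ω + (1)*ρ^2*ω) * h2)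
    (by linear_combination ((1) + (1)*ω + (1)*ρ*ω) * hρ + ((1)*ρ^2) * hω + ((1)*ρ + (1)*ρ*ω + (1)*ρ^2 + (1)*ρ^2*ω) * h2)
    (by linear_combination ((2)*ω + (1)*ω^2 + (1)*ρ*ω) * hρ + ((1) + (1)*ρ + (1)*ρ^2) * hω + ((1)*ω + (1)*ρ + (2)*ρ*ω + (1)*ρ^2 + (1)*ρ^2*ω) * h2))

theorem step_8_0_5 {F : Type*} [Field F] [Fintype F] (hF : Fintype.card F = 8 ^ 2) {b : Fin 3 → Fin 3 → F} (hb : HB 8 b) (ρ ω : F) (hρ : ρ ^ 3 = ρ + 1) (hω : ω ^ 2 = ω + 1) (h2 : (2 : F) = 0) : actv (yEl hF b (1 : F) (ω + ρ ^ 2 : F)) (vec b (1 + ρ * ω : F) (1 + ω + ρ * ω + ρ ^ 2 * ω : F) (1 + ω + ρ * ω + ρ ^ 2 * ω : F)) = vec b (1 + ρ + ρ * ω : F) (0 : F) (1 + ω + ρ * ω + ρ ^ 2 * ω : F) :=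
  (yEl_vec hF hb (1 : F) (ω + ρ ^ 2 : F) (val_8_y ρ ω hρ hω h2) (1 + ρ * ω : F) (1 + ω + ρ * ω + ρ ^ 2 * ω : F) (1 + ω + ρ * ω + ρ ^ 2 * ω : F)).trans (vec_congr b
    (by linear_combination ((1)*ω + (1)*ρ*ω) * hρ + ((1) + (1)*ρ + (1)*ρ^2) * hω + ((1) + (2)*ω + (2)*ρ*ω + (1)*ρ^2 + (2)*ρ^2*ω) * h2)
    (by linear_combination (0 : F) * h2)
    (by linear_combination (0 : F) * h2))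

theorem step_8_0_6 {F : Type*} [Field F] [Fintype F] (hF : Fintype.card F = 8 ^ 2) {b : Fin 3 → Fin 3 → F} (hb : HB 8 b) (ρ ω : F) (hρ : ρ ^ 3 = ρ + 1) (hω : ω ^ 2 = ω + 1) (h2 : (2 : F) = 0) : actv (lEl hF b (0 : F) (1 + ρ : F)) (vec b (1 + ρ + ρ * ω : F) (0 : F) (1 + ω + ρ * ω + ρ ^ 2 * ω : F)) = vec b (1 + ρ + ρ * ω : F) (0 : F) (ω + ρ ^ 2 : F) :=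
  (lEl_vec hF hb (0 : F) (1 + ρ : F) (val_8_t ρ ω hρ hω h2) (1 + ρ + ρ * ω : F) (0 : F) (1 + ω + ρ * ω + ρ ^ 2 * ω : F)).trans (vec_congr b
    (by linear_combination (0 : F) * h2)
    (by linear_combination (0 : F) * h2)
    (by linear_combination ((1) + (1)*ρ + (1)*ρ*ω + (1)*ρ^2*ω) * h2))

theorem step_8_0_7 {F : Type*} [Field F] [Fintype F] (hF : Fintype.card F = 8 ^ 2) {b : Fin 3 → Fin 3 → F} (hb : HB 8 b) (ρ ω : F) (hρ : ρ ^ 3 = ρ + 1) (hω : ω ^ 2 = ω + 1) (h2 : (2 : F) = 0) : actv (yEl hF b (1 : F) (ω + ρ ^ 2 : F)) (vec b (1 + ρ + ρ * ω : F) (0 : F) (ω + ρ ^ 2 : F)) = vec b (ω + ρ * ω + ρ ^ 2 : F) (ω + ρ ^ 2 : F) (ω + ρ ^ 2 : F) :=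
  (yEl_vec hF hb (1 : F) (ω + ρ ^ 2 : F) (val_8_y ρ ω hρ hω h2) (1 + ρ + ρ * ω : F) (0 : F) (ω + ρ ^ 2 : F)).trans (vec_congr b
    (by linear_combination ((1)*ρ) * hρ + ((1)) * hω + ((1) + (1)*ρ + (1)*ρ^2*ω) * h2)
    (by linear_combination ((-1)*ω + (-1)*ρ^2) * h2)
    (by linear_combination (0 : F) * h2))

theorem step_8_0_8 {F : Type*} [Field F] [Fintype F] (hF : Fintype.card F = 8 ^ 2) {b : Fin 3 → Fin 3 → F} (hb : HB 8 b) (ρ ω : F) (hρ : ρ ^ 3 = ρ + 1) (hω : ω ^ 2 = ω + 1) (h2 : (2 : F) = 0) : actv (dEl hF b (ρ * ω + ρ ^ 2 : F) (ρ + ρ ^ 2 + ρ ^ 2 * ω : F) (ρ * ω + ρ ^ 2 : F)) (vec b (ω + ρ * ω + ρ ^ 2 : F) (ω + ρ ^ 2 : F) (ω + ρ ^ 2 : F)) = vec b (ρ * ω : F) (1 + ρ ^ 2 * ω : F) (ω + ρ ^ 2 + ρ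 ^ 2 * ω : F) :=
  (dEl_vec hF hb (ρ * ω + ρ ^ 2 : F) (ρ + ρ ^ 2 + ρ ^ 2 * ω : F) (ρ * ω + ρ ^ 2 : F) (val_8_z ρ ω hρ hω h2).1 (val_8_z ρ ω hρ hω h2).2.1 (val_8_z ρ ω hρ hω h2).2.2 (ω + ρ * ω + ρ ^ 2 : F) (ω + ρ ^ 2 : F) (ω + ρ ^ 2 : F)).trans (vec_congr b
    (by linear_combination ((2)*ω + (1)*ρ) * hρ + ((1)*ρ + (1)*ρ^2) * hω + ((1)*ω + (1)*ρ + (1)*ρ*ω + (1)*ρ^2 + (1)*ρ^2*ω) * h2)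
    (by linear_combination ((1) + (1)*ρ + (1)*ρ*ω) * hρ + ((1)*ρ^2) * hω + ((1)*ρ + (1)*ρ*ω + (1)*ρ^2 + (1)*ρ^2*ω) * h2)
    (by linear_combination ((1)*ω + (1)*ρ) * hρ + ((1)*ρ) * hω + ((1)*ρ + (1)*ρ*ω) * h2))

theorem step_8_0_9 {F : Type*} [Field F] [Fintype F] (hF : Fintype.card F = 8 ^ 2) {b : Fin 3 → Fin 3 → F} (hb : HB 8 b) (ρ ω : F) (hρ : ρ ^ 3 = ρ + 1) (hω : ω ^ 2 = ω + 1) (h2 : (2 : F) = 0) : actv (yEl hF b (1 : F) (ω + ρ ^ 2 : F)) (vec b (ρ * ω : F) (1 + ρ ^ 2 * ω : F) (ω + ρ ^ 2 + ρ ^ 2 * ω : F)) = vec b (ω + ρ + ρ ^ 2 * ω : F) (1 + ω + ρ ^ 2 : F) (ω + ρ ^ 2 + ρ ^ 2 * ω : F) :=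
  (yEl_vec hF hb (1 : F) (ω + ρ ^ 2 : F) (val_8_y ρ ω hρ hω h2) (ρ * ω : F) (1 + ρ ^ 2 * ω : F) (ω + ρ ^ 2 + ρ ^ 2 * ω : F)).trans (vec_congr b
    (by linear_combination ((1)*ρ + (1)*ρ*ω) * hρ + ((1) + (1)*ρ^2) * hω + ((1) + (1)*ρ*ω + (1)*ρ^2 + (2)*ρ^2*ω) * h2)
    (by linear_combination ((-1)*ω + (-1)*ρ^2) * h2)
    (by linear_combination (0 : F) * h2))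

theorem step_8_0_10 {F : Type*} [Field F] [Fintype F] (hF : Fintype.card F = 8 ^ 2) {b : Fin 3 → Fin 3 → F} (hb : HB 8 b) (ρ ω : F) (hρ : ρ ^ 3 = ρ + 1) (hω : ω ^ 2 = ω + 1) (h2 : (2 : F) = 0) : actv (dEl hF b (ρ * ω + ρ ^ 2 : F) (ρ + ρ ^ 2 + ρ ^ 2 * ω : F) (ρ * ω + ρ ^ 2 : F)) (vec b (ω + ρ + ρ ^ 2 * ω : F) (1 + ω + ρ ^ 2 : F) (ω + ρ ^ 2 + ρ ^ 2 * ω : F)) = vec b (ω + ρ + ρ * ω + ρ ^ 2 * ω : F) (1 + ρ + ρ ^ 2 : F) (1 + ρ + ρ ^ 2 : F) :=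
  (dEl_vec hF hb (ρ * ω + ρ ^ 2 : F) (ρ + ρ ^ 2 + ρ ^ 2 * ω : F) (ρ * ω + ρ ^ 2 : F) (val_8_z ρ ω hρ hω h2).1 (val_8_z ρ ω hρ hω h2).2.1 (val_8_z ρ ω hρ hω h2).2.2 (ω + ρ + ρ ^ 2 * ω : F) (1 + ω + ρ ^ 2 : F) (ω + ρ ^ 2 + ρ ^ 2 * ω : F)).trans (vec_congr b
    (by linear_combination ((1) + (1)*ω^2 + (1)*ρ*ω) * hρ + ((1) + (2)*ρ) * hω + ((1) + (1)*ρ + (1)*ρ*ω + (1)*ρ^2*ω) * h2)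
    (by linear_combination ((1) + (1)*ρ + (1)*ρ*ω) * hρ + ((1)*ρ^2) * hω + ((1)*ρ + (1)*ρ*ω + (1)*ρ^2 + (2)*ρ^2*ω) * h2)
    (by linear_combination ((1)*ω + (1)*ω^2 + (1)*ρ + (1)*ρ*ω) * hρ + ((1) + (2)*ρ) * hω + ((1)*ω + (1)*ρ + (2)*ρ*ω + (1)*ρ^2*ω) * h2))

theorem step_8_0_11 {F : Type*} [Field F] [Fintype F] (hF : Fintype.card F = 8 ^ 2) {b : Fin 3 → Fin 3 → F} (hb : HB 8 b) (ρ ω : F) (hρ : ρ ^ 3 = ρ + 1) (hω : ω ^ 2 = ω + 1) (h2 : (2 : F) = 0) : actv (yEl hF b (1 : F) (ω + ρ ^ 2 : F)) (vec b (ω + ρ + ρ * ω + ρ ^ 2 * ω : F) (1 + ρ + ρ ^ 2 : F) (1 + ρ + ρ ^ 2 : F)) = vec b (ρ ^ 2 : F) (0 : F) (1 + ρ + ρ ^ 2 : F) :=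
  (yEl_vec hF hb (1 : F) (ω + ρ ^ 2 : F) (val_8_y ρ ω hρ hω h2) (ω + ρ + ρ * ω + ρ ^ 2 * ω : F) (1 + ρ + ρ ^ 2 : F) (1 + ρ + ρ ^ 2 : F)).trans (vec_congr b
    (by linear_combination ((1) + (1)*ρ) * hρ + ((1) + (1)*ω + (2)*ρ + (1)*ρ*ω + (1)*ρ^2 + (1)*ρ^2*ω) * h2)
    (by linear_combination (0 : F) * h2)
    (by linear_combination (0 : F) * h2))

theorem step_8_0_12 {F : Type*} [Field F] [Fintype F] (hF : Fintype.card F = 8 ^ 2) {b : Fin 3 → Fin 3 → F} (hb : HB 8 b) (ρ ω : F) (hρ : ρ ^ 3 = ρ + 1) (hω : ω ^ 2 = ω + 1) (h2 : (2 : F) = 0) : actv (lEl hF b (0 : F) (1 + ρ : F)) (vec b (ρ ^ 2 : F) (0 : F) (1 + ρ + ρ ^ 2 : F)) = vec b (ρ ^ 2 : F) (0 : F) (0 : F) :=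
  (lEl_vec hF hb (0 : F) (1 + ρ : F) (val_8_t ρ ω hρ hω h2) (ρ ^ 2 : F) (0 : F) (1 + ρ + ρ ^ 2 : F)).trans (vec_congr b
    (by linear_combination (0 : F) * h2)
    (by linear_combination (0 : F) * h2)
    (by linear_combination ((1)) * hρ + ((1) + (1)*ρ + (1)*ρ^2) * h2))

theorem step_8_1_0 {F : Type*} [Field F] [Fintype F] (hF : Fintype.card F = 8 ^ 2) {b : Fin 3 → Fin 3 → F} (hb : HB 8 b) (ρ ω : F) (hρ : ρ ^ 3 = ρ + 1) (hω : ω ^ 2 = ω + 1) (h2 : (2 : F) = 0) : actv (lEl hF b (0 : F) (1 + ρ : F)) (vec b (0 : F) (1 : F) (0 : F)) = vec b (0 : F) (1 : F) (0 : F) :=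
  (lEl_vec hF hb (0 : F) (1 + ρ : F) (val_8_t ρ ω hρ hω h2) (0 : F) (1 : F) (0 : F)).trans (vec_congr b
    (by linear_combination (0 : F) * h2)
    (by linear_combination (0 : F) * h2)
    (by linear_combination (0 : F) * h2))

theorem step_8_1_1 {F : Type*} [Field F] [Fintype F] (hF : Fintype.card F = 8 ^ 2) {b : Fin 3 → Fin 3 → F} (hb : HB 8 b) (ρ ω : F) (hρ : ρ ^ 3 = ρ + 1) (hω : ω ^ 2 = ω + 1) (h2 : (2 : F) = 0) : actv (yEl hF b (1 : F) (ω + ρ ^ 2 : F)) (vec b (0 : F) (1 : F) (0 : F)) = vec b (1 : F) (1 : F) (0 : F) :=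
  (yEl_vec hF hb (1 : F) (ω + ρ ^ 2 : F) (val_8_y ρ ω hρ hω h2) (0 : F) (1 : F) (0 : F)).trans (vec_congr b
    (by linear_combination (0 : F) * h2)
    (by linear_combination (0 : F) * h2)
    (by linear_combination (0 : F) * h2))

theorem step_8_1_2 {F : Type*} [Field F] [Fintype F] (hF : Fintype.card F = 8 ^ 2) {b : Fin 3 → Fin 3 → F} (hb : HB 8 b) (ρ ω : F) (hρ : ρ ^ 3 = ρ + 1) (hω : ω ^ 2 = ω + 1) (h2 : (2 : F) = 0) : actv (dEl hF b (ρ + ρ * ω + ρ ^ 2 : F) (ρ + ρ ^ 2 * ω : F) (ρ + ρ * ω + ρ ^ 2 : F)) (vec b (1 : F) (1 : F) (0 : F)) = vec b (ρ + ρ * ω + ρ ^ 2 : F) (ρ + ρ ^ 2 * ω : F) (0 : F) :=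
  (dEl_vec hF hb (ρ + ρ * ω + ρ ^ 2 : F) (ρ + ρ ^ 2 * ω : F) (ρ + ρ * ω + ρ ^ 2 : F) (val_8_Z ρ ω hρ hω h2).1 (val_8_Z ρ ω hρ hω h2).2.1 (val_8_Z ρ ω hρ hω h2).2.2 (1 : F) (1 : F) (0 : F)).trans (vec_congr b
    (by linear_combination (0 : F) * h2)
    (by linear_combination (0 : F) * h2)
    (by linear_combination (0 : F) * h2))

theorem step_8_1_3 {F : Type*} [Field F] [Fintype F] (hF : Fintype.card F = 8 ^ 2) {b : Fin 3 → Fin 3 → F} (hb : HB 8 b) (ρ ω : F) (hρ : ρ ^ 3 = ρ + 1) (hω : ω ^ 2 = ω + 1) (h2 : (2 : F) = 0) : actv (yEl hF b (1 : F) (ω + ρ ^ 2 : F)) (vec b (ρ + ρ * ω + ρ ^ 2 : F) (ρ + ρ ^ 2 * ω : F) (0 : F)) = vec b (ρ * ω + ρ ^ 2 + ρ ^ 2 * ω : F) (ρ + ρ ^ 2 * ω : F) (0 : F) :=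
  (yEl_vec hF hb (1 : F) (ω + ρ ^ 2 : F) (val_8_y ρ ω hρ hω h2) (ρ + ρ * ω + ρ ^ 2 : F) (ρ + ρ ^ 2 * ω : F) (0 : F)).trans (vec_congr b
    (by linear_combination ((1)*ρ) * h2)
    (by linear_combination (0 : F) * h2)
    (by linear_combination (0 : F) * h2))

theorem step_8_1_4 {F : Type*} [Field F] [Fintype F] (hF : Fintype.card F = 8 ^ 2) {b : Fin 3 → Fin 3 → F} (hb : HB 8 b) (ρ ω : F) (hρ : ρ ^ 3 = ρ + 1) (hω : ω ^ 2 = ω + 1) (h2 : (2 : F) = 0) : actv (dEl hF b (ρ + ρ * ω + ρ ^ 2 : F) (ρ + ρ ^ 2 * ω : F) (ρ + ρ * ω + ρ ^ 2 : F)) (vec b (ρ * ω + ρ ^ 2 + ρ ^ 2 * ω : F) (ρ + ρ ^ 2 * ω : F) (0 : F)) = vec b (ρ + ρ * ω + ρ ^ 2 * ω : F) (ρ + ρ * ω + ρ ^ 2 * ω : F) (0 : F) :=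
  (dEl_vec hF hb (ρ + ρ * ω + ρ ^ 2 : F) (ρ + ρ ^ 2 * ω : F) (ρ + ρ * ω + ρ ^ 2 : F) (val_8_Z ρ ω hρ hω h2).1 (val_8_Z ρ ω hρ hω h2).2.1 (val_8_Z ρ ω hρ hω h2).2.2 (ρ * ω + ρ ^ 2 + ρ ^ 2 * ω : F) (ρ + ρ ^ 2 * ω : F) (0 : F)).trans (vec_congr b
    (by linear_combination ((1) + (3)*ω + (1)*ω^2 + (1)*ρ + (1)*ρ*ω) * hρ + ((1) + (1)*ρ + (1)*ρ^2) * hω + ((1) + (2)*ω + (1)*ρ + (2)*ρ*ω + (1)*ρ^2 + (1)*ρ^2*ω) * h2)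
    (by linear_combination ((2)*ω + (1)*ρ*ω^2) * hρ + ((1)*ρ + (1)*ρ^2) * hω + ((1)*ω + (1)*ρ*ω + (1)*ρ^2) * h2)
    (by linear_combination (0 : F) * h2))

theorem step_8_1_5 {F : Type*} [Field F] [Fintype F] (hF : Fintype.card F = 8 ^ 2) {b : Fin 3 → Fin 3 → F} (hb : HB 8 b) (ρ ω : F) (hρ : ρ ^ 3 = ρ + 1) (hω : ω ^ 2 = ω + 1) (h2 : (2 : F) = 0) : actv (yEl hF b (1 : F) (ω + ρ ^ 2 : F)) (vec b (ρ + ρ * ω + ρ ^ 2 * ω : F) (ρ + ρ * ω + ρ ^ 2 * ω : F) (0 : F)) = vec b (0 : F) (ρ + ρ * ω + ρ ^ 2 * ω : F) (0 : F) :=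
  (yEl_vec hF hb (1 : F) (ω + ρ ^ 2 : F) (val_8_y ρ ω hρ hω h2) (ρ + ρ * ω + ρ ^ 2 * ω : F) (ρ + ρ * ω + ρ ^ 2 * ω : F) (0 : F)).trans (vec_congr b
    (by linear_combination ((1)*ρ + (1)*ρ*ω + (1)*ρ^2*ω) * h2)
    (by linear_combination (0 : F) * h2)
    (by linear_combination (0 : F) * h2))

theorem step_8_1_6 {F : Type*} [Field F] [Fintype F] (hF : Fintype.card F = 8 ^ 2) {b : Fin 3 → Fin 3 → F} (hb : HB 8 b) (ρ ω : F) (hρ : ρ ^ 3 = ρ + 1) (hω : ω ^ 2 = ω + 1) (h2 : (2 : F) = 0) : actv (lEl hF b (0 : F) (1 + ρ : F)) (vec b (0 : F) (ρ + ρ * ω + ρ ^ 2 * ω : F) (0 : F)) = vec b (0 : F) (ρ + ρ * ω + ρ ^ 2 * ω : F) (0 : F) :=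
  (lEl_vec hF hb (0 : F) (1 + ρ : F) (val_8_t ρ ω hρ hω h2) (0 : F) (ρ + ρ * ω + ρ ^ 2 * ω : F) (0 : F)).trans (vec_congr b
    (by linear_combination (0 : F) * h2)
    (by linear_combination (0 : F) * h2)
    (by linear_combination (0 : F) * h2))

theorem step_8_1_7 {F : Type*} [Field F] [Fintype F] (hF : Fintype.card F = 8 ^ 2) {b : Fin 3 → Fin 3 → F} (hb : HB 8 b) (ρ ω : F) (hρ : ρ ^ 3 = ρ + 1) (hω : ω ^ 2 = ω + 1) (h2 : (2 : F) = 0) : actv (yEl hF b (1 : F) (ω + ρ ^ 2 : F)) (vec b (0 : F) (ρ + ρ * ω + ρ ^ 2 * ω : F) (0 : F)) = vec b (ρ + ρ * ω + ρ ^ 2 * ω : F) (ρ + ρ * ω + ρ ^ 2 * ω : F) (0 : F) :=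
  (yEl_vec hF hb (1 : F) (ω + ρ ^ 2 : F) (val_8_y ρ ω hρ hω h2) (0 : F) (ρ + ρ * ω + ρ ^ 2 * ω : F) (0 : F)).trans (vec_congr b
    (by linear_combination (0 : F) * h2)
    (by linear_combination (0 : F) * h2)
    (by linear_combination (0 : F) * h2))

theorem step_8_1_8 {F : Type*} [Field F] [Fintype F] (hF : Fintype.card F = 8 ^ 2) {b : Fin 3 → Fin 3 → F} (hb : HB 8 b) (ρ ω : F) (hρ : ρ ^ 3 = ρ + 1) (hω : ω ^ 2 = ω + 1) (h2 : (2 : F) = 0) : actv (dEl hF b (ρ * ω + ρ ^ 2 : F) (ρ + ρ ^ 2 + ρ ^ 2 * ω : F) (ρ * ω + ρ ^ 2 : F)) (vec b (ρ + ρ * ω + ρ ^ 2 * ω : F) (ρ + ρ * ω + ρ ^ 2 * ω : F) (0 : F)) = vec b (ρ * ω + ρ ^ 2 + ρ ^ 2 * ω : F) (ρ + ρ ^ 2 * ω : F) (0 : F) :=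
  (dEl_vec hF hb (ρ * ω + ρ ^ 2 : F) (ρ + ρ ^ 2 + ρ ^ 2 * ω : F) (ρ * ω + ρ ^ 2 : F) (val_8_z ρ ω hρ hω h2).1 (val_8_z ρ ω hρ hω h2).2.1 (val_8_z ρ ω hρ hω h2).2.2 (ρ + ρ * ω + ρ ^ 2 * ω : F) (ρ + ρ * ω + ρ ^ 2 * ω : F) (0 : F)).trans (vec_congr b
    (by linear_combination ((1) + (1)*ω + (1)*ω^2 + (1)*ρ*ω) * hρ + ((1) + (1)*ρ + (1)*ρ^2) * hω + ((1) + (1)*ω + (1)*ρ + (1)*ρ*ω + (1)*ρ^2*ω) * h2)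
    (by linear_combination ((1) + (3)*ω + (1)*ω^2 + (1)*ρ*ω + (1)*ρ*ω^2) * hρ + ((1) + (2)*ρ + (1)*ρ^2) * hω + ((1) + (2)*ω + (1)*ρ + (3)*ρ*ω + (1)*ρ^2 + (1)*ρ^2*ω) * h2)
    (by linear_combination (0 : F) * h2))

theorem step_8_1_9 {F : Type*} [Field F] [Fintype F] (hF : Fintype.card F = 8 ^ 2) {b : Fin 3 → Fin 3 → F} (hb : HB 8 b) (ρ ω : F) (hρ : ρ ^ 3 = ρ + 1) (hω : ω ^ 2 = ω + 1) (h2 : (2 : F) = 0) : actv (yEl hF b (1 : F) (ω + ρ ^ 2 : F)) (vec b (ρ * ω + ρ ^ 2 + ρ ^ 2 * ω : F) (ρ + ρ ^ 2 * ω : F) (0 : F)) = vec b (ρ + ρ * ω + ρ ^ 2 : F) (ρ + ρ ^ 2 * ω : F) (0 : F) :=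
  (yEl_vec hF hb (1 : F) (ω + ρ ^ 2 : F) (val_8_y ρ ω hρ hω h2) (ρ * ω + ρ ^ 2 + ρ ^ 2 * ω : F) (ρ + ρ ^ 2 * ω : F) (0 : F)).trans (vec_congr b
    (by linear_combination ((1)*ρ^2*ω) * h2)
    (by linear_combination (0 : F) * h2)
    (by linear_combination (0 : F) * h2))

theorem step_8_1_10 {F : Type*} [Field F] [Fintype F] (hF : Fintype.card F = 8 ^ 2) {b : Fin 3 → Fin 3 → F} (hb : HB 8 b) (ρ ω : F) (hρ : ρ ^ 3 = ρ + 1) (hω : ω ^ 2 = ω + 1) (h2 : (2 : F) = 0) : actv (dEl hF b (ρ * ω + ρ ^ 2 : F) (ρ + ρ ^ 2 + ρ ^ 2 * ω : F) (ρ * ω + ρ ^ 2 : F)) (vec b (ρ + ρ * ω + ρ ^ 2 : F) (ρ + ρ ^ 2 * ω : F) (0 : F)) = vec b (1 : F) (1 : F) (0 : F) :=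
  (dEl_vec hF hb (ρ * ω + ρ ^ 2 : F) (ρ + ρ ^ 2 + ρ ^ 2 * ω : F) (ρ * ω + ρ ^ 2 : F) (val_8_z ρ ω hρ hω h2).1 (val_8_z ρ ω hρ hω h2).2.1 (val_8_z ρ ω hρ hω h2).2.2 (ρ + ρ * ω + ρ ^ 2 : F) (ρ + ρ ^ 2 * ω : F) (0 : F)).trans (vec_congr b
    (by linear_combination ((1) + (2)*ω + (1)*ρ) * hρ + ((1)*ρ^2) * hω + ((1)*ω + (1)*ρ + (1)*ρ*ω + (1)*ρ^2 + (1)*ρ^2*ω) * h2)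
    (by linear_combination ((1) + (2)*ω + (1)*ρ*ω + (1)*ρ*ω^2) * hρ + ((1)*ρ + (1)*ρ^2) * hω + ((1)*ω + (1)*ρ + (2)*ρ*ω + (1)*ρ^2 + (1)*ρ^2*ω) * h2)
    (by linear_combination (0 : F) * h2))

theorem step_8_1_11 {F : Type*} [Field F] [Fintype F] (hF : Fintype.card F = 8 ^ 2) {b : Fin 3 → Fin 3 → F} (hb : HB 8 b) (ρ ω : F) (hρ : ρ ^ 3 = ρ + 1) (hω : ω ^ 2 = ω + 1) (h2 : (2 : F) = 0) : actv (yEl hF b (1 : F) (ω + ρ ^ 2 : F)) (vec b (1 : F) (1 : F) (0 : F)) = vec b (0 : F) (1 : F) (0 : F) :=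
  (yEl_vec hF hb (1 : F) (ω + ρ ^ 2 : F) (val_8_y ρ ω hρ hω h2) (1 : F) (1 : F) (0 : F)).trans (vec_congr b
    (by linear_combination ((1)) * h2)
    (by linear_combination (0 : F) * h2)
    (by linear_combination (0 : F) * h2))

theorem step_8_1_12 {F : Type*} [Field F] [Fintype F] (hF : Fintype.card F = 8 ^ 2) {b : Fin 3 → Fin 3 → F} (hb : HB 8 b) (ρ ω : F) (hρ : ρ ^ 3 = ρ + 1) (hω : ω ^ 2 = ω + 1) (h2 : (2 : F) = 0) : actv (lEl hF b (0 : F) (1 + ρ : F)) (vec b (0 : F) (1 : F) (0 : F)) = vec b (0 : F) (1 : F) (0 : F) :=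
  (lEl_vec hF hb (0 : F) (1 + ρ : F) (val_8_t ρ ω hρ hω h2) (0 : F) (1 : F) (0 : F)).trans (vec_congr b
    (by linear_combination (0 : F) * h2)
    (by linear_combination (0 : F) * h2)
    (by linear_combination (0 : F) * h2))

theorem word_8 {F : Type*} [Field F] [Fintype F] (hF : Fintype.card F = 8 ^ 2) {b : Fin 3 → Fin 3 → F} (hb : HB 8 b) (ρ ω : F) (hρ : ρ ^ 3 = ρ + 1) (hω : ω ^ 2 = ω + 1) (h2 : (2 : F) = 0) (Hs : Subgroup ↥(Cfsg.SU 3 F 8))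
    (hy : yEl hF b (1 : F) (ω + ρ ^ 2 : F) ∈ Hs) (ht : lEl hF b 0 (1 + ρ : F) ∈ Hs)
    (hz : dEl hF b (ρ * ω + ρ ^ 2 : F) ((ρ * ω + ρ ^ 2 : F)⁻¹ ^ 2) (ρ * ω + ρ ^ 2 : F) ∈ Hs) :
    ∃ W ∈ Hs, ∃ d0 d1 κ : F, actv W (b 0) = d0 • b 0 ∧ actv W (b 1) = d1 • b 1 + κ • b 0 ∧
      Gen2 (ρ * ω + ρ ^ 2 : F) (d0 * d1 ^ 8) := by
  have elinv : (ρ * ω + ρ ^ 2 : F)⁻¹ = (ρ + ρ * ω + ρ ^ 2 : F) := inv_eq_of_mul_eq_one_right (by linear_combination ((1) + (2)*ω + (1)*ρ) * hρ + ((1)*ρ^2) * hω + ((1)*ω + (1)*ρ + (1)*ρ*ω + (1)*ρ^2 + (1)*ρ^2*ω) * h2)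
  have el2 : (ρ * ω + ρ ^ 2 : F)⁻¹ ^ 2 = (ρ + ρ ^ 2 + ρ ^ 2 * ω : F) := by rw [elinv]; linear_combination ((2) + (2)*ω + (1)*ρ) * hρ + ((1)*ρ^2) * hω + ((1) + (1)*ω + (1)*ρ + (1)*ρ*ω + (1)*ρ^2 + (1)*ρ^2*ω) * h2
  rw [el2] at hz
  have el2inv : (ρ + ρ ^ 2 + ρ ^ 2 * ω : F)⁻¹ = (ρ + ρ ^ 2 * ω : F) := inv_eq_of_mul_eq_one_right (by linear_combination ((1) + (2)*ω + (1)*ρ*ω + (1)*ρ*ω^2) * hρ + ((1)*ρ + (1)*ρ^2) * hω + ((1)*ω + (1)*ρ + (2)*ρ*ω + (1)*ρ^2 + (1)*ρ^2*ω) * h2)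
  have eZ : (dEl hF b (ρ * ω + ρ ^ 2 : F) (ρ + ρ ^ 2 + ρ ^ 2 * ω : F) (ρ * ω + ρ ^ 2 : F))⁻¹ = dEl hF b (ρ + ρ * ω + ρ ^ 2 : F) (ρ + ρ ^ 2 * ω : F) (ρ + ρ * ω + ρ ^ 2 : F) := by
    rw [dEl_inv hF hb _ _ _ (val_8_z ρ ω hρ hω h2).1 (val_8_z ρ ω hρ hω h2).2.1 (val_8_z ρ ω hρ hω h2).2.2, elinv, el2inv]
  have hZm : dEl hF b (ρ + ρ * ω + ρ ^ 2 : F) (ρ + ρ ^ 2 * ω : F) (ρ + ρ * ω + ρ ^ 2 : F) ∈ Hs := by rw [← eZ]; exact Hs.inv_mem hz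
  refine ⟨(lEl hF b (0 : F) (1 + ρ : F)) * (yEl hF b (1 : F) (ω + ρ ^ 2 : F)) * (dEl hF b (ρ * ω + ρ ^ 2 : F) (ρ + ρ ^ 2 + ρ ^ 2 * ω : F) (ρ * ω + ρ ^ 2 : F)) * (yEl hF b (1 : F) (ω + ρ ^ 2 : F)) * (dEl hF b (ρ * ω + ρ ^ 2 : F) (ρ + ρ ^ 2 + ρ ^ 2 * ω : F) (ρ * ω + ρ ^ 2 : F)) * (yEl hF b (1 : F) (ω + ρ ^ 2 : F)) * (lEl hF b (0 : F) (1 + ρ : F)) * (yEl hF b (1 : F) (ω + ρ ^ 2 : F)) * (dEl hF b (ρ + ρ * ω + ρ ^ 2 : F) (ρ + ρ ^ 2 * ω : F) (ρ + ρ * ω + ρ ^ 2 : F)) * (yEl hF b (1 : F) (ω + ρ ^ 2 : F)) * (dEl hF b (ρ + ρ * ω + ρ ^ 2 : F) (ρ + ρ ^ 2 * ω : F) (ρ + ρ * ω + ρ ^ 2 : F)) * (yEl hF b (1 : F) (ω + ρ ^ 2 : F)) * (lEl hF b (0 : F) (1 + ρ : F)), Hs.mul_mem (Hs.mul_mem (Hs.mul_mem (Hs.mul_mem (Hs.mul_mem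 (Hs.mul_mem (Hs.mul_mem (Hs.mul_mem (Hs.mul_mem (Hs.mul_mem (Hs.mul_mem (Hs.mul_mem (ht) hy) hz) hy) hz) hy) ht) hy) hZm) hy) hZm) hy) ht, (ρ ^ 2 : F), (1 : F), (0 : F), ?_, ?_, ?_⟩
  · rw [← vec_eq_smul0 b, b0_eq_vec b]
    simp only [actv_mul]
    rw [step_8_0_0 hF hb ρ ω hρ hω h2, step_8_0_1 hF hb ρ ω hρ hω h2, step_8_0_2 hF hb ρ ω hρ hω h2, step_8_0_3 hF hb ρ ω hρ hω h2, step_8_0_4 hF hb ρ ω hρ hω h2, step_8_0_5 hF hb ρ ω hρ hω h2, step_8_0_6 hF hb ρ ω hρ hω h2, step_8_0_7 hF hb ρ ω hρ hω h2, step_8_0_8 hF hb ρ ω hρ hω h2, step_8_0_9 hF hb ρ ω hρ hω h2, step_8_0_10 hF hb ρ ω hρ hω h2, step_8_0_11 hF hb ρ ω hρ hω h2, step_8_0_12 hF hb ρ ω hρ hω h2]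
  · rw [← vec_eq_smul1 b, b1_eq_vec b]
    simp only [actv_mul]
    rw [step_8_1_0 hF hb ρ ω hρ hω h2, step_8_1_1 hF hb ρ ω hρ hω h2, step_8_1_2 hF hb ρ ω hρ hω h2, step_8_1_3 hF hb ρ ω hρ hω h2, step_8_1_4 hF hb ρ ω hρ hω h2, step_8_1_5 hF hb ρ ω hρ hω h2, step_8_1_6 hF hb ρ ω hρ hω h2, step_8_1_7 hF hb ρ ω hρ hω h2, step_8_1_8 hF hb ρ ω hρ hω h2, step_8_1_9 hF hb ρ ω hρ hω h2, step_8_1_10 hF hb ρ ω hρ hω h2, step_8_1_11 hF hb ρ ω hρ hω h2, step_8_1_12 hF hb ρ ω hρ hω h2]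
  · have e : (ρ ^ 2 : F) * (1 : F) ^ 8 = ρ ^ 2 := by linear_combination (0 : F) * h2
    rw [e]
    refine gen2_eight hF ρ (ρ * ω + ρ ^ 2 : F) hρ ?_ ?_
    · intro h
      have h1 : ((ρ * ω + ρ ^ 2 : F) ^ 3 - 1) * (ω : F) = 1 := by linear_combination ((1)*ω + (3)*ω^2 + (1)*ω^4 + (1)*ρ*ω + (3)*ρ*ω^3 + (3)*ρ^2*ω^2 + (1)*ρ^3*ω) * hρ + ((5) + (1)*ω + (1)*ω^2 + (8)*ρ + (4)*ρ*ω + (1)*ρ*ω^2 + (6)*ρ^2 + (3)*ρ^2*ω) * hω + ((2) + (3)*ω + (4)*ρ + (7)*ρ*ω + (3)*ρ^2 + (5)*ρ^2*ω) * h2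
      rw [h, sub_self, zero_mul] at h1
      exact zero_ne_one h1
    · linear_combination ((28) + (189)*ω + (576)*ω^2 + (1008)*ω^3 + (1134)*ω^4 + (882)*ω^5 + (420)*ω^6 + (144)*ω^7 + (27)*ω^8 + (2)*ω^9 + (21)*ρ + (144)*ρ*ω + (432)*ρ*ω^2 + (756)*ρ*ω^3 + (882)*ρ*ω^4 + (630)*ρ*ω^5 + (336)*ρ*ω^6 + (108)*ρ*ω^7 + (18)*ρ*ω^8 + (2)*ρ*ω^9 + (16)*ρ^2 + (108)*ρ^2*ω + (324)*ρ^2*ω^2 + (588)*ρ^2*ω^3 + (630)*ρ^2*ω^4 + (504)*ρ^2*ω^5 + (252)*ρ^2*ω^6 + (72)*ρ^2*ω^7 + (18)*ρ^2*ω^8 + (1)*ρ^2*ω^9 + (12)*ρ^3 + (81)*ρ^3*ω + (252)*ρ^3*ω^2 + (420)*ρ^3*ω^3 + (504)*ρ^3*ω^4 + (378)*ρ^3*ω^5 + (168)*ρ^3*ω^6 + (72)*ρ^3*ω^7 + (9)*ρ^3*ω^8 + (1)*ρ^3*ω^9 + (9)*ρ^4 + (63)*ρ^4*ω + (180)*ρ^4*ω^2 + (336)*ρ^4*ω^3 + (378)*ρ^4*ω^4 + (252)*ρ^4*ω^5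 + (168)*ρ^4*ω^6 + (36)*ρ^4*ω^7 + (9)*ρ^4*ω^8 + (1)*ρ^4*ω^9 + (7)*ρ^5 + (45)*ρ^5*ω + (144)*ρ^5*ω^2 + (252)*ρ^5*ω^3 + (252)*ρ^5*ω^4 + (252)*ρ^5*ω^5 + (84)*ρ^5*ω^6 + (36)*ρ^5*ω^7 + (9)*ρ^5*ω^8 + (5)*ρ^6 + (36)*ρ^6*ω + (108)*ρ^6*ω^2 + (168)*ρ^6*ω^3 + (252)*ρ^6*ω^4 + (126)*ρ^6*ω^5 + (84)*ρ^6*ω^6 + (36)*ρ^6*ω^7 + (1)*ρ^6*ω^9 + (4)*ρ^7 + (27)*ρ^7*ω + (72)*ρ^7*ω^2 + (168)*ρ^7*ω^3 + (126)*ρ^7*ω^4 + (126)*ρ^7*ω^5 + (84)*ρ^7*ω^6 + (9)*ρ^7*ω^8 + (3)*ρ^8 + (18)*ρ^8*ω + (72)*ρ^8*ω^2 + (84)*ρ^8*ω^3 + (126)*ρ^8*ω^4 + (126)*ρ^8*ω^5 + (36)*ρ^8*ω^7 + (2)*ρ^9 + (18)*ρ^9*ω + (36)*ρ^9*ω^2 + (84)*ρ^9*ω^3 + (126)*ρ^9*ω^4 + (84)*ρ^9*ω^6 + (2)*ρ^10 + (9)*ρ^10*ω + (36)*ρ^10*ω^2 + (84)*ρ^10*ω^3 + (126)*ρ^10*ω^5 + (1)*ρ^11 + (9)*ρ^11*ω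 + (36)*ρ^11*ω^2 + (126)*ρ^11*ω^4 + (1)*ρ^12 + (9)*ρ^12*ω + (84)*ρ^12*ω^3 + (1)*ρ^13 + (36)*ρ^13*ω^2 + (9)*ρ^14*ω + (1)*ρ^15) * hρ + ((10143) + (6128)*ω + (3439)*ω^2 + (1681)*ω^3 + (624)*ω^4 + (175)*ω^5 + (29)*ω^6 + (2)*ω^7 + (17805)*ρ + (10744)*ρ*ω + (6053)*ρ*ω^2 + (2927)*ρ*ω^3 + (1110)*ρ*ω^4 + (305)*ρ*ω^5 + (49)*ρ*ω^6 + (4)*ρ*ω^7 + (13437)*ρ^2 + (8115)*ρ^2*ω + (4566)*ρ^2*ω^2 + (2205)*ρ^2*ω^3 + (849)*ρ^2*ω^4 + (222)*ρ^2*ω^5 + (39)*ρ^2*ω^6 + (3)*ρ^2*ω^7) * hω + ((5085) + (8230)*ω + (8927)*ρ + (14441)*ρ*ω + (6737)*ρ^2 + (10902)*ρ^2*ω) * h2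

theorem params_8 {F : Type*} [Field F] [Fintype F] (hF : Fintype.card F = 8 ^ 2) :
    ∃ lam c a β θ : F, Rel 8 lam c a β θ ∧
      ∀ (b : Fin 3 → Fin 3 → F), HB 8 b → ∀ Hs : Subgroup ↥(Cfsg.SU 3 F 8), yEl hF b a β ∈ Hs →
        lEl hF b 0 c ∈ Hs → dEl hF b lam (lam⁻¹ ^ 2) lam ∈ Hs →
        ∃ W ∈ Hs, ∃ d0 d1 κ : F, actv W (b 0) = d0 • b 0 ∧ actv W (b 1) = d1 • b 1 + κ • b 0 ∧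
          Gen2 lam (d0 * d1 ^ 8) := by
  obtain ⟨ρ, ω, hρ, hω, h2⟩ := exists_rho_omega hF
  exact ⟨(ρ * ω + ρ ^ 2 : F), (1 + ρ : F), (1 : F), (ω + ρ ^ 2 : F), (ω : F), rel_8 ρ ω hρ hω h2,
    fun b hb Hs hy ht hz => word_8 hF hb ρ ω hρ hω h2 Hs hy ht hz⟩

end Cfsg.Agent.Helper98.UT
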