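import Mathlib
import Cfsg.Agent.Lib.Helper98.UT1
import Cfsg.Agent.Lib.Helper98.UTPieces
import Cfsg.Agent.Lib.Helper98.UTX5
import Cfsg.Agent.Lib.Helper98.UTX8

/-! UT project (S2283): the parameters (generic `q`, and `q = 5`, `q = 8` from the generated files). -/

set_option autoImplicit false
set_option quotPrecheck false
set_option linter.unusedSectionVars false
set_option linter.unusedVariables false

namespace Cfsg.Agent.Helper98.UT

open Matrix Cfsg Cfsg.Agent.Helper13 Cfsg.Agent.Helper87.PsuA Cfsg.Agent.Helper87.PsuB0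
  Cfsg.Agent.Helper98.UTP

variable {F : Type*} [Field F] [Fintype F] {q : ℕ}

/-- (P1) all parameters, with an element `W` of the group fixing the point `e` (`W = 1` generically). -/
theorem exists_params (hF : Fintype.card F = q ^ 2) (hq : 3 ≤ q) :
    ∃ lam c a β θ : F, Rel q lam c a β θ ∧
      ∀ (b : Fin 3 → Fin 3 → F), HB q b → ∀ Hs : Subgroup ↥(Cfsg.SU 3 F q), yEl hF b a β ∈ Hs →
        lEl hF b 0 c ∈ Hs → dEl hF b lam (lam⁻¹ ^ 2) lam ∈ Hs →
        ∃ W ∈ Hs, ∃ d0 d1 κ : F, actv W (b 0) = d0 • b 0 ∧ actv W (b 1) = d1 • b 1 + κ • b 0 ∧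
          Gen2 lam (d0 * d1 ^ q) := by
  by_cases h5 : q = 5
  · subst h5
    exact params_5 hF
  by_cases h8 : q = 8
  · subst h8
    exact params_8 hF
  obtain ⟨lam, hl, hl2, hgen⟩ := exists_lam hF hq h5 h8
  obtain ⟨c, a, β, θ, hR⟩ := exists_rest hF lam hl hl2
  refine ⟨lam, c, a, β, θ, hR, fun b hb Hs hy ht hz => ⟨1, Hs.one_mem, 1, 1, 0, ?_, ?_, ?_⟩⟩
  · rw [actv_one, one_smul]
  · rw [actv_one, one_smul, zero_smul, add_zero]
  · rw [one_pow, mul_one]
    exact hgen

end Cfsg.Agent.Helper98.UT
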