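import Mathlib
import Cfsg.Agent.Lib.Helper98.UT0
import Cfsg.Agent.Lib.Helper98.UTPieces
import Cfsg.Agent.Lib.Helper98.UTParams

/-! UT project (S2283): final assembly. -/

set_option autoImplicit false
set_option quotPrecheck false
set_option linter.unusedSectionVars false
set_option linter.unusedVariables false

namespace Cfsg.Agent.Helper98.UT

open Matrix Cfsg Cfsg.Agent.Helper13 Cfsg.Agent.Helper87.PsuA Cfsg.Agent.Helper87.PsuB0
  Cfsg.Agent.Helper98.UTP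

variable {F : Type*} [Field F] [Fintype F] {q : ℕ}

theorem main (hq : 3 ≤ q) (hF : Fintype.card F = q ^ 2) :
    ∃ u g : ↥(Cfsg.SU 3 F q),
      (IsNilpotent (((u : Matrix.SpecialLinearGroup (Fin 3) F) : Matrix (Fin 3) (Fin 3) F) - 1) ∧
        (((u : Matrix.SpecialLinearGroup (Fin 3) F) : Matrix (Fin 3) (Fin 3) F) - 1) ^ (3 - 1) ≠ 0) ∧
      Subgroup.closure ({u, g * u * g⁻¹} : Set ↥(Cfsg.SU 3 F q)) = ⊤ := by
  obtain ⟨b, hb'⟩ := Cfsg.Agent.Helper87.PsuHB.exists_hb hF 3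
  have hb : HB q b := hb'
  obtain ⟨lam, c, a, β, θ, hR, hW⟩ := exists_params hF hq
  obtain ⟨hl0, hlq, -, -, -, -, -, -, -, ha0⟩ := rel_facts hF hR
  obtain ⟨g, hg⟩ := exists_conj hF hb hR
  refine ⟨yEl hF b a β, g, yEl_regular hF hb a β hR.ab ha0, ?_⟩
  set y := yEl hF b a β with hy_def
  set Hs := Subgroup.closure ({y, g * y * g⁻¹} : Set ↥(Cfsg.SU 3 F q)) with hHs
  have hy : y ∈ Hs := Subgroup.subset_closure (by simp)
  have hv : g * y * g⁻¹ ∈ Hs := Subgroup.subset_closure (by simp)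
  have hs : dEl hF b lam (lam⁻¹ ^ 2) lam * lEl hF b 0 c ∈ Hs := by
    have e : dEl hF b lam (lam⁻¹ ^ 2) lam * lEl hF b 0 c = (g * y * g⁻¹) * y⁻¹ := by
      rw [hg, mul_assoc, mul_inv_cancel, mul_one]
    rw [e]
    exact Hs.mul_mem hv (Hs.inv_mem hy)
  obtain ⟨ht, hz⟩ := t_z_mem hF hb hR.lamN hR.cT Hs hs
  obtain ⟨W, hWs, d0, d1, κ, hW0, hW1, hgen⟩ := hW b hb Hs hy ht hz
  obtain ⟨S, hS⟩ := AH_addSubgroup hF hb Hs
  have hinvq : (lam⁻¹ ^ 2) ^ q = lam ^ 2 := by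
    rw [← pow_mul, mul_comm, pow_mul, inv_pow, hlq, inv_inv]
  have hzact := dEl_act hF hb lam (lam⁻¹ ^ 2) lam hR.lamN
    (by rw [hinvq, inv_pow, inv_mul_cancel₀ (pow_ne_zero 2 hl0)])
    (by field_simp)
  have hST : S = ⊤ := by
    refine hgen S ⟨a, (hS a).2 ⟨β, hR.ab, hy⟩, ha0⟩ (fun x hx => ?_) (fun x hx => ?_)
    · have h1 : actv (dEl hF b lam (lam⁻¹ ^ 2) lam) (b 1) = (lam⁻¹ ^ 2) • b 1 + (0 : F) • b 0 := by
        rw [hzact.2.1, zero_smul, add_zero]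
      have := AH_chi hF hb Hs hz hzact.1 h1 ((hS x).1 hx)
      rw [hinvq] at this
      have e : lam ^ 3 * x = lam * lam ^ 2 * x := by ring
      rw [e]
      exact (hS _).2 this
    · exact (hS _).2 (AH_chi hF hb Hs hWs hW0 hW1 ((hS x).1 hx))
  have hall : ∀ ω : F, ω ∈ AH hF b Hs := fun ω => (hS ω).1 (by rw [hST]; exact AddSubgroup.mem_top ω)
  exact top_of_Q hF hb hq Hs (Q_le hF hb Hs hall) hR.c0 hR.cT ht

end Cfsg.Agent.Helper98.UT
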