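import Mathlib
import Cfsg.Agent.Lib.Helper98.UTMain

/-! UT project: the case `n = 3` of S2282 (three conjugate regular unipotents) from S2283 (two conjugates),
in the exact shape of the statement S2282 with `n := 3`. -/

set_option autoImplicit false

namespace Cfsg.Agent.Helper98.UT

open Matrix Cfsg

theorem three_conj_n3 {F : Type*} [Field F] [Fintype F] (q : ℕ) (hF : Fintype.card F = q ^ 2)
    (h32 : ¬ ((3 : ℕ) = 3 ∧ q = 2)) :
    ∃ u g h : ↥(Cfsg.SU 3 F q),
      (IsNilpotent (((u : Matrix.SpecialLinearGroup (Fin 3) F) : Matrix (Fin 3) (Fin 3) F) - 1) ∧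
        (((u : Matrix.SpecialLinearGroup (Fin 3) F) : Matrix (Fin 3) (Fin 3) F) - 1) ^ (3 - 1) ≠ 0) ∧
      Subgroup.closure ({u, g * u * g⁻¹, h * u * h⁻¹} : Set ↥(Cfsg.SU 3 F q)) = ⊤ := by
  have hq2 : q ≠ 2 := fun h => h32 ⟨rfl, h⟩
  have hq : 3 ≤ q := by
    have h1 : 1 < Fintype.card F := Fintype.one_lt_card
    rw [hF] at h1
    rcases q with _ | _ | _ | q
    · simp at h1
    · simp at h1
    · exact absurd rfl hq2
    · omega
  obtain ⟨u, g, hreg, hgen⟩ := main hq hF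
  refine ⟨u, g, 1, hreg, ?_⟩
  have e : ({u, g * u * g⁻¹, 1 * u * 1⁻¹} : Set ↥(Cfsg.SU 3 F q)) = {u, g * u * g⁻¹} := by
    rw [one_mul, inv_one, mul_one]
    ext x
    simp only [Set.mem_insert_iff, Set.mem_singleton_iff]
    tauto
  rw [e]
  exact hgen

end Cfsg.Agent.Helper98.UT
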