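import Mathlib
import Cfsg.Agent.Lib.Helper98.WR0
import Cfsg.Agent.Lib.Helper19.WRM3
import Cfsg.Agent.Lib.Helper24.WRW10
import Cfsg.Agent.Lib.Helper24.WRW14
import Cfsg.Agent.Lib.Helper25.WRW16
import Cfsg.Agent.Lib.Helper25.WRW5
import Cfsg.Agent.Lib.Helper30.WRW13
import Cfsg.Agent.Lib.Helper30.WRW15
import Cfsg.Agent.Lib.Helper34.WRW2
import Cfsg.Agent.Lib.Helper37.WRW0
import Cfsg.Agent.Lib.Helper62.WRW6
import Cfsg.Agent.Lib.Helper70.WRW8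
import Cfsg.Agent.Lib.Helper70.WRW9

/-! The pieces of the WR server (S2347) used by the assembly, as delivered by the team; restated with the
signatures of `tools/wr_sigs_helper98.lean.txt`, where the paper proofs are. -/

set_option autoImplicit false

namespace Cfsg.Agent.Helper98.WRP

open Matrix Cfsg.Agent.Helper98.SPE Cfsg.Agent.Helper98.WR

universe u v

/-! ## WEYL : the Weyl operators -/
section WEYL

variable {F : Type*} [Field F] {n : ℕ} (ψ : AddChar F ℂ)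

theorem two_ne_zero_of_odd_card [Fintype F] (h : Odd (Fintype.card F)) : (2 : F) ≠ 0 :=
  Cfsg.Agent.Helper37.WR.two_ne_zero_of_odd_card h

theorem mulOp_intertwines (h2 : (2 : F) ≠ 0) (a : Matrix (Fin n) (Fin n) F) (ha : aᵀ = a) :
    ∃ ε : F, (ε = 1 ∨ ε = -1) ∧ ∀ v : Fin n ⊕ Fin n → F,
      mulOp (fun x : Fin n → F => ψ (ε * (x ⬝ᵥ (a *ᵥ x)) / 2)) * wOp ψ v =
        wOp ψ (aMat a *ᵥ v) * mulOp (fun x : Fin n → F => ψ (ε * (x ⬝ᵥ (a *ᵥ x)) / 2)) :=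
  Cfsg.Agent.Helper30.WR.mulOp_intertwines ψ h2 a ha

variable [Fintype F]

theorem commutant_scalar (hψ : ψ 1 ≠ 1) (A : Module.End ℂ ((Fin n → F) → ℂ))
    (hA : ∀ v : Fin n ⊕ Fin n → F, A * wOp ψ v = wOp ψ v * A) :
    ∃ c : ℂ, A = c • (1 : Module.End ℂ ((Fin n → F) → ℂ)) :=
  Cfsg.Agent.Helper34.WR.commutant_scalar ψ hψ A hA

theorem finrank_oddSub (hodd : Odd (Fintype.card F)) :
    2 * Module.finrank ℂ ↥(oddSub F n) + 1 = Fintype.card F ^ n :=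
  Cfsg.Agent.Helper25.WR.finrank_oddSub hodd

theorem comm_rOp_of_mem (hψ : ψ 1 ≠ 1) (hodd : Odd (Fintype.card F))
    (e : ↥(Matrix.symplecticGroup (Fin n) F) × (Module.End ℂ ((Fin n → F) → ℂ))ˣ)
    (he : e ∈ EGrp ψ n) :
    ((e.2 : (Module.End ℂ ((Fin n → F) → ℂ))ˣ) : Module.End ℂ ((Fin n → F) → ℂ)) * rOp F n =
      rOp F n * ((e.2 : (Module.End ℂ ((Fin n → F) → ℂ))ˣ) : Module.End ℂ ((Fin n → F) → ℂ)) :=
  Cfsg.Agent.Helper62.WR.comm_rOp_of_mem ψ hψ hodd e he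

theorem exists_mem_EGrp (h2 : (2 : F) ≠ 0) (hψ : ψ 1 ≠ 1)
    (g : ↥(Matrix.symplecticGroup (Fin n) F)) :
    ∃ A : (Module.End ℂ ((Fin n → F) → ℂ))ˣ, (g, A) ∈ EGrp ψ n :=
  Cfsg.Agent.Helper24.WR.exists_mem_EGrp ψ h2 hψ g

theorem exists_odd_moved (hn : 2 ≤ n) (h2 : (2 : F) ≠ 0) (hψ : ψ 1 ≠ 1) (ε : F)
    (hε : ε = 1 ∨ ε = -1) (i0 : Fin n) (c : ℂ) :
    ∃ f ∈ oddSub F n,
      (c • mulOp (fun x : Fin n → F =>
        ψ (ε * (x ⬝ᵥ ((Matrix.single i0 i0 (1 : F)) *ᵥ x)) / 2))) f ≠ f :=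
  Cfsg.Agent.Helper24.WR.exists_odd_moved ψ hn h2 hψ ε hε i0 c

end WEYL

/-! ## GEN : abstract group / representation lemmas -/
section GEN

theorem exists_section {G : Type u} {E : Type v} [Group G] [Group E] (π : E →* G)
    (hπ : Function.Surjective π) (hperf : commutator G = ⊤) (f₁ f₂ : E →* ℂˣ)
    (hker : ∀ e : E, π e = 1 → f₁ e = 1 → f₂ e = 1 → e = 1) :
    ∃ s : G →* E, ∀ g : G, π (s g) = g :=
  Cfsg.Agent.Helper70.WR.exists_section π hπ hperf f₁ f₂ hker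

theorem exists_det_restrict {H : Type u} [Group H] {V : Type v} [AddCommGroup V] [Module ℂ V]
    [FiniteDimensional ℂ V] (E : Subgroup (H × (Module.End ℂ V)ˣ)) (U : Submodule ℂ V)
    (hU : ∀ e ∈ E, ∀ f ∈ U, ((e.2 : (Module.End ℂ V)ˣ) : Module.End ℂ V) f ∈ U) :
    ∃ f₂ : ↥E →* ℂˣ, ∀ (e : ↥E) (c : ℂ),
      (((e : H × (Module.End ℂ V)ˣ).2 : (Module.End ℂ V)ˣ) : Module.End ℂ V) = c • 1 →
        ((f₂ e : ℂˣ) : ℂ) = c ^ Module.finrank ℂ ↥U :=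
  Cfsg.Agent.Helper70.WR.exists_det_restrict E U hU

theorem exists_rep_of_invariant {G : Type u} [Group G] {V : Type v} [AddCommGroup V] [Module ℂ V]
    [FiniteDimensional ℂ V] (ρ : Representation ℂ G V) (U : Submodule ℂ V)
    (hU : ∀ g : G, ∀ f ∈ U, ρ g f ∈ U) (d : ℕ) (hd : Module.finrank ℂ ↥U = d) :
    ∃ ρ' : Representation ℂ G (Fin d → ℂ), ∀ g : G, ρ' g = 1 ↔ ∀ f ∈ U, ρ g f = f :=
  Cfsg.Agent.Helper30.WR.exists_rep_of_invariant ρ U hU d hd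

theorem irreducible_of_min {G : Type u} [Group G] [Finite G] {V : Type v} [AddCommGroup V]
    [Module ℂ V] [FiniteDimensional ℂ V] (ρ : Representation ℂ G V) (hne : ∃ g : G, ρ g ≠ 1)
    (hmin : ∀ (W : Type v) [AddCommGroup W] [Module ℂ W] [FiniteDimensional ℂ W]
      (σ : Representation ℂ G W), (∃ g : G, σ g ≠ 1) → Module.finrank ℂ V ≤ Module.finrank ℂ W) :
    ρ.IsIrreducible :=
  Cfsg.Agent.Helper25.WR.irreducible_of_min ρ hne hmin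

end GEN

/-! ## CNT : orbits of `GL_n` on quadratic forms, odd characteristic (`q = |F|`);
`qv S x = ∑_{i ≤ j} S i j x_i x_j`, `bv` its polar form, `congQ g S` = Gram matrix of `x ↦ qv S (g x)`.
On main (SPEP): `qv_smul`, `bv_add_left`, `bv_smul_left`, `bv_add_right`, `bv_smul_right`, `bv_self`
(`bv S x x = 2 * qv S x`), `qv_add`, `qv_congQ`, `bv_congQ`, `bv_symm` (SPE0). -/
section CNT

variable {F : Type*} [Field F] {n : ℕ}

variable [Fintype F] {q : ℕ} (hq : Fintype.card F = q)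

include hq in
theorem orbit_bound_odd (h2 : (2 : F) ≠ 0) (O : Set (Matrix (Fin n) (Fin n) F))
    (hcl : ∀ g : GL (Fin n) F, ∀ S ∈ O, congQ (g : Matrix (Fin n) (Fin n) F) S ∈ O)
    (S₀ : Matrix (Fin n) (Fin n) F) (hS₀ : S₀ ∈ O) (x : Fin n → F) (hx : qv S₀ x ≠ 0) :
    q ^ n - 1 ≤ 2 * O.ncard :=
  Cfsg.Agent.Helper19.WR.orbit_bound_odd hq h2 O hcl S₀ hS₀ x hx

end CNT

end Cfsg.Agent.Helper98.WRP
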