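import Mathlib
import Cfsg.Prelude.Def_ClassicalGeometry
import Cfsg.Agent.Lib.Helper98.SPE0
import Cfsg.Agent.Lib.Helper98.SPEPieces
import Cfsg.Agent.Lib.Helper98.SPEMain
import Cfsg.Agent.Lib.Helper98.WR0
import Cfsg.Agent.Lib.Helper98.WRPieces
import Cfsg.Agent.Lib.Helper78.U2R1
import Cfsg.Agent.Lib.Helper20.U2R3
import Cfsg.Agent.Lib.Helper78.U2K1
import Cfsg.Agent.Lib.Helper79.U2D2
import Cfsg.Agent.Lib.Helper16.SPEG5
import Cfsg.Agent.Lib.Helper19.SPEQ9
import Cfsg.Agent.S0269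

/-!
# WR project (S2347): assembly

`Sp_{2n}(q)`, `q` odd, `n ≥ 2`: every nontrivial complex representation has degree at least
`(q^n - 1)/2`, and the odd part of the Weil representation is irreducible of that degree.
-/

set_option autoImplicit false

namespace Cfsg.Agent.Helper98.WRMain

open Matrix Cfsg.Agent.Helper93.U2 Cfsg.Agent.Helper98.SPE Cfsg.Agent.Helper98.SPEP
  Cfsg.Agent.Helper98.WR Cfsg.Agent.Helper98.WRP

universe v

section Lower

variable {F : Type*} [Field F] [Fintype F]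

omit [Fintype F] in
theorem tauS_zero_left {n : ℕ} (T : Matrix (Fin n) (Fin n) F) : tauS (0 : Matrix (Fin n) (Fin n) F) T = 0 := by
  unfold tauS
  simp

omit [Fintype F] in
theorem qv_zero_left {n : ℕ} (x : Fin n → F) : qv (0 : Matrix (Fin n) (Fin n) F) x = 0 := by
  unfold qv
  simp

theorem three_le_card_of_odd (hodd : Odd (Fintype.card F)) : 3 ≤ Fintype.card F := by
  have h2 : 2 ≤ Fintype.card F := Fintype.one_lt_card
  obtain ⟨m, hm⟩ := hodd
  omega

/-- the diagonal long root parameter `E_00` -/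
def longU (F : Type*) [Field F] (n : ℕ) (i0 : Fin n) : ↥(symSub F n) :=
  ⟨Matrix.single i0 i0 1, by
    change (Matrix.single i0 i0 (1 : F))ᵀ = Matrix.single i0 i0 1
    rw [Matrix.transpose_single]⟩

omit [Fintype F] in
theorem longU_ne_zero (n : ℕ) (i0 : Fin n) : longU F n i0 ≠ 0 := by
  intro h
  have h1 : ((longU F n i0).1 : Matrix (Fin n) (Fin n) F) i0 i0 = 0 := by
    rw [h]
    rfl
  have h3 : ((longU F n i0).1 : Matrix (Fin n) (Fin n) F) i0 i0 = 1 := by
    change Matrix.single i0 i0 (1 : F) i0 i0 = 1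
    rw [Matrix.single_apply_same]
  rw [h3] at h1
  exact one_ne_zero h1

/-- a nontrivial representation of `Sp_{2n}(q)`, `q` odd, is nontrivial on every nonzero element of the
abelian radical -/
theorem rho_aEl_ne_one (n : ℕ) (hn : 2 ≤ n) (hodd : Odd (Fintype.card F))
    {V : Type v} [AddCommGroup V] [Module ℂ V]
    (ρ : Representation ℂ (Matrix.symplecticGroup (Fin n) F) V) (hne : ∃ g, ρ g ≠ 1)
    (u : ↥(symSub F n)) (hu0 : u ≠ 0) : ρ (aEl u) ≠ 1 := by
  have hcard3 := three_le_card_of_odd hodd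
  intro h
  have hker : aEl u ∈ MonoidHom.ker ρ := MonoidHom.mem_ker.2 h
  rcases normal_le_center_or_eq_top hn (fun _ => hcard3) (MonoidHom.ker ρ)
    (MonoidHom.normal_ker ρ) with hc | ht
  · exact aEl_not_mem_center u hu0 (hc hker)
  · obtain ⟨g, hg⟩ := hne
    apply hg
    have hgk : g ∈ MonoidHom.ker ρ := by
      rw [ht]
      exact Subgroup.mem_top g
    exact MonoidHom.mem_ker.1 hgk

/-- lower bound for the degree of a nontrivial representation -/
theorem min_degree_of_nontrivial (n : ℕ) (hn : 2 ≤ n) (hodd : Odd (Fintype.card F))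
    {V : Type v} [AddCommGroup V] [Module ℂ V] [FiniteDimensional ℂ V]
    (ρ : Representation ℂ (Matrix.symplecticGroup (Fin n) F) V) (hne : ∃ g, ρ g ≠ 1) :
    Fintype.card F ^ n - 1 ≤ 2 * Module.finrank ℂ V := by
  have h2 : (2 : F) ≠ 0 := two_ne_zero_of_odd_card hodd
  obtain ⟨ψ, hψ⟩ := Cfsg.Agent.Helper79.U2.exists_addChar F
  obtain ⟨pr, hpr⟩ := exists_pairing ψ hψ n
  have hel : ∀ a b : ↥(symSub F n), aEl (a + b) = aEl a * aEl b := aEl_add
  let i0 : Fin n := ⟨0, by omega⟩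
  have hρu : ρ (aEl (longU F n i0)) ≠ 1 :=
    rho_aEl_ne_one n hn hodd ρ hne _ (longU_ne_zero n i0)
  obtain ⟨a, ha, hau⟩ := exists_wsp_of_ne_one pr aEl ρ hel (longU F n i0) hρu
  have ha0 : a.1 ≠ 0 := by
    intro h0
    apply hau
    rw [hpr, h0, tauS_zero_left, AddChar.map_zero_eq_one]
  have hx : ∃ x : Fin n → F, qv a.1 x ≠ 0 := by
    by_contra hcon
    push Not at hcon
    apply ha0
    apply Cfsg.Agent.Helper19.SPE.sym_ext_of_qv a.1 0 a.2 (Matrix.transpose_zero)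
    intro x
    rw [hcon x, qv_zero_left]
  obtain ⟨x, hx⟩ := hx
  -- the set of weights
  let O : Set (Matrix (Fin n) (Fin n) F) :=
    {S | ∃ a : ↥(symSub F n), a.1 = S ∧ wsp pr aEl ρ a ≠ ⊥}
  have hcl : ∀ g : GL (Fin n) F, ∀ S ∈ O, congQ (g : Matrix (Fin n) (Fin n) F) S ∈ O := by
    rintro g S ⟨a', rfl, ha'⟩
    refine ⟨congS (g : Matrix (Fin n) (Fin n) F) a', rfl, ?_⟩
    apply Cfsg.Agent.Helper20.U2.wsp_conj pr aEl ρ (lEl g⁻¹)
      (congA ((g⁻¹ : GL (Fin n) F) : Matrix (Fin n) (Fin n) F))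
      (congS ((g⁻¹ : GL (Fin n) F) : Matrix (Fin n) (Fin n) F))
      (Cfsg.Agent.Helper98.SPEMain.congA_surjective g⁻¹) (fun b => lEl_conj g⁻¹ b)
    · intro a'' b
      rw [hpr, hpr, congA_val, congS_val, tauS_cong _ _ _ b.2]
    · rw [congS_inv_congS]
      exact ha'
  have hO : O.ncard ≤ Module.finrank ℂ V := by
    have h1 := Cfsg.Agent.Helper78.U2.card_wsp_le pr aEl ρ
    have h3 : O = Subtype.val '' {a : ↥(symSub F n) | wsp pr aEl ρ a ≠ ⊥} := by
      ext S
      constructor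
      · rintro ⟨a', rfl, ha'⟩
        exact ⟨a', ha', rfl⟩
      · rintro ⟨a', ha', rfl⟩
        exact ⟨a', rfl, ha'⟩
    rw [h3, Set.ncard_image_of_injective _ Subtype.val_injective]
    rw [← _root_.Nat.card_coe_set_eq]
    exact h1
  have hbound := orbit_bound_odd (q := Fintype.card F) rfl h2 O hcl a.1 ⟨a, rfl, ha⟩ x hx
  calc Fintype.card F ^ n - 1 ≤ 2 * O.ncard := hbound
    _ ≤ 2 * Module.finrank ℂ V := Nat.mul_le_mul_left _ hO

/-- part (1) of S2347 -/
theorem part_one (n : ℕ) (hn : 2 ≤ n) (hodd : Odd (Fintype.card F))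
    (k : ℕ) (ρ : Representation ℂ (Matrix.symplecticGroup (Fin n) F) (Fin k → ℂ))
    (hρ : ρ.IsIrreducible) (hk : 2 ≤ k) : (Fintype.card F ^ n - 1) / 2 ≤ k := by
  have hne := Cfsg.Agent.Helper78.U2.exists_ne_one_of_irreducible ρ hρ hk
  have h1 := min_degree_of_nontrivial n hn hodd ρ hne
  rw [Module.finrank_fin_fun] at h1
  exact Nat.div_le_of_le_mul h1

end Lower

section Weil

variable {F : Type*} [Field F] [Fintype F]

/-- the odd functions are invariant under the intertwiners -/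
theorem oddSub_invariant {n : ℕ} (ψ : AddChar F ℂ) (hψ : ψ 1 ≠ 1) (hodd : Odd (Fintype.card F))
    (e : ↥(Matrix.symplecticGroup (Fin n) F) × (Module.End ℂ ((Fin n → F) → ℂ))ˣ)
    (he : e ∈ EGrp ψ n) (f : (Fin n → F) → ℂ) (hf : f ∈ oddSub F n) :
    ((e.2 : (Module.End ℂ ((Fin n → F) → ℂ))ˣ) : Module.End ℂ ((Fin n → F) → ℂ)) f ∈
      oddSub F n := by
  have hc := comm_rOp_of_mem ψ hψ hodd e he
  rw [mem_oddSub]
  intro x
  have hRf : rOp F n f = -f := by
    funext y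
    rw [rOp_apply, Pi.neg_apply]
    exact (mem_oddSub f).1 hf y
  have h1 : (rOp F n *
      ((e.2 : (Module.End ℂ ((Fin n → F) → ℂ))ˣ) : Module.End ℂ ((Fin n → F) → ℂ))) f =
      (((e.2 : (Module.End ℂ ((Fin n → F) → ℂ))ˣ) : Module.End ℂ ((Fin n → F) → ℂ)) *
        rOp F n) f := by
    rw [hc]
  rw [Module.End.mul_apply, Module.End.mul_apply, hRf, map_neg] at h1
  have h2 := congrFun h1 x
  rw [rOp_apply, Pi.neg_apply] at h2
  exact h2

omit [Field F] in
theorem finrank_fun_space (n : ℕ) :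
    Module.finrank ℂ ((Fin n → F) → ℂ) = Fintype.card F ^ n := by
  classical
  rw [Module.finrank_fintype_fun_eq_card, Fintype.card_fun, Fintype.card_fin]

/-- part (2) of S2347: the odd part of the Weil representation -/
theorem exists_weil (n : ℕ) (hn : 2 ≤ n) (hodd : Odd (Fintype.card F)) :
    ∃ ρ : Representation ℂ (Matrix.symplecticGroup (Fin n) F)
      (Fin ((Fintype.card F ^ n - 1) / 2) → ℂ), ρ.IsIrreducible := by
  have h2 : (2 : F) ≠ 0 := two_ne_zero_of_odd_card hodd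
  have hcard3 := three_le_card_of_odd hodd
  obtain ⟨ψ, hψ⟩ := Cfsg.Agent.Helper79.U2.exists_addChar F
  -- the extension group and its projection
  let π : ↥(EGrp ψ n) →* ↥(Matrix.symplecticGroup (Fin n) F) :=
    (MonoidHom.fst _ _).comp (EGrp ψ n).subtype
  have hπ : Function.Surjective π := by
    intro g
    obtain ⟨A, hA⟩ := exists_mem_EGrp ψ h2 hψ g
    exact ⟨⟨(g, A), hA⟩, rfl⟩
  have hUtop : ∀ e ∈ EGrp ψ n, ∀ f ∈ (⊤ : Submodule ℂ ((Fin n → F) → ℂ)),
      ((e.2 : (Module.End ℂ ((Fin n → F) → ℂ))ˣ) : Module.End ℂ ((Fin n → F) → ℂ)) f ∈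
        (⊤ : Submodule ℂ ((Fin n → F) → ℂ)) := fun _ _ _ _ => Submodule.mem_top
  obtain ⟨f₁, hf₁⟩ := exists_det_restrict (EGrp ψ n) ⊤ hUtop
  have hUodd : ∀ e ∈ EGrp ψ n, ∀ f ∈ oddSub F n,
      ((e.2 : (Module.End ℂ ((Fin n → F) → ℂ))ˣ) : Module.End ℂ ((Fin n → F) → ℂ)) f ∈
        oddSub F n := fun e he f hf => oddSub_invariant ψ hψ hodd e he f hf
  obtain ⟨f₂, hf₂⟩ := exists_det_restrict (EGrp ψ n) (oddSub F n) hUodd
  have hfr : 2 * Module.finrank ℂ ↥(oddSub F n) + 1 = Fintype.card F ^ n :=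
    finrank_oddSub hodd
  have hfrtop : Module.finrank ℂ ↥(⊤ : Submodule ℂ ((Fin n → F) → ℂ)) =
      2 * Module.finrank ℂ ↥(oddSub F n) + 1 := by
    rw [finrank_top, finrank_fun_space, hfr]
  have hker : ∀ e : ↥(EGrp ψ n), π e = 1 → f₁ e = 1 → f₂ e = 1 → e = 1 := by
    intro e h1 h2' h3
    have hg : (e : ↥(Matrix.symplecticGroup (Fin n) F) ×
        (Module.End ℂ ((Fin n → F) → ℂ))ˣ).1 = 1 := h1
    have hcomm : ∀ v : Fin n ⊕ Fin n → F,
        (((e : ↥(Matrix.symplecticGroup (Fin n) F) ×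
          (Module.End ℂ ((Fin n → F) → ℂ))ˣ).2 : (Module.End ℂ ((Fin n → F) → ℂ))ˣ) :
            Module.End ℂ ((Fin n → F) → ℂ)) * wOp ψ v =
        wOp ψ v * (((e : ↥(Matrix.symplecticGroup (Fin n) F) ×
          (Module.End ℂ ((Fin n → F) → ℂ))ˣ).2 : (Module.End ℂ ((Fin n → F) → ℂ))ˣ) :
            Module.End ℂ ((Fin n → F) → ℂ)) := by
      intro v
      have h := (mem_EGrp ψ n e.1).1 e.2 v
      rw [hg] at h
      have h1' : ((1 : ↥(Matrix.symplecticGroup (Fin n) F)) :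
          Matrix (Fin n ⊕ Fin n) (Fin n ⊕ Fin n) F) = 1 := rfl
      rw [h1', Matrix.one_mulVec] at h
      exact h
    obtain ⟨c, hc⟩ := commutant_scalar ψ hψ _ hcomm
    have e1 := hf₁ e c hc
    have e2 := hf₂ e c hc
    rw [h2', Units.val_one, hfrtop] at e1
    rw [h3, Units.val_one] at e2
    have hc1 : c = 1 := by
      have h5 : c ^ (2 * Module.finrank ℂ ↥(oddSub F n) + 1) =
          (c ^ Module.finrank ℂ ↥(oddSub F n)) ^ 2 * c := by ring
      rw [h5, ← e2, one_pow, one_mul] at e1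
      exact e1.symm
    apply Subtype.ext
    apply Prod.ext
    · exact hg
    · apply Units.ext
      rw [hc, hc1, one_smul]
      rfl
  have hperf : commutator ↥(Matrix.symplecticGroup (Fin n) F) = ⊤ := by
    apply Cfsg.Agent.S0269.result n
    by_cases h : n = 2
    · exact Or.inr (Or.inl ⟨h, hcard3⟩)
    · exact Or.inl (by omega)
  obtain ⟨s, hs⟩ := exists_section π hπ hperf f₁ f₂ hker
  let ρ : Representation ℂ ↥(Matrix.symplecticGroup (Fin n) F) ((Fin n → F) → ℂ) :=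
    (Units.coeHom (Module.End ℂ ((Fin n → F) → ℂ))).comp
      ((MonoidHom.snd _ _).comp ((EGrp ψ n).subtype.comp s))
  have hsg : ∀ g, ((s g : ↥(EGrp ψ n)) : ↥(Matrix.symplecticGroup (Fin n) F) ×
      (Module.End ℂ ((Fin n → F) → ℂ))ˣ).1 = g := hs
  have hUρ : ∀ g, ∀ f ∈ oddSub F n, ρ g f ∈ oddSub F n :=
    fun g f hf => hUodd (s g).1 (s g).2 f hf
  have hd : Module.finrank ℂ ↥(oddSub F n) = (Fintype.card F ^ n - 1) / 2 := by omega
  obtain ⟨ρ', hρ'⟩ := exists_rep_of_invariant ρ (oddSub F n) hUρ _ hd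
  refine ⟨ρ', ?_⟩
  apply irreducible_of_min ρ'
  · -- nontrivial on the long root element
    let i0 : Fin n := ⟨0, by omega⟩
    obtain ⟨ε, hε, hint⟩ := mulOp_intertwines ψ h2 (Matrix.single i0 i0 (1 : F))
      (Matrix.transpose_single i0 i0 (1 : F))
    refine ⟨aEl (longU F n i0), ?_⟩
    intro hone
    have hfix := (hρ' _).1 hone
    have hA : ∀ v : Fin n ⊕ Fin n → F,
        ρ (aEl (longU F n i0)) * wOp ψ v =
          wOp ψ (aMat (Matrix.single i0 i0 (1 : F)) *ᵥ v) * ρ (aEl (longU F n i0)) := by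
      intro v
      have h := (mem_EGrp ψ n _).1 (s (aEl (longU F n i0))).2 v
      rw [hsg, Cfsg.Agent.Helper16.SPE.aEl_val] at h
      exact h
    -- the inverse operator
    have hinv1 : ρ (aEl (longU F n i0))⁻¹ * ρ (aEl (longU F n i0)) = 1 := by
      rw [← map_mul, inv_mul_cancel, map_one]
    have hinv2 : ρ (aEl (longU F n i0)) * ρ (aEl (longU F n i0))⁻¹ = 1 := by
      rw [← map_mul, mul_inv_cancel, map_one]
    have hAinv : ∀ v : Fin n ⊕ Fin n → F,
        ρ (aEl (longU F n i0))⁻¹ * wOp ψ (aMat (Matrix.single i0 i0 (1 : F)) *ᵥ v) =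
          wOp ψ v * ρ (aEl (longU F n i0))⁻¹ := by
      intro v
      calc ρ (aEl (longU F n i0))⁻¹ * wOp ψ (aMat (Matrix.single i0 i0 (1 : F)) *ᵥ v)
          = ρ (aEl (longU F n i0))⁻¹ *
              (wOp ψ (aMat (Matrix.single i0 i0 (1 : F)) *ᵥ v) * ρ (aEl (longU F n i0))) *
              ρ (aEl (longU F n i0))⁻¹ := by
            rw [mul_assoc, mul_assoc, hinv2, mul_one]
        _ = ρ (aEl (longU F n i0))⁻¹ * (ρ (aEl (longU F n i0)) * wOp ψ v) *
              ρ (aEl (longU F n i0))⁻¹ := by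
            rw [hA v]
        _ = wOp ψ v * ρ (aEl (longU F n i0))⁻¹ := by
            rw [← mul_assoc, hinv1, one_mul]
    have hB : ∀ v : Fin n ⊕ Fin n → F,
        (ρ (aEl (longU F n i0))⁻¹ *
          mulOp (fun x : Fin n → F => ψ (ε * (x ⬝ᵥ (Matrix.single i0 i0 (1 : F) *ᵥ x)) / 2))) *
            wOp ψ v =
        wOp ψ v * (ρ (aEl (longU F n i0))⁻¹ *
          mulOp (fun x : Fin n → F => ψ (ε * (x ⬝ᵥ (Matrix.single i0 i0 (1 : F) *ᵥ x)) / 2))) := by
      intro v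
      rw [mul_assoc, hint v, ← mul_assoc, hAinv v, mul_assoc]
    obtain ⟨c, hc⟩ := commutant_scalar ψ hψ _ hB
    have hMc : mulOp (fun x : Fin n → F =>
        ψ (ε * (x ⬝ᵥ (Matrix.single i0 i0 (1 : F) *ᵥ x)) / 2)) =
          c • ρ (aEl (longU F n i0)) := by
      calc mulOp (fun x : Fin n → F => ψ (ε * (x ⬝ᵥ (Matrix.single i0 i0 (1 : F) *ᵥ x)) / 2))
          = ρ (aEl (longU F n i0)) * (ρ (aEl (longU F n i0))⁻¹ * mulOp (fun x : Fin n → F =>
              ψ (ε * (x ⬝ᵥ (Matrix.single i0 i0 (1 : F) *ᵥ x)) / 2))) := by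
            rw [← mul_assoc, hinv2, one_mul]
        _ = ρ (aEl (longU F n i0)) * (c • 1) := by rw [hc]
        _ = c • ρ (aEl (longU F n i0)) := by rw [mul_smul_comm, mul_one]
    have hc0 : c ≠ 0 := by
      intro h0
      rw [h0, zero_smul] at hMc
      have h7 := congrFun (LinearMap.congr_fun hMc (fun _ => (1 : ℂ))) 0
      rw [mulOp_apply] at h7
      simp at h7
    obtain ⟨f, hf, hfne⟩ := exists_odd_moved ψ hn h2 hψ ε hε i0 c⁻¹
    apply hfne
    rw [hMc, smul_smul, inv_mul_cancel₀ hc0, one_smul]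
    exact hfix f hf
  · intro W _ _ _ σ hσ
    rw [Module.finrank_fin_fun]
    have h9 := min_degree_of_nontrivial n hn hodd σ hσ
    omega

end Weil

end Cfsg.Agent.Helper98.WRMain
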