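import Cfsg.Agent.Lib.Helper98.ZTIPieces
import Cfsg.Agent.Lib.Helper98.TIHMain
import Cfsg.Agent.Lib.Helper52.Coprime
import Cfsg.Agent.Lib.Helper52.CoprimeSylow

set_option autoImplicit false
set_option linter.unusedSectionVars false
set_option linter.unusedVariables false
set_option linter.style.haveILetI false
set_option maxHeartbeats 800000

/-!
# S4151: the fixed points of a complement on a TI Hall-in-normalizer subgroup (assembly)
-/

namespace Cfsg.Agent.Helper98.ZTIMain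

open Cfsg.Agent.Helper98.TIH Cfsg.Agent.Helper98.TIHP Cfsg.Agent.Helper98.ZTIP

universe u

variable {G : Type u} [Group G] [Finite G]

/-- a `p`-subgroup of `H` is cyclic, if `p` is odd or the subgroup is commutative -/
theorem cyclic_of_pgroup {H O : Subgroup G} (hH : Hyp H) (hc : IsCore H O)
    (htop : O ⊔ Subgroup.normalizer (H : Set G) = ⊤) (P : Subgroup G) (hPH : P ≤ H) (p : ℕ)
    (hp : p.Prime) (hP : IsPGroup p P) (h2 : p = 2 → ∀ a ∈ P, ∀ b ∈ P, a * b = b * a) :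
    IsCyclic P := by
  by_cases hP1 : P = ⊥
  · subst hP1
    infer_instance
  haveI : Fact p.Prime := ⟨hp⟩
  haveI : Nontrivial P := (Subgroup.nontrivial_iff_ne_bot P).mpr hP1
  have hON : ¬ O ≤ Subgroup.normalizer (H : Set G) := by
    intro hle
    have h1 : Subgroup.normalizer (H : Set G) = ⊤ := by
      rw [← htop]; exact (sup_eq_right.mpr hle).symm
    exact hH.nn (Subgroup.normalizer_eq_top_iff.mp h1)
  have hcopPO : (Nat.card P).Coprime (Nat.card O) :=
    (hc.coprime.symm).coprime_dvd_left (Subgroup.card_dvd_of_le hPH)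
  obtain ⟨r, R, hr, hR, hRO, hRN, hPR⟩ :=
    exists_invariant_sylow_not_le O (Subgroup.normalizer (H : Set G)) P hc.normal hON p hp hP hcopPO
  have hPN : P ≤ Subgroup.normalizer ((Subgroup.normalizer (H : Set G) : Subgroup G) : Set G) :=
    hPH.trans (Subgroup.le_normalizer.trans Subgroup.le_normalizer)
  obtain ⟨X, hXR, hPX, hXD, hXN⟩ :=
    exists_section_of_pgroup (Subgroup.normalizer (H : Set G)) R P r hr hR hRN hPR hPN
  have hcopXP : (Nat.card X).Coprime (Nat.card P) :=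
    hcopPO.symm.coprime_dvd_left (Subgroup.card_dvd_of_le (hXR.trans hRO))
  obtain ⟨W, i1, i2, i3, ψ, hfpf⟩ :=
    exists_fpf_action_of_section hH.ti P X hPH hPX hXD hXN hcopXP
  obtain ⟨F⟩ := Cfsg.Agent.Helper98.TIHMain.exists_FD_of_action ψ hfpf
  have hFpf : Cfsg.Agent.Helper98.Brown.FpfLike P :=
    Cfsg.Agent.Helper98.Brown.fpfLike_of_sr F.ρ F.hsr
  have htopP : IsPGroup p (⊤ : Subgroup P) := fun g => by
    obtain ⟨k, hk⟩ := hP g.1
    exact ⟨k, Subtype.ext hk⟩
  have hcyc : IsCyclic (⊤ : Subgroup P) := by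
    by_cases hp2 : p = 2
    · subst hp2
      exact hFpf.comm ⊤ htopP (fun a _ b _ => Subtype.ext (h2 rfl a a.2 b b.2))
    · exact hFpf.odd p hp2 ⊤ htopP
  exact isCyclic_of_surjective (Subgroup.topEquiv : (⊤ : Subgroup P) ≃* P)
    (Subgroup.topEquiv : (⊤ : Subgroup P) ≃* P).surjective

/-- `H` is a Z-group -/
theorem isZGroup_of_hyps {H O : Subgroup G} (hH : Hyp H) (hc : IsCore H O)
    (htop : O ⊔ Subgroup.normalizer (H : Set G) = ⊤)
    (h2 : ∀ P : Sylow 2 H, IsMulCommutative (P : Subgroup H)) : IsZGroup H := by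
  refine ⟨fun p hp P => ?_⟩
  haveI : Fact p.Prime := ⟨hp⟩
  obtain ⟨P₀, hP₀⟩ : ∃ P₀ : Subgroup G, P₀ = (P : Subgroup H).map H.subtype := ⟨_, rfl⟩
  have hP₀H : P₀ ≤ H := by
    rw [hP₀]
    rintro x ⟨y, -, rfl⟩
    exact y.2
  have e : (P : Subgroup H) ≃* P₀ := by
    rw [hP₀]
    exact (P : Subgroup H).equivMapOfInjective H.subtype H.subtype_injective
  have hPP : IsPGroup p P₀ := P.2.of_equiv e
  have hcyc : IsCyclic P₀ := by
    refine cyclic_of_pgroup hH hc htop P₀ hP₀H p hp hPP ?_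
    intro hp2
    subst hp2
    rw [hP₀]
    rintro a ⟨a', ha', rfl⟩ b ⟨b', hb', rfl⟩
    have h3 := (h2 P).is_comm.comm ⟨a', ha'⟩ ⟨b', hb'⟩
    have h4 : a' * b' = b' * a' := congrArg Subtype.val h3
    rw [← map_mul, ← map_mul, h4]
  exact isCyclic_of_surjective e.symm e.symm.surjective

/-- a Z-group `K = [K,Q]` under a coprime action has no fixed points -/
theorem inf_centralizer_eq_bot (K Q : Subgroup G) (hQK : Q ≤ Subgroup.normalizer (K : Set G))
    (hcop : (Nat.card Q).Coprime (Nat.card K)) (hZ : IsZGroup K) (hKQ : ⁅K, Q⁆ = K) :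
    K ⊓ Subgroup.centralizer (Q : Set G) = ⊥ := by
  rw [eq_bot_iff]
  intro x hx
  rw [Subgroup.mem_bot]
  by_contra hx1
  have hord : orderOf x ≠ 1 := fun h => hx1 (orderOf_eq_one_iff.mp h)
  obtain ⟨p, hp, hpd⟩ := Nat.exists_prime_and_dvd hord
  have hpos : orderOf x ≠ 0 := (orderOf_pos x).ne'
  have hx'ord : orderOf (x ^ (orderOf x / p)) = p := orderOf_pow_orderOf_div hpos hpd
  have hx' : x ^ (orderOf x / p) ∈ K ⊓ Subgroup.centralizer (Q : Set G) := Subgroup.pow_mem _ hx _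
  obtain ⟨P, hPle, hxP, hcard⟩ := exists_sylow_le_centralizer K Q hQK hcop hZ
    (fun P p hp hP hcyc q hq hqp x hx hx1 hqx =>
      conj_eq_of_cyclic_pgroup P p hp hP hcyc q hq hqp x hx hx1 hqx)
    p hp (x ^ (orderOf x / p)) hx'.1 hx'.2 hx'ord
  have hPK : P ≤ K := hPle.trans inf_le_left
  have hPQ : P ≤ Subgroup.centralizer (Q : Set G) := hPle.trans inf_le_right
  have hNC : K ⊓ Subgroup.normalizer (P : Set G) ≤ Subgroup.centralizer (P : Set G) := by
    rcases normalizer_le_centralizer_or_normal K P hZ p hp hPK hcard with h | h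
    · exact h
    · exact inf_le_left.trans (le_centralizer_of_normal_of_comm K Q P h hPQ hKQ)
  have hPbot := eq_bot_of_normalizer_le_centralizer K Q P p hp hPK hcard hNC hQK hPQ hKQ
  rw [hPbot, Subgroup.mem_bot] at hxP
  rw [hxP, orderOf_one] at hx'ord
  exact hp.one_lt.ne hx'ord

/-- the coprime action of `Q` on the Z-group `H` -/
theorem coprime_action_zgroup (H Q : Subgroup G) (hQ : Q ≤ Subgroup.normalizer (H : Set G))
    (hcop : (Nat.card Q).Coprime (Nat.card H)) (hZ : IsZGroup H) :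
    ∃ K : Subgroup G, K ≤ H ∧ H ≤ Subgroup.normalizer (K : Set G) ∧
      Q ≤ Subgroup.normalizer (K : Set G) ∧ (∀ h ∈ H, ∀ q ∈ Q, h * q * h⁻¹ * q⁻¹ ∈ K) ∧
      K ⊓ (H ⊓ Subgroup.centralizer (Q : Set G)) = ⊥ ∧
      K ⊔ (H ⊓ Subgroup.centralizer (Q : Set G)) = H ∧
      (Nat.card ↥(H ⊓ Subgroup.centralizer (Q : Set G))).Coprime
        ((H ⊓ Subgroup.centralizer (Q : Set G)).relIndex H) := by
  haveI := hZ
  have hsolv : Group.IsSolvable H := inferInstance
  have hKH : ⁅H, Q⁆ ≤ H := Cfsg.Agent.Helper24.commutator_le_of_le_normalizer H Q hQ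
  have hKQ : ⁅⁅H, Q⁆, Q⁆ = ⁅H, Q⁆ :=
    Cfsg.Agent.Helper52.commutator_commutator_eq H Q hQ hcop (Or.inr hsolv)
  have hQK : Q ≤ Subgroup.normalizer ((⁅H, Q⁆ : Subgroup G) : Set G) :=
    Subgroup.normalizer_commutator_ge_right H Q
  have hZK : IsZGroup (⁅H, Q⁆ : Subgroup G) :=
    IsZGroup.of_injective (f := Subgroup.inclusion hKH) (Subgroup.inclusion_injective hKH)
  have hbot := inf_centralizer_eq_bot ⁅H, Q⁆ Q hQK
    (hcop.coprime_dvd_right (Subgroup.card_dvd_of_le hKH)) hZK hKQ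
  refine ⟨⁅H, Q⁆, hKH, Subgroup.normalizer_commutator_ge_left H Q, hQK, ?_, ?_, ?_, ?_⟩
  · intro h hh q hq
    have := Subgroup.commutator_mem_commutator hh hq
    rwa [commutatorElement_def] at this
  · rw [eq_bot_iff, ← hbot]
    exact inf_le_inf_left _ inf_le_right
  · exact (Cfsg.Agent.Helper52.eq_commutator_sup_centralizer H Q hQ hcop (Or.inr hsolv)).symm
  · refine coprime_card_relIndex_of_sylow H (H ⊓ Subgroup.centralizer (Q : Set G)) inf_le_left ?_
    intro p hp x hx hord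
    obtain ⟨P, hP, -, hcard⟩ := exists_sylow_le_centralizer H Q hQ hcop hZ
      (fun P p hp hP hcyc q hq hqp x hx hx1 hqx =>
        conj_eq_of_cyclic_pgroup P p hp hP hcyc q hq hqp x hx hx1 hqx)
      p hp x hx.1 hx.2 hord
    exact ⟨P, hP, hcard⟩

/-- the statement of S4151 -/
theorem zti_main (H : Subgroup G)
    (hTI : Cfsg.IsTISubset (H : Set G)) (hnn : ¬ H.Normal)
    (hHall : (Nat.card H).Coprime (H.subgroupOf (Subgroup.normalizer (H : Set G))).index)
    (hsep : ∃ (n : ℕ) (M : Fin (n + 1) → Subgroup G), M 0 = ⊥ ∧ M (Fin.last n) = ⊤ ∧ Monotone M ∧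
      (∀ i, (M i).Normal) ∧
      ∀ i : Fin n, (∀ q : ℕ, q.Prime → q ∣ (M i.castSucc).relIndex (M i.succ) → q ∣ Nat.card H) ∨
        ((M i.castSucc).relIndex (M i.succ)).Coprime (Nat.card H))
    (h2 : ∀ P : Sylow 2 H, IsMulCommutative (P : Subgroup H))
    (Q : Subgroup G) (hQ : Q ≤ Subgroup.normalizer (H : Set G)) (hQH : Q ⊓ H = ⊥)
    (hQH' : Q ⊔ H = Subgroup.normalizer (H : Set G)) :
    (Nat.card ↥(H ⊓ Subgroup.centralizer (Q : Set G))).Coprime
        (H ⊓ Subgroup.centralizer (Q : Set G)).index ∧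
    ∃ N : Subgroup G, N.Normal ∧ N.IsComplement' (H ⊓ Subgroup.centralizer (Q : Set G)) := by
  have hH : Hyp H := ⟨hTI, hnn, hHall⟩
  obtain ⟨O, hO⟩ : ∃ O : Subgroup G,
      O = sSup {K : Subgroup G | K.Normal ∧ (Nat.card K).Coprime (Nat.card H)} := ⟨_, rfl⟩
  have hc : IsCore H O := isCore_sSup H O hO
  have htop := Cfsg.Agent.Helper98.TIHMain.sup_normalizer_eq_top hH hc hsep
  have hZ : IsZGroup H := isZGroup_of_hyps hH hc htop h2
  have hcopQH : (Nat.card Q).Coprime (Nat.card H) := by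
    have h1 : H.relIndex (H ⊔ Q) = Nat.card Q :=
      Cfsg.Agent.Helper52.relIndex_sup_eq_card H Q hQ (by rw [inf_comm]; exact hQH)
    have h3 : (H.subgroupOf (Subgroup.normalizer (H : Set G))).index = Nat.card Q := by
      rw [← hQH', sup_comm]
      exact h1
    rw [h3] at hHall
    exact hHall.symm
  obtain ⟨K, hKH, hHK, hQK, hcomm, hKC, hsup, hHallC⟩ := coprime_action_zgroup H Q hQ hcopQH hZ
  exact final_assembly O H Q K hc.normal hQ (by rw [hQH']; exact htop) hKH hHK hQK hcomm hKC hsup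
    hc.coprime hcopQH hHallC (fun A B hB => card_sup_dvd_mul A B hB)

end Cfsg.Agent.Helper98.ZTIMain
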