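import Mathlib
import Cfsg.Prelude.Def_OddOrderLocal
import Cfsg.Agent.Lib.Helper98.TIHDefs
import Cfsg.Agent.Lib.Helper16.ZTIA1
import Cfsg.Agent.Lib.Helper22.ZTIA2
import Cfsg.Agent.Lib.Helper22.ZTIA3
import Cfsg.Agent.Lib.Helper30.ZTIB1
import Cfsg.Agent.Lib.Helper84.ZTIB2
import Cfsg.Agent.Lib.Helper84.ZTIB3
import Cfsg.Agent.Lib.Helper77.ZTIB4a
import Cfsg.Agent.Lib.Helper65.ZTIB4b
import Cfsg.Agent.Lib.Helper30.ZTIB4c
import Cfsg.Agent.Lib.Helper77.ZTIC1
import Cfsg.Agent.Lib.Helper94.ZTIC2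

set_option autoImplicit false

/-! The pieces of the ZTI server (S4151), as delivered by helper16, helper22, helper30, helper65, helper77, helper84,
helper94 (spares: helper8, helper47); restated with the signatures of `tools/zti_sigs_helper98.lean.txt`, where the paper proof is. -/

namespace Cfsg.Agent.Helper98.ZTIP

open Cfsg.Agent.Helper98.TIH

universe u

/-- (A1) [M-L; ADAPT `Cfsg/Agent/Lib/Helper19/TIHP6q.lean`, whose proof has exactly this shape with `X ⊴ G`, `P = H`]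
the fixed-point-free action on a section.  `N := normalizer H`, `D := X ⊓ N` is normal in `X` (`hXD`) and normalized by `P`
(`P ≤ H ≤ N` normalizes `N` and `X`).  `W := ↥X ⧸ D.subgroupOf X`, nontrivial by `hXN`; `ψ y` := conjugation by `y`
(`X.normalizerMonoidHom` composed with `Subgroup.inclusion hPX`, then `QuotientGroup.congr`, or by hand).
Fixed-point-free: `y ≠ 1` fixes the coset `x D`; a power `y'` of `y` of PRIME order `p` also fixes it; `p ∣ |P|`, so `p ∤ |D|` (`hcop`);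
piece (P6c) `Cfsg.Agent.Helper19.TIH.exists_fixed_of_prime` (on main; `α` := conjugation by `y'` on `↥X`, `Y := D.subgroupOf X`)
gives `d ∈ D` with `y' (x d) y'⁻¹ = x d`; then `(x d) y' (x d)⁻¹ = y' ∈ H`, `y' ≠ 1`, so `x d ∈ N` by `hTI`; `x d ∈ X ⊓ N = D`, `x ∈ D`. -/
theorem exists_fpf_action_of_section {G : Type u} [Group G] [Finite G] {H : Subgroup G}
    (hTI : Cfsg.IsTISubset (H : Set G)) (P X : Subgroup G) (hPH : P ≤ H)
    (hPX : P ≤ Subgroup.normalizer (X : Set G))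
    (hXD : X ≤ Subgroup.normalizer ((X ⊓ Subgroup.normalizer (H : Set G) : Subgroup G) : Set G))
    (hXN : ¬ X ≤ Subgroup.normalizer (H : Set G))
    (hcop : (Nat.card X).Coprime (Nat.card P)) :
    ∃ (W : Type u) (_ : Group W) (_ : Finite W) (_ : Nontrivial W) (ψ : P →* MulAut W),
      ∀ y : P, y ≠ 1 → ∀ w : W, ψ y w = w → w = 1 :=
  Cfsg.Agent.Helper16.ZTI.exists_fpf_action_of_section hTI P X hPH hPX hXD hXN hcop

/-- (A2) [S] a `P`-invariant Sylow subgroup of `O` outside `N`.  `¬ O ≤ N`, so `(O ⊓ N).relIndex O ≠ 1`; `r` := a prime divisor.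
`Cfsg.Agent.Helper52.exists_invariant_sylow (A := P) (K := O)` (Lib/Helper52/CoprimeSylow.lean; `P` is a `p`-group, so solvable;
`sylCard r O = r ^ (Nat.card O).factorization r`) gives `R`.  If `R ≤ N`: `R ≤ O ⊓ N`, `|R|` divides `|O ⊓ N|`, and
`|O| = |O ⊓ N| * relIndex` gives `r ∤ relIndex`.  `IsPGroup r R` from the cardinality (`IsPGroup.of_card`). -/
theorem exists_invariant_sylow_not_le {G : Type u} [Group G] [Finite G] (O N P : Subgroup G)
    (hO : O.Normal) (hON : ¬ O ≤ N) (p : ℕ) (hp : p.Prime) (hP : IsPGroup p P)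
    (hcop : (Nat.card P).Coprime (Nat.card O)) :
    ∃ (r : ℕ) (R : Subgroup G), r.Prime ∧ IsPGroup r R ∧ R ≤ O ∧ ¬ R ≤ N ∧
      P ≤ Subgroup.normalizer (R : Set G) :=
  Cfsg.Agent.Helper22.ZTI.exists_invariant_sylow_not_le O N P hO hON p hp hP hcop

/-- (A3) [M] the normalizer grows in the nilpotent group `R`.  `D := R ⊓ N < R`; `X := R ⊓ normalizer D`; `D < X`
(`normalizerCondition_of_isNilpotent` in `↥R`, `IsPGroup.isNilpotent`); `P` normalizes `R`, `N`, hence `D`, `normalizer D`, `X`;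
`X ⊓ N = D` (`X ≤ R`; `D ≤ X`), so `X ≤ normalizer (X ⊓ N)`; `X ≤ N` would give `X = D`. -/
theorem exists_section_of_pgroup {G : Type u} [Group G] [Finite G] (N R P : Subgroup G) (r : ℕ)
    (hr : r.Prime) (hR : IsPGroup r R) (hRN : ¬ R ≤ N)
    (hPR : P ≤ Subgroup.normalizer (R : Set G)) (hPN : P ≤ Subgroup.normalizer (N : Set G)) :
    ∃ X : Subgroup G, X ≤ R ∧ P ≤ Subgroup.normalizer (X : Set G) ∧
      X ≤ Subgroup.normalizer ((X ⊓ N : Subgroup G) : Set G) ∧ ¬ X ≤ N :=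
  Cfsg.Agent.Helper22.ZTI.exists_section_of_pgroup N R P r hr hR hRN hPR hPN

/-- (B1) [M] a `p'`-element normalizing a cyclic `p`-group and centralizing a non-identity element centralizes it.
`g` a generator of `P`, `|P| = p ^ k`, `q g q⁻¹ = g ^ n`; then `q y q⁻¹ = y ^ n` on `P`; `x = g ^ s ≠ 1` and `x ^ n = x` give `p ∣ n - 1`;
`n ^ (orderOf q) ≡ 1` and `n ^ (p ^ (k-1)) ≡ 1 mod p ^ k`, coprime exponents, so `n ≡ 1 mod p ^ k`.
(Or: `ZMod.eq_one_or_isUnit_sub_one`, as in Mathlib's `IsPGroup.smul_mul_inv_trivial_or_surjective`.) -/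
theorem conj_eq_of_cyclic_pgroup {G : Type u} [Group G] [Finite G] (P : Subgroup G) (p : ℕ)
    (hp : p.Prime) (hP : IsPGroup p P) (hcyc : IsCyclic P) (q : G)
    (hq : q ∈ Subgroup.normalizer (P : Set G)) (hqp : (orderOf q).Coprime p) (x : G) (hx : x ∈ P)
    (hx1 : x ≠ 1) (hqx : q * x * q⁻¹ = x) : ∀ y ∈ P, q * y * q⁻¹ = y :=
  Cfsg.Agent.Helper30.ZTI.conj_eq_of_cyclic_pgroup P p hp hP hcyc q hq hqp x hx hx1 hqx

/-- (B2) [S-M] (take (B1) as the hypothesis `hB1`).  `U := zpowers x` is a `p`-subgroup of `H` normalized (centralized) by `Q`;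
`Cfsg.Agent.Helper52.exists_invariant_sylow_ge (A := Q) (K := H)` (`H` is solvable: Mathlib instance for finite `IsZGroup`) gives a
`Q`-invariant `P ≥ U`, `P ≤ H`, `|P| = sylCard p H`; `P` is cyclic (`IsPGroup.isCyclic_of_isZGroup` in `↥H`); each `q ∈ Q` has order
dividing `|Q|`, prime to `|H|`, and `p ∣ |H|`; so `q` centralizes `P` by `hB1`. -/
theorem exists_sylow_le_centralizer {G : Type u} [Group G] [Finite G] (H Q : Subgroup G)
    (hQ : Q ≤ Subgroup.normalizer (H : Set G)) (hcop : (Nat.card Q).Coprime (Nat.card H))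
    (hZ : IsZGroup H)
    (hB1 : ∀ (P : Subgroup G) (p : ℕ), p.Prime → IsPGroup p P → IsCyclic P → ∀ q : G,
      q ∈ Subgroup.normalizer (P : Set G) → (orderOf q).Coprime p → ∀ x ∈ P, x ≠ 1 →
      q * x * q⁻¹ = x → ∀ y ∈ P, q * y * q⁻¹ = y)
    (p : ℕ) (hp : p.Prime) (x : G) (hxH : x ∈ H) (hxQ : x ∈ Subgroup.centralizer (Q : Set G))
    (hx : orderOf x = p) :
    ∃ P : Subgroup G, P ≤ H ⊓ Subgroup.centralizer (Q : Set G) ∧ x ∈ P ∧
      Nat.card P = p ^ (Nat.card H).factorization p :=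
  Cfsg.Agent.Helper84.ZTI.exists_sylow_le_centralizer H Q hQ hcop hZ hB1 p hp x hxH hxQ hx

/-- (B3) [S] `C` is a Hall subgroup of `H`.  If a prime `p` divides `|C|` and `C.relIndex H`: Cauchy gives `x ∈ C` of order `p`,
`hB2` gives `P ≤ C` with `|P| = p ^ v_p(|H|)`, so `v_p(|C|) ≥ v_p(|H|)`, but `|H| = |C| * C.relIndex H`. -/
theorem coprime_card_relIndex_of_sylow {G : Type u} [Group G] [Finite G] (H C : Subgroup G)
    (hCH : C ≤ H)
    (hB2 : ∀ (p : ℕ), p.Prime → ∀ x ∈ C, orderOf x = p →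
      ∃ P : Subgroup G, P ≤ C ∧ Nat.card P = p ^ (Nat.card H).factorization p) :
    (Nat.card C).Coprime (C.relIndex H) :=
  Cfsg.Agent.Helper84.ZTI.coprime_card_relIndex_of_sylow H C hCH hB2

/-- (B4a) [S] `⁅k, q⁆ = k q k⁻¹ q⁻¹` centralizes `P`: for `y ∈ P`, `q⁻¹ y q = y`, `k⁻¹ y k ∈ P` is centralized by `q`.
So `⁅K, Q⁆ ≤ centralizer P` (`Subgroup.commutator_le`). -/
theorem le_centralizer_of_normal_of_comm {G : Type u} [Group G] (K Q P : Subgroup G)
    (hKP : K ≤ Subgroup.normalizer (P : Set G)) (hPQ : P ≤ Subgroup.centralizer (Q : Set G))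
    (hKQ : ⁅K, Q⁆ = K) : K ≤ Subgroup.centralizer (P : Set G) :=
  Cfsg.Agent.Helper77.ZTI.le_centralizer_of_normal_of_comm K Q P hKP hPQ hKQ

/-- (B4b) [L] Burnside + coprime action.  `P' : Sylow p ↥K` := `P.subgroupOf K` (`Sylow.ofCard`); `hNC` gives
`normalizer P' ≤ centralizer P'`; `MonoidHom.ker_transferSylow_isComplement'` gives `M' ⊴ ↥K`, a complement of `P'`;
`M := M'.map K.subtype`.  (i) every `z ∈ K` with `(orderOf z).Coprime p` lies in `M` (its image in the `p`-group `↥K ⧸ M'` is trivial), and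
every `m ∈ M` has order prime to `p`; so `q M q⁻¹ = M` for `q ∈ Q` (`q` normalizes `K`).  (ii) every `k ∈ K` is `m * y`, `m ∈ M`, `y ∈ P`;
`⁅m * y, q⁆ = m * (q * m⁻¹ * q⁻¹) ∈ M` as `y q y⁻¹ = q`.  So `K = ⁅K, Q⁆ ≤ M`, `M' = ⊤`, `P' = ⊥`. -/
theorem eq_bot_of_normalizer_le_centralizer {G : Type u} [Group G] [Finite G] (K Q P : Subgroup G)
    (p : ℕ) (hp : p.Prime) (hPK : P ≤ K) (hcard : Nat.card P = p ^ (Nat.card K).factorization p)
    (hNC : K ⊓ Subgroup.normalizer (P : Set G) ≤ Subgroup.centralizer (P : Set G))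
    (hQK : Q ≤ Subgroup.normalizer (K : Set G)) (hPQ : P ≤ Subgroup.centralizer (Q : Set G))
    (hKQ : ⁅K, Q⁆ = K) : P = ⊥ :=
  Cfsg.Agent.Helper65.ZTI.eq_bot_of_normalizer_le_centralizer K Q P p hp hPK hcard hNC hQK hPQ hKQ

/-- (B4c) [M] `P' : Sylow p ↥K` := `P.subgroupOf K`, cyclic; Mathlib `Sylow.normalizer_le_centralizer_or_le_commutator P'`.
First case: translate.  Second case: `P' ≤ commutator ↥K`, which is cyclic (`IsZGroup.isCyclic_commutator`), hence commutative, and normal;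
a conjugate `k P' k⁻¹` is again a Sylow `p`-subgroup of the commutative group `commutator ↥K`, so equals `P'`: `K ≤ normalizer P`. -/
theorem normalizer_le_centralizer_or_normal {G : Type u} [Group G] [Finite G] (K P : Subgroup G)
    (hZ : IsZGroup K) (p : ℕ) (hp : p.Prime) (hPK : P ≤ K)
    (hcard : Nat.card P = p ^ (Nat.card K).factorization p) :
    K ⊓ Subgroup.normalizer (P : Set G) ≤ Subgroup.centralizer (P : Set G) ∨
      K ≤ Subgroup.normalizer (P : Set G) :=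
  Cfsg.Agent.Helper30.ZTI.normalizer_le_centralizer_or_normal K P hZ p hp hPK hcard

/-- (C1) [S] `|A ⊔ B|` divides `|A| |B|` when `B` normalizes `A`
(`|A ⊔ B| = |A| * A.relIndex (A ⊔ B)` and `A.relIndex (A ⊔ B) = A.relIndex B` divides `|B|`; cf. Lib/Helper52/CoprimeSylow.lean
`relIndex_eq_of_forall_mul`, or `Subgroup.card_mul_eq...`/`Subgroup.relIndex_sup_left` in `↥(normalizer A)`). -/
theorem card_sup_dvd_mul {G : Type u} [Group G] [Finite G] (A B : Subgroup G)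
    (hB : B ≤ Subgroup.normalizer (A : Set G)) :
    Nat.card (A ⊔ B : Subgroup G) ∣ Nat.card A * Nat.card B :=
  Cfsg.Agent.Helper77.ZTI.card_sup_dvd_mul A B hB

/-- (C2) [M-L] THE FINAL ASSEMBLY in `G` (take (C1) as the hypothesis `hC1`).  `C := H ⊓ centralizer Q`, `L := K ⊔ Q`, `M := O ⊔ L`.
`Q` and `H` normalize `L` (`h q h⁻¹ = (h q h⁻¹ q⁻¹) q`, `hcomm`); so `Q ⊔ H ≤ normalizer M`, `O ≤ M ≤ normalizer M`, `M` is normal by `htop`.
`M ⊔ C ≥ O ⊔ (Q ⊔ (K ⊔ C)) = ⊤` (`hsup`, `htop`).  `|M|` divides `|O| |K| |Q|` (`hC1` twice; `O` normal).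
`|K| = C.relIndex H` (`K ⊓ C = ⊥`, `K ⊔ C = H`, `H` normalizes `K`), prime to `|C|` by `hHall`; `|O|`, `|Q|` are prime to `|H|`, so to `|C|`.
So `|M|` is prime to `|C|`, `M ⊓ C = ⊥` (`Subgroup.inf_eq_bot_of_coprime`), `IsComplement' M C` (`Subgroup.isComplement'_of_disjoint_and_mul_eq_univ`
with `Subgroup.normal_mul`), and `C.index = |M|` (`Subgroup.IsComplement'.index_eq_card`). -/
theorem final_assembly {G : Type u} [Group G] [Finite G] (O H Q K : Subgroup G) (hO : O.Normal)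
    (hQ : Q ≤ Subgroup.normalizer (H : Set G)) (htop : O ⊔ (Q ⊔ H) = ⊤) (hKH : K ≤ H)
    (hHK : H ≤ Subgroup.normalizer (K : Set G)) (hQK : Q ≤ Subgroup.normalizer (K : Set G))
    (hcomm : ∀ h ∈ H, ∀ q ∈ Q, h * q * h⁻¹ * q⁻¹ ∈ K)
    (hKC : K ⊓ (H ⊓ Subgroup.centralizer (Q : Set G)) = ⊥)
    (hsup : K ⊔ (H ⊓ Subgroup.centralizer (Q : Set G)) = H)
    (hOH : (Nat.card O).Coprime (Nat.card H)) (hQH : (Nat.card Q).Coprime (Nat.card H))
    (hHall : (Nat.card ↥(H ⊓ Subgroup.centralizer (Q : Set G))).Coprime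
      ((H ⊓ Subgroup.centralizer (Q : Set G)).relIndex H))
    (hC1 : ∀ A B : Subgroup G, B ≤ Subgroup.normalizer (A : Set G) →
      Nat.card (A ⊔ B : Subgroup G) ∣ Nat.card A * Nat.card B) :
    (Nat.card ↥(H ⊓ Subgroup.centralizer (Q : Set G))).Coprime
        (H ⊓ Subgroup.centralizer (Q : Set G)).index ∧
      ∃ M : Subgroup G, M.Normal ∧ M.IsComplement' (H ⊓ Subgroup.centralizer (Q : Set G)) :=
  Cfsg.Agent.Helper94.ZTI.final_assembly O H Q K hO hQ htop hKH hHK hQK hcomm hKC hsup hOH hQH hHall hC1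

end Cfsg.Agent.Helper98.ZTIP
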